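import Cfsg.Agent.Lib.Fusion.System.Saturation
import Cfsg.Agent.Lib.Fusion.PComplement

/-!
# The fusion system of a finite group on a Sylow subgroup
-/

set_option autoImplicit false

open Subgroup
open scoped Classical Pointwise

namespace CfsgLib.Fusion

open Cfsg (FusionSystem autInducedBy groupFusionSystem)
open Cfsg.FusionSystem (normalizerIn centralizerIn)

variable {G : Type*} [Group G] {S P Q : Subgroup G} {f : G → G} {p : ℕ}

theorem isMap_group_iff : IsMap (groupFusionSystem S) P f ↔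
    P ≤ S ∧ ∃ g : G, ∀ x ∈ P, g * x * g⁻¹ ∈ S ∧ f x = g * x * g⁻¹ := by
  constructor
  · rintro ⟨φ, ⟨hP, hS, g, hg⟩, hφf⟩
    refine ⟨hP, g, fun x hx => ⟨?_, ?_⟩⟩
    · exact hg ⟨x, hx⟩ ▸ hS ⟨x, hx⟩
    · exact (hφf ⟨x, hx⟩).symm.trans (hg ⟨x, hx⟩)
  · rintro ⟨hP, g, hg⟩
    exact ⟨Cfsg.conjHom P g, ⟨hP, fun x => (hg x x.2).1, g, fun _ => rfl⟩,
      fun x => ((hg x x.2).2).symm⟩

theorem isMap_group_conj (hP : P ≤ S) {g : G} (h : conjBy g P ≤ S) :
    IsMap (groupFusionSystem S) P (fun x => g * x * g⁻¹) :=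
  isMap_group_iff.2 ⟨hP, g, fun _ hx => ⟨h (conj_mem_conjBy hx), rfl⟩⟩

theorem isConj_group_iff : (groupFusionSystem S).IsConj P Q ↔
    P ≤ S ∧ Q ≤ S ∧ ∃ g : G, conjBy g P = Q := by
  rw [isConj_iff]
  constructor
  · rintro ⟨f, hf, rfl⟩
    obtain ⟨hP, g, hg⟩ := isMap_group_iff.1 hf
    exact ⟨hP, hf.img_le, g, by rw [IsMap.img_congr fun x hx => (hg x hx).2, img_conj]⟩
  · rintro ⟨hP, hQ, g, rfl⟩
    exact ⟨_, isMap_group_conj hP hQ, img_conj _ _⟩

theorem autGroup_group (hP : P ≤ S) :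
    (groupFusionSystem S).autGroup P = autInducedBy ⊤ P := by
  ext α
  rw [mem_autGroup_iff hP, mem_autInducedBy_iff, isMap_group_iff]
  constructor
  · rintro ⟨-, g, hg⟩
    exact ⟨g, Subgroup.mem_top g, fun x hx => (hg x hx).2⟩
  · rintro ⟨g, -, hg⟩
    exact ⟨hP, g, fun x hx => ⟨hg x hx ▸ hP (autFun_mem α hx), hg x hx⟩⟩

variable [Finite G] [Fact p.Prime]

theorem exists_sylow_eq_subgroupOf_iff {T H : Subgroup G} (hT : IsPGroup p T) (hTH : T ≤ H) :
    (∃ R : Sylow p H, (R : Subgroup H) = T.subgroupOf H) ↔ ¬ p ∣ T.relIndex H := by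
  constructor
  · rintro ⟨R, hR⟩
    have h := R.not_dvd_index
    rwa [hR] at h
  · exact fun h => ⟨(hT.of_equiv (Subgroup.subgroupOfEquivOfLe hTH).symm).toSylow h, rfl⟩

/-- A Sylow subgroup of `H` meets a normal subgroup of `H` in a Sylow subgroup. -/
theorem not_dvd_relIndex_inf_of_le_normalizer {T K H : Subgroup G} (hT : IsPGroup p T)
    (hTH : T ≤ H) (hi : ¬ p ∣ T.relIndex H) (hKH : K ≤ H)
    (hn : H ≤ Subgroup.normalizer (K : Set G)) : ¬ p ∣ (T ⊓ K).relIndex K := by
  haveI : (K.subgroupOf H).Normal := (Subgroup.normal_subgroupOf_iff_le_normalizer hKH).2 hn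
  have h := not_dvd_relIndex_inf_of_normal
    ((hT.of_equiv (Subgroup.subgroupOfEquivOfLe hTH).symm).toSylow hi) (K.subgroupOf H)
  rw [show (((hT.of_equiv (Subgroup.subgroupOfEquivOfLe hTH).symm).toSylow hi : Sylow p H) :
      Subgroup H) ⊓ K.subgroupOf H = (T ⊓ K).subgroupOf H from rfl,
    Subgroup.relIndex_subgroupOf hKH] at h
  exact h

theorem le_normalizer_centralizer (Q : Subgroup G) :
    Subgroup.normalizer (Q : Set G) ≤
      Subgroup.normalizer (Subgroup.centralizer (Q : Set G) : Set G) := by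
  intro g hg
  rw [← conjBy_eq_iff, conjBy_centralizer, conjBy_eq_iff.2 hg]

variable (S : Sylow p G)

theorem isPGroup_normalizerIn (Q : Subgroup G) : IsPGroup p (normalizerIn (S : Subgroup G) Q) :=
  S.2.to_le inf_le_left

theorem isPGroup_centralizerIn (Q : Subgroup G) : IsPGroup p (centralizerIn (S : Subgroup G) Q) :=
  S.2.to_le inf_le_left

/-- A Sylow normalizer gives a Sylow centralizer. -/
theorem not_dvd_centralizerIn_of_normalizerIn {Q : Subgroup G}
    (h : ¬ p ∣ (normalizerIn (S : Subgroup G) Q).relIndex (Subgroup.normalizer (Q : Set G))) :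
    ¬ p ∣ (centralizerIn (S : Subgroup G) Q).relIndex (Subgroup.centralizer (Q : Set G)) := by
  have h1 := not_dvd_relIndex_inf_of_le_normalizer (isPGroup_normalizerIn S Q) inf_le_right h
    (Subgroup.centralizer_le_normalizer _) (le_normalizer_centralizer Q)
  rwa [show normalizerIn (S : Subgroup G) Q ⊓ Subgroup.centralizer (Q : Set G) =
    centralizerIn (S : Subgroup G) Q from by
      rw [normalizerIn, centralizerIn, inf_assoc,
        inf_eq_right.2 (Subgroup.centralizer_le_normalizer (Q : Set G))]] at h1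

/-- Sylow normalizer gives a Sylow automizer. -/
theorem isFullyAutomized_group {Q : Subgroup G} (hQ : Q ≤ S)
    (h : ¬ p ∣ (normalizerIn (S : Subgroup G) Q).relIndex (Subgroup.normalizer (Q : Set G))) :
    (groupFusionSystem (S : Subgroup G)).IsFullyAutomized p Q := by
  refine (isFullyAutomized_iff S.2).2 ⟨hQ, ?_⟩
  rw [autGroup_group hQ, autInducedBy_eq_map, autInducedBy_eq_map, Subgroup.top_subgroupOf,
    Subgroup.relIndex_map_map]
  intro hd
  refine h ?_
  have h2 : normalizerIn (S : Subgroup G) Q = (S : Subgroup G) ⊓ Subgroup.normalizer (Q : Set G) := rfl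
  rw [h2, Subgroup.inf_relIndex_right, Subgroup.relIndex, ← Subgroup.relIndex_top_right]
  refine hd.trans ((Subgroup.relIndex_dvd_of_le_left _ le_sup_left).trans ?_)
  rw [top_sup_eq]

/-- Sylow centralizer gives receptivity. -/
theorem isReceptive_group {Q : Subgroup G} (hQ : Q ≤ S)
    (h : ¬ p ∣ (centralizerIn (S : Subgroup G) Q).relIndex (Subgroup.centralizer (Q : Set G))) :
    (groupFusionSystem (S : Subgroup G)).IsReceptive Q := by
  refine isReceptive_iff.2 ⟨hQ, fun R f hf hfimg => ?_⟩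
  obtain ⟨hR, g, hg⟩ := isMap_group_iff.1 hf
  set E := extSub (S : Subgroup G) R f
  set NS := normalizerIn (S : Subgroup G) Q
  set C := Subgroup.centralizer (Q : Set G)
  set H := NS ⊔ C with hH
  have hNSn : NS ≤ Subgroup.normalizer (C : Set G) :=
    le_trans inf_le_right (le_normalizer_centralizer Q)
  have hcoe : (H : Set G) = (NS : Set G) * (C : Set G) :=
    Subgroup.coe_mul_of_left_le_normalizer_right _ _ hNSn
  have himg : ∀ y ∈ Q, ∃ x ∈ R, y = g * x * g⁻¹ := fun y hy => by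
    obtain ⟨x, hx, hxy⟩ := hf.mem_img.1 (hfimg.ge hy)
    exact ⟨x, hx, hxy ▸ (hg x hx).2⟩
  have hEH : conjBy g E ≤ H := by
    refine conjBy_le_iff.2 fun n hn => ?_
    obtain ⟨hnN, k, hk, he⟩ := hn
    have hkN : k ∈ NS := ⟨hk, hfimg ▸ mem_normalizer_img hf hnN.2 he⟩
    have hc : k⁻¹ * (g * n * g⁻¹) ∈ C := by
      refine mem_centralizer_iff'.2 fun y hy => ?_
      obtain ⟨x, hx, rfl⟩ := himg y hy
      have h1 := he x hx
      rw [(hg x hx).2, (hg _ ((Subgroup.mem_normalizer_iff.1 hnN.2 x).1 hx)).2] at h1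
      calc k⁻¹ * (g * n * g⁻¹) * (g * x * g⁻¹) * (k⁻¹ * (g * n * g⁻¹))⁻¹
          = k⁻¹ * (g * (n * x * n⁻¹) * g⁻¹) * k := by group
        _ = g * x * g⁻¹ := by rw [h1]; group
    rw [show g * n * g⁻¹ = k * (k⁻¹ * (g * n * g⁻¹)) by group]
    exact Subgroup.mul_mem_sup hkN hc
  have hi : ¬ p ∣ NS.relIndex H := by
    intro hd
    refine h (hd.trans ?_)
    -- `|H : NS| = |C : NS ⊓ C|`
    haveI : (C.subgroupOf H).Normal :=
      (Subgroup.normal_subgroupOf_iff_le_normalizer le_sup_right).2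
        (sup_le hNSn Subgroup.le_normalizer)
    have e := Subgroup.relIndex_sup_right (NS.subgroupOf H) (C.subgroupOf H)
    rw [← Subgroup.subgroupOf_sup le_sup_left le_sup_right, Subgroup.subgroupOf_self,
      Subgroup.relIndex_top_right, Subgroup.relIndex_subgroupOf (le_sup_left : NS ≤ H)] at e
    have e1 : (centralizerIn (S : Subgroup G) Q).relIndex C * Nat.card (centralizerIn (S : Subgroup G) Q)
        = Nat.card C := by
      have := Subgroup.relIndex_mul_relIndex ⊥ (centralizerIn (S : Subgroup G) Q) C bot_le inf_le_right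
      simp only [Subgroup.relIndex_bot_left] at this
      rw [mul_comm, this]
    have e2 := Subgroup.relIndex_mul_relIndex ⊥ NS H bot_le le_sup_left
    have e3 := Subgroup.relIndex_mul_relIndex ⊥ C H bot_le le_sup_right
    have e4 := Subgroup.relIndex_mul_relIndex ⊥ (NS ⊓ C) NS bot_le inf_le_left
    simp only [Subgroup.relIndex_bot_left, Subgroup.inf_relIndex_left] at e2 e3 e4
    have hcs : NS ⊓ C = centralizerIn (S : Subgroup G) Q := by
      show (S : Subgroup G) ⊓ Subgroup.normalizer (Q : Set G) ⊓ C = _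
      rw [inf_assoc, inf_eq_right.2 (Subgroup.centralizer_le_normalizer (Q : Set G))]
      rfl
    have e5 : C.relIndex H = C.relIndex NS := e
    rw [hcs] at e4
    refine dvd_of_eq (Nat.eq_of_mul_eq_mul_left (Nat.card_pos (α := NS)) ?_)
    rw [e2, ← e3, ← e1, e5, ← e4]
    ring
  obtain ⟨x, hx, hx'⟩ := exists_conj_le_of_not_dvd_relIndex (isPGroup_normalizerIn S Q)
    le_sup_left hi (isPGroup_conjBy g (S.2.to_le (le_trans extSub_le inf_le_left))) hEH
  have hx2 : x ∈ (NS : Set G) * (C : Set G) := hcoe ▸ hx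
  obtain ⟨s, hs, c, hc, rfl⟩ := Set.mem_mul.1 hx2
  have hmap : conjBy (c * g) E ≤ (S : Subgroup G) := by
    refine conjBy_le_iff.2 fun n hn => ?_
    have h1 := (hx' (conj_mem_conjBy (conj_mem_conjBy hn))).1
    have h2 := (S : Subgroup G).mul_mem ((S : Subgroup G).mul_mem
      ((S : Subgroup G).inv_mem hs.1) h1) hs.1
    rwa [show s⁻¹ * (s * c * (g * n * g⁻¹) * (s * c)⁻¹) * s = c * g * n * (c * g)⁻¹ by group] at h2
  refine ⟨_, isMap_group_conj (le_trans extSub_le inf_le_left) hmap, fun y hy => ?_⟩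
  show c * g * y * (c * g)⁻¹ = f y
  rw [(hg y hy).2, show c * g * y * (c * g)⁻¹ = c * (g * y * g⁻¹) * c⁻¹ by group]
  refine mem_centralizer_iff'.1 hc _ ?_
  rw [← hfimg]
  exact hf.mem_img.2 ⟨y, hy, (hg y hy).2⟩

/-- The fusion system of a group on a Sylow subgroup is saturated. -/
theorem isSaturated_group : (groupFusionSystem (S : Subgroup G)).IsSaturated p := by
  intro P hP
  obtain ⟨g, hg1, -, hg3⟩ := exists_conj_fully_normalized S hP
  exact ⟨conjBy g P, isConj_group_iff.2 ⟨hP, hg1, g, rfl⟩,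
    isFullyAutomized_group S hg1 hg3,
    isReceptive_group S hg1 (not_dvd_centralizerIn_of_normalizerIn S hg3)⟩

/-- Fully normalized means Sylow normalizer. -/
theorem isFullyNormalized_group_iff {P : Subgroup G} (hP : P ≤ S) :
    (groupFusionSystem (S : Subgroup G)).IsFullyNormalized P ↔
      ¬ p ∣ (normalizerIn (S : Subgroup G) P).relIndex (Subgroup.normalizer (P : Set G)) := by
  constructor
  · rintro ⟨-, hmax⟩
    obtain ⟨g, hg1, -, hg3⟩ := exists_conj_fully_normalized S hP
    obtain ⟨T, hNT, hTN, hTp, hTi⟩ :=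
      exists_le_not_dvd_relIndex (isPGroup_normalizerIn S P) inf_le_right
    obtain ⟨n, -, hn⟩ := exists_conj_le_of_not_dvd_relIndex (isPGroup_normalizerIn S (conjBy g P))
      inf_le_right hg3 (isPGroup_conjBy g hTp) (conjBy_normalizer g P ▸ conjBy_mono hTN)
    have h1 := Subgroup.card_le_of_le hn
    rw [card_conjBy, card_conjBy] at h1
    rwa [Subgroup.eq_of_le_of_card_ge hNT
      (h1.trans (hmax _ (isConj_group_iff.2 ⟨hP, hg1, g, rfl⟩)))]
  · intro h
    refine ⟨hP, fun Q hQ => ?_⟩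
    obtain ⟨-, -, g, rfl⟩ := isConj_group_iff.1 hQ
    have hle : conjBy g⁻¹ (normalizerIn (S : Subgroup G) (conjBy g P)) ≤
        Subgroup.normalizer (P : Set G) := by
      refine (conjBy_mono (inf_le_right : normalizerIn (S : Subgroup G) (conjBy g P) ≤ _)).trans ?_
      rw [conjBy_normalizer, conjBy_inv_conjBy]
    obtain ⟨n, -, hn⟩ := exists_conj_le_of_not_dvd_relIndex (isPGroup_normalizerIn S P)
      inf_le_right h (isPGroup_conjBy g⁻¹ (isPGroup_normalizerIn S _)) hle
    have h1 := Subgroup.card_le_of_le hn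
    rwa [card_conjBy, card_conjBy] at h1

/-- Fully centralized means Sylow centralizer. -/
theorem isFullyCentralized_group_iff {P : Subgroup G} (hP : P ≤ S) :
    (groupFusionSystem (S : Subgroup G)).IsFullyCentralized P ↔
      ¬ p ∣ (centralizerIn (S : Subgroup G) P).relIndex (Subgroup.centralizer (P : Set G)) := by
  constructor
  · rintro ⟨-, hmax⟩
    obtain ⟨g, hg1, -, hg3⟩ := exists_conj_fully_normalized S hP
    obtain ⟨T, hCT, hTC, hTp, hTi⟩ :=
      exists_le_not_dvd_relIndex (isPGroup_centralizerIn S P) inf_le_right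
    obtain ⟨n, -, hn⟩ := exists_conj_le_of_not_dvd_relIndex (isPGroup_centralizerIn S (conjBy g P))
      inf_le_right (not_dvd_centralizerIn_of_normalizerIn S hg3) (isPGroup_conjBy g hTp)
      (conjBy_centralizer g P ▸ conjBy_mono hTC)
    have h1 := Subgroup.card_le_of_le hn
    rw [card_conjBy, card_conjBy] at h1
    rwa [Subgroup.eq_of_le_of_card_ge hCT
      (h1.trans (hmax _ (isConj_group_iff.2 ⟨hP, hg1, g, rfl⟩)))]
  · intro h
    refine ⟨hP, fun Q hQ => ?_⟩
    obtain ⟨-, -, g, rfl⟩ := isConj_group_iff.1 hQ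
    have hle : conjBy g⁻¹ (centralizerIn (S : Subgroup G) (conjBy g P)) ≤
        Subgroup.centralizer (P : Set G) := by
      refine (conjBy_mono (inf_le_right : centralizerIn (S : Subgroup G) (conjBy g P) ≤ _)).trans ?_
      rw [conjBy_centralizer, conjBy_inv_conjBy]
    obtain ⟨n, -, hn⟩ := exists_conj_le_of_not_dvd_relIndex (isPGroup_centralizerIn S P)
      inf_le_right h (isPGroup_conjBy g⁻¹ (isPGroup_centralizerIn S _)) hle
    have h1 := Subgroup.card_le_of_le hn
    rwa [card_conjBy, card_conjBy] at h1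

end CfsgLib.Fusion
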