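import Cfsg.Agent.Lib.Fusion.System.Criteria
import Cfsg.Agent.Lib.Fusion.System.Group
import Cfsg.Agent.Lib.Fusion.ZJElementary

/-!
# Normal complements from inner fusion systems
-/

set_option autoImplicit false
set_option linter.style.haveILetI false

open Subgroup
open scoped Classical

namespace CfsgLib.Fusion

open Cfsg (FusionSystem groupFusionSystem)
open Cfsg.FusionSystem (normalizerIn centralizerIn)

universe u

variable {G : Type u} [Group G] [Finite G] {p : ℕ} [Fact p.Prime]

theorem hasNormalPComplement_of_isInner (P : Sylow p G)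
    (h : IsInner (groupFusionSystem (P : Subgroup G))) : Cfsg.HasNormalPComplement p G :=
  hasNormalPComplement_of_noExtraFusion P (noExtraFusion_of_forall_conj_eq P fun Q hQ g hg =>
    h Q _ (isMap_group_conj hQ hg))

theorem ninner_group_of_complement (P : Sylow p G) {U : Subgroup G}
    (hUn : (P : Subgroup G) ≤ Subgroup.normalizer (U : Set G))
    (h : Cfsg.HasNormalPComplement p (Subgroup.normalizer (U : Set G))) :
    NInner (groupFusionSystem (P : Subgroup G)) U := by
  intro R f hf hUR hRN hfU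
  obtain ⟨hRP, g, hg⟩ := isMap_group_iff.1 hf
  have hgN : g ∈ Subgroup.normalizer (U : Set G) := by
    refine conjBy_eq_iff.1 ?_
    rw [← img_conj, ← IsMap.img_congr fun x hx => (hg x (hUR hx)).2, hfU]
  set N := Subgroup.normalizer (U : Set G) with hN
  let T : Sylow p N := P.subtype hUn
  haveI := pResidual_normal (G := N) (p := p)
  obtain ⟨k, hk, s, hs, hks⟩ := Subgroup.mem_sup_of_normal_left.1
    ((pResidual_sup_sylow T).ge (Subgroup.mem_top (⟨g, hgN⟩ : N)))
  have hsP : (s : G) ∈ (P : Subgroup G) := hs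
  have hks' : (k : G) * s = g := congrArg Subtype.val hks
  refine ⟨s, hsP, fun x hx => ?_⟩
  obtain ⟨hgx, hfx⟩ := hg x hx
  rw [hfx]
  set y : N := s * ⟨x, hRN hx⟩ * s⁻¹ with hy
  have hyP : (y : G) ∈ (P : Subgroup G) := mul_mem (mul_mem hsP (hRP hx)) (inv_mem hsP)
  have hkey : k * y * k⁻¹ * y⁻¹ = 1 := by
    have hmem : k * y * k⁻¹ * y⁻¹ ∈ Cfsg.pResidual p N := by
      rw [show k * y * k⁻¹ * y⁻¹ = k * (y * k⁻¹ * y⁻¹) by group]
      exact mul_mem hk (Subgroup.Normal.conj_mem inferInstance _ (inv_mem hk) y)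
    refine eq_one_of_pGroup_of_coprime (T.2) ?_ (hasNormalPComplement_iff_coprime.1 h _ hmem)
    show (k : G) * y * (k : G)⁻¹ * (y : G)⁻¹ ∈ (P : Subgroup G)
    refine mul_mem ?_ (inv_mem hyP)
    rw [show (k : G) * y * (k : G)⁻¹ = g * x * g⁻¹ by
      rw [← hks', hy]; simp [mul_assoc]]
    exact hgx
  have h3 := congrArg Subtype.val (mul_inv_eq_one.1 hkey)
  rw [← hks']
  calc (k : G) * s * x * ((k : G) * s)⁻¹ = (k : G) * y * (k : G)⁻¹ := by
        rw [hy]; simp [mul_assoc]
    _ = y := h3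
    _ = s * x * (s : G)⁻¹ := rfl

theorem hasNormalPComplement_of_centerThompsonA (hp : p ≠ 2) (P : Sylow p G)
    (hN : Cfsg.HasNormalPComplement p
      (Subgroup.normalizer (Cfsg.centerThompsonAOf (P : Subgroup G) : Set G))) :
    Cfsg.HasNormalPComplement p G := by
  set S : Subgroup G := (P : Subgroup G)
  obtain ⟨hI1, -, hI3⟩ := Iof_maxAb_facts (T := S) P.isPGroup' le_rfl
  rw [Iof_maxAb_eq_centerThompsonA le_rfl] at hI1 hI3
  refine hasNormalPComplement_of_isInner P (isInner_iff.2
    ((isInner_iff_normalizerSystem_centerThompsonA hp P.isPGroup' (isSaturated_group P)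
      stronglyClosed_self).2 ((ninner_iff hI1).1 ?_)))
  exact ninner_group_of_complement P
    (fun x hx => (hI3 ⟨hx, Subgroup.le_normalizer hx⟩).2) hN

/-- `Z(J)` is transported by an injective homomorphism on `S`. -/
theorem imgι_centerThompsonOf {Ω : Type*} [Group Ω] [Finite Ω] {S : Subgroup Ω} {L : Type*}
    [Group L] [Finite L] {ι : S →* L} (hι : Function.Injective ι) :
    imgι ι (Cfsg.centerThompsonOf p S) = Cfsg.centerThompsonOf p ι.range := by
  have h1 := map_thompsonSubgroupOf (p := p) ι (P := ⊤) fun x _ hx => (map_eq_one_iff ι hι).1 hx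
  have h2 := map_thompsonSubgroupOf (p := p) S.subtype (P := ⊤)
    fun x _ hx => (map_eq_one_iff _ S.subtype_injective).1 hx
  rw [← MonoidHom.range_eq_map] at h1
  rw [← MonoidHom.range_eq_map, Subgroup.range_subtype] at h2
  set J := Cfsg.thompsonSubgroupOf p (⊤ : Subgroup S)
  have hJ : (Cfsg.thompsonSubgroupOf p S).subgroupOf S = J := by
    rw [← h2]; exact Subgroup.comap_map_eq_self_of_injective S.subtype_injective J
  rw [Cfsg.centerThompsonOf, Cfsg.centerThompsonOf, ← h1, imgι]
  ext y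
  constructor
  · rintro ⟨x, hx, rfl⟩
    have hxJ : x ∈ J := hJ ▸ (show x ∈ (Cfsg.thompsonSubgroupOf p S).subgroupOf S from hx.1)
    refine ⟨⟨x, hxJ, rfl⟩, Subgroup.mem_centralizer_iff.2 ?_⟩
    rintro _ ⟨z, hz, rfl⟩
    rw [← map_mul, ← map_mul]
    refine congrArg ι (Subtype.ext ?_)
    exact Subgroup.mem_centralizer_iff.1 hx.2 _ (h2.le ⟨z, hz, rfl⟩)
  · rintro ⟨⟨x, hx, rfl⟩, hyc⟩
    refine ⟨x, ⟨h2.le ⟨x, hx, rfl⟩, Subgroup.mem_centralizer_iff.2 fun w hw => ?_⟩, rfl⟩
    obtain ⟨z, hz, rfl⟩ := h2.ge hw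
    refine congrArg Subtype.val (hι ?_ : z * x = x * z)
    rw [map_mul, map_mul]
    exact Subgroup.mem_centralizer_iff.1 hyc _ ⟨z, hz, rfl⟩

theorem hasNormalPComplement_of_centerThompson (hp : p ≠ 2) (P : Sylow p G)
    (hN : Cfsg.HasNormalPComplement p
      (Subgroup.normalizer (Cfsg.centerThompsonOf p (P : Subgroup G) : Set G))) :
    Cfsg.HasNormalPComplement p G := by
  set S : Subgroup G := (P : Subgroup G) with hS
  set Z := Cfsg.centerThompsonOf p S with hZ
  have hZS : Z ≤ S :=
    (inf_le_left : Z ≤ Cfsg.thompsonSubgroupOf p S).trans (thompsonSubgroupOf_le S)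
  have hZn : S ≤ Subgroup.normalizer (Z : Set G) :=
    CfsgLib.Coprime.inf_le_normalizer
      (Subgroup.le_normalizer.trans (normalizer_le_normalizer_thompsonSubgroupOf S))
      ((Subgroup.le_normalizer.trans (normalizer_le_normalizer_thompsonSubgroupOf S)).trans
        (CfsgLib.Coprime.normalizer_le_normalizer_centralizer _))
  refine hasNormalPComplement_of_isInner P (by_contra fun hne => ?_)
  obtain ⟨E, hEF, hEc, hEne⟩ :=
    exists_constrained_not_inner hp P.isPGroup' (isSaturated_group P) hne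
  obtain ⟨M⟩ := nonempty_stableModel hp P.isPGroup' hEc hEne
  obtain ⟨g, hg⟩ := M.exists_not_mem
  haveI := centerThompsonOf_normal hp M.core M.stable M.T
  refine hg (M.normalizer_le hZS hZn (ninner_of_le hEF (ninner_group_of_complement P hZn hN)) ?_)
  rw [imgι_centerThompsonOf M.inj, ← M.hT, Subgroup.normalizer_eq_top]
  exact Subgroup.mem_top g

end CfsgLib.Fusion
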