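import Cfsg.Agent.Lib.Fusion.System.Inner
import Cfsg.Agent.Lib.Fusion.Stable

/-!
# Constrained systems: control by the axiomatic intersection
-/

set_option autoImplicit false
set_option linter.style.haveILetI false

open Subgroup
open scoped Classical commutatorElement

namespace CfsgLib.Fusion

open Cfsg (FusionSystem)
open Cfsg.FusionSystem (normalizerIn centralizerIn)

universe u

variable {Ω : Type u} [Group Ω] {S : Subgroup Ω} {E F : FusionSystem S} {p : ℕ}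

section Transfer

variable {L : Type*} [Group L] {ι : S →* L}

theorem imgι_le_iff (hι : Function.Injective ι) {A B : Subgroup Ω} (hA : A ≤ S) (hB : B ≤ S) :
    imgι ι A ≤ imgι ι B ↔ A ≤ B :=
  ⟨fun h x hx => mem_of_ext1_mem_imgι hι hB (hA hx) (h (ext1_mem_imgι hA hx)), imgι_mono⟩

theorem imgι_top : imgι ι S = ι.range := by
  rw [imgι, Subgroup.subgroupOf_self, MonoidHom.range_eq_map]

theorem imgι_sup {A B : Subgroup Ω} (hA : A ≤ S) (hB : B ≤ S) :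
    imgι ι (A ⊔ B) = imgι ι A ⊔ imgι ι B := by
  rw [imgι, Subgroup.subgroupOf_sup hA hB, Subgroup.map_sup]
  rfl

theorem ext1_commutator {x y : Ω} (hx : x ∈ S) (hy : y ∈ S) :
    ext1 ι ⁅x, y⁆ = ⁅ext1 ι x, ext1 ι y⁆ := by
  rw [commutatorElement_def, commutatorElement_def, ext1_mul ι
    (S.mul_mem (S.mul_mem hx hy) (S.inv_mem hx)) (S.inv_mem hy), ext1_conj ι hx hy, ext1_inv ι hy]

theorem imgι_commutator {A B : Subgroup Ω} (hA : A ≤ S) (hB : B ≤ S) :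
    imgι ι ⁅A, B⁆ = ⁅imgι ι A, imgι ι B⁆ := by
  have h : ⁅A, B⁆.subgroupOf S = ⁅A.subgroupOf S, B.subgroupOf S⁆ := by
    apply Subgroup.map_injective S.subtype_injective
    rw [Subgroup.map_commutator, Subgroup.map_subgroupOf_eq_of_le hA,
      Subgroup.map_subgroupOf_eq_of_le hB,
      Subgroup.map_subgroupOf_eq_of_le (Subgroup.commutator_le.2 fun x hx y hy => by
        rw [commutatorElement_def]
        exact S.mul_mem (S.mul_mem (S.mul_mem (hA hx) (hB hy)) (S.inv_mem (hA hx)))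
          (S.inv_mem (hB hy)))]
  rw [imgι, h, Subgroup.map_commutator]
  rfl

theorem isMulCommutative_imgι {A : Subgroup Ω} (h : IsMulCommutative A) :
    IsMulCommutative (imgι ι A) := by
  refine ⟨⟨?_⟩⟩
  rintro ⟨_, a, ha, rfl⟩ ⟨_, b, hb, rfl⟩
  apply Subtype.ext
  show ι a * ι b = ι b * ι a
  rw [← map_mul, ← map_mul]
  refine congrArg ι (Subtype.ext (show (a : Ω) * (b : Ω) = (b : Ω) * a from ?_))
  exact congrArg Subtype.val (h.is_comm.comm (⟨(a : Ω), ha⟩ : A) ⟨(b : Ω), hb⟩)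

theorem imgι_le_normalizer_iff (hι : Function.Injective ι) {A B : Subgroup Ω} (hA : A ≤ S)
    (hB : B ≤ S) :
    imgι ι B ≤ Subgroup.normalizer (imgι ι A : Set L) ↔ B ≤ Subgroup.normalizer (A : Set Ω) := by
  constructor
  · intro h b hb
    refine Subgroup.mem_normalizer_iff.2 fun x => ?_
    constructor
    · intro hx
      refine mem_of_ext1_mem_imgι hι hA (S.mul_mem (S.mul_mem (hB hb) (hA hx)) (S.inv_mem (hB hb))) ?_
      rw [ext1_conj ι (hB hb) (hA hx)]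
      exact (Subgroup.mem_normalizer_iff.1 (h (ext1_mem_imgι hB hb)) _).1 (ext1_mem_imgι hA hx)
    · intro hx
      have hxS : x ∈ S := by
        simpa [mul_assoc] using S.mul_mem (S.mul_mem (S.inv_mem (hB hb)) (hA hx)) (hB hb)
      refine mem_of_ext1_mem_imgι hι hA hxS
        ((Subgroup.mem_normalizer_iff.1 (h (ext1_mem_imgι hB hb)) _).2 ?_)
      rw [← ext1_conj ι (hB hb) hxS]
      exact ext1_mem_imgι hA hx
  · intro h
    rintro _ ⟨b, hb, rfl⟩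
    refine Subgroup.mem_normalizer_iff.2 fun y => ?_
    constructor
    · rintro ⟨a, ha, rfl⟩
      exact ⟨b * a * b⁻¹, (Subgroup.mem_normalizer_iff.1 (h hb) a).1 ha, by
        rw [map_mul, map_mul, map_inv]⟩
    · rintro ⟨a, ha, hay⟩
      refine ⟨b⁻¹ * a * b, ?_, by rw [map_mul, map_mul, map_inv, hay]; group⟩
      show (b : Ω)⁻¹ * a * b ∈ A
      refine (Subgroup.mem_normalizer_iff.1 (h hb) _).2 ?_
      show (b : Ω) * ((b : Ω)⁻¹ * a * b) * (b : Ω)⁻¹ ∈ A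
      rw [show (b : Ω) * ((b : Ω)⁻¹ * a * b) * (b : Ω)⁻¹ = a by group]
      exact ha

theorem imgι_Iof (hι : Function.Injective ι) {𝒜 : Set (Subgroup Ω)} (h𝒜 : ∀ A ∈ 𝒜, A ≤ S)
    (hne : 𝒜.Nonempty) {Q : Subgroup Ω} (hQ : Q ≤ S) (hex : ∃ A ∈ 𝒜, A ≤ Q) :
    imgι ι (Iof 𝒜 Q) = Iof (imgι ι '' 𝒜) (imgι ι Q) := by
  obtain ⟨A₀, hA₀, hA₀Q⟩ := hex
  have hI : Iof 𝒜 Q ≤ S := (Iof_le hA₀ hA₀Q).trans (h𝒜 _ hA₀)
  refine le_antisymm (le_Iof ?_) fun y hy => ?_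
  · rintro _ ⟨A, hA, rfl⟩ hle
    exact imgι_mono (Iof_le hA ((imgι_le_iff hι (h𝒜 A hA) hQ).1 hle))
  · have h0 := Iof_le (Set.mem_image_of_mem (imgι ι) hA₀) (imgι_mono hA₀Q) hy
    obtain ⟨x, hx, rfl⟩ := (mem_imgι (h𝒜 _ hA₀)).1 h0
    refine ext1_mem_imgι hI ?_
    simp only [Iof, Subgroup.mem_iInf]
    exact fun A hA => mem_of_ext1_mem_imgι hι (h𝒜 A hA.1) (h𝒜 _ hA₀ hx)
      (Iof_le (Set.mem_image_of_mem (imgι ι) hA.1) (imgι_mono hA.2) hy)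

end Transfer

/-- The data of a `p`-stable finite group, not a `p`-group, whose fusion on `S` lies in `E`. -/
structure StableModel (E : FusionSystem S) (p : ℕ) where
  L : Type u
  [grp : Group L]
  [fin : Finite L]
  ι : S →* L
  inj : Function.Injective ι
  T : Sylow p L
  hT : (T : Subgroup L) = ι.range
  core : Subgroup.centralizer (Cfsg.pCore p L : Set L) ≤ Cfsg.pCore p L
  stable : ∀ (P : Subgroup L) [P.Normal], IsPGroup p P → Cfsg.IsPStableOn p P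
  exists_not_mem : ∃ g : L, g ∉ ι.range
  conj_map : ∀ (P : Subgroup Ω), P ≤ S → ∀ g : L, (∀ x ∈ P, g * ext1 ι x * g⁻¹ ∈ ι.range) →
    ∃ f, IsMap E P f ∧ ∀ x ∈ P, ext1 ι (f x) = g * ext1 ι x * g⁻¹

attribute [instance] StableModel.grp StableModel.fin

variable [Finite S] [Fact p.Prime]

theorem nonempty_stableModel (hp : p ≠ 2) (hS : IsPGroup p S) (hE : E.IsConstrained p)
    (hne : ¬ IsInner E) : Nonempty (StableModel E p) := by
  obtain ⟨Q, hQn, hQc⟩ := hE.2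
  obtain ⟨L, hL, ι, hfin, hreal, ⟨T, hT⟩, hc⟩ := exists_model_of_normal_centric hS hE.1 hQn hQc
  haveI := hfin
  have hLp : ¬ IsPGroup p L := by
    intro h
    refine hne fun P f hf => ?_
    obtain ⟨hP, -, -, g, hg⟩ := (isMap_realized_iff hreal).1 hf
    have hg' : g ∈ ι.range := by
      rw [← hT, T.is_maximal' (h.to_subgroup ⊤) le_top |>.symm]
      exact Subgroup.mem_top g
    obtain ⟨s, rfl⟩ := hg'
    refine ⟨s, s.2, fun x hx => ext1_inj hreal.1 (hf.mem_S hx)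
      (S.mul_mem (S.mul_mem s.2 (hP hx)) (S.inv_mem s.2)) ?_⟩
    rw [hg x hx, ext1_conj ι s.2 (hP hx), ext1_coe]
  obtain ⟨H, hTH, hHp, hHc, hHst⟩ := exists_stable_subgroup hp T hc hLp
  have hιH : ∀ s, ι s ∈ H := fun s => hTH (hT.ge ⟨s, rfl⟩)
  let ι' : S →* H := ι.codRestrict H hιH
  have hinj : Function.Injective ι' := fun a b h => hreal.1 (congrArg Subtype.val h)
  have hr : ((T.subtype hTH : Sylow p H) : Subgroup H) = ι'.range := by
    ext y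
    show (y : L) ∈ (T : Subgroup L) ↔ _
    rw [hT]
    exact ⟨fun ⟨s, hs⟩ => ⟨s, Subtype.ext hs⟩, fun ⟨s, hs⟩ => ⟨s, congrArg Subtype.val hs⟩⟩
  have hext : ∀ x, ((ext1 ι' x : H) : L) = ext1 ι x := fun x => by
    by_cases hx : x ∈ S
    · rw [ext1_apply ι' hx, ext1_apply ι hx]; rfl
    · rw [ext1, ext1, dif_neg hx, dif_neg hx]; rfl
  refine ⟨{ L := H, ι := ι', inj := hinj, T := T.subtype hTH, hT := hr, core := hHc,
            stable := hHst, exists_not_mem := ?_, conj_map := fun P hP g hg => ?_ }⟩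
  · by_contra hall
    push Not at hall
    refine hHp (fun y => ?_)
    obtain ⟨k, hk⟩ := (T.subtype hTH).2 ⟨y, hr.ge (hall y)⟩
    exact ⟨k, congrArg Subtype.val hk⟩
  · obtain ⟨f, hf, hfg⟩ := exists_map_of_conj hreal hP (g := (g : L)) fun x hx => by
      obtain ⟨s, hs⟩ := hg x hx
      refine ⟨s, ?_⟩
      have h := congrArg Subtype.val hs
      rw [Subgroup.coe_mul, Subgroup.coe_mul, Subgroup.coe_inv, hext] at h
      exact h
    exact ⟨f, hf, fun x hx => Subtype.ext (by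
      rw [Subgroup.coe_mul, Subgroup.coe_mul, Subgroup.coe_inv, hext, hext]; exact hfg x hx)⟩

/-- An element normalizing a normal subgroup of `S` gives a map, which decides membership. -/
theorem exists_map_of_model {L : Type*} [Group L] [Finite L] {ι : S →* L}
    (hι : Function.Injective ι) (T : Sylow p L) (hT : (T : Subgroup L) = ι.range)
    (hcore : Subgroup.centralizer (Cfsg.pCore p L : Set L) ≤ Cfsg.pCore p L)
    (hconj : ∀ (P : Subgroup Ω), P ≤ S → ∀ g : L, (∀ x ∈ P, g * ext1 ι x * g⁻¹ ∈ ι.range) →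
      ∃ f, IsMap E P f ∧ ∀ x ∈ P, ext1 ι (f x) = g * ext1 ι x * g⁻¹)
    {U : Subgroup Ω} (hU : U ≤ S) {g : L}
    (hg : g ∈ Subgroup.normalizer (imgι ι U : Set L)) :
    ∃ P f, IsMap E P f ∧ U ≤ P ∧ (∀ x ∈ P, ext1 ι (f x) = g * ext1 ι x * g⁻¹) ∧
      img U f = U ∧ ((∃ s ∈ S, ∀ x ∈ P, f x = s * x * s⁻¹) → g ∈ ι.range) := by
  haveI := CfsgLib.Coprime.pCore_normal' (G := L) p
  have hO : Cfsg.pCore p L ≤ ι.range :=
    hT ▸ (CfsgLib.Coprime.pCore_isPGroup p).le_sylow_of_normal T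
  obtain ⟨R, hR, hRO⟩ := exists_imgι_eq hι hO
  have hsup : imgι ι (R ⊔ U) = Cfsg.pCore p L ⊔ imgι ι U := by rw [imgι_sup hR hU, hRO]
  have hgn : g ∈ Subgroup.normalizer (imgι ι (R ⊔ U) : Set L) := by
    rw [hsup]
    refine conjBy_eq_iff.1 ?_
    rw [conjBy, Subgroup.map_sup]
    exact congrArg₂ (· ⊔ ·)
      (conjBy_eq_iff.2 (show g ∈ Subgroup.normalizer (Cfsg.pCore p L : Set L) by
        rw [Subgroup.normalizer_eq_top]; exact Subgroup.mem_top g)) (conjBy_eq_iff.2 hg)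
  have hRU : R ⊔ U ≤ S := sup_le hR hU
  obtain ⟨f, hf, hfg⟩ := hconj (R ⊔ U) hRU g fun x hx =>
    imgι_le_range (R ⊔ U) ((Subgroup.mem_normalizer_iff.1 hgn _).1 (ext1_mem_imgι hRU hx))
  refine ⟨R ⊔ U, f, hf, le_sup_right, hfg, img_eq_of_map_le hU hf le_sup_right fun x hx => ?_, ?_⟩
  · have hx' : x ∈ R ⊔ U := (le_sup_right : U ≤ R ⊔ U) hx
    refine mem_of_ext1_mem_imgι hι hU (hf.mem_S hx') ?_
    rw [hfg x hx']
    exact (Subgroup.mem_normalizer_iff.1 hg _).1 (ext1_mem_imgι hU hx)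
  · rintro ⟨s, hs, he⟩
    have h : (ext1 ι s)⁻¹ * g ∈ Cfsg.pCore p L := by
      refine hcore (mem_centralizer_iff'.2 fun y hy => ?_)
      obtain ⟨x, hx, rfl⟩ := (mem_imgι hR).1 (hRO.ge hy)
      have hx' : x ∈ R ⊔ U := (le_sup_left : R ≤ R ⊔ U) hx
      have h1 := hfg x hx'
      rw [he x hx', ext1_conj ι hs (hR hx)] at h1
      calc (ext1 ι s)⁻¹ * g * ext1 ι x * ((ext1 ι s)⁻¹ * g)⁻¹
          = (ext1 ι s)⁻¹ * (g * ext1 ι x * g⁻¹) * ext1 ι s := by group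
        _ = ext1 ι x := by rw [← h1]; group
    have h2 := mul_mem (ext1_mem_range ι s) (hO h)
    rwa [mul_inv_cancel_left] at h2

namespace StableModel

variable (M : StableModel E p)

/-- An element normalizing a normal subgroup of `S` gives a map, which decides membership. -/
theorem exists_map {U : Subgroup Ω} (hU : U ≤ S) {g : M.L}
    (hg : g ∈ Subgroup.normalizer (imgι M.ι U : Set M.L)) :
    ∃ P f, IsMap E P f ∧ U ≤ P ∧ (∀ x ∈ P, ext1 M.ι (f x) = g * ext1 M.ι x * g⁻¹) ∧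
      img U f = U ∧ ((∃ s ∈ S, ∀ x ∈ P, f x = s * x * s⁻¹) → g ∈ M.ι.range) :=
  exists_map_of_model M.inj M.T M.hT M.core M.conj_map hU hg

/-- If the normalizer of `U` is inner then `N_L(U)` is the Sylow subgroup. -/
theorem normalizer_le {U : Subgroup Ω} (hU : U ≤ S) (hn : S ≤ Subgroup.normalizer (U : Set Ω))
    (h : NInner E U) : Subgroup.normalizer (imgι M.ι U : Set M.L) ≤ M.ι.range := fun _ hg => by
  obtain ⟨P, f, hf, hUP, -, hfU, hmem⟩ := M.exists_map hU hg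
  exact hmem (h P f hf hUP (hf.le.trans hn) hfU)

end StableModel

omit [Fact p.Prime] in
theorem Iof_normal_in (𝒜 : Set (Subgroup Ω)) (h𝒜 : ∀ A ∈ 𝒜, A ≤ S) (hne : 𝒜.Nonempty)
    (hinv : ∀ (Q : Subgroup Ω) (f : Ω → Ω), IsMap E Q f → img Q f = Q → (∃ A ∈ 𝒜, A ≤ Q) →
      ∀ x ∈ Iof 𝒜 Q, f x ∈ Iof 𝒜 Q) :
    Iof 𝒜 S ≤ S ∧ S ≤ Subgroup.normalizer (Iof 𝒜 S : Set Ω) := by
  obtain ⟨A₀, hA₀⟩ := hne
  have hI : Iof 𝒜 S ≤ S := (Iof_le hA₀ (h𝒜 _ hA₀)).trans (h𝒜 _ hA₀)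
  refine ⟨hI, fun s hs => ?_⟩
  refine conjBy_eq_iff.1 (eq_of_le_of_card_le hI (conjBy_le_iff.2 fun x hx => ?_)
    (card_conjBy s _).ge)
  refine hinv S _ (isMap_conj le_rfl hs) ?_ ⟨A₀, hA₀, h𝒜 _ hA₀⟩ x hx
  rw [img_conj]
  exact conjBy_eq_iff.2 (Subgroup.le_normalizer hs)

/-- In a stable model the intersection of an invariant family with replacement is normal. -/
theorem StableModel.Iof_normal (M : StableModel E p) (𝒜 : Set (Subgroup Ω))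
    (h𝒜 : ∀ A ∈ 𝒜, A ≤ S ∧ IsMulCommutative A) (hne : 𝒜.Nonempty)
    (hinv : ∀ (Q : Subgroup Ω) (f : Ω → Ω), IsMap E Q f → img Q f = Q → (∃ A ∈ 𝒜, A ≤ Q) →
      ∀ x ∈ Iof 𝒜 Q, f x ∈ Iof 𝒜 Q)
    (hrep : ∀ B : Subgroup Ω, B ≤ S → S ≤ Subgroup.normalizer (B : Set Ω) → ⁅⁅B, B⁆, B⁆ = ⊥ →
      (∃ A ∈ 𝒜, ⁅B, B⁆ ≤ A ∧ ¬ B ≤ A) →
      ∃ A ∈ 𝒜, ⁅B, B⁆ ≤ A ∧ ¬ B ≤ A ∧ B ≤ Subgroup.normalizer (A : Set Ω)) :
    (imgι M.ι (Iof 𝒜 S)).Normal := by
  obtain ⟨A₀, hA₀⟩ := id hne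
  rw [imgι_Iof M.inj (fun A hA => (h𝒜 A hA).1) hne le_rfl ⟨A₀, hA₀, (h𝒜 _ hA₀).1⟩, imgι_top,
    ← M.hT]
  refine CfsgLib.Fusion.Iof_normal M.T _ ?_ (hne.image _) ?_ ?_ M.core M.stable
  · rintro _ ⟨A, hA, rfl⟩
    exact ⟨M.hT ▸ imgι_le_range A, isMulCommutative_imgι (h𝒜 A hA).2⟩
  · intro Q' hQ' hex g hg y hy
    obtain ⟨Q, hQ, rfl⟩ := exists_imgι_eq M.inj (hQ'.trans M.hT.le)
    obtain ⟨_, ⟨A, hA, rfl⟩, hAQ⟩ := hex
    have hAQ' : A ≤ Q := (imgι_le_iff M.inj (h𝒜 A hA).1 hQ).1 hAQ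
    have hI := imgι_Iof M.inj (fun A hA => (h𝒜 A hA).1) hne hQ ⟨A, hA, hAQ'⟩
    rw [← hI] at hy ⊢
    have hIS : Iof 𝒜 Q ≤ S := (Iof_le hA hAQ').trans (h𝒜 A hA).1
    obtain ⟨x, hx, rfl⟩ := (mem_imgι hIS).1 hy
    obtain ⟨f, hf, hfg⟩ := M.conj_map Q hQ g fun z hz => imgι_le_range Q
      ((Subgroup.mem_normalizer_iff.1 hg _).1 (ext1_mem_imgι hQ hz))
    have himg : img Q f = Q := img_eq_of_map_le hQ hf le_rfl fun z hz => by
      refine mem_of_ext1_mem_imgι M.inj hQ (hf.mem_S hz) ?_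
      rw [hfg z hz]
      exact (Subgroup.mem_normalizer_iff.1 hg _).1 (ext1_mem_imgι hQ hz)
    rw [← hfg x ((Iof_le hA hAQ').trans hAQ' hx)]
    exact ext1_mem_imgι hIS (hinv Q f hf himg ⟨A, hA, hAQ'⟩ x hx)
  · intro B' hB'n hB'S hcl hU
    obtain ⟨B, hB, rfl⟩ := exists_imgι_eq M.inj (hB'S.trans M.hT.le)
    have hBB : ⁅B, B⁆ ≤ B := Subgroup.commutator_le_self B
    rw [← imgι_commutator hB hB] at hcl hU ⊢
    rw [← imgι_commutator (hBB.trans hB) hB] at hcl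
    have hcl' : ⁅⁅B, B⁆, B⁆ = ⊥ := by
      rw [eq_bot_iff]
      intro x hx
      have hxS : x ∈ S := hB ((Subgroup.commutator_mono hBB le_rfl).trans hBB hx)
      have h := Subgroup.mem_bot.1 (hcl.le (ext1_mem_imgι
        (((Subgroup.commutator_mono hBB le_rfl).trans hBB).trans hB) hx))
      rw [ext1_apply M.ι hxS] at h
      exact Subgroup.mem_bot.2 (congrArg Subtype.val ((map_eq_one_iff M.ι M.inj).1 h))
    have hBn : S ≤ Subgroup.normalizer (B : Set Ω) :=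
      (imgι_le_normalizer_iff M.inj hB le_rfl).1 (by rw [Subgroup.normalizer_eq_top]; exact le_top)
    obtain ⟨_, ⟨U, hU', rfl⟩, hU1, hU2⟩ := hU
    obtain ⟨A, hA, hA1, hA2, hA3⟩ := hrep B hB hBn hcl' ⟨U, hU',
      (imgι_le_iff M.inj (hBB.trans hB) (h𝒜 U hU').1).1 hU1,
      fun h => hU2 (imgι_mono h)⟩
    exact ⟨_, ⟨A, hA, rfl⟩, imgι_mono hA1,
      fun h => hA2 ((imgι_le_iff M.inj hB (h𝒜 A hA).1).1 h),
      (imgι_le_normalizer_iff M.inj (h𝒜 A hA).1 hB).2 hA3⟩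

/-- For constrained systems that are not inner, the normalizer of the intersection is not inner. -/
theorem not_ninner_of_constrained (hp : p ≠ 2) (hS : IsPGroup p S) (hE : E.IsConstrained p)
    (hne' : ¬ IsInner E) (𝒜 : Set (Subgroup Ω))
    (h𝒜 : ∀ A ∈ 𝒜, A ≤ S ∧ IsMulCommutative A) (hne : 𝒜.Nonempty)
    (hinv : ∀ (Q : Subgroup Ω) (f : Ω → Ω), IsMap E Q f → img Q f = Q → (∃ A ∈ 𝒜, A ≤ Q) →
      ∀ x ∈ Iof 𝒜 Q, f x ∈ Iof 𝒜 Q)
    (hrep : ∀ B : Subgroup Ω, B ≤ S → S ≤ Subgroup.normalizer (B : Set Ω) → ⁅⁅B, B⁆, B⁆ = ⊥ →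
      (∃ A ∈ 𝒜, ⁅B, B⁆ ≤ A ∧ ¬ B ≤ A) →
      ∃ A ∈ 𝒜, ⁅B, B⁆ ≤ A ∧ ¬ B ≤ A ∧ B ≤ Subgroup.normalizer (A : Set Ω)) :
    ¬ NInner E (Iof 𝒜 S) := by
  intro hN
  obtain ⟨M⟩ := nonempty_stableModel hp hS hE hne'
  obtain ⟨hI, hIn⟩ := Iof_normal_in (E := E) 𝒜 (fun A hA => (h𝒜 A hA).1) hne hinv
  obtain ⟨g, hg⟩ := M.exists_not_mem
  haveI := M.Iof_normal 𝒜 h𝒜 hne hinv hrep
  exact hg (M.normalizer_le hI hIn hN (by rw [Subgroup.normalizer_eq_top]; exact Subgroup.mem_top g))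

end CfsgLib.Fusion
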