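import Cfsg.Agent.Lib.Fusion.System.Model

/-!
# Characteristic functors: reduction of global fixed points to the local models
-/

set_option autoImplicit false
set_option linter.style.haveILetI false
set_option maxHeartbeats 800000

open Subgroup
open scoped Classical

namespace CfsgLib.Fusion

open Cfsg (FusionSystem autInducedBy)
open Cfsg.FusionSystem (normalizerIn centralizerIn)

universe u

variable {Ω : Type u} [Group Ω] {S : Subgroup Ω} {F : FusionSystem S} {P Q R : Subgroup Ω}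
  {f : Ω → Ω} {p : ℕ}

/-- `f` fixes the points of `Q`, in source and in image. -/
def FixOn (Q P : Subgroup Ω) (f : Ω → Ω) : Prop := ∀ x ∈ P, (x ∈ Q ∨ f x ∈ Q) → f x = x

theorem fixOn_of_le (hf : IsMap F P f) (hQP : Q ≤ P) (h : ∀ x ∈ Q, f x = x) : FixOn Q P f :=
  fun x hx => fun hxQ => hxQ.elim (h x) fun hfx =>
    hf.inj (hQP hfx) hx (h _ hfx)

/-- The maps fixing the points of `Q`. -/
noncomputable def fixSystem (F : FusionSystem S) (Q : Subgroup Ω)
    (hQ : Q ≤ Subgroup.centralizer (S : Set Ω)) : FusionSystem S :=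
  mkSystem F S (fun P f => IsMap F P f ∧ FixOn Q P f)
    (fun _ _ h => ⟨h.1, h.1.le, fun _ hx => h.1.mem_S hx⟩)
    (fun P f g h he => ⟨h.1.congr he, fun x hx hxQ => by rw [he x hx] at hxQ ⊢; exact h.2 x hx hxQ⟩)
    (fun P t hP ht => ⟨isMap_conj hP ht, fun x hx hxQ => by
      rcases hxQ with hxQ | hxQ
      · show t * x * t⁻¹ = x
        rw [Subgroup.mem_centralizer_iff.1 (hQ hxQ) t ht, mul_inv_cancel_right]
      · have h1 : x = t * x * t⁻¹ := by
          calc x = t⁻¹ * (t * x * t⁻¹) * t := by group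
            _ = (t * x * t⁻¹) := by
              rw [Subgroup.mem_centralizer_iff.1 (hQ hxQ) t⁻¹ (S.inv_mem ht), inv_mul_cancel_right]
        exact h1.symm⟩)
    (fun P R f g hf hg hfR => ⟨hf.1.comp hg.1 hfR, fun x hx hxQ => by
      show g (f x) = x
      rcases hxQ with hxQ | hxQ
      · rw [hf.2 x hx (Or.inl hxQ)]
        exact hg.2 x (hf.2 x hx (Or.inl hxQ) ▸ hfR x hx) (Or.inl hxQ)
      · have h1 : g (f x) = f x := hg.2 _ (hfR x hx) (Or.inr hxQ)
        exact h1.trans (hf.2 x hx (Or.inr (by have := hxQ; change g (f x) ∈ Q at this; rwa [h1] at this)))⟩)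
    (fun P f f' hf hf' hinv => ⟨hf', fun y hy hyQ => by
      obtain ⟨x, hx, rfl⟩ := hf.1.mem_img.1 hy
      rw [hinv x hx] at hyQ ⊢
      exact (hf.2 x hx hyQ.symm).symm⟩)

theorem isMap_fixSystem_iff {hQ : Q ≤ Subgroup.centralizer (S : Set Ω)} :
    IsMap (fixSystem F Q hQ) P f ↔ IsMap F P f ∧ FixOn Q P f :=
  isMap_mkSystem_iff _

theorem le_of_isCentric_of_central (hQS : Q ≤ S) (hQ : Q ≤ Subgroup.centralizer (S : Set Ω))
    (hc : F.IsCentric P) : Q ≤ P := fun x hx =>
  centralizerIn_le_of_isCentric hc ⟨hQS hx, Subgroup.centralizer_le hc.1 (hQ hx)⟩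

theorem isCentric_self (F : FusionSystem S) [Finite S] : F.IsCentric S := by
  refine ⟨le_rfl, fun R hR => ?_⟩
  rw [eq_of_le_of_card_le le_rfl (isConj_le hR).2 (isConj_card hR).ge]
  exact inf_le_left

variable [Finite S] [Fact p.Prime]

theorem isCentric_sup_centralizerIn (hU : F.IsFullyCentralized P) :
    F.IsCentric (P ⊔ centralizerIn S P) := by
  refine ⟨sup_le hU.1 inf_le_left, fun R hR => ?_⟩
  obtain ⟨h, hh, rfl⟩ := isConj_iff.1 hR
  have hP : P ≤ P ⊔ centralizerIn S P := le_sup_left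
  have hCm : centralizerIn S P ≤ P ⊔ centralizerIn S P := le_sup_right
  have h1 : img (centralizerIn S P) h ≤ centralizerIn S (img P h) := fun y hy => by
    obtain ⟨x, hx, rfl⟩ := (hh.mono hCm).mem_img.1 hy
    exact map_mem_centralizerIn hh hP (hCm hx) hx.2
  have h2 : img (centralizerIn S P) h = centralizerIn S (img P h) :=
    eq_of_le_of_card_le inf_le_left h1
      ((hh.mono hCm).card_img.symm ▸ hU.2 _ (isConj_iff.2 ⟨h, hh.mono hP, rfl⟩))
  calc centralizerIn S (img (P ⊔ centralizerIn S P) h) ≤ centralizerIn S (img P h) :=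
        inf_le_inf_left _ (Subgroup.centralizer_le (hh.img_mono hP))
    _ = img (centralizerIn S P) h := h2.symm
    _ ≤ _ := hh.img_mono hCm

theorem normalizerIn_le_normalizerIn_sup_centralizerIn :
    normalizerIn S P ≤ normalizerIn S (P ⊔ centralizerIn S P) := by
  intro s hs
  refine ⟨hs.1, conjBy_eq_iff.1 ?_⟩
  have hsS : conjBy s S = S := conjBy_eq_iff.2 (Subgroup.le_normalizer hs.1)
  have hsP : conjBy s P = P := conjBy_eq_iff.2 hs.2
  have hsC : conjBy s (Subgroup.centralizer (P : Set Ω)) = Subgroup.centralizer (P : Set Ω) := by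
    rw [conjBy_centralizer, hsP]
  have hle : conjBy s (centralizerIn S P) = centralizerIn S P := by
    ext y
    show y ∈ conjBy s (S ⊓ Subgroup.centralizer (P : Set Ω)) ↔ _
    rw [mem_conjBy, Subgroup.mem_inf, ← mem_conjBy, ← mem_conjBy, hsS, hsC]
    exact Iff.rfl
  refine le_antisymm (conjBy_le_iff.2 fun x hx => ?_) ?_
  · have h1 : x ∈ conjBy s⁻¹ (P ⊔ centralizerIn S P) := by
      refine (sup_le ?_ ?_ : P ⊔ centralizerIn S P ≤ conjBy s⁻¹ (P ⊔ centralizerIn S P)) hx
      · exact (conjBy_inv_conjBy s P).ge.trans (conjBy_mono (hsP.le.trans le_sup_left))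
      · exact (conjBy_inv_conjBy s _).ge.trans (conjBy_mono (hle.le.trans le_sup_right))
    have h2 := mem_conjBy.1 h1
    rwa [inv_inv] at h2
  · refine sup_le (hsP.ge.trans (conjBy_mono le_sup_left)) (hle.ge.trans (conjBy_mono le_sup_right))

/-- Global fixed points from local ones. -/
theorem fixes_of_local (hS : IsPGroup p S) (hF : F.IsSaturated p) (hQS : Q ≤ S)
    (hQ : Q ≤ Subgroup.centralizer (S : Set Ω)) (V : Subgroup Ω → Subgroup Ω)
    (hVle : ∀ T, T ≤ S → V T ≤ T) (hVQ : ∀ T, T ≤ S → Q ≤ T → Q ≤ V T)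
    (hVn : ∀ T, T ≤ S → normalizerIn S T ≤ normalizerIn S (V T))
    (htop : ∀ f, IsMap F (V S) f → img (V S) f = V S → ∀ x ∈ Q, f x = x)
    (hloc : ∀ P, F.IsFullyNormalized P → F.IsCentric P →
      (∀ f, IsMap F (V (normalizerIn S P)) f →
        img (V (normalizerIn S P)) f = V (normalizerIn S P) → ∀ x ∈ Q, f x = x) →
      ∀ α ∈ F.autGroup P, ∀ x ∈ Q, autFun α x = x)
    (hf : IsMap F R f) : FixOn Q R f := by
  set E := fixSystem F Q hQ
  have key : ∀ P, F.IsFullyNormalized P → F.IsCentric P →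
      F.autGroup P ≤ E.autGroup P := by
    intro P hPn hPc
    induction hk : Nat.card S - Nat.card (normalizerIn S P) using Nat.strong_induction_on
      generalizing P with
    | _ k ih =>
    have big : ∀ {R : Subgroup Ω} {g : Ω → Ω}, IsMap F R g →
        Nat.card (normalizerIn S P) < Nat.card R → FixOn Q R g := by
      intro R g hg hR
      refine (isMap_fixSystem_iff.1 (isMap_of_autGroup_le_above hS hF (E := E)
        (fun R' hRR' hR' => ?_) hg)).2
      have hR'n : F.IsFullyNormalized R' := hR'.elim (fun e => by subst e; exact isFullyNormalized_self)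
        fun e => e.2.1
      have hR'c : F.IsCentric R' := hR'.elim (fun e => e ▸ isCentric_self F) fun e => e.1
      refine ih _ ?_ R' hR'n hR'c rfl
      have h1 : Nat.card R' ≤ Nat.card (normalizerIn S R') :=
        card_le_of_le' inf_le_left (le_normalizerIn hR'n.1)
      have h2 : Nat.card (normalizerIn S R') ≤ Nat.card S := card_le_of_le' le_rfl inf_le_left
      omega
    have hQP := le_of_isCentric_of_central hQS hQ hPc
    suffices h : ∀ α ∈ F.autGroup P, ∀ x ∈ Q, autFun α x = x by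
      intro α hα
      exact (mem_autGroup_iff hPn.1).2 (isMap_fixSystem_iff.2 ⟨(mem_autGroup_iff hPn.1).1 hα,
        fixOn_of_le ((mem_autGroup_iff hPn.1).1 hα) hQP (h α hα)⟩)
    refine hloc P hPn hPc fun f hfm hfimg x hx => ?_
    set T := normalizerIn S P with hT
    have hTS : T ≤ S := inf_le_left
    by_cases hTe : T = S
    · rw [hTe] at hfm hfimg
      exact htop f hfm hfimg x hx
    have hQT : Q ≤ T := hQP.trans (le_normalizerIn hPn.1)
    have hVS : V T ≤ S := (hVle T hTS).trans hTS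
    have hxV : x ∈ V T := hVQ T hTS hQT hx
    -- move `V T` to a fully normalized subgroup
    obtain ⟨U, hVU, hUn⟩ := exists_fullyNormalized (F := F) hVS
    obtain ⟨hUa, hUr⟩ := IsSaturated.automized_receptive hS hF hUn
    obtain ⟨g, hg, hgimg, hgN⟩ := exists_map_normalizer hS hUa hUr hVU
    have hlt : Nat.card T < Nat.card (normalizerIn S (V T)) :=
      lt_of_lt_of_le (card_lt_of_lt inf_le_left (lt_normalizerIn hS hTS hTe))
        (card_le_of_le' inf_le_left (hVn T hTS))
    have hgfix := big hg hlt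
    have hgV := hg.mono (le_normalizerIn hVS)
    obtain ⟨gi, hgi, hgi1, hgi2⟩ := hgV.exists_inv
    rw [hgimg] at hgi hgi2
    have hgm : ∀ y ∈ V T, g y ∈ U := fun y hy => hgimg ▸ hgV.mem_img.2 ⟨y, hy, rfl⟩
    have hfm' : ∀ y ∈ V T, f y ∈ V T := fun y hy => hfimg ▸ hfm.mem_img.2 ⟨y, hy, rfl⟩
    have hf₁ : IsMap F U (g ∘ f ∘ gi) :=
      (hgi.comp hfm fun y hy => (hgi2 y hy).1).comp hgV fun y hy => hfm' _ (hgi2 y hy).1
    have hf₁img : img U (g ∘ f ∘ gi) = U :=
      img_eq_of_map_le hUn.1 hf₁ le_rfl fun y hy => hgm _ (hfm' _ (hgi2 y hy).1)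
    obtain ⟨β, hβ, hβe⟩ := (isReceptive_iff.1 hUr).2 U _ hf₁ hf₁img
    set U' := U ⊔ centralizerIn S U with hU'
    have hβU : img U β = U := (IsMap.img_congr hβe).trans hf₁img
    have hU'le : U' ≤ extSub S U (g ∘ f ∘ gi) := sup_le (le_extSub hf₁) centralizerIn_le_extSub
    have hβ' := hβ.mono hU'le
    have hU'c : F.IsCentric U' :=
      isCentric_sup_centralizerIn (IsSaturated.isFullyCentralized hS hF hUn)
    have hβ'img : img U' β = U' := by
      refine img_eq_of_map_le hU'c.1 hβ' le_rfl fun y hy => hβ'.map_mem_of_sup (fun a ha => ?_)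
        (fun a ha => ?_) hy
      · exact (le_sup_left : U ≤ U') (mem_of_img_eq hβ' le_sup_left hβU ha)
      · have h1 := map_mem_centralizerIn hβ' (le_sup_left : U ≤ U')
          ((le_sup_right : centralizerIn S U ≤ U') ha) ha.2
        rw [hβU] at h1
        exact (le_sup_right : centralizerIn S U ≤ U') h1
    obtain ⟨U'', hUU'', hU''n⟩ := exists_fullyNormalized (F := F) hU'c.1
    obtain ⟨hU''a, hU''r⟩ := IsSaturated.automized_receptive hS hF hU''n
    obtain ⟨g₂, hg₂, hg₂img, hg₂N⟩ := exists_map_normalizer hS hU''a hU''r hUU''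
    have hlt2 : Nat.card T < Nat.card (normalizerIn S U') := by
      refine lt_of_lt_of_le hlt (le_trans ?_
        (card_le_of_le' inf_le_left normalizerIn_le_normalizerIn_sup_centralizerIn))
      rw [← hg.card_img]
      refine card_le_of_le' inf_le_left fun y hy => ?_
      obtain ⟨z, hz, rfl⟩ := hg.mem_img.1 hy
      exact hgN z hz
    have hg₂fix := big hg₂ hlt2
    have hg₂U := hg₂.mono (le_normalizerIn hU'c.1)
    obtain ⟨gi₂, hgi₂, hgi₂1, hgi₂2⟩ := hg₂U.exists_inv
    rw [hg₂img] at hgi₂ hgi₂2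
    have hk' : Nat.card S - Nat.card (normalizerIn S U'') < k := by
      have h1 : Nat.card (normalizerIn S U') ≤ Nat.card (normalizerIn S U'') := by
        rw [← hg₂.card_img]
        refine card_le_of_le' inf_le_left fun y hy => ?_
        obtain ⟨z, hz, rfl⟩ := hg₂.mem_img.1 hy
        exact hg₂N z hz
      have h2 : Nat.card (normalizerIn S U'') ≤ Nat.card S := card_le_of_le' le_rfl inf_le_left
      omega
    have hU''c := isCentric_of_isConj hU'c hUU''
    have hm₂ : ∀ y ∈ U', β y ∈ U' := fun y hy => mem_of_img_eq hβ' le_rfl hβ'img hy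
    have hα₂ : IsMap F U'' (g₂ ∘ β ∘ gi₂) :=
      (hgi₂.comp hβ' fun y hy => (hgi₂2 y hy).1).comp hg₂U fun y hy => hm₂ _ (hgi₂2 y hy).1
    have hα₂img : img U'' (g₂ ∘ β ∘ gi₂) = U'' := by
      refine img_eq_of_map_le hU''n.1 hα₂ le_rfl fun y hy => ?_
      exact hg₂img.le (hg₂U.mem_img.2 ⟨_, hm₂ _ (hgi₂2 y hy).1, rfl⟩)
    have hfix₂ := (isMap_fixSystem_iff.1 ((mem_autGroup_iff hU''n.1).1
      (ih _ hk' U'' hU''n hU''c rfl (autOf_mem hα₂ hα₂img)))).2
    -- compute at `x`
    have hxN : x ∈ normalizerIn S (V T) := le_normalizerIn hVS hxV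
    have e1 : g x = x := hgfix x hxN (Or.inl hx)
    have hxU : x ∈ U := e1 ▸ hgm x hxV
    have hxU' : x ∈ U' := (le_sup_left : U ≤ U') hxU
    have e2 : g₂ x = x := hg₂fix x (le_normalizerIn hU'c.1 hxU') (Or.inl hx)
    have hxU'' : x ∈ U'' := hg₂img.le (e2 ▸ hg₂U.mem_img.2 ⟨x, hxU', rfl⟩)
    have e3 : g₂ (β (gi₂ x)) = x := by
      have := hfix₂ x hxU'' (Or.inl hx)
      rwa [autFun_autOf hα₂ hα₂img hxU''] at this
    have e4 : gi₂ x = x := by conv_lhs => rw [← e2, hgi₂1 x hxU']
    rw [e4] at e3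
    have e5 : β x = x := hg₂U.inj (hm₂ x hxU') hxU' (e3.trans e2.symm)
    rw [hβe x hxU] at e5
    have e6 : g (f (gi x)) = x := e5
    rw [show gi x = x by conv_lhs => rw [← e1, hgi1 x hxV]] at e6
    exact hgV.inj (hfm' x hxV) hxV (e6.trans e1.symm)
  refine (isMap_fixSystem_iff.1 (isMap_of_autGroup_le hS hF (E := E) (fun R' hR' => ?_) hf)).2
  exact key R' (hR'.elim (fun e => by subst e; exact isFullyNormalized_self) fun e => e.2.1)
    (hR'.elim (fun e => e ▸ isCentric_self F) fun e => e.1)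

/-- Fixed points are central. -/
theorem isCentral_of_fixed (hS : IsPGroup p S) (hF : F.IsSaturated p) (hQ : Q ≤ S)
    (h : ∀ (R : Subgroup Ω) (f : Ω → Ω), IsMap F R f → ∀ x ∈ R, x ∈ Q → f x = x) :
    F.IsCentral Q := by
  have hc : F.StronglyClosed Q := stronglyClosed_iff.2
    ⟨hQ, fun R f hR hf x hx => by rw [h R f hf x hx (hR hx)]; exact hR hx⟩
  have hn := isNormal_of_stronglyClosed_abelian hS hF hc fun x hx y hy =>
    mul_inv_eq_iff_eq_mul.1 (h Q _ (isMap_conj hQ (hQ hx)) y hy hy)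
  refine isCentral_iff.2 ⟨hQ, fun P f hf => ?_⟩
  obtain ⟨g, hg, hgf, -⟩ := (isNormal_iff.1 hn).2 P f hf
  exact ⟨g, hg, hgf, fun x hx => h _ g hg x ((le_sup_right : Q ≤ P ⊔ Q) hx) hx⟩

omit [Fact p.Prime] in
theorem center_fixed (hf : IsMap F R f) {x : Ω} (hx : x ∈ R) (hxc : x ∈ F.center) : f x = x := by
  obtain ⟨g, -, hgf, hgc⟩ := (isCentral_iff.1 (isCentral_center (F := F))).2 R f hf
  exact (hgf x hx).symm.trans (hgc x hxc)

omit [Fact p.Prime] in
theorem center_le_centralizer : F.center ≤ Subgroup.centralizer (S : Set Ω) := fun x hx =>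
  mem_centralizer_iff'.2 (fun s hs => by
    have e : s * x * s⁻¹ = x :=
      center_fixed (isMap_conj le_rfl hs) ((isCentral_center (F := F)).1 hx) hx
    calc x * s * x⁻¹ = s * x * s⁻¹ * s * x⁻¹ := by rw [e]
      _ = s := by group)

/-- The local model of a fully normalized centric subgroup. -/
theorem exists_local_group (hS : IsPGroup p S) (hF : F.IsSaturated p) (hP : F.IsFullyNormalized P)
    (hc : F.IsCentric P) :
    ∃ (L : Type u) (_ : Group L) (_ : Finite L) (ι : normalizerIn S P →* L),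
      Function.Injective ι ∧ (∃ T : Sylow p L, (T : Subgroup L) = ι.range) ∧
      Subgroup.centralizer ((Cfsg.pCore p L : Subgroup L) : Set L) ≤ Cfsg.pCore p L ∧
      imgι ι P ≤ Cfsg.pCore p L ∧
      (∀ α ∈ F.autGroup P, ∃ l : L, ∀ x ∈ P, ext1 ι (autFun α x) = l * ext1 ι x * l⁻¹) ∧
      ∀ V, V ≤ normalizerIn S P → ∀ l ∈ Subgroup.normalizer (imgι ι V : Set L),
        ∃ f, IsMap F V f ∧ img V f = V ∧ ∀ x ∈ V, ext1 ι (f x) = l * ext1 ι x * l⁻¹ := by
  set T := normalizerIn S P with hT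
  let E := nSystem F T P le_rfl hP.1
  have hE : F.IsNormalizerSystem P E := fun R => Set.ext fun φ => by
    rw [mem_normalizerHom_iff]
    exact Iff.rfl
  haveI := finite_of_le (S := S) (P := T) inf_le_left
  have hTp : IsPGroup p T := hS.to_le inf_le_left
  obtain ⟨L, hL, ι, ⟨hfin, hr, hTs, hcore⟩, hn⟩ := exists_local_model hS hF hP hc hE
  haveI := hfin
  refine ⟨L, hL, hfin, ι, hr.1, hTs, hcore,
    CfsgLib.Coprime.le_pCore (hN := hn) ((hTp.to_subgroup _).map ι), fun α hα => ?_,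
    fun V hV l hl => ?_⟩
  · rw [← autGroup_normalizerSystem_self hP.1 hE, mem_autGroup_iff (le_normalizerIn hP.1)] at hα
    obtain ⟨-, -, -, l, hl⟩ := (isMap_realized_iff hr).1 hα
    exact ⟨l, hl⟩
  · have hVl : ∀ x ∈ V, l * ext1 ι x * l⁻¹ ∈ imgι ι V := fun x hx =>
      (Subgroup.mem_normalizer_iff.1 hl _).1 (ext1_mem_imgι hV hx)
    obtain ⟨f, hf, hfl⟩ := exists_map_of_conj hr hV fun x hx => imgι_le_range V (hVl x hx)
    have hfF : IsMap F V f := ((isMap_of_isNormalizerSystem hE).1 hf).isMap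
    refine ⟨f, hfF, img_eq_of_map_le (hV.trans inf_le_left) hfF le_rfl fun x hx => ?_, hfl⟩
    exact mem_of_ext1_mem_imgι hr.1 hV (hf.mem_S hx) (hfl x hx ▸ hVl x hx)

section W

variable (W : ∀ (A : Type u) [Group A], Subgroup A)
  (hW2 : ∀ (A B : Type u) [Group A] [Group B] [Finite A], IsPGroup p A → ∀ φ : A ≃* B,
    (W A).map φ.toMonoidHom = W B)

/-- The value of a functor on a subgroup, inside the ambient group. -/
def wSub (T : Subgroup Ω) : Subgroup Ω := (W ↥T).map T.subtype

omit [Finite S] [Fact p.Prime] in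
theorem wSub_le (T : Subgroup Ω) : wSub W T ≤ T := Subgroup.map_subtype_le _

include hW2

omit [Finite S] [Fact p.Prime] in
theorem map_wSub {A G : Type u} [Group A] [Group G] [Finite A] (hA : IsPGroup p A) (ι : A →* G)
    (hι : Function.Injective ι) {H : Subgroup G} (hH : H = ι.range) :
    (W ↥H).map H.subtype = (W A).map ι := by
  subst hH
  rw [← hW2 A _ hA (MonoidHom.ofInjective hι), Subgroup.map_map]
  rfl

omit [Fact p.Prime] in
theorem normalizerIn_le_normalizerIn_wSub (hS : IsPGroup p S) {T : Subgroup Ω} (hT : T ≤ S) :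
    normalizerIn S T ≤ normalizerIn S (wSub W T) := by
  intro s hs
  haveI := finite_of_le hT
  refine ⟨hs.1, conjBy_eq_iff.1 ?_⟩
  have e := hW2 ↥T ↥T (hS.to_le hT) (conjAut s hs.2)
  ext y
  rw [mem_conjBy]
  constructor
  · rintro ⟨a, ha, hay⟩
    refine ⟨conjAut s hs.2 a, e.le ⟨a, ha, rfl⟩, ?_⟩
    show ((conjAut s hs.2 a : T) : Ω) = y
    rw [← autFun_coe, autFun_conjAut hs.2 a.2, show ((a : Ω)) = s⁻¹ * y * s from hay]
    group
  · rintro ⟨b, hb, rfl⟩
    obtain ⟨a, ha, rfl⟩ := e.ge hb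
    refine ⟨a, ha, ?_⟩
    show (a : Ω) = s⁻¹ * ((conjAut s hs.2 a : T) : Ω) * s
    rw [← autFun_coe, autFun_conjAut hs.2 a.2]
    group

omit [Fact p.Prime] in
theorem normalizerIn_wSub_self (hS : IsPGroup p S) : normalizerIn S (wSub W S) = S :=
  le_antisymm inf_le_left
    ((le_normalizerIn (le_refl S)).trans (normalizerIn_le_normalizerIn_wSub W hW2 hS le_rfl))

omit hW2 [Finite S] [Fact p.Prime] in
theorem imgι_wSub {T : Subgroup Ω} {G : Type u} [Group G] (ι : T →* G) :
    imgι ι (wSub W T) = (W ↥T).map ι := by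
  rw [imgι, wSub, Subgroup.subgroupOf, Subgroup.comap_map_eq_self_of_injective T.subtype_injective]

end W

end CfsgLib.Fusion

namespace CfsgLib.Fusion

open Cfsg (FusionSystem)
open Cfsg.FusionSystem (normalizerIn centralizerIn)

universe u

variable {Ω : Type u} [Group Ω] {S : Subgroup Ω} [Finite S] {F : FusionSystem S} {V : Subgroup Ω}
  {N : FusionSystem (normalizerIn S V)} {p : ℕ} [Fact p.Prime]

omit [Fact p.Prime] in
/-- The centre of a system lies in the centre of the normalizer system of a normal subgroup of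
`S`. -/
theorem center_le_center_normalizerSystem (hV : V ≤ S) (hVn : normalizerIn S V = S)
    (hN : F.IsNormalizerSystem V N) : F.center ≤ N.center := by
  refine le_sSup (isCentral_iff.2 ⟨?_, fun P f hf => ?_⟩)
  · rw [hVn]; exact (isCentral_center (F := F)).1
  obtain ⟨hP, -, g, hg, hgf, hgV⟩ := (isMap_of_isNormalizerSystem hN).1 hf
  obtain ⟨g', hg', hg'g, hg'C⟩ := (isCentral_iff.1 (isCentral_center (F := F))).2 _ g hg
  have hle : P ⊔ F.center ≤ P ⊔ V ⊔ F.center := sup_le_sup_right le_sup_left _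
  refine ⟨g', (isMap_of_isNormalizerSystem hN).2 ⟨?_, fun z hz => ?_, g', ?_, fun _ _ => rfl, ?_⟩,
    fun x hx => (hg'g x ((le_sup_left : P ≤ P ⊔ V) hx)).trans (hgf x hx), hg'C⟩
  · exact sup_le hP ((isCentral_center (F := F)).1.trans hVn.ge)
  · exact hVn.ge ((hg'.mono hle).mem_S hz)
  · rwa [sup_right_comm]
  · exact (IsMap.img_congr fun x hx => hg'g x ((le_sup_right : V ≤ P ⊔ V) hx)).trans hgV

/-- Fixed points of a subgroup of the centre of the normalizer system of `W(S)`. -/
theorem le_center_of_functor (hS : IsPGroup p S) (hF : F.IsSaturated p)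
    (W : ∀ (A : Type u) [Group A], Subgroup A)
    (hW2 : ∀ (A B : Type u) [Group A] [Group B] [Finite A], IsPGroup p A → ∀ φ : A ≃* B,
      (W A).map φ.toMonoidHom = W B)
    (hWZ : ∀ (A : Type u) [Group A] [Finite A], IsPGroup p A → Subgroup.center A ≤ W A)
    {N : FusionSystem (normalizerIn S ((W ↥S).map S.subtype))}
    (hN : F.IsNormalizerSystem ((W ↥S).map S.subtype) N)
    {Q : Subgroup Ω} (hQ : Q ≤ N.center)
    (hloc : ∀ (L : Type u) [Group L] [Finite L] (A : Subgroup Ω) (ι : A →* L) (T : Sylow p L),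
      A ≤ S → S ⊓ Subgroup.centralizer (S : Set Ω) ≤ A →
      Function.Injective ι → (T : Subgroup L) = ι.range →
      Subgroup.centralizer ((Cfsg.pCore p L : Subgroup L) : Set L) ≤ Cfsg.pCore p L →
      ∀ x ∈ Q, x ∈ A → ext1 ι x ∈ Cfsg.pCore p L →
        (∀ n ∈ Subgroup.normalizer (((W ↥(T : Subgroup L)).map (T : Subgroup L).subtype :
          Subgroup L) : Set L), n * ext1 ι x * n⁻¹ = ext1 ι x) →
        ∀ g : L, g * ext1 ι x * g⁻¹ = ext1 ι x) :
    Q ≤ F.center := by
  haveI := finite_of_le (S := S) (P := normalizerIn S ((W ↥S).map S.subtype)) inf_le_left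
  have hn : normalizerIn S ((W ↥S).map S.subtype) = S := normalizerIn_wSub_self W hW2 hS
  have hQS : Q ≤ S := hQ.trans ((isCentral_center (F := N)).1.trans inf_le_left)
  have hQC : Q ≤ Subgroup.centralizer (S : Set Ω) :=
    hQ.trans ((center_le_centralizer (F := N)).trans (Subgroup.centralizer_le hn.ge))
  have hVQ : ∀ T : Subgroup Ω, T ≤ S → Q ≤ T → Q ≤ wSub W T := by
    intro T hT hQT x hx
    haveI := finite_of_le hT
    exact ⟨⟨x, hQT hx⟩, hWZ ↥T (hS.to_le hT) (Subgroup.mem_center_iff.2 fun t =>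
      Subtype.ext (Subgroup.mem_centralizer_iff.1 (hQC hx) t (hT t.2))), rfl⟩
  refine le_sSup (isCentral_of_fixed hS hF hQS fun R f hf x hx hxQ => ?_)
  refine fixes_of_local hS hF hQS hQC (wSub W) (fun T _ => wSub_le W T) hVQ
    (fun T hT => normalizerIn_le_normalizerIn_wSub W hW2 hS hT) ?_ ?_ hf x hx (Or.inl hxQ)
  · intro f hf himg x hx
    have hV := wSub_le W S
    have hfN : IsMap N (wSub W S) f := (isMap_of_isNormalizerSystem hN).2
      ⟨le_normalizerIn hV, fun y hy => hn.ge (hf.mem_S hy), f, by rwa [show (W ↥S).map S.subtype =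
        wSub W S from rfl, sup_idem], fun _ _ => rfl, himg⟩
    exact center_fixed hfN (hVQ S le_rfl hQS hx) (hQ hx)
  · intro P hPn hPc hfix α hα x hx
    obtain ⟨L, hL, hLfin, ι, hι, ⟨T, hT⟩, hcore, hPcore, hlift, hnorm⟩ :=
      exists_local_group hS hF hPn hPc
    haveI := finite_of_le (S := S) (P := normalizerIn S P) inf_le_left
    have hxP := le_of_isCentric_of_central hQS hQC hPc hx
    have hxT : x ∈ normalizerIn S P := le_normalizerIn hPn.1 hxP
    obtain ⟨l, hl⟩ := hlift α hα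
    have hW : (W ↥(T : Subgroup L)).map (T : Subgroup L).subtype =
        imgι ι (wSub W (normalizerIn S P)) := by
      rw [imgι_wSub W ι]
      exact map_wSub W hW2 (A := ↥(normalizerIn S P))
        (hS.to_le (inf_le_left : normalizerIn S P ≤ S)) ι hι hT
    have key := hloc L (normalizerIn S P) ι T inf_le_left (fun z hz => ⟨hz.1,
      Subgroup.centralizer_le_normalizer _ (Subgroup.centralizer_le hPn.1 hz.2)⟩) hι hT hcore x hx hxT
      (hPcore (ext1_mem_imgι (le_normalizerIn hPn.1) hxP)) (fun n hn => by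
        rw [hW] at hn
        obtain ⟨f, hf, hfimg, hfl⟩ := hnorm _ (wSub_le W _) n hn
        have hxV := hVQ _ inf_le_left (fun y hy =>
          le_normalizerIn hPn.1 (le_of_isCentric_of_central hQS hQC hPc hy)) hx
        have h1 := hfl x hxV
        rwa [hfix f hf hfimg x hx, eq_comm] at h1) l
    rw [← hl x hxP] at key
    exact ext1_inj hι (le_normalizerIn hPn.1 (autFun_mem α hxP)) hxT key

end CfsgLib.Fusion
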