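import Cfsg.Agent.Lib.Fusion.System.Saturation
import Cfsg.Agent.Lib.Fusion.Thompson

/-!
# Centric subgroups; maps agreeing on a centric subgroup
-/

set_option autoImplicit false
set_option linter.style.haveILetI false

open Subgroup
open scoped Classical

namespace CfsgLib.Fusion

open Cfsg (FusionSystem autInducedBy)
open Cfsg.FusionSystem (normalizerIn centralizerIn)

variable {Ω : Type*} [Group Ω] {S : Subgroup Ω} {F : FusionSystem S} {P Q R : Subgroup Ω}
  {f g : Ω → Ω} {p : ℕ}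

theorem IsMap.mem_of_mem_img (hf : IsMap F P f) (hQP : Q ≤ P) {x : Ω} (hx : x ∈ P)
    (h : f x ∈ img Q f) : x ∈ Q := by
  obtain ⟨q, hq, hqx⟩ := (hf.mono hQP).mem_img.1 h
  exact hf.inj (hQP hq) hx hqx ▸ hq

theorem IsMap.mem_centralizer_of_map (hf : IsMap F P f) (hQP : Q ≤ P) {x : Ω} (hx : x ∈ P)
    (h : f x ∈ Subgroup.centralizer (img Q f : Set Ω)) :
    x ∈ Subgroup.centralizer (Q : Set Ω) := by
  refine Subgroup.mem_centralizer_iff.2 fun q hq => ?_
  refine hf.inj (mul_mem (hQP hq) hx) (mul_mem hx (hQP hq)) ?_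
  rw [hf.map_mul (hQP hq) hx, hf.map_mul hx (hQP hq)]
  exact Subgroup.mem_centralizer_iff.1 h _ ((hf.mono hQP).mem_img.2 ⟨q, hq, rfl⟩)

theorem isCentric_le (h : F.IsCentric Q) : Q ≤ S := h.1

theorem centralizerIn_le_of_isCentric (h : F.IsCentric Q) : centralizerIn S Q ≤ Q :=
  h.2 Q (isConj_refl h.1)

theorem isCentric_of_isConj (h : F.IsCentric Q) (hQR : F.IsConj Q R) : F.IsCentric R :=
  ⟨(isConj_le hQR).2, fun _ hT => h.2 _ (isConj_trans hQR hT)⟩

theorem centralizerIn_img_le (h : F.IsCentric Q) (hf : IsMap F R f) (hQR : Q ≤ R) :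
    centralizerIn S (img Q f) ≤ img Q f :=
  h.2 _ (isConj_iff.2 ⟨f, hf.mono hQR, rfl⟩)

theorem isCentric_mono (h : F.IsCentric Q) (hQR : Q ≤ R) (hR : R ≤ S) : F.IsCentric R := by
  refine ⟨hR, fun T hT => ?_⟩
  obtain ⟨f, hf, rfl⟩ := isConj_iff.1 hT
  exact ((inf_le_inf_left _ (Subgroup.centralizer_le (hf.img_mono hQR))).trans
    (centralizerIn_img_le h hf hQR)).trans (hf.img_mono hQR)

/-- `|C_S(Q)|` for a self-centralizing image. -/
theorem card_centralizerIn_img (hf : IsMap F P f) (h : centralizerIn S P ≤ P)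
    (h' : centralizerIn S (img P f) ≤ img P f) :
    Nat.card (centralizerIn S (img P f)) = Nat.card (centralizerIn S P) := by
  rw [← (hf.mono h).card_img, show centralizerIn S (img P f) = img (centralizerIn S P) f from ?_]
  ext y
  rw [(hf.mono h).mem_img]
  constructor
  · intro hy
    obtain ⟨x, hx, rfl⟩ := hf.mem_img.1 (h' hy)
    exact ⟨x, ⟨hf.le hx, hf.mem_centralizer_of_map le_rfl hx hy.2⟩, rfl⟩
  · rintro ⟨x, hx, rfl⟩
    exact map_mem_centralizerIn hf le_rfl (h hx) hx.2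

theorem isFullyCentralized_of_isCentric (h : F.IsCentric Q) : F.IsFullyCentralized Q := by
  refine ⟨h.1, fun T hT => ?_⟩
  obtain ⟨f, hf, rfl⟩ := isConj_iff.1 hT
  exact (card_centralizerIn_img hf (centralizerIn_le_of_isCentric h)
    (centralizerIn_img_le h hf le_rfl)).le

theorem isCentric_of_fullyCentralized [Finite S] (hP : F.IsFullyCentralized P)
    (hC : centralizerIn S P ≤ P) : F.IsCentric P := by
  refine ⟨hP.1, fun T hT => ?_⟩
  obtain ⟨f, hf, rfl⟩ := isConj_iff.1 hT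
  have h1 : img (centralizerIn S P) f ≤ centralizerIn S (img P f) := fun y hy => by
    obtain ⟨x, hx, rfl⟩ := (hf.mono hC).mem_img.1 hy
    exact map_mem_centralizerIn hf le_rfl (hC hx) hx.2
  have h2 : img (centralizerIn S P) f = centralizerIn S (img P f) :=
    eq_of_le_of_card_le inf_le_left h1 ((hf.mono hC).card_img.symm ▸ hP.2 _ hT)
  rw [← h2]
  exact hf.img_mono hC

section Saturated

variable [Finite S] [Fact p.Prime]

/-- A `p`-group of automorphisms of `P` becomes inner on a fully normalized conjugate. -/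
theorem exists_conj_pAut (hS : IsPGroup p S) (hF : F.IsSaturated p) (hP : P ≤ S)
    {A : Subgroup (MulAut P)} (hA : IsPGroup p A) (hAF : A ≤ F.autGroup P) :
    ∃ θ, IsMap F P θ ∧ F.IsFullyNormalized (img P θ) ∧ ∀ a ∈ A, ∃ s ∈ normalizerIn S (img P θ),
      ∀ x ∈ P, θ (autFun a x) = s * θ x * s⁻¹ := by
  obtain ⟨P', hPP', hP'⟩ := exists_fullyNormalized (F := F) hP
  obtain ⟨θ₀, hθ₀, rfl⟩ := isConj_iff.1 hPP'
  obtain ⟨hP'S, hi⟩ := (isFullyAutomized_iff hS).1 (IsSaturated.automized_receptive hS hF hP').1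
  haveI := finite_of_le hP'S
  haveI := finite_mulAut (P := img P θ₀)
  have hA' : A.map (MulAut.congr (mapEquiv hθ₀)).toMonoidHom ≤ F.autGroup (img P θ₀) :=
    (Subgroup.map_mono hAF).trans (autGroup_congr hθ₀).le
  obtain ⟨δ, hδ, hδA⟩ := exists_conj_le_of_not_dvd_relIndex (isPGroup_autInducedBy hS)
    (autInducedBy_le_autGroup hP'S) hi (hA.map _) hA'
  have hm : ∀ x ∈ P, θ₀ x ∈ img P θ₀ := fun x hx => hθ₀.mem_img.2 ⟨x, hx, rfl⟩
  have himg : img P (autFun δ ∘ θ₀) = img P θ₀ := by rw [← img_img hθ₀, img_autFun]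
  refine ⟨autFun δ ∘ θ₀, hθ₀.comp ((mem_autGroup_iff hP'S).1 hδ) hm, himg.symm ▸ hP',
    fun a ha => ?_⟩
  obtain ⟨s, hs, hact⟩ := mem_autInducedBy_iff.1 (hδA (conj_mem_conjBy
    (Subgroup.mem_map_of_mem (MulAut.congr (mapEquiv hθ₀)).toMonoidHom ha)))
  refine ⟨s, ⟨hs, himg.symm ▸ mem_normalizer_of_autFun hact⟩, fun x hx => ?_⟩
  show autFun δ (θ₀ (autFun a x)) = s * autFun δ (θ₀ x) * s⁻¹
  rw [← hact _ (autFun_mem δ (hm x hx)), ← autFun_mul _ _ (hm x hx), inv_mul_cancel_right,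
    autFun_mul _ _ (hm x hx)]
  exact congrArg (autFun δ) (autFun_congr hθ₀ a hx).symm

theorem isPGroup_zpowers_of_pow {G : Type*} [Group G] {a : G} {k : ℕ} (h : a ^ p ^ k = 1) :
    IsPGroup p (Subgroup.zpowers a) := by
  obtain ⟨j, -, hj⟩ := (Nat.dvd_prime_pow Fact.out).1 (orderOf_dvd_of_pow_eq_one h)
  exact IsPGroup.of_card ((Nat.card_zpowers a).trans hj)

/-- Two maps agreeing on a centric subgroup `Q` normal in the source differ by an element of
`Z(Q)`. -/
theorem exists_eq_conj_of_agree_normal (hS : IsPGroup p S) (hF : F.IsSaturated p) (hQP : Q ≤ P)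
    (hn : P ≤ Subgroup.normalizer (Q : Set Ω)) (hQ : F.IsCentric Q) (hf : IsMap F P f)
    (hg : IsMap F P g) (h : ∀ x ∈ Q, f x = g x) :
    ∃ z ∈ Q, z ∈ Subgroup.centralizer (Q : Set Ω) ∧ ∀ y ∈ P, g y = f (z * y * z⁻¹) := by
  have key : ∀ y ∈ P, ∃ z ∈ Q, g y = f (y * z) := by
    intro y hy
    have h1 : (f y)⁻¹ * g y ∈ centralizerIn S (img Q f) := by
      refine ⟨S.mul_mem (S.inv_mem (hf.mem_S hy)) (hg.mem_S hy),
        Subgroup.mem_centralizer_iff.2 fun u hu => ?_⟩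
      obtain ⟨q, hq, rfl⟩ := (hf.mono hQP).mem_img.1 hu
      have hq' : y * q * y⁻¹ ∈ Q := (Subgroup.mem_normalizer_iff.1 (hn hy) q).1 hq
      have e := h _ hq'
      rw [hf.map_conj hy (hQP hq), hg.map_conj hy (hQP hq), ← h q hq] at e
      calc f q * ((f y)⁻¹ * g y) = (f y)⁻¹ * (f y * f q * (f y)⁻¹) * g y := by group
        _ = (f y)⁻¹ * g y * f q := by rw [e]; group
    obtain ⟨z, hz, hze⟩ := (hf.mono hQP).mem_img.1 (centralizerIn_img_le hQ hf hQP h1)
    exact ⟨z, hz, by rw [hf.map_mul hy (hQP hz), hze, mul_inv_cancel_left]⟩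
  have himg : img P g = img P f := by
    refine eq_of_le_of_card_le hf.img_le (fun u hu => ?_) (by rw [hf.card_img, hg.card_img])
    obtain ⟨y, hy, rfl⟩ := hg.mem_img.1 hu
    obtain ⟨z, hz, e⟩ := key y hy
    exact hf.mem_img.2 ⟨y * z, mul_mem hy (hQP hz), e.symm⟩
  obtain ⟨f', hf', hf'1, hf'2⟩ := hf.exists_inv
  have hgm : ∀ x ∈ P, g x ∈ img P f := fun x hx => himg ▸ hg.mem_img.2 ⟨x, hx, rfl⟩
  have hα : IsMap F P (f' ∘ g) := hg.comp hf' hgm
  have hαimg : img P (f' ∘ g) = P := by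
    refine eq_of_le_of_card_le hf.le (fun u hu => ?_) hα.card_img.ge
    obtain ⟨x, hx, rfl⟩ := hα.mem_img.1 hu
    exact (hf'2 _ (hgm x hx)).1
  set α := autOf hα hαimg with hαdef
  have hαF : α ∈ F.autGroup P := autOf_mem hα hαimg
  have hαv : ∀ x ∈ P, autFun α x = f' (g x) := fun x hx => autFun_autOf hα hαimg hx
  have hαQ : ∀ x ∈ Q, autFun α x = x := fun x hx => by
    rw [hαv x (hQP hx), ← h x hx, hf'1 x (hQP hx)]
  have hpow : ∀ y ∈ P, ∃ z ∈ Q, ∀ k : ℕ, autFun (α ^ k) y = y * z ^ k := by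
    intro y hy
    obtain ⟨z, hz, e⟩ := key y hy
    have h1 : autFun α y = y * z := by rw [hαv y hy, e, hf'1 _ (mul_mem hy (hQP hz))]
    refine ⟨z, hz, fun k => ?_⟩
    induction k with
    | zero => rw [pow_zero, pow_zero, autFun_one hy, mul_one]
    | succ k ih =>
      rw [pow_succ', autFun_mul _ _ hy, ih,
        ((mem_autGroup_iff hf.le).1 hαF).map_mul hy (pow_mem (hQP hz) k), h1,
        hαQ _ (pow_mem hz k), mul_assoc, ← pow_succ']
  obtain ⟨n, hn'⟩ := IsPGroup.iff_card.1 hS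
  have hαp : α ^ p ^ n = 1 := autFun_ext fun y hy => by
    obtain ⟨z, hz, e⟩ := hpow y hy
    have hzS : z ^ p ^ n = 1 := by
      have := congrArg Subtype.val (pow_card_eq_one' (x := (⟨z, hQ.1 hz⟩ : S)))
      rwa [hn'] at this
    rw [e, hzS, mul_one, autFun_one hy]
  obtain ⟨θ, hθ, -, hθA⟩ := exists_conj_pAut hS hF hf.le (isPGroup_zpowers_of_pow hαp)
    (Subgroup.zpowers_le.2 hαF)
  obtain ⟨s, hs, hsx⟩ := hθA α (Subgroup.mem_zpowers α)
  have hsC : s ∈ centralizerIn S (img Q θ) := by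
    refine ⟨hs.1, mem_centralizer_iff'.2 fun u hu => ?_⟩
    obtain ⟨q, hq, rfl⟩ := (hθ.mono hQP).mem_img.1 hu
    rw [← hsx q (hQP hq), hαQ q hq]
  obtain ⟨z, hz, rfl⟩ := (hθ.mono hQP).mem_img.1 (centralizerIn_img_le hQ hθ hQP hsC)
  refine ⟨z, hz, hθ.mem_centralizer_of_map hQP (hQP hz) hsC.2, fun y hy => ?_⟩
  have hzy : z * y * z⁻¹ ∈ P := mul_mem (mul_mem (hQP hz) hy) (inv_mem (hQP hz))
  have e1 : autFun α y = z * y * z⁻¹ := by
    refine hθ.inj (autFun_mem α hy) hzy ?_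
    rw [hsx y hy, hθ.map_conj (hQP hz) hy]
  rw [← e1, hαv y hy, (hf'2 _ (hgm y hy)).2]

/-- Two maps agreeing on a centric subgroup `Q` of the source differ by an element of `Z(Q)`. -/
theorem exists_eq_conj_of_agree (hS : IsPGroup p S) (hF : F.IsSaturated p) (hQP : Q ≤ P)
    (hQ : F.IsCentric Q) (hf : IsMap F P f)
    (hg : IsMap F P g) (h : ∀ x ∈ Q, f x = g x) :
    ∃ z ∈ Q, z ∈ Subgroup.centralizer (Q : Set Ω) ∧ ∀ y ∈ P, g y = f (z * y * z⁻¹) := by
  induction hk : Nat.card S - Nat.card Q using Nat.strong_induction_on generalizing Q f with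
  | _ k ih =>
  by_cases hQP' : Q = P
  · subst hQP'
    exact ⟨1, one_mem _, one_mem _, fun y hy => by rw [← h y hy]; simp⟩
  set N := normalizerIn P Q with hN
  have hNP : N ≤ P := inf_le_left
  have hQN : Q ≤ N := le_inf hQP Subgroup.le_normalizer
  haveI := finite_of_le hf.le
  haveI : Group.IsNilpotent P := (hS.to_le hf.le).isNilpotent
  have hlt : Q < N := lt_inf_normalizer hQP hQP'
  obtain ⟨z, hz, hzC, hzy⟩ := exists_eq_conj_of_agree_normal hS hF hQN inf_le_right hQ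
    (hf.mono hNP) (hg.mono hNP) h
  have hzP := hQP hz
  have hf₁ : IsMap F P (fun y => f (z * y * z⁻¹)) :=
    (isMap_conj hf.le (hf.le hzP)).comp hf fun y hy => mul_mem (mul_mem hzP hy) (inv_mem hzP)
  have hNS : N ≤ S := hNP.trans hf.le
  have hk' : Nat.card S - Nat.card N < k := by
    have h1 : Nat.card Q < Nat.card N := by
      haveI := finite_of_le hNS
      refine lt_of_le_of_ne (Subgroup.card_le_of_le hQN) fun he => hlt.ne ?_
      exact Subgroup.eq_of_le_of_card_ge hQN he.ge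
    have h2 : Nat.card N ≤ Nat.card S := card_le_of_le' le_rfl hNS
    omega
  obtain ⟨w, hw, hwC, hwy⟩ := ih _ hk' hNP (isCentric_mono hQ hQN hNS) hf₁
    (fun y hy => (hzy y hy).symm) rfl
  have hwC' : w ∈ centralizerIn S Q := ⟨hNS hw, Subgroup.centralizer_le hQN hwC⟩
  have hwQ : w ∈ Q := centralizerIn_le_of_isCentric hQ hwC'
  refine ⟨z * w, mul_mem hz hwQ, mul_mem hzC hwC'.2, fun y hy => ?_⟩
  rw [hwy y hy]
  show f (z * (w * y * w⁻¹) * z⁻¹) = _
  congr 1
  group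

end Saturated

end CfsgLib.Fusion
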