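import Cfsg.Agent.Lib.Fusion.System.Normal
import Cfsg.Agent.Lib.Fusion.System.Centric

/-!
# Saturation of normalizer and centralizer systems
-/

set_option autoImplicit false
set_option linter.style.haveILetI false

open Subgroup
open scoped Classical

namespace CfsgLib.Fusion

open Cfsg (FusionSystem autInducedBy)
open Cfsg.FusionSystem (normalizerIn centralizerIn)

variable {Ω : Type*} [Group Ω] {S T : Subgroup Ω} {F : FusionSystem S} {E : FusionSystem T}
  {P Q R : Subgroup Ω} {f g θ : Ω → Ω} {p : ℕ}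

/-- `f` acts on `Q` as a member of `K`. -/
def Kon (Q : Subgroup Ω) (K : Subgroup (MulAut Q)) (f : Ω → Ω) : Prop :=
  ∃ a ∈ K, ∀ x ∈ Q, f x = autFun a x

variable {K : Subgroup (MulAut Q)}

theorem Kon.img_eq (h : Kon Q K f) : img Q f = Q := by
  obtain ⟨a, -, ha⟩ := h
  exact (IsMap.img_congr ha).trans (img_autFun a)

theorem Kon.mem (h : Kon Q K f) {x : Ω} (hx : x ∈ Q) : f x ∈ Q := by
  obtain ⟨a, -, ha⟩ := h
  exact ha x hx ▸ autFun_mem a hx

theorem Kon.congr (h : Kon Q K f) (he : ∀ x ∈ Q, g x = f x) : Kon Q K g := by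
  obtain ⟨a, ha, hae⟩ := h
  exact ⟨a, ha, fun x hx => (he x hx).trans (hae x hx)⟩

theorem Kon.comp (hf : Kon Q K f) (hg : Kon Q K g) : Kon Q K (g ∘ f) := by
  obtain ⟨a, ha, hae⟩ := hf
  obtain ⟨b, hb, hbe⟩ := hg
  refine ⟨b * a, mul_mem hb ha, fun x hx => ?_⟩
  show g (f x) = _
  rw [autFun_mul _ _ hx, hae x hx, hbe _ (autFun_mem a hx)]

theorem Kon.inv (hf : Kon Q K f) (h : ∀ x ∈ Q, g (f x) = x) : Kon Q K g := by
  obtain ⟨a, ha, hae⟩ := hf
  refine ⟨a⁻¹, inv_mem ha, fun y hy => ?_⟩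
  have h1 : f (autFun a⁻¹ y) = y := by
    rw [hae _ (autFun_mem _ hy), ← autFun_mul _ _ hy, mul_inv_cancel, autFun_one hy]
  conv_lhs => rw [← h1]
  exact h _ (autFun_mem _ hy)

theorem autFun_mem_of_img {R : Subgroup Ω} (hR : R ≤ S) {α : MulAut R} (hα : α ∈ F.autGroup R)
    (hPR : P ≤ R) (h : img P (autFun α) = P) {x : Ω} (hx : x ∈ P) : autFun α x ∈ P :=
  mem_of_img_eq ((mem_autGroup_iff hR).1 hα) hPR h hx

/-- The elements of `S` acting on the image of `Q` through `K`. -/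
noncomputable def Tst (S : Subgroup Ω) (Q : Subgroup Ω) (K : Subgroup (MulAut Q)) (θ : Ω → Ω) :
    Subgroup Ω where
  carrier := {s | s ∈ normalizerIn S (img Q θ) ∧
    ∃ a ∈ K, ∀ x ∈ Q, θ (autFun a x) = s * θ x * s⁻¹}
  one_mem' := ⟨one_mem _, 1, one_mem K, fun x hx => by rw [autFun_one hx]; simp⟩
  mul_mem' := fun {s t} ⟨hs, a, ha, hsa⟩ ⟨ht, b, hb, htb⟩ => by
    refine ⟨mul_mem hs ht, a * b, mul_mem ha hb, fun x hx => ?_⟩
    rw [autFun_mul _ _ hx, hsa _ (autFun_mem b hx), htb x hx]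
    group
  inv_mem' := fun {s} ⟨hs, a, ha, hsa⟩ => by
    refine ⟨inv_mem hs, a⁻¹, inv_mem ha, fun x hx => ?_⟩
    have h1 := hsa _ (autFun_mem a⁻¹ hx)
    rw [← autFun_mul _ _ hx, mul_inv_cancel, autFun_one hx] at h1
    rw [h1]; group

theorem mem_Tst {s : Ω} : s ∈ Tst S Q K θ ↔ s ∈ normalizerIn S (img Q θ) ∧
    ∃ a ∈ K, ∀ x ∈ Q, θ (autFun a x) = s * θ x * s⁻¹ := Iff.rfl

/-- The automorphisms of `R` stabilizing `P` and acting on `Q` through `K`. -/
noncomputable def stab (F : FusionSystem S) (R P Q : Subgroup Ω) (K : Subgroup (MulAut Q))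
    (hR : R ≤ S) (hPR : P ≤ R) (hQR : Q ≤ R) : Subgroup (MulAut R) where
  carrier := {α | α ∈ F.autGroup R ∧ img P (autFun α) = P ∧ Kon Q K (autFun α)}
  one_mem' := ⟨one_mem _, (IsMap.img_congr fun x hx => autFun_one (hPR hx)).trans img_id,
    1, one_mem K, fun x hx => by rw [autFun_one (hQR hx), autFun_one hx]⟩
  mul_mem' := fun {α β} ⟨hα, hαP, hαK⟩ ⟨hβ, hβP, hβK⟩ => by
    refine ⟨mul_mem hα hβ, ?_, (hβK.comp hαK).congr fun x hx => autFun_mul _ _ (hQR hx)⟩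
    rw [IsMap.img_congr (g := autFun α ∘ autFun β) fun x hx => autFun_mul α β (hPR hx),
      ← img_img (((mem_autGroup_iff hR).1 hβ).mono hPR)
        (g := autFun α), hβP, hαP]
  inv_mem' := fun {α} ⟨hα, hαP, hαK⟩ => by
    refine ⟨inv_mem hα, ?_, hαK.inv fun x hx => by
      rw [← autFun_mul _ _ (hQR hx), inv_mul_cancel, autFun_one (hQR hx)]⟩
    conv_lhs => rw [← hαP]
    rw [img_img (((mem_autGroup_iff hR).1 hα).mono hPR)]
    refine (IsMap.img_congr fun x hx => ?_).trans img_id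
    show autFun α⁻¹ (autFun α x) = x
    rw [← autFun_mul _ _ (hPR hx), inv_mul_cancel, autFun_one (hPR hx)]

theorem mem_stab {hR : R ≤ S} {hPR : P ≤ R} {hQR : Q ≤ R} {α : MulAut R} :
    α ∈ stab F R P Q K hR hPR hQR ↔
      α ∈ F.autGroup R ∧ img P (autFun α) = P ∧ Kon Q K (autFun α) := Iff.rfl

/-- Restriction of the stabilizer to `P`. -/
noncomputable def resHom (hR : R ≤ S) (hPR : P ≤ R) (hQR : Q ≤ R) :
    stab F R P Q K hR hPR hQR →* MulAut P :=
  MonoidHom.mk'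
    (fun α => autOf (((mem_autGroup_iff hR).1 (mem_stab.1 α.2).1).mono hPR) (mem_stab.1 α.2).2.1)
    fun α β => autFun_ext fun x hx => by
      rw [autFun_autOf _ _ hx, autFun_mul _ _ hx, autFun_autOf _ _ hx, autFun_autOf _ _
        (autFun_mem_of_img hR (mem_stab.1 β.2).1 hPR (mem_stab.1 β.2).2.1 hx)]
      exact autFun_mul _ _ (hPR hx)

theorem autFun_resHom {hR : R ≤ S} {hPR : P ≤ R} {hQR : Q ≤ R}
    (α : stab F R P Q K hR hPR hQR) {x : Ω} (hx : x ∈ P) :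
    autFun (resHom hR hPR hQR α) x = autFun (α : MulAut R) x :=
  autFun_autOf (((mem_autGroup_iff hR).1 (mem_stab.1 α.2).1).mono hPR) (mem_stab.1 α.2).2.1 hx

variable [Finite S] [Fact p.Prime]

/-- Saturation of `N^K_F(Q)`, given extension maps back to `Q`. -/
theorem isSaturated_kNormalizer (hS : IsPGroup p S) (hF : F.IsSaturated p) (hQS : Q ≤ S)
    (K : Subgroup (MulAut Q))
    (hT : ∀ s, s ∈ T ↔ s ∈ normalizerIn S Q ∧ ∃ a ∈ K, ∀ x ∈ Q, autFun a x = s * x * s⁻¹)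
    (hE : ∀ (P : Subgroup Ω) (f : Ω → Ω), IsMap E P f ↔ P ≤ T ∧ (∀ x ∈ P, f x ∈ T) ∧
      ∃ g, IsMap F (P ⊔ Q) g ∧ (∀ x ∈ P, g x = f x) ∧ Kon Q K g)
    (hmove : ∀ θ, IsMap F Q θ → ∃ g, IsMap F (img Q θ ⊔ Tst S Q K θ) g ∧ Kon Q K (g ∘ θ)) :
    E.IsSaturated p := by
  have hTS : T ≤ S := fun s hs => ((hT s).1 hs).1.1
  haveI := finite_of_le (S := S) hTS
  have hTp : IsPGroup p T := hS.to_le hTS
  intro P hPT
  set R := P ⊔ Q with hRdef
  have hPR : P ≤ R := le_sup_left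
  have hQR : Q ≤ R := le_sup_right
  have hPS : P ≤ S := hPT.trans hTS
  have hR : R ≤ S := sup_le hPS hQS
  haveI := finite_of_le hR
  haveI := finite_mulAut (P := R)
  set H₀ := stab F R P Q K hR hPR hQR with hH₀
  obtain ⟨U, -, hUH, hUp, hUi⟩ := exists_le_not_dvd_relIndex
    (IsPGroup.of_bot (p := p) (G := MulAut R)) (bot_le : ⊥ ≤ H₀)
  obtain ⟨θ, hθ, hθn, hθU⟩ := exists_conj_pAut hS hF hR hUp
    (hUH.trans fun α hα => (mem_stab.1 hα).1)
  obtain ⟨g, hg, hgθK⟩ := hmove θ (hθ.mono hQR)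
  set Q₁ := img Q θ with hQ₁
  set D := Q₁ ⊔ Tst S Q K θ with hD
  have hQ₁D : Q₁ ≤ D := le_sup_left
  have hTD : Tst S Q K θ ≤ D := le_sup_right
  have hgθQ : img Q₁ g = Q := by rw [hQ₁, img_img (hθ.mono hQR), hgθK.img_eq]
  -- `g` carries the acting elements into `T`
  have hgT : ∀ s ∈ Tst S Q K θ, g s ∈ T := by
    intro s hs
    obtain ⟨hsN, a, ha, hsa⟩ := mem_Tst.1 hs
    have hgs : g s ∈ normalizerIn S Q := by
      have := map_mem_normalizerIn hg hQ₁D (hTD hs) hsN.2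
      rwa [hgθQ] at this
    obtain ⟨κ, hκ, hκe⟩ := hgθK
    refine (hT _).2 ⟨hgs, κ * a * κ⁻¹, mul_mem (mul_mem hκ ha) (inv_mem hκ), fun x hx => ?_⟩
    set y := autFun κ⁻¹ x with hy
    have hyQ : y ∈ Q := autFun_mem _ hx
    have hxy : g (θ y) = x := by
      show (g ∘ θ) y = x
      rw [hκe y hyQ, hy, ← autFun_mul _ _ hx, mul_inv_cancel, autFun_one hx]
    rw [mul_assoc, autFun_mul _ _ hx, autFun_mul _ _ hx, ← hy, ← hκe _ (autFun_mem a hyQ)]
    show g (θ (autFun a y)) = _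
    rw [hsa y hyQ, hg.map_conj (hTD hs) (hQ₁D ((hθ.mono hQR).mem_img.2 ⟨y, hyQ, rfl⟩)), hxy]
  have hP₁ : ∀ x ∈ P, θ x ∈ Tst S Q K θ := by
    intro x hx
    obtain ⟨hxN, a, ha, hxa⟩ := (hT x).1 (hPT hx)
    refine mem_Tst.2 ⟨map_mem_normalizerIn hθ hQR (hPR hx) hxN.2, a, ha, fun y hy => ?_⟩
    rw [hxa y hy, hθ.map_conj (hPR hx) (hQR hy)]
  have hθRD : ∀ x ∈ R, θ x ∈ D := fun x hx =>
    hθ.map_mem_of_sup (fun a ha => hTD (hP₁ a ha))
      (fun b hb => hQ₁D ((hθ.mono hQR).mem_img.2 ⟨b, hb, rfl⟩)) hx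
  have hη : IsMap F R (g ∘ θ) := hθ.comp hg hθRD
  set η := g ∘ θ with hηdef
  have hηP : IsMap E P η := (hE P η).2 ⟨hPT, fun x hx => hgT _ (hP₁ x hx), η,
    hη, fun _ _ => rfl, hgθK⟩
  set P' := img P η with hP'
  have hP'T : P' ≤ T := hηP.img_le
  set R' := img R η with hR'
  have hR'S : R' ≤ S := hη.img_le
  have hP'R' : P' ≤ R' := hη.img_mono hPR
  have hQR' : Q ≤ R' := hgθK.img_eq.ge.trans (hη.img_mono hQR)
  have hR'sup : R' = P' ⊔ Q := by
    refine le_antisymm (fun y hy => ?_) (sup_le hP'R' hQR')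
    obtain ⟨x, hx, rfl⟩ := hη.mem_img.1 hy
    exact hη.map_mem_of_sup (fun a ha => (le_sup_left : P' ≤ _) ((hη.mono hPR).mem_img.2 ⟨a, ha, rfl⟩))
      (fun b hb => (le_sup_right : Q ≤ P' ⊔ Q) (hgθK.mem hb)) hx
  haveI := finite_of_le hR'S
  haveI := finite_mulAut (P := R')
  set H' := stab F R' P' Q K hR'S hP'R' hQR' with hH'
  set c := (MulAut.congr (mapEquiv hη)).toMonoidHom with hc
  have hcinj : Function.Injective c := (MulAut.congr (mapEquiv hη)).injective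
  -- transport of the stabilizer
  have hH : H₀.map c = H' := by
    ext β
    rw [Subgroup.mem_map_equiv]
    set α := (MulAut.congr (mapEquiv hη)).symm β with hα
    have hβ : β = MulAut.congr (mapEquiv hη) α := (MulEquiv.apply_symm_apply _ _).symm
    rw [hH₀, hH', mem_stab, mem_stab, hβ, congr_mem_autGroup_iff hη]
    have e1 : ∀ x ∈ R, autFun (MulAut.congr (mapEquiv hη) α) (η x) = η (autFun α x) :=
      fun x hx => autFun_congr hη α hx
    refine and_congr_right fun hαF => and_congr ?_ ?_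
    · have hm := (mem_autGroup_iff hR).1 hαF
      have hm' := (mem_autGroup_iff hR'S).1 ((congr_mem_autGroup_iff hη α).2 hαF)
      constructor
      · intro h
        rw [hP', img_img (hη.mono hPR)]
        conv_rhs => rw [← h, img_img (hm.mono hPR)]
        exact IsMap.img_congr fun x hx => e1 x (hPR hx)
      · intro h
        refine img_eq_of_map_le hPS hm hPR fun x hx => ?_
        have h1 : autFun (MulAut.congr (mapEquiv hη) α) (η x) ∈ P' :=
          mem_of_img_eq hm' hP'R' h ((hη.mono hPR).mem_img.2 ⟨x, hx, rfl⟩)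
        rw [e1 x (hPR hx)] at h1
        exact hη.mem_of_mem_img hPR (autFun_mem α (hPR hx)) h1
    · have hηK : Kon Q K η := hgθK
      obtain ⟨f', hf', hf1, hf2⟩ := hη.exists_inv
      constructor
      · intro h
        have hinv : Kon Q K f' := hηK.inv fun x hx => hf1 x (hQR hx)
        refine ((hinv.comp h).comp hηK).congr fun y hy => ?_
        show autFun _ y = η (autFun α (f' y))
        rw [← e1 _ (hQR (hinv.mem hy)), (hf2 y (hQR' hy)).2]
      · intro h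
        have hinv : Kon Q K f' := hηK.inv fun x hx => hf1 x (hQR hx)
        refine ((hηK.comp h).comp hinv).congr fun x hx => ?_
        show autFun α x = f' (autFun _ (η x))
        rw [e1 x (hQR hx), hf1 _ (autFun_mem α (hQR hx))]
  set U' := U.map c with hU'
  have hU'H : U' ≤ H' := (Subgroup.map_mono hUH).trans hH.le
  have hU'p : IsPGroup p U' := hUp.map _
  have hU'i : ¬ p ∣ U'.relIndex H' := by
    rwa [← hH, hU', Subgroup.relIndex_map_map_of_injective _ _ hcinj]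
  -- elements of `T` inducing `U'`
  have hreal : ∀ u ∈ U, ∃ s ∈ Tst S Q K θ, (∀ x ∈ R, θ (autFun u x) = s * θ x * s⁻¹) ∧
      g s ∈ normalizerIn T P' ∧ ∀ y ∈ R', autFun (c u) y = g s * y * (g s)⁻¹ := by
    intro u hu
    obtain ⟨huF, huP, hu'⟩ := mem_stab.1 (hUH hu)
    obtain ⟨s, hs, hse⟩ := hθU u hu
    obtain ⟨a, ha, hae⟩ := hu'
    have hsQ : s ∈ normalizerIn S Q₁ := by
      refine ⟨hs.1, conjBy_eq_iff.1 ?_⟩
      rw [← img_conj, hQ₁, img_img (hθ.mono hQR)]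
      refine (IsMap.img_congr (g := θ ∘ autFun u) fun x hx => (hse x (hQR hx)).symm).trans ?_
      rw [← img_img (((mem_autGroup_iff hR).1 huF).mono hQR), Kon.img_eq ⟨a, ha, hae⟩]
    have hsT : s ∈ Tst S Q K θ := mem_Tst.2 ⟨hsQ, a, ha, fun x hx => by
      rw [← hae x hx]; exact hse x (hQR hx)⟩
    have e : ∀ x ∈ R, autFun (c u) (η x) = g s * η x * (g s)⁻¹ := fun x hx => by
      show autFun (MulAut.congr (mapEquiv hη) u) (η x) = _
      rw [autFun_congr hη u hx]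
      show g (θ (autFun u x)) = _
      rw [hse x hx, hg.map_conj (hTD hsT) (hθRD x hx)]
      rfl
    refine ⟨s, hsT, hse, ⟨hgT s hsT, conjBy_eq_iff.1 ?_⟩, fun y hy => ?_⟩
    · rw [← img_conj, hP', img_img (hη.mono hPR)]
      refine (IsMap.img_congr (g := η ∘ autFun u) fun x hx => ?_).trans ?_
      · show g s * η x * (g s)⁻¹ = η (autFun u x)
        rw [← e x (hPR hx)]; exact autFun_congr hη u (hPR hx)
      · rw [← img_img (((mem_autGroup_iff hR).1 huF).mono hPR), huP]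
    · obtain ⟨x, hx, rfl⟩ := hη.mem_img.1 hy
      exact e x hx
  refine ⟨P', isConj_iff.2 ⟨η, hηP, rfl⟩, ?_, ?_⟩
  · -- automized
    refine (isFullyAutomized_iff hTp).2 ⟨hP'T, ?_⟩
    set r := resHom (F := F) (K := K) hR'S hP'R' hQR' with hr
    have hrange : E.autGroup P' ≤ r.range := by
      intro β hβ
      obtain ⟨-, -, g', hg', hg'e, hg'K⟩ := (hE _ _).1 ((mem_autGroup_iff hP'T).1 hβ)
      rw [← hR'sup] at hg'
      have hg'P : img P' g' = P' := (IsMap.img_congr hg'e).trans (img_autFun β)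
      have hg'R : img R' g' = R' := by
        refine img_eq_of_map_le hR'S hg' le_rfl fun x hx => ?_
        rw [hR'sup] at hx hg' ⊢
        exact hg'.map_mem_of_sup (fun a ha => (le_sup_left : P' ≤ _)
            (mem_of_img_eq hg' le_sup_left hg'P ha))
          (fun b hb => (le_sup_right : Q ≤ P' ⊔ Q) (hg'K.mem hb)) hx
      refine ⟨⟨autOf hg' hg'R, mem_stab.2 ⟨autOf_mem hg' hg'R,
        (IsMap.img_congr fun x hx => autFun_autOf hg' hg'R (hP'R' hx)).trans hg'P,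
        hg'K.congr fun x hx => autFun_autOf hg' hg'R (hQR' hx)⟩⟩, autFun_ext fun x hx => ?_⟩
      rw [autFun_resHom _ hx, autFun_autOf hg' hg'R (hP'R' hx), hg'e x hx]
    have hmap : (U'.subgroupOf H').map r ≤ autInducedBy T P' := by
      rintro _ ⟨⟨u', hu'H⟩, hu', rfl⟩
      obtain ⟨u, hu, rfl⟩ := hu'
      obtain ⟨s, -, -, hgs, hsu⟩ := hreal u hu
      exact mem_autInducedBy_iff.2 ⟨g s, hgs.1, fun x hx => by
        rw [autFun_resHom _ hx]; exact hsu x (hP'R' hx)⟩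
    have hi : ¬ p ∣ ((U'.subgroupOf H').map r).relIndex r.range := by
      rw [MonoidHom.range_eq_map]
      intro h
      refine hU'i (h.trans ?_)
      rw [show U'.relIndex H' = (U'.subgroupOf H').relIndex ⊤ from
        (Subgroup.relIndex_top_right _).symm, Subgroup.relIndex_map_map, top_sup_eq]
      exact Subgroup.relIndex_dvd_of_le_left _ le_sup_left
    intro hd
    refine hi ?_
    have hle := autInducedBy_le_autGroup (F := E) hP'T
    rw [← Subgroup.relIndex_mul_relIndex _ (autInducedBy T P') _ hmap (hle.trans hrange),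
      ← Subgroup.relIndex_mul_relIndex (autInducedBy T P') _ _ hle hrange]
    exact dvd_mul_of_dvd_right (dvd_mul_of_dvd_left hd _) _
  · -- receptive
    refine isReceptive_iff.2 ⟨hP'T, fun W φ hφ hφimg => ?_⟩
    obtain ⟨hWT, -, φ₁, hφ₁, hφ₁e, hφ₁K⟩ := (hE _ _).1 hφ
    set V := W ⊔ Q with hV
    have hWV : W ≤ V := le_sup_left
    have hQV : Q ≤ V := le_sup_right
    have hφ₁W : img W φ₁ = P' := (IsMap.img_congr hφ₁e).trans hφimg
    have hφ₁V : img V φ₁ = R' := by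
      rw [hR'sup]
      refine le_antisymm (fun y hy => ?_) (sup_le (hφ₁W.ge.trans (hφ₁.img_mono hWV))
        (hφ₁K.img_eq.ge.trans (hφ₁.img_mono hQV)))
      obtain ⟨x, hx, rfl⟩ := hφ₁.mem_img.1 hy
      exact hφ₁.map_mem_of_sup (fun a ha => (le_sup_left : P' ≤ _)
          (hφ₁W.le ((hφ₁.mono hWV).mem_img.2 ⟨a, ha, rfl⟩)))
        (fun b hb => (le_sup_right : Q ≤ P' ⊔ Q) (hφ₁K.mem hb)) hx
    set N := extSub T W φ with hN
    obtain ⟨φ', hφ', hφ'1, hφ'2⟩ := hφ₁.exists_inv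
    rw [hφ₁V] at hφ' hφ'2
    -- every element of `N` is transported into `U'` modulo the kernel of restriction
    set r := resHom (F := F) (K := K) hR'S hP'R' hQR' with hr
    set U₁ := U'.subgroupOf H' with hU₁
    set M := U₁ ⊔ r.ker with hM
    have htrans : ∀ n ∈ N, ∃ α : H', α ∈ M ∧
        ∀ y ∈ V, autFun (α : MulAut R') (φ₁ y) = φ₁ (n * y * n⁻¹) := by
      intro n hn
      obtain ⟨hnW, h, hhT, hhe⟩ := mem_extSub.1 hn
      obtain ⟨hnQ, a, ha, hna⟩ := (hT n).1 hnW.1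
      have hnV : ∀ y ∈ V, n * y * n⁻¹ ∈ V := by
        have h1 : conjBy n V ≤ V := by
          rw [hV, conjBy, Subgroup.map_sup]
          exact sup_le_sup (conjBy_eq_iff.2 hnW.2).le (conjBy_eq_iff.2 hnQ.2).le
        exact fun y hy => h1 (conj_mem_conjBy hy)
      have hVconj : IsMap F V (fun y => n * y * n⁻¹) := isMap_conj hφ₁.le hnQ.1
      have hm : IsMap F R' (φ₁ ∘ (fun y => n * y * n⁻¹) ∘ φ') :=
        ((hφ'.comp hVconj fun y hy => (hφ'2 y hy).1).comp hφ₁ fun y hy => hnV _ (hφ'2 y hy).1)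
      have hmimg : img R' (φ₁ ∘ (fun y => n * y * n⁻¹) ∘ φ') = R' :=
        img_eq_of_map_le hR'S hm le_rfl fun y hy =>
          hφ₁V.le (hφ₁.mem_img.2 ⟨_, hnV _ (hφ'2 y hy).1, rfl⟩)
      have hKon : Kon Q K (φ₁ ∘ (fun y => n * y * n⁻¹) ∘ φ') :=
        ((hφ₁K.inv fun x hx => hφ'1 x (hQV hx)).comp
          (Kon.congr (f := autFun a) ⟨a, ha, fun _ _ => rfl⟩ fun x hx => (hna x hx).symm)).comp hφ₁K
      have hPimg : img P' (φ₁ ∘ (fun y => n * y * n⁻¹) ∘ φ') = P' :=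
        img_eq_of_map_le (hP'T.trans hTS) hm hP'R' fun y hy => by
          have hy' : φ' y ∈ W := by
            obtain ⟨x, hx, rfl⟩ := (hφ₁.mono hWV).mem_img.1 (hφ₁W.ge hy)
            rwa [hφ'1 x (hWV hx)]
          exact hφ₁W.le ((hφ₁.mono hWV).mem_img.2
            ⟨_, (Subgroup.mem_normalizer_iff.1 hnW.2 _).1 hy', rfl⟩)
      let α : H' := ⟨autOf hm hmimg, mem_stab.2 ⟨autOf_mem hm hmimg,
        (IsMap.img_congr fun x hx => autFun_autOf hm hmimg (hP'R' hx)).trans hPimg,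
        hKon.congr fun x hx => autFun_autOf hm hmimg (hQR' hx)⟩⟩
      have hαe : ∀ y ∈ V, autFun (α : MulAut R') (φ₁ y) = φ₁ (n * y * n⁻¹) := fun y hy => by
        rw [autFun_autOf hm hmimg (hφ₁V.le (hφ₁.mem_img.2 ⟨y, hy, rfl⟩))]
        show φ₁ (n * φ' (φ₁ y) * n⁻¹) = _
        rw [hφ'1 y hy]
      refine ⟨α, ?_, hαe⟩
      -- `h` induces an element of the stabilizer
      have hhN : h ∈ Subgroup.normalizer (P' : Set Ω) := hφimg ▸ mem_normalizer_img hφ hnW.2 hhe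
      obtain ⟨hhQ, b, hb, hhb⟩ := (hT h).1 hhT
      have hhR : h ∈ Subgroup.normalizer (R' : Set Ω) := by
        refine conjBy_eq_iff.1 ?_
        rw [hR'sup, conjBy, Subgroup.map_sup]
        exact congrArg₂ (· ⊔ ·) (conjBy_eq_iff.2 hhN) (conjBy_eq_iff.2 hhQ.2)
      -- the elements of `T` normalizing `P'` induce exactly `U'`
      set A := autInducedBy (normalizerIn T P') R' with hA
      have hAH : A ≤ H' := by
        intro β hβ
        obtain ⟨t, ht, hte⟩ := mem_autInducedBy_iff.1 hβ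
        obtain ⟨htQ, a', ha', hta⟩ := (hT t).1 ht.1
        refine mem_stab.2 ⟨(mem_autGroup_iff hR'S).2 ((isMap_conj hR'S htQ.1).congr hte), ?_,
          a', ha', fun x hx => by rw [hte x (hQR' hx), hta x hx]⟩
        rw [IsMap.img_congr fun x hx => hte x (hP'R' hx), img_conj]
        exact conjBy_eq_iff.2 ht.2
      have hU'A : U' ≤ A := by
        rintro _ ⟨u, hu, rfl⟩
        obtain ⟨s, -, -, hgs, hsu⟩ := hreal u hu
        exact mem_autInducedBy_iff.2 ⟨g s, hgs, hsu⟩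
      have hAU : A = U' := eq_of_le_of_isPGroup_of_not_dvd_relIndex
        (isPGroup_autInducedBy (hS.to_le (inf_le_left.trans hTS))) hU'A hAH hU'i
      let δ : H' := ⟨conjAut h hhR, hAH (conjAut_mem (K := normalizerIn T P') ⟨hhT, hhN⟩ hhR)⟩
      have hδU : δ ∈ U₁ := hAU.le (conjAut_mem (K := normalizerIn T P') ⟨hhT, hhN⟩ hhR)
      have hker : δ⁻¹ * α ∈ r.ker := by
        rw [MonoidHom.mem_ker, map_mul, map_inv, inv_mul_eq_one]
        refine autFun_ext fun x hx => ?_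
        rw [autFun_resHom _ hx, autFun_resHom _ hx]
        show autFun (conjAut h hhR) x = _
        rw [autFun_conjAut hhR (hP'R' hx)]
        obtain ⟨w, hw, rfl⟩ := (hφ₁.mono hWV).mem_img.1 (hφ₁W.ge hx)
        rw [hαe w (hWV hw), hφ₁e w hw, hφ₁e _ ((Subgroup.mem_normalizer_iff.1 hnW.2 w).1 hw),
          hhe w hw]
      rw [show α = δ * (δ⁻¹ * α) by rw [mul_inv_cancel_left]]
      exact mul_mem (Subgroup.mem_sup_left hδU) (Subgroup.mem_sup_right hker)
    -- the group of transported elements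
    set DN : Subgroup H' :=
      { carrier := {α | ∃ n ∈ N, ∀ y ∈ V, autFun (α : MulAut R') (φ₁ y) = φ₁ (n * y * n⁻¹)}
        one_mem' := ⟨1, one_mem N, fun y hy => by
          rw [show ((1 : H') : MulAut R') = 1 from rfl,
            autFun_one (hφ₁V.le (hφ₁.mem_img.2 ⟨y, hy, rfl⟩))]; simp⟩
        mul_mem' := fun {α β} ⟨n, hn, hα⟩ ⟨m, hm, hβ⟩ => ⟨n * m, mul_mem hn hm, fun y hy => by
          have hmy : m * y * m⁻¹ ∈ V := by
            have h1 : conjBy m V ≤ V := by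
              rw [hV, conjBy, Subgroup.map_sup]
              exact sup_le_sup (conjBy_eq_iff.2 (extSub_le hm).2).le
                (conjBy_eq_iff.2 ((hT m).1 (extSub_le hm).1).1.2).le
            exact h1 (conj_mem_conjBy hy)
          rw [show ((α * β : H') : MulAut R') = α * β from rfl,
            autFun_mul _ _ (hφ₁V.le (hφ₁.mem_img.2 ⟨y, hy, rfl⟩)), hβ y hy, hα _ hmy]
          congr 1; group⟩
        inv_mem' := fun {α} ⟨n, hn, hα⟩ => ⟨n⁻¹, inv_mem hn, fun y hy => by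
          have hny : n⁻¹ * y * n⁻¹⁻¹ ∈ V := by
            have h1 : conjBy n⁻¹ V ≤ V := by
              rw [hV, conjBy, Subgroup.map_sup]
              exact sup_le_sup (conjBy_eq_iff.2 (inv_mem (extSub_le hn).2)).le
                (conjBy_eq_iff.2 (inv_mem ((hT n).1 (extSub_le hn).1).1.2)).le
            exact h1 (conj_mem_conjBy hy)
          have h2 := hα _ hny
          rw [show n * (n⁻¹ * y * n⁻¹⁻¹) * n⁻¹ = y by group] at h2
          rw [← h2, show ((α⁻¹ : H') : MulAut R') = (α : MulAut R')⁻¹ from rfl,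
            ← autFun_mul _ _ (hφ₁V.le (hφ₁.mem_img.2 ⟨_, hny, rfl⟩)), inv_mul_cancel,
            autFun_one (hφ₁V.le (hφ₁.mem_img.2 ⟨_, hny, rfl⟩))]⟩ }
    have huniq : ∀ α β : H', (∀ y ∈ V, autFun (α : MulAut R') (φ₁ y) = autFun (β : MulAut R') (φ₁ y)) →
        α = β := fun α β h => Subtype.ext (autFun_ext fun x hx => by
      obtain ⟨y, hy, rfl⟩ := hφ₁.mem_img.1 (hφ₁V.ge hx)
      exact h y hy)
    have hDM : DN ≤ M := by
      rintro α ⟨n, hn, hα⟩
      obtain ⟨β, hβ, hβe⟩ := htrans n hn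
      rwa [huniq α β fun y hy => (hα y hy).trans (hβe y hy).symm]
    have hDp : IsPGroup p DN := by
      rintro ⟨α, n, hn, hα⟩
      obtain ⟨k, hk⟩ := hTp ⟨n, (extSub_le hn).1⟩
      refine ⟨k, Subtype.ext (huniq _ _ fun y hy => ?_)⟩
      have hpow : ∀ i : ℕ, ∀ y ∈ V, autFun ((α ^ i : H') : MulAut R') (φ₁ y) =
          φ₁ (n ^ i * y * (n ^ i)⁻¹) := by
        intro i
        induction i with
        | zero =>
          intro y hy
          rw [pow_zero, show ((1 : H') : MulAut R') = 1 from rfl,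
            autFun_one (hφ₁V.le (hφ₁.mem_img.2 ⟨y, hy, rfl⟩))]
          simp
        | succ i ih =>
          intro y hy
          have hny : n * y * n⁻¹ ∈ V := by
            have h1 : conjBy n V ≤ V := by
              rw [hV, conjBy, Subgroup.map_sup]
              exact sup_le_sup (conjBy_eq_iff.2 (extSub_le hn).2).le
                (conjBy_eq_iff.2 ((hT n).1 (extSub_le hn).1).1.2).le
            exact h1 (conj_mem_conjBy hy)
          rw [pow_succ, show ((α ^ i * α : H') : MulAut R') = (α ^ i : H') * (α : MulAut R') from rfl,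
            autFun_mul _ _ (hφ₁V.le (hφ₁.mem_img.2 ⟨y, hy, rfl⟩)), hα y hy, ih _ hny]
          congr 1; group
      rw [show (((⟨α, n, hn, hα⟩ : DN) ^ p ^ k : DN) : H') = α ^ p ^ k from rfl, hpow _ y hy,
        show n ^ p ^ k = 1 from congrArg Subtype.val hk,
        show (((1 : DN) : H') : MulAut R') = 1 from rfl,
        autFun_one (hφ₁V.le (hφ₁.mem_img.2 ⟨y, hy, rfl⟩))]
      simp
    have hU₁M : ¬ p ∣ U₁.relIndex M := fun h => hU'i (by
      rw [show U'.relIndex H' = U₁.relIndex ⊤ from (Subgroup.relIndex_top_right _).symm]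
      exact h.trans (Dvd.intro _ (Subgroup.relIndex_mul_relIndex U₁ M ⊤ le_sup_left le_top)))
    obtain ⟨β, hβ, hβD⟩ := exists_conj_le_of_not_dvd_relIndex (hU'p.of_equiv
      (Subgroup.subgroupOfEquivOfLe hU'H).symm) le_sup_left hU₁M hDp hDM
    obtain ⟨u₀, hu₀, k, hk, rfl⟩ := Subgroup.mem_sup_of_normal_right.1 hβ
    set ψ₁ := autFun (k : MulAut R') ∘ φ₁ with hψ₁
    have hkm := (mem_autGroup_iff hR'S).1 (mem_stab.1 k.2).1
    have hψ₁m : IsMap F V ψ₁ := hφ₁.comp hkm fun y hy => hφ₁V.le (hφ₁.mem_img.2 ⟨y, hy, rfl⟩)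
    have hψ₁V : img V ψ₁ = R' := by rw [hψ₁, ← img_img hφ₁, hφ₁V, img_autFun]
    have hkP : ∀ x ∈ P', autFun (k : MulAut R') x = x := fun x hx => by
      rw [← autFun_resHom k hx, show r k = 1 from hk, autFun_one hx]
    have hψ₁W : ∀ x ∈ W, ψ₁ x = φ x := fun x hx => by
      show autFun (k : MulAut R') (φ₁ x) = φ x
      rw [hkP _ (hφ₁W.le ((hφ₁.mono hWV).mem_img.2 ⟨x, hx, rfl⟩)), hφ₁e x hx]
    obtain ⟨gi, hgi, hgi1, -⟩ := hg.exists_inv
    have hRD : img R' gi = img R θ := by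
      rw [hR', img_img hη]
      exact IsMap.img_congr fun x hx => hgi1 _ (hθRD x hx)
    set ψ₂ := gi ∘ ψ₁ with hψ₂
    have hR'img : R' ≤ img D g := fun y hy => by
      obtain ⟨x, hx, rfl⟩ := hη.mem_img.1 hy
      exact hg.mem_img.2 ⟨θ x, hθRD x hx, rfl⟩
    have hψ₂m : IsMap F V ψ₂ := hψ₁m.comp hgi fun y hy =>
      hR'img (hψ₁V.le (hψ₁m.mem_img.2 ⟨y, hy, rfl⟩))
    have hψ₂V : img V ψ₂ = img R θ := by rw [hψ₂, ← img_img hψ₁m, hψ₁V, hRD]
    -- the conjugation by elements of `N`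
    have hconj : ∀ n ∈ N, ∃ s ∈ Tst S Q K θ,
        ∀ y ∈ V, ψ₂ (n * y * n⁻¹) = s * ψ₂ y * s⁻¹ := by
      intro n hn
      obtain ⟨α, -, hα⟩ := htrans n hn
      have h1 : (u₀ * k) * α * (u₀ * k)⁻¹ ∈ U₁ :=
        hβD (conj_mem_conjBy (show α ∈ DN from ⟨n, hn, hα⟩))
      have h2 : k * α * k⁻¹ ∈ U₁ := by
        rw [show k * α * k⁻¹ = u₀⁻¹ * ((u₀ * k) * α * (u₀ * k)⁻¹) * u₀ by group]
        exact mul_mem (mul_mem (inv_mem hu₀) h1) hu₀
      obtain ⟨u, hu, hue⟩ := h2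
      obtain ⟨s, hs, hse, -, -⟩ := hreal u hu
      refine ⟨s, hs, fun y hy => ?_⟩
      set z := φ₁ y with hz
      have hzR : z ∈ R' := hφ₁V.le (hφ₁.mem_img.2 ⟨y, hy, rfl⟩)
      obtain ⟨x, hx, hxe⟩ := hη.mem_img.1 (autFun_mem (k : MulAut R') hzR)
      have e1 : autFun (k : MulAut R') (φ₁ (n * y * n⁻¹)) = η (autFun u x) := by
        rw [← hα y hy, ← hz]
        have e2 : autFun (((k * α * k⁻¹ : H') : MulAut R')) (autFun (k : MulAut R') z) =
            autFun (k : MulAut R') (autFun (α : MulAut R') z) := by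
          rw [← autFun_mul _ _ hzR, ← autFun_mul _ _ hzR]
          congr 1
          show ((k * α * k⁻¹ * k : H') : MulAut R') = ((k * α : H') : MulAut R')
          rw [inv_mul_cancel_right]
        have hue' : ((k * α * k⁻¹ : H') : MulAut R') = c u := hue.symm
        rw [← e2, hue', ← hxe]
        exact autFun_congr hη u hx
      show gi (autFun (k : MulAut R') (φ₁ (n * y * n⁻¹))) = s * gi (autFun (k : MulAut R') z) * s⁻¹
      rw [e1, ← hxe]
      show gi (g (θ (autFun u x))) = s * gi (g (θ x)) * s⁻¹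
      rw [hgi1 _ (hθRD _ (autFun_mem u hx)), hgi1 _ (hθRD _ hx), hse x hx]
    obtain ⟨ψ₃, hψ₃, hψ₃e⟩ := (isReceptive_iff.1
      (IsSaturated.automized_receptive hS hF hθn).2).2 V ψ₂ hψ₂m hψ₂V
    have hNV : N ≤ extSub S V ψ₂ := by
      intro n hn
      obtain ⟨s, hs, hse⟩ := hconj n hn
      obtain ⟨hnQ, -⟩ := (hT n).1 (extSub_le hn).1
      refine mem_extSub.2 ⟨⟨hnQ.1, conjBy_eq_iff.1 ?_⟩, s, (mem_Tst.1 hs).1.1, hse⟩
      rw [hV, conjBy, Subgroup.map_sup]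
      exact congrArg₂ (· ⊔ ·) (conjBy_eq_iff.2 (extSub_le hn).2) (conjBy_eq_iff.2 hnQ.2)
    have hVe : V ≤ extSub S V ψ₂ := le_extSub hψ₂m
    have hψ₃N : ∀ n ∈ N, ψ₃ n ∈ Tst S Q K θ := by
      intro n hn
      obtain ⟨s, hs, hse⟩ := hconj n hn
      have hm1 := map_mem_normalizerIn hψ₃ hVe (hNV hn) (extSub_le (hNV hn)).2
      obtain ⟨hsN, a, ha, hsa⟩ := mem_Tst.1 hs
      have hact : ∀ z ∈ img R θ, ψ₃ n * z * (ψ₃ n)⁻¹ = s * z * s⁻¹ := by
        intro z hz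
        obtain ⟨y, hy, rfl⟩ := hψ₂m.mem_img.1 (hψ₂V.ge hz)
        rw [← hψ₃e y hy, ← hψ₃.map_conj (hNV hn) (hVe hy), hψ₃e y hy,
          hψ₃e _ ((Subgroup.mem_normalizer_iff.1 (extSub_le (hNV hn)).2 y).1 hy), hse y hy]
      have hQθ : ∀ z ∈ Q₁, z ∈ img R θ := fun z hz => hθ.img_mono hQR hz
      refine mem_Tst.2 ⟨⟨hm1.1, conjBy_eq_iff.1 ?_⟩, a, ha, fun x hx => ?_⟩
      · rw [← img_conj, IsMap.img_congr fun z hz => hact z (hQθ z hz), img_conj]
        exact conjBy_eq_iff.2 hsN.2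
      · rw [hsa x hx, hact _ (hQθ _ ((hθ.mono hQR).mem_img.2 ⟨x, hx, rfl⟩))]
    have hsup : N ⊔ Q ≤ extSub S V ψ₂ := sup_le hNV (hQV.trans hVe)
    have hQD : ∀ x ∈ Q, ψ₃ x ∈ Q₁ ∧ g (ψ₃ x) = ψ₁ x := by
      intro x hx
      rw [hψ₃e x (hQV hx)]
      have hk1 : ψ₁ x ∈ Q := by
        show autFun (k : MulAut R') (φ₁ x) ∈ Q
        exact (mem_stab.1 k.2).2.2.mem (hφ₁K.mem hx)
      obtain ⟨y, hy, hye⟩ := (hη.mono hQR).mem_img.1 (hgθK.img_eq.ge hk1)
      show gi (ψ₁ x) ∈ Q₁ ∧ g (gi (ψ₁ x)) = ψ₁ x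
      rw [← hye]
      show gi (g (θ y)) ∈ Q₁ ∧ g (gi (g (θ y))) = g (θ y)
      rw [hgi1 _ (hθRD y (hQR hy))]
      exact ⟨(hθ.mono hQR).mem_img.2 ⟨y, hy, rfl⟩, rfl⟩
    have hfin : IsMap F (N ⊔ Q) (g ∘ ψ₃) := (hψ₃.mono hsup).comp hg fun x hx =>
      (hψ₃.mono hsup).map_mem_of_sup (fun a ha => hTD (hψ₃N a ha))
        (fun b hb => hQ₁D (hQD b hb).1) hx
    refine ⟨g ∘ ψ₃, (hE _ _).2 ⟨fun n hn => (extSub_le hn).1, fun n hn => hgT _ (hψ₃N n hn),
      g ∘ ψ₃, hfin, fun _ _ => rfl,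
      (hφ₁K.comp (mem_stab.1 k.2).2.2).congr fun x hx => (hQD x hx).2⟩, fun x hx => ?_⟩
    show g (ψ₃ x) = φ x
    rw [hψ₃e x (hWV hx), ← hψ₁W x hx]
    show g (gi (ψ₁ x)) = ψ₁ x
    obtain ⟨y, hy, hye⟩ := hη.mem_img.1 (hψ₁V.le (hψ₁m.mem_img.2 ⟨x, hWV hx, rfl⟩))
    rw [← hye]
    show g (gi (g (θ y))) = g (θ y)
    rw [hgi1 _ (hθRD y hy)]

/-- Normalizer systems of fully normalized subgroups are saturated. -/
theorem isSaturated_normalizerSystem (hS : IsPGroup p S) (hF : F.IsSaturated p)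
    (hQ : F.IsFullyNormalized Q) {N : FusionSystem (normalizerIn S Q)}
    (hN : F.IsNormalizerSystem Q N) : N.IsSaturated p := by
  refine isSaturated_kNormalizer hS hF hQ.1 ⊤
    (fun s => ⟨fun hs => ⟨hs, conjAut s hs.2, trivial, fun x hx => autFun_conjAut hs.2 hx⟩,
      fun h => h.1⟩) (fun P f => ?_) fun θ hθ => ?_
  · rw [isMap_of_isNormalizerSystem hN]
    constructor
    · rintro ⟨h1, h2, g, hg, hge, hgQ⟩
      exact ⟨h1, h2, g, hg, hge, autOf (hg.mono le_sup_right) hgQ, trivial,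
        fun x hx => (autFun_autOf (hg.mono le_sup_right) hgQ hx).symm⟩
    · rintro ⟨h1, h2, g, hg, hge, hgK⟩
      exact ⟨h1, h2, g, hg, hge, hgK.img_eq⟩
  · obtain ⟨h₁, h₂⟩ := IsSaturated.automized_receptive hS hF hQ
    obtain ⟨g, hg, hgimg, -⟩ := exists_map_normalizer hS h₁ h₂
      (isConj_symm (isConj_iff.2 ⟨θ, hθ, rfl⟩))
    have hm : IsMap F Q (g ∘ θ) := hθ.comp (hg.mono (le_normalizerIn hθ.img_le))
      fun x hx => hθ.mem_img.2 ⟨x, hx, rfl⟩
    have himg : img Q (g ∘ θ) = Q := by rw [← img_img hθ, hgimg]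
    exact ⟨g, hg.mono (sup_le (le_normalizerIn hθ.img_le) fun s hs => (mem_Tst.1 hs).1),
      autOf hm himg, trivial, fun x hx => (autFun_autOf hm himg hx).symm⟩

/-- Centralizer systems of fully centralized subgroups are saturated. -/
theorem isSaturated_centralizerSystem (hS : IsPGroup p S) (hF : F.IsSaturated p)
    (hQ : F.IsFullyCentralized Q) {C : FusionSystem (centralizerIn S Q)}
    (hC : F.IsCentralizerSystem Q C) : C.IsSaturated p := by
  refine isSaturated_kNormalizer hS hF hQ.1 ⊥ (fun s => ⟨fun hs => ⟨⟨hs.1,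
      Subgroup.centralizer_le_normalizer _ hs.2⟩, 1, one_mem _, fun x hx => ?_⟩, ?_⟩)
    (fun P f => ?_) fun θ hθ => ?_
  · rw [autFun_one hx, ← Subgroup.mem_centralizer_iff.1 hs.2 x hx, mul_inv_cancel_right]
  · rintro ⟨hs, a, ha, hae⟩
    rw [Subgroup.mem_bot] at ha
    subst ha
    refine ⟨hs.1, Subgroup.mem_centralizer_iff.2 fun x hx => ?_⟩
    have h := hae x hx
    rw [autFun_one hx] at h
    calc x * s = s * x * s⁻¹ * s := by rw [← h]
      _ = s * x := by group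
  · rw [isMap_of_isCentralizerSystem hC]
    constructor
    · rintro ⟨h1, h2, g, hg, hge, hgQ⟩
      exact ⟨h1, h2, g, hg, hge, 1, one_mem _, fun x hx => (hgQ x hx).trans (autFun_one hx).symm⟩
    · rintro ⟨h1, h2, g, hg, hge, a, ha, hae⟩
      rw [Subgroup.mem_bot] at ha
      subst ha
      exact ⟨h1, h2, g, hg, hge, fun x hx => (hae x hx).trans (autFun_one hx)⟩
  · obtain ⟨θ', hθ', hθ1, hθ2⟩ := hθ.exists_inv
    have himg : img (img Q θ) θ' = Q := by
      rw [img_img hθ]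
      exact (IsMap.img_congr fun x hx => hθ1 x hx).trans img_id
    obtain ⟨g, hg, hge⟩ :=
      (isReceptive_iff.1 (IsSaturated.isReceptive hS hF hQ)).2 _ θ' hθ' himg
    refine ⟨g, hg.mono (sup_le (le_extSub hθ') fun s hs => ?_), 1, one_mem _, fun x hx => ?_⟩
    · obtain ⟨hsN, a, ha, hsa⟩ := mem_Tst.1 hs
      rw [Subgroup.mem_bot] at ha
      subst ha
      refine centralizerIn_le_extSub ⟨hsN.1, Subgroup.mem_centralizer_iff.2 fun y hy => ?_⟩
      obtain ⟨x, hx, rfl⟩ := hθ.mem_img.1 hy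
      have h := hsa x hx
      rw [autFun_one hx] at h
      calc θ x * s = s * θ x * s⁻¹ * s := by rw [← h]
        _ = s * θ x := by group
    · show g (θ x) = _
      rw [hge _ (hθ.mem_img.2 ⟨x, hx, rfl⟩), hθ1 x hx, autFun_one hx]

end CfsgLib.Fusion
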