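import Cfsg.Agent.Lib.Fusion.System.Saturation
import Cfsg.Agent.Lib.Fusion.Thompson

/-!
# Saturation from: `S` fully automized, fully normalized subgroups receptive
-/

set_option autoImplicit false

open Subgroup
open scoped Classical

namespace CfsgLib.Fusion

open Cfsg (FusionSystem autInducedBy)
open Cfsg.FusionSystem (normalizerIn centralizerIn)

variable {Ω : Type*} [Group Ω] {S : Subgroup Ω} [Finite S] {F : FusionSystem S} {p : ℕ}

theorem lt_normalizerIn [Fact p.Prime] (hS : IsPGroup p S) {P : Subgroup Ω} (hP : P ≤ S)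
    (hne : P ≠ S) : P < normalizerIn S P := by
  haveI : Group.IsNilpotent S := hS.isNilpotent
  exact lt_inf_normalizer hP hne

theorem card_lt_of_lt {P Q : Subgroup Ω} (hQ : Q ≤ S) (h : P < Q) : Nat.card P < Nat.card Q := by
  refine lt_of_le_of_ne (card_le_of_le' hQ h.le) fun he => h.ne ?_
  exact eq_of_le_of_card_le hQ h.le he.ge

theorem autFun_pow_eq {P N : Subgroup Ω} (hPN : P ≤ N) {α : MulAut P} {γ : MulAut N}
    (h : ∀ x ∈ P, autFun γ x = autFun α x) :
    ∀ (k : ℕ), ∀ x ∈ P, autFun (γ ^ k) x = autFun (α ^ k) x := by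
  intro k
  induction k with
  | zero => intro x hx; rw [pow_zero, pow_zero, autFun_one hx, autFun_one (hPN hx)]
  | succ k ih =>
    intro x hx
    rw [pow_succ, pow_succ, autFun_mul _ _ hx, autFun_mul _ _ (hPN hx), h x hx,
      ih _ (autFun_mem α hx)]

theorem fullyAutomized_of_top [Fact p.Prime] (hS : IsPGroup p S) (hT : F.IsFullyAutomized p S)
    (hR : ∀ P : Subgroup Ω, F.IsFullyNormalized P → F.IsReceptive P) (P : Subgroup Ω)
    (hP : F.IsFullyNormalized P) : F.IsFullyAutomized p P := by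
  induction hk : Nat.card S - Nat.card P using Nat.strong_induction_on generalizing P with
  | _ k ih =>
  by_cases hPS : P = S
  · exact hPS ▸ hT
  haveI := finite_of_le hP.1
  haveI := finite_mulAut (P := P)
  refine (isFullyAutomized_iff hS).2 ⟨hP.1, fun hd => ?_⟩
  set A := autInducedBy S P with hA
  obtain ⟨T, hAT, hTF, hTp, hTi⟩ :=
    exists_le_not_dvd_relIndex (isPGroup_autInducedBy (P := P) hS) (autInducedBy_le_autGroup hP.1)
  haveI : Group.IsNilpotent T := hTp.isNilpotent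
  have hne : A ≠ T := fun h => hTi (h ▸ hd)
  obtain ⟨α, ⟨hαT, hαN⟩, hαA⟩ := SetLike.exists_of_lt (lt_inf_normalizer hAT hne)
  have hαmap : IsMap F P (autFun α) := (mem_autGroup_iff hP.1).1 (hTF hαT)
  set N := normalizerIn S P with hN
  have hNS : N ≤ S := inf_le_left
  have hPN : P ≤ N := le_normalizerIn hP.1
  have hext : N ≤ extSub S P (autFun α) := by
    intro n hn
    obtain ⟨h, hh, hact⟩ := mem_autInducedBy_iff.1
      ((Subgroup.mem_normalizer_iff.1 hαN _).1 (conjAut_mem hn.1 hn.2))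
    refine ⟨hn, h, hh, fun x hx => ?_⟩
    rw [← hact _ (autFun_mem α hx), ← autFun_mul _ _ hx, inv_mul_cancel_right, autFun_mul _ _ hx,
      autFun_conjAut hn.2 hx]
  obtain ⟨β, hβ, hβα⟩ := (isReceptive_iff.1 (hR P hP)).2 P (autFun α) hαmap (img_autFun α)
  have hβN := hβ.mono hext
  have himgP : img P β = P := (IsMap.img_congr hβα).trans (img_autFun α)
  have himgN : img N β = N := by
    refine eq_of_le_of_card_le inf_le_left (fun y hy => ?_) hβN.card_img.ge
    obtain ⟨n, hn, rfl⟩ := hβN.mem_img.1 hy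
    have h := map_mem_normalizerIn hβN hPN hn hn.2
    rwa [himgP] at h
  haveI : Finite N := finite_of_le hNS
  haveI := finite_mulAut (P := N)
  set β' := autOf hβN himgN with hβ'
  obtain ⟨a, m, hm, hom⟩ := Nat.exists_eq_pow_mul_and_not_dvd (orderOf_pos β').ne' p
    (Fact.out : p.Prime).ne_one
  set γ := β' ^ m with hγ
  have hγF : γ ∈ F.autGroup N := pow_mem (autOf_mem hβN himgN) m
  have hγp : γ ^ p ^ a = 1 := by rw [hγ, ← pow_mul, mul_comm, ← hom, pow_orderOf_eq_one]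
  have hγP : ∀ x ∈ P, autFun γ x = autFun (α ^ m) x :=
    autFun_pow_eq hPN (fun x hx => (autFun_autOf hβN himgN (hPN hx)).trans (hβα x hx)) m
  have hαmA : α ^ m ∉ A := fun hmem => hαA (by
    obtain ⟨j, hj⟩ := hTp ⟨α, hαT⟩
    have hcop : Nat.Coprime m (orderOf α) :=
      Nat.Coprime.coprime_dvd_right
        (orderOf_dvd_of_pow_eq_one (congrArg Subtype.val hj))
        (Nat.Coprime.pow_right j (Nat.coprime_comm.2 ((Fact.out : p.Prime).coprime_iff_not_dvd.2 hm)))
    obtain ⟨i, hi⟩ := exists_pow_eq_self_of_coprime hcop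
    exact hi ▸ pow_mem hmem i)
  -- move `N` to a fully normalized subgroup
  obtain ⟨N', hNN', hN'⟩ := exists_fullyNormalized (F := F) hNS
  have hlt : Nat.card S - Nat.card N' < k := by
    have h1 : Nat.card P < Nat.card N := card_lt_of_lt inf_le_left (lt_normalizerIn hS hP.1 hPS)
    have h2 : Nat.card N' = Nat.card N := isConj_card hNN'
    have h3 : Nat.card N ≤ Nat.card S := card_le_of_le' le_rfl inf_le_left
    omega
  obtain ⟨hN'S, hN'i⟩ := (isFullyAutomized_iff hS).1 (ih _ hlt N' hN' rfl)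
  obtain ⟨θ, hθ, hθimg⟩ := isConj_iff.1 hNN'
  subst hθimg
  haveI : Finite (img N θ) := finite_of_le hN'S
  haveI := finite_mulAut (P := img N θ)
  set γ' := MulAut.congr (mapEquiv hθ) γ with hγ'
  have hγ'F : γ' ∈ F.autGroup (img N θ) := (congr_mem_autGroup_iff hθ γ).2 hγF
  have hγ'p : IsPGroup p (Subgroup.zpowers γ') := by
    have h1 : γ' ^ p ^ a = 1 := by rw [hγ', ← map_pow, hγp, map_one]
    obtain ⟨j, -, hj⟩ := (Nat.dvd_prime_pow Fact.out).1 (orderOf_dvd_of_pow_eq_one h1)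
    exact IsPGroup.of_card ((Nat.card_zpowers γ').trans hj)
  obtain ⟨δ, hδ, hδA⟩ := exists_conj_le_of_not_dvd_relIndex (isPGroup_autInducedBy hS)
    (autInducedBy_le_autGroup hN'S) hN'i hγ'p (Subgroup.zpowers_le.2 hγ'F)
  obtain ⟨s, hs, hact⟩ :=
    mem_autInducedBy_iff.1 (hδA (conj_mem_conjBy (Subgroup.mem_zpowers γ')))
  set θ₁ := autFun δ ∘ θ with hθ₁
  have hθm : ∀ x ∈ N, θ x ∈ img N θ := fun x hx => hθ.mem_img.2 ⟨x, hx, rfl⟩
  have hθ₁m : IsMap F N θ₁ := hθ.comp ((mem_autGroup_iff hN'S).1 hδ) hθm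
  have hrel : ∀ x ∈ N, θ₁ (autFun γ x) = s * θ₁ x * s⁻¹ := by
    intro x hx
    show autFun δ (θ (autFun γ x)) = s * autFun δ (θ x) * s⁻¹
    rw [← hact _ (autFun_mem δ (hθm x hx)), ← autFun_mul _ _ (hθm x hx), inv_mul_cancel_right,
      autFun_mul _ _ (hθm x hx), hγ', autFun_congr hθ γ hx]
  set P' := img P θ₁ with hP'
  have hsP' : s ∈ normalizerIn S P' := by
    refine ⟨hs, conjBy_eq_iff.1 ?_⟩
    refine eq_of_le_of_card_le (hθ₁m.mono hPN).img_le (conjBy_le_iff.2 fun y hy => ?_)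
      (card_conjBy s P').ge
    obtain ⟨x, hx, rfl⟩ := (hθ₁m.mono hPN).mem_img.1 hy
    rw [← hrel x (hPN hx), hγP x hx]
    exact (hθ₁m.mono hPN).mem_img.2 ⟨_, autFun_mem _ hx, rfl⟩
  have hNP' : img N θ₁ = normalizerIn S P' := by
    refine eq_of_le_of_card_le inf_le_left (fun y hy => ?_) ?_
    · obtain ⟨n, hn, rfl⟩ := hθ₁m.mem_img.1 hy
      exact map_mem_normalizerIn hθ₁m hPN hn hn.2
    · rw [hθ₁m.card_img]
      exact hP.2 P' (isConj_iff.2 ⟨θ₁, hθ₁m.mono hPN, rfl⟩)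
  rw [← hNP'] at hsP'
  obtain ⟨n, hn, hns⟩ := hθ₁m.mem_img.1 hsP'
  refine hαmA (mem_autInducedBy_iff.2 ⟨n, hn.1, fun x hx => ?_⟩)
  rw [← hγP x hx]
  refine hθ₁m.inj (autFun_mem γ (hPN hx)) ?_ ?_
  · exact mul_mem (mul_mem hn (hPN hx)) (inv_mem hn)
  · rw [hrel x (hPN hx), hθ₁m.map_conj hn (hPN hx), hns]

/-- The Roberts–Shpectorov criterion. -/
theorem isSaturated_of_top [Fact p.Prime] (hS : IsPGroup p S) (hT : F.IsFullyAutomized p S)
    (hR : ∀ P : Subgroup Ω, F.IsFullyNormalized P → F.IsReceptive P) : F.IsSaturated p := by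
  intro P hP
  obtain ⟨Q, hPQ, hQ⟩ := exists_fullyNormalized (F := F) hP
  exact ⟨Q, hPQ, fullyAutomized_of_top hS hT hR Q hQ, hR Q hQ⟩

end CfsgLib.Fusion
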