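import Cfsg.Agent.Lib.Fusion.System.Quotient
import Cfsg.Agent.Lib.Fusion.System.KNormalizer
import Cfsg.Agent.Lib.Fusion.System.TopCriterion

/-!
# Inner fusion systems: criteria
-/

set_option autoImplicit false
set_option linter.style.haveILetI false

open Subgroup
open scoped Classical

namespace CfsgLib.Fusion

open Cfsg (FusionSystem autInducedBy)
open Cfsg.FusionSystem (normalizerIn centralizerIn preimageAlong)

variable {Ω : Type*} [Group Ω] {S : Subgroup Ω} {F E : FusionSystem S} {P Q R U : Subgroup Ω}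
  {f g : Ω → Ω} {p : ℕ}

/-- Every map is conjugation by an element of `S`. -/
def IsInner (F : FusionSystem S) : Prop :=
  ∀ (P : Subgroup Ω) (f : Ω → Ω), IsMap F P f → ∃ s ∈ S, ∀ x ∈ P, f x = s * x * s⁻¹

/-- Every map normalizing `U` is conjugation by an element of `S`. -/
def NInner (F : FusionSystem S) (U : Subgroup Ω) : Prop :=
  ∀ (P : Subgroup Ω) (f : Ω → Ω), IsMap F P f → U ≤ P → P ≤ Subgroup.normalizer (U : Set Ω) →
    img U f = U → ∃ s ∈ S, ∀ x ∈ P, f x = s * x * s⁻¹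

theorem isMap_inner_iff : IsMap (Cfsg.innerFusionSystem S) P f ↔
    P ≤ S ∧ ∃ s ∈ S, ∀ x ∈ P, f x = s * x * s⁻¹ := by
  constructor
  · rintro ⟨φ, ⟨hP, s, hs, h⟩, hφ⟩
    exact ⟨hP, s, hs, fun x hx => (hφ ⟨x, hx⟩).symm.trans (h _)⟩
  · rintro ⟨hP, s, hs, h⟩
    exact (isMap_conj (F := Cfsg.innerFusionSystem S) hP hs).congr h

theorem isInner_iff : IsInner F ↔ ∀ P, F.Hom P = (Cfsg.innerFusionSystem S).Hom P := by
  constructor
  · intro h P
    ext φ
    refine ⟨fun hφ => ?_, ?_⟩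
    · exact mem_hom_iff.2 (isMap_inner_iff.2 ⟨(F.le_of_mem hφ).1, h P _ (isMap_toFun hφ)⟩)
    · rintro ⟨hP, s, hs, he⟩
      rw [show φ = Cfsg.conjHom P s from MonoidHom.ext fun x => he x]
      exact F.conj_mem hP hs
  · intro h P f hf
    obtain ⟨φ, hφ, hφf⟩ := hf
    rw [h P] at hφ
    obtain ⟨-, s, hs, he⟩ := hφ
    exact ⟨s, hs, fun x hx => (hφf ⟨x, hx⟩).symm.trans (he _)⟩

theorem isMap_of_le (h : E ≤ F) (hf : IsMap E P f) : IsMap F P f := by
  obtain ⟨φ, hφ, hφf⟩ := hf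
  exact ⟨φ, h P hφ, hφf⟩

theorem le_of_isMap (h : ∀ P f, IsMap E P f → IsMap F P f) : E ≤ F :=
  fun _ _ hφ => mem_hom_iff.2 (h _ _ (isMap_toFun hφ))

theorem eq_of_hom {F E : FusionSystem S} (h : ∀ P, F.Hom P = E.Hom P) : F = E := by
  cases F
  cases E
  obtain rfl : _ = _ := funext h
  rfl

theorem ninner_of_isInner (h : IsInner F) : NInner F U := fun P f hf _ _ _ => h P f hf

theorem ninner_of_le (h : E ≤ F) (hU : NInner F U) : NInner E U :=
  fun P f hf => hU P f (isMap_of_le h hf)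

/-- `N_F(U)` as a system exists. -/
theorem exists_normalizerSystem (hU : U ≤ S) :
    ∃ N : FusionSystem (normalizerIn S U), F.IsNormalizerSystem U N :=
  ⟨nSystem F _ U le_rfl hU, fun P => Set.ext fun φ => by
    rw [mem_normalizerHom_iff]
    exact Iff.rfl⟩

theorem ninner_iff (hU : U ≤ S) : NInner F U ↔
    ∀ N : FusionSystem (normalizerIn S U), F.IsNormalizerSystem U N →
      ∀ P, N.Hom P = (Cfsg.innerFusionSystem (normalizerIn S U)).Hom P := by
  constructor
  · intro h N hN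
    refine isInner_iff.1 fun P f hf => ?_
    obtain ⟨h1, h2, g, hg, hgf, hgU⟩ := (isMap_of_isNormalizerSystem hN).1 hf
    have hPU : P ⊔ U ≤ normalizerIn S U := sup_le h1 (le_normalizerIn hU)
    obtain ⟨s, hs, he⟩ := h _ g hg le_sup_right (hPU.trans inf_le_right) hgU
    refine ⟨s, ⟨hs, conjBy_eq_iff.1 ?_⟩, fun x hx => (hgf x hx).symm.trans
      (he x ((le_sup_left : P ≤ P ⊔ U) hx))⟩
    rw [← img_conj, ← IsMap.img_congr fun x hx => he x ((le_sup_right : U ≤ P ⊔ U) hx), hgU]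
  · intro h P f hf hUP hPN hfU
    obtain ⟨N, hN⟩ := exists_normalizerSystem (F := F) hU
    have hfm : IsMap N P f := (isMap_of_isNormalizerSystem hN).2 ⟨le_inf hf.le hPN, fun x hx => by
        have := map_mem_normalizerIn hf hUP hx (hPN hx)
        rwa [hfU] at this,
      f, by rwa [sup_eq_left.2 hUP], fun _ _ => rfl, hfU⟩
    obtain ⟨s, hs, he⟩ := isInner_iff.2 (h N hN) P f hfm
    exact ⟨s, hs.1, he⟩

/-- The system `N_F(U)` over `S` for `U` normal in `S`, with its properties. -/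
theorem exists_normalizer_system_over [Finite S] [Fact p.Prime] (hS : IsPGroup p S)
    (hF : F.IsSaturated p) (hU : U ≤ S) (hn : S ≤ Subgroup.normalizer (U : Set Ω)) :
    ∃ E : FusionSystem S, E ≤ F ∧ E.IsSaturated p ∧
      (∀ P f, IsMap E P f → ∃ g, IsMap F (P ⊔ U) g ∧ (∀ x ∈ P, g x = f x) ∧ img U g = U) ∧
      (IsInner E → NInner F U) := by
  have hT : normalizerIn S U = S := inf_eq_left.2 hn
  have hfn : F.IsFullyNormalized U :=
    ⟨hU, fun R _ => by rw [hT]; exact card_le_of_le' le_rfl inf_le_left⟩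
  let E := nSystem F S U hT.ge hU
  refine ⟨E, le_of_isMap fun P f h => (isMap_nSystem_iff.1 h).isMap, ?_,
    fun P f h => (isMap_nSystem_iff.1 h).2.2, fun h P f hf hUP _ hfU => h P f ?_⟩
  · have aux : ∀ (T : Subgroup Ω) (hTT : normalizerIn S U = T),
        (nSystem F T U hTT.ge hU).IsSaturated p := by
      rintro T rfl
      exact isSaturated_normalizerSystem hS hF hfn fun P => Set.ext fun φ => by
        rw [mem_normalizerHom_iff]
        exact Iff.rfl
    exact aux S hT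
  · exact isMap_nSystem_iff.2 ⟨hf.le, fun x hx => hf.mem_S hx, f, by rwa [sup_eq_left.2 hUP],
      fun _ _ => rfl, hfU⟩

theorem autGroup_le_autInducedBy_of_ninner (hR : R ≤ S) (h : NInner F R) :
    F.autGroup R ≤ autInducedBy S R := by
  intro a ha
  obtain ⟨s, hs, he⟩ := h R _ ((mem_autGroup_iff hR).1 ha) le_rfl Subgroup.le_normalizer
    (img_autFun a)
  exact mem_autInducedBy_iff.2 ⟨s, hs, he⟩

section Saturated

variable [Finite S] [Fact p.Prime]

theorem not_isStronglyPEmbedded_of_isPGroup {X : Type*} [Group X] [Finite X] (hX : IsPGroup p X)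
    (Y : Subgroup X) : ¬ Cfsg.IsStronglyPEmbedded p Y := by
  intro hY
  haveI : (⊤ : Subgroup X).Normal := inferInstance
  have h := eq_bot_of_embedded hY (N := ⊤) (hX.to_subgroup ⊤)
  refine hY.2.1 ?_
  rw [eq_top_iff, h]
  exact bot_le

theorem autGroup_le_inner_of_isPGroup (hS : IsPGroup p S) (hF : F.IsSaturated p)
    (h : IsPGroup p (F.autGroup S)) : F.autGroup S ≤ autInducedBy S S := by
  obtain ⟨hSS, hi⟩ := (isFullyAutomized_iff hS).1
    (IsSaturated.automized_receptive hS hF isFullyNormalized_self).1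
  haveI := finite_mulAut (P := S)
  exact (eq_of_le_of_isPGroup_of_not_dvd_relIndex h (autInducedBy_le_autGroup le_rfl) le_rfl hi).le

theorem isInner_of_aut_isPGroup (hS : IsPGroup p S) (hF : F.IsSaturated p)
    (hT : IsPGroup p (F.autGroup S))
    (h : ∀ R, F.IsEssential p R → IsPGroup p (F.autGroup R)) : IsInner F := by
  intro P f hf
  refine (isMap_inner_iff.1 (isMap_of_autGroup_le hS hF (fun R hR => ?_) hf)).2
  rcases hR with rfl | hR
  · exact (autGroup_le_inner_of_isPGroup hS hF hT).trans (autInducedBy_le_autGroup le_rfl)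
  · exfalso
    obtain ⟨-, hn, hN, Y, hY⟩ := id hR
    haveI := finite_of_le hn.1
    haveI := finite_mulAut (P := R)
    exact not_isStronglyPEmbedded_of_isPGroup
      ((h R hR).to_quotient ((Cfsg.Inn R).subgroupOf (F.autGroup R))) Y hY

theorem isInner_of_ninner (hS : IsPGroup p S) (hF : F.IsSaturated p)
    (h : ∀ R, F.IsFullyNormalized R → R ≠ ⊥ → NInner F R) : IsInner F := by
  by_cases hS1 : S = ⊥
  · intro P f hf
    refine ⟨1, one_mem S, fun x hx => ?_⟩
    have h1 : x = 1 := Subgroup.mem_bot.1 (hS1 ▸ hf.le hx)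
    subst h1
    rw [hf.map_one]
    simp
  have key : ∀ R, F.IsFullyNormalized R → R ≠ ⊥ → IsPGroup p (F.autGroup R) := fun R hR hne =>
    (isPGroup_autInducedBy hS).to_le (autGroup_le_autInducedBy_of_ninner hR.1 (h R hR hne))
  refine isInner_of_aut_isPGroup hS hF (key S isFullyNormalized_self hS1) fun R hR => ?_
  refine key R hR.2.1 fun hR0 => hS1 (eq_bot_iff.2 fun x hx => ?_)
  subst hR0
  refine centralizerIn_le_of_isCentric hR.1 ⟨hx, Subgroup.mem_centralizer_iff.2 fun y hy => ?_⟩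
  rw [Subgroup.mem_bot.1 hy, one_mul, mul_one]

omit [Fact p.Prime] in
/-- The set of maps, as a subset of a finite type. -/
theorem ncard_maps_lt (hle : E ≤ F) {P : Subgroup Ω} {f : Ω → Ω} (hf : IsMap F P f)
    (hE : ¬ IsMap E P f) :
    {z : Subgroup S × (S → S) | ∃ f, IsMap E (z.1.map S.subtype) f ∧
      ∀ x ∈ z.1, f x = z.2 x}.ncard <
    {z : Subgroup S × (S → S) | ∃ f, IsMap F (z.1.map S.subtype) f ∧
      ∀ x ∈ z.1, f x = z.2 x}.ncard := by
  refine Set.ncard_lt_ncard ⟨fun z ⟨g, hg, hge⟩ => ⟨g, isMap_of_le hle hg, hge⟩, fun hsub => ?_⟩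
    (Set.toFinite _)
  have hP : (P.subgroupOf S).map S.subtype = P := Subgroup.map_subgroupOf_eq_of_le hf.le
  let z : Subgroup S × (S → S) :=
    (P.subgroupOf S, fun x => if h : f x ∈ S then ⟨f x, h⟩ else 1)
  have hz : ∀ x ∈ z.1, f x = z.2 x := fun x hx => by
    show f x = ((if h : f x ∈ S then (⟨f x, h⟩ : S) else 1 : S) : Ω)
    rw [dif_pos (hf.mem_S (show (x : Ω) ∈ P from hx))]
  obtain ⟨g, hg, hge⟩ := hsub (show z ∈ _ from ⟨f, by rw [show z.1.map S.subtype = P from hP]; exact hf, hz⟩)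
  rw [show z.1.map S.subtype = P from hP] at hg
  exact hE (hg.congr fun x hx => (hz ⟨x, hf.le hx⟩ hx).trans (hge ⟨x, hf.le hx⟩ hx).symm)

end Saturated

end CfsgLib.Fusion
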