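import Mathlib.GroupTheory.QuotientGroup.Basic
import Mathlib.GroupTheory.GroupAction.Quotient
import Mathlib.Algebra.Group.End
import Mathlib.GroupTheory.OrderOfElement
import Mathlib.GroupTheory.Subgroup.Center
import Mathlib.GroupTheory.Index
import Mathlib.Tactic.Group
import Mathlib.Algebra.BigOperators.Group.Finset.Basic

/-!
# A monomial group and its norm quotient

Given `c : T →* X` and representatives `r` of the cosets of `A = c(T)` in `X`, the group `Mon`
consists of the pairs `(x, p)` with `p : X/A → T` lifting the cocycle `r (x t)⁻¹ x r t`.  When the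
kernel of `c` is the centre of a subgroup `Q` of `T` on which `X` acts, and `|X : A|` is prime to
`|Z(Q)|`, dividing by the kernel of the norm gives an extension of `X` by `Z(Q)`.
-/

set_option autoImplicit false
set_option linter.style.haveILetI false

open scoped Classical IsMulCommutative

namespace CfsgLib.Fusion

variable {T X : Type*} [Group T] [Group X] (c : T →* X) (r : X ⧸ c.range → X)

/-- The monomial group. -/
@[ext]
structure Mon where
  /-- the image in `X` -/
  x : X
  /-- the components -/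
  p : X ⧸ c.range → T
  /-- the components lift the cocycle -/
  h : ∀ t, c (p t) = (r (x • t))⁻¹ * x * r t

namespace Mon

variable {c r}

/-- Multiplication. -/
def mul' (a b : Mon c r) : Mon c r :=
  ⟨a.x * b.x, fun t => a.p (b.x • t) * b.p t, fun t => by
    rw [map_mul, a.h, b.h, mul_smul]
    group⟩

/-- Unit. -/
def one' : Mon c r :=
  ⟨1, fun _ => 1, fun t => by rw [map_one, one_smul, mul_one, inv_mul_cancel]⟩

/-- Inverse. -/
def inv' (a : Mon c r) : Mon c r :=
  ⟨a.x⁻¹, fun t => (a.p (a.x⁻¹ • t))⁻¹, fun t => by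
    rw [map_inv, a.h, smul_inv_smul]
    group⟩

instance monGroup : Group (Mon c r) where
  mul := mul'
  one := one'
  inv := inv'
  mul_assoc a b d := by
    refine Mon.ext (mul_assoc a.x b.x d.x) (funext fun t => ?_)
    show a.p (b.x • d.x • t) * b.p (d.x • t) * d.p t = a.p ((b.x * d.x) • t) * (b.p (d.x • t) * d.p t)
    rw [mul_smul, mul_assoc]
  one_mul a := by
    refine Mon.ext (one_mul a.x) (funext fun t => ?_)
    show 1 * a.p t = a.p t
    rw [one_mul]
  mul_one a := by
    refine Mon.ext (mul_one a.x) (funext fun t => ?_)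
    show a.p ((1 : X) • t) * 1 = a.p t
    rw [one_smul, mul_one]
  inv_mul_cancel a := by
    refine Mon.ext (inv_mul_cancel a.x) (funext fun t => ?_)
    show (a.p (a.x⁻¹ • a.x • t))⁻¹ * a.p t = 1
    rw [inv_smul_smul, inv_mul_cancel]

@[simp] theorem mul_x (a b : Mon c r) : (a * b).x = a.x * b.x := rfl

@[simp] theorem mul_p (a b : Mon c r) (t : X ⧸ c.range) : (a * b).p t = a.p (b.x • t) * b.p t := rfl

@[simp] theorem one_x : (1 : Mon c r).x = 1 := rfl

@[simp] theorem one_p (t : X ⧸ c.range) : (1 : Mon c r).p t = 1 := rfl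

@[simp] theorem inv_x (a : Mon c r) : (a⁻¹).x = a.x⁻¹ := rfl

@[simp] theorem inv_p (a : Mon c r) (t : X ⧸ c.range) : (a⁻¹).p t = (a.p (a.x⁻¹ • t))⁻¹ := rfl

/-- The projection to `X`. -/
def proj : Mon c r →* X where
  toFun := Mon.x
  map_one' := rfl
  map_mul' _ _ := rfl

theorem p_mem_ker {e : Mon c r} (he : e ∈ (proj : Mon c r →* X).ker) (t : X ⧸ c.range) :
    e.p t ∈ c.ker := by
  have hx : e.x = 1 := he
  rw [MonoidHom.mem_ker, e.h, hx, one_smul, mul_one, inv_mul_cancel]

theorem cocycle_mem_range (hr : ∀ t, (r t : X ⧸ c.range) = t) (x : X) (t : X ⧸ c.range) :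
    (r (x • t))⁻¹ * x * r t ∈ c.range := by
  rw [mul_assoc, ← QuotientGroup.eq, hr]
  conv_lhs => rw [← hr t]
  rfl

theorem proj_surjective (hr : ∀ t, (r t : X ⧸ c.range) = t) :
    Function.Surjective (proj : Mon c r →* X) := fun x => by
  choose p hp using fun t => cocycle_mem_range hr x t
  exact ⟨⟨x, p, hp⟩, rfl⟩

/-- A lift of an element of `X`. -/
noncomputable def lift (hr : ∀ t, (r t : X ⧸ c.range) = t) (x : X) : Mon c r :=
  (proj_surjective hr x).choose

theorem lift_x (hr : ∀ t, (r t : X ⧸ c.range) = t) (x : X) : (lift hr x).x = x :=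
  (proj_surjective hr x).choose_spec

/-- Two homomorphisms into `Mon` over the same map to `X`, conjugate on every point stabilizer,
are conjugate by an element over `1`. -/
theorem exists_conj {H : Type*} [Group H] (a b : H →* Mon c r) (hx : ∀ u, (a u).x = (b u).x)
    (hloc : ∀ t, ∃ z ∈ c.ker, ∀ u, (a u).x • t = t → (b u).p t * z = z * (a u).p t) :
    ∃ e : Mon c r, e.x = 1 ∧ ∀ u, b u * e = e * a u := by
  choose z hz hzeq using hloc
  let R : Setoid (X ⧸ c.range) :=
    { r := fun t t' => ∃ u, (a u).x • t = t'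
      iseqv :=
        { refl := fun t => ⟨1, by rw [map_one, one_x, one_smul]⟩
          symm := fun {t t'} ⟨u, hu⟩ => ⟨u⁻¹, by rw [map_inv, inv_x, ← hu, inv_smul_smul]⟩
          trans := fun {t t' t''} ⟨u, hu⟩ ⟨v, hv⟩ => ⟨v * u, by rw [map_mul, mul_x, mul_smul, hu, hv]⟩ } }
  let o : X ⧸ c.range → X ⧸ c.range := fun t => Quotient.out (Quotient.mk R t)
  have hou : ∀ t, ∃ u, (a u).x • o t = t := fun t => Quotient.mk_out (s := R) t
  have ho : ∀ v t, o ((a v).x • t) = o t := fun v t =>
    congrArg Quotient.out (Quotient.sound (s := R) ⟨v, rfl⟩).symm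
  choose u hu using hou
  have key : ∀ t v, (a v).x • o t = t →
      (b v).p (o t) * z (o t) * ((a v).p (o t))⁻¹ =
        (b (u t)).p (o t) * z (o t) * ((a (u t)).p (o t))⁻¹ := by
    intro t v hv
    obtain ⟨w, rfl⟩ : ∃ w, v = u t * w := ⟨(u t)⁻¹ * v, by group⟩
    have hwo : (a w).x • o t = o t := by
      rw [map_mul, mul_x, mul_smul] at hv
      exact (smul_left_cancel _ (hv.trans (hu t).symm))
    rw [map_mul, map_mul, mul_p, mul_p, ← hx w, hwo]
    calc (b (u t)).p (o t) * (b w).p (o t) * z (o t) * ((a (u t)).p (o t) * (a w).p (o t))⁻¹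
        = (b (u t)).p (o t) * ((b w).p (o t) * z (o t)) * ((a w).p (o t))⁻¹ *
            ((a (u t)).p (o t))⁻¹ := by group
      _ = (b (u t)).p (o t) * (z (o t) * (a w).p (o t)) * ((a w).p (o t))⁻¹ *
            ((a (u t)).p (o t))⁻¹ := by rw [hzeq _ w hwo]
      _ = _ := by group
  refine ⟨⟨1, fun t => (b (u t)).p (o t) * z (o t) * ((a (u t)).p (o t))⁻¹, fun t => ?_⟩, rfl,
    fun v => ?_⟩
  · rw [map_mul, map_mul, MonoidHom.mem_ker.1 (hz _), mul_one, map_inv, (b _).h, (a _).h, ← hx,
      mul_inv_cancel, one_smul, mul_one, inv_mul_cancel]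
  · refine Mon.ext ?_ (funext fun t => ?_)
    · rw [mul_x, mul_x, hx, mul_one, one_mul]
    · rw [mul_p, mul_p, one_smul]
      show (b v).p t * ((b (u t)).p (o t) * z (o t) * ((a (u t)).p (o t))⁻¹) =
        (b (u ((a v).x • t))).p (o ((a v).x • t)) * z (o ((a v).x • t)) *
          ((a (u ((a v).x • t))).p (o ((a v).x • t)))⁻¹ * (a v).p t
      have hvu : (a (v * u t)).x • o ((a v).x • t) = (a v).x • t := by
        rw [ho, map_mul, mul_x, mul_smul, hu]
      rw [← key _ (v * u t) hvu, ho, map_mul, map_mul, mul_p, mul_p, ← hx (u t), hu]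
      group

/-! ### The norm quotient -/

variable {Q : Type*} [Group Q] (j : Q →* T) (act : X →* MulAut Q)

/-- The kernel components as elements of `Q`. -/
theorem exists_center (hj : Function.Injective j) (hc : ∀ u q, j (act (c u) q) = u * j q * u⁻¹)
    (hker : c.ker ≤ j.range) {v : T} (hv : v ∈ c.ker) : ∃ z ∈ Subgroup.center Q, j z = v := by
  obtain ⟨z, rfl⟩ := hker hv
  refine ⟨z, Subgroup.mem_center_iff.2 fun q => hj ?_, rfl⟩
  have h := hc (j z) q
  rw [MonoidHom.mem_ker.1 hv, map_one, MulAut.one_apply] at h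
  rw [map_mul, map_mul, eq_comm, ← mul_inv_eq_iff_eq_mul]
  exact h.symm

theorem act_mem_center (x : X) {z : Q} (hz : z ∈ Subgroup.center Q) :
    act x z ∈ Subgroup.center Q := by
  refine Subgroup.mem_center_iff.2 fun q => ?_
  obtain ⟨q', rfl⟩ := (act x).surjective q
  rw [← map_mul, ← map_mul, Subgroup.mem_center_iff.1 hz q']

/-- Data making the norm quotient work. -/
structure NormData (c : T →* X) (r : X ⧸ c.range → X) (Q : Type*) [Group Q] where
  /-- the embedding of `Q` -/
  j : Q →* T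
  /-- the action of `X` on `Q` -/
  act : X →* MulAut Q
  j_inj : Function.Injective j
  act_inj : Function.Injective act
  act_c : ∀ u q, j (act (c u) q) = u * j q * u⁻¹
  ker_le : c.ker ≤ j.range
  hr : ∀ t, (r t : X ⧸ c.range) = t
  /-- the lift of `T` -/
  θ : T →* Mon c r
  θ_x : ∀ u, (θ u).x = c u
  θ_p : ∀ q t, (θ (j q)).p t = j (act (r t)⁻¹ q)
  coprime : (Nat.card (Subgroup.center Q)).Coprime (Nat.card (X ⧸ c.range))

namespace NormData

variable (D : NormData c r Q)

theorem c_j (q : Q) : D.act (c (D.j q)) = MulAut.conj q :=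
  MulEquiv.ext fun q' => D.j_inj (by rw [D.act_c, MulAut.conj_apply, map_mul, map_mul, map_inv])

theorem c_j_act (x : X) (q : Q) : c (D.j (D.act x q)) = x * c (D.j q) * x⁻¹ :=
  D.act_inj (by
    rw [map_mul, map_mul, map_inv, D.c_j, D.c_j]
    exact MulEquiv.ext fun q' => by simp)

theorem smul_c_j (q : Q) (t : X ⧸ c.range) : c (D.j q) • t = t := by
  conv_lhs => rw [← D.hr t]
  conv_rhs => rw [← D.hr t]
  refine (QuotientGroup.eq (s := c.range)).2 ?_
  refine ⟨D.j (D.act (r t)⁻¹ q⁻¹), ?_⟩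
  rw [D.c_j_act, map_inv, map_inv, inv_inv]; simp only [smul_eq_mul]
  group

/-- The central element under a kernel component. -/
noncomputable def zc (e : (proj : Mon c r →* X).ker) (t : X ⧸ c.range) : Subgroup.center Q :=
  ⟨(exists_center D.j D.act D.j_inj D.act_c D.ker_le (p_mem_ker e.2 t)).choose,
    (exists_center D.j D.act D.j_inj D.act_c D.ker_le (p_mem_ker e.2 t)).choose_spec.1⟩

theorem j_zc (e : (proj : Mon c r →* X).ker) (t : X ⧸ c.range) :
    D.j (D.zc e t) = (e : Mon c r).p t :=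
  (exists_center D.j D.act D.j_inj D.act_c D.ker_le (p_mem_ker e.2 t)).choose_spec.2

theorem zc_eq {e : (proj : Mon c r →* X).ker} {t : X ⧸ c.range} {z : Subgroup.center Q}
    (h : (e : Mon c r).p t = D.j z) : D.zc e t = z :=
  Subtype.ext (D.j_inj ((D.j_zc e t).trans h))

/-- The action on the centre. -/
def actZ (x : X) : Subgroup.center Q →* Subgroup.center Q where
  toFun z := ⟨D.act x z, act_mem_center D.act x z.2⟩
  map_one' := Subtype.ext (map_one _)
  map_mul' z w := Subtype.ext (map_mul _ _ _)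

theorem coe_actZ (x : X) (z : Subgroup.center Q) : (D.actZ x z : Q) = D.act x z := rfl

theorem actZ_actZ (x y : X) (z : Subgroup.center Q) :
    D.actZ x (D.actZ y z) = D.actZ (x * y) z :=
  Subtype.ext (by rw [coe_actZ, coe_actZ, coe_actZ, map_mul, MulAut.mul_apply])

theorem zc_mul (e f : (proj : Mon c r →* X).ker) (t : X ⧸ c.range) :
    D.zc (e * f) t = D.zc e t * D.zc f t := by
  refine D.zc_eq ?_
  have hf : (f : Mon c r).x = 1 := f.2
  rw [Subgroup.coe_mul, mul_p, hf, one_smul, Subgroup.coe_mul, map_mul, D.j_zc, D.j_zc]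

variable [Finite X] [Finite Q]

/-- The raw norm. -/
noncomputable def rawNorm : (proj : Mon c r →* X).ker →* Subgroup.center Q :=
  haveI := Fintype.ofFinite (X ⧸ c.range)
  MonoidHom.mk' (fun e => ∏ t, D.actZ (r t) (D.zc e t)) fun e f => by
    simp only [D.zc_mul, map_mul, Finset.prod_mul_distrib]

/-- Powering by the index, an automorphism of `Z(Q)`. -/
noncomputable def powEquiv (D : NormData c r Q) : Subgroup.center Q ≃* Subgroup.center Q :=
  { powCoprime D.coprime with map_mul' := fun a b => mul_pow a b _ }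

/-- The norm. -/
noncomputable def norm : (proj : Mon c r →* X).ker →* Subgroup.center Q :=
  D.powEquiv.symm.toMonoidHom.comp D.rawNorm

theorem rawNorm_apply (e : (proj : Mon c r →* X).ker) [Fintype (X ⧸ c.range)] :
    D.rawNorm e = ∏ t, D.actZ (r t) (D.zc e t) := by
  simp only [rawNorm, MonoidHom.mk'_apply]
  congr 1
  ext t
  simp

theorem norm_eq_iff (e : (proj : Mon c r →* X).ker) (z : Subgroup.center Q) :
    D.norm e = z ↔ D.rawNorm e = z ^ Nat.card (X ⧸ c.range) :=
  MulEquiv.symm_apply_eq D.powEquiv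

/-- Equivariance of the norm. -/
theorem norm_conj (w : Mon c r) (e : (proj : Mon c r →* X).ker) :
    D.norm ⟨w * e * w⁻¹, MonoidHom.normal_ker _ |>.conj_mem _ e.2 w⟩ = D.actZ w.x (D.norm e) := by
  haveI := Fintype.ofFinite (X ⧸ c.range)
  rw [norm_eq_iff, ← map_pow, ← (D.norm_eq_iff e _).1 rfl, rawNorm_apply, rawNorm_apply, map_prod]
  refine (Equiv.prod_comp (MulAction.toPerm w.x) _).symm.trans ?_
  refine Finset.prod_congr rfl fun t _ => ?_
  have he : (e : Mon c r).x = 1 := e.2
  have hz : D.zc ⟨w * e * w⁻¹, MonoidHom.normal_ker _ |>.conj_mem _ e.2 w⟩ (w.x • t) =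
      D.actZ (c (w.p t)) (D.zc e t) := by
    refine D.zc_eq ?_
    rw [coe_actZ, D.act_c, D.j_zc]
    show (w * e * w⁻¹).p (w.x • t) = _
    rw [mul_p, mul_p, inv_p, inv_x, inv_smul_smul, he, one_smul]
  show D.actZ (r (w.x • t)) (D.zc _ (w.x • t)) = _
  rw [hz, actZ_actZ, actZ_actZ, w.h]
  congr 2
  group

/-- The subgroup divided out. -/
noncomputable def normKer : Subgroup (Mon c r) := D.norm.ker.map (proj : Mon c r →* X).ker.subtype

instance normKer_normal : D.normKer.Normal where
  conj_mem := by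
    rintro _ ⟨e, he, rfl⟩ w
    refine ⟨⟨w * e * w⁻¹, MonoidHom.normal_ker _ |>.conj_mem _ e.2 w⟩, ?_, rfl⟩
    show D.norm _ = 1
    rw [D.norm_conj, show D.norm e = 1 from he, map_one]

/-- The extension group. -/
abbrev L := Mon c r ⧸ D.normKer

/-- The lift of `T` into the extension. -/
noncomputable def ι : T →* D.L := (QuotientGroup.mk' D.normKer).comp D.θ

theorem normKer_le : D.normKer ≤ (proj : Mon c r →* X).ker := Subgroup.map_subtype_le _

/-- The projection of the extension. -/
noncomputable def toX : D.L →* X := QuotientGroup.lift D.normKer proj D.normKer_le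

theorem toX_mk (w : Mon c r) : D.toX (w : D.L) = w.x := rfl

theorem toX_ι (u : T) : D.toX (D.ι u) = c u := D.θ_x u

theorem θ_center_mem (z : Subgroup.center Q) : D.θ (D.j z) ∈ (proj : Mon c r →* X).ker := by
  show (D.θ (D.j z)).x = 1
  rw [D.θ_x]
  refine D.act_inj ?_
  rw [D.c_j, map_one]
  exact MulEquiv.ext fun q => by
    rw [MulAut.conj_apply, ← Subgroup.mem_center_iff.1 z.2 q, mul_inv_cancel_right, MulAut.one_apply]

theorem norm_θ (z : Subgroup.center Q) : D.norm ⟨_, D.θ_center_mem z⟩ = z := by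
  haveI := Fintype.ofFinite (X ⧸ c.range)
  rw [norm_eq_iff, rawNorm_apply, Nat.card_eq_fintype_card, ← Finset.card_univ, ← Finset.prod_const]
  refine Finset.prod_congr rfl fun t _ => ?_
  have h : D.zc ⟨_, D.θ_center_mem z⟩ t = D.actZ (r t)⁻¹ z := D.zc_eq (D.θ_p _ t)
  rw [h, actZ_actZ, mul_inv_cancel]
  exact Subtype.ext (by rw [coe_actZ, map_one, MulAut.one_apply])

theorem exists_center_of_toX_eq_one {l : D.L} (h : D.toX l = 1) :
    ∃ z : Subgroup.center Q, D.ι (D.j z) = l := by
  obtain ⟨w, rfl⟩ := QuotientGroup.mk_surjective l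
  refine ⟨D.norm ⟨w, h⟩, (QuotientGroup.eq (s := D.normKer)).2 ?_⟩
  refine ⟨⟨_, D.θ_center_mem (D.norm ⟨w, h⟩)⟩⁻¹ * ⟨w, h⟩, ?_, rfl⟩
  show D.norm _ = 1
  rw [map_mul, map_inv, norm_θ, inv_mul_cancel]

theorem ι_injective : Function.Injective D.ι := by
  rw [injective_iff_map_eq_one]
  intro u hu
  have hc : c u = 1 := by rw [← D.toX_ι, hu, map_one]
  obtain ⟨z, hz, rfl⟩ := exists_center D.j D.act D.j_inj D.act_c D.ker_le
    (show u ∈ c.ker from hc)
  obtain ⟨e, he, hee⟩ := (QuotientGroup.eq_one_iff _).1 hu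
  have : e = ⟨_, D.θ_center_mem ⟨z, hz⟩⟩ := Subtype.ext hee
  rw [this] at he
  have hz1 : (⟨z, hz⟩ : Subgroup.center Q) = 1 := (D.norm_θ _).symm.trans he
  rw [show z = 1 from congrArg Subtype.val hz1, map_one]

theorem toX_surjective : Function.Surjective D.toX := fun x =>
  ⟨((lift D.hr x : Mon c r) : D.L), lift_x D.hr x⟩

theorem finite_L : Finite D.L := by
  haveI : Finite D.toX.ker := Finite.of_surjective
    (fun z : Subgroup.center Q => (⟨D.ι (D.j z), by
      rw [MonoidHom.mem_ker, D.toX_ι]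
      exact (D.θ_x _).symm.trans (D.θ_center_mem z)⟩ : D.toX.ker))
    fun ⟨l, hl⟩ => (D.exists_center_of_toX_eq_one hl).imp fun z hz => Subtype.ext hz
  haveI : Finite (D.L ⧸ D.toX.ker) :=
    Finite.of_equiv X (QuotientGroup.quotientKerEquivOfSurjective _ D.toX_surjective).toEquiv.symm
  exact Finite.of_equiv _ (Subgroup.groupEquivQuotientProdSubgroup (s := D.toX.ker)).symm

/-- Conjugation in the extension on the image of `Q`. -/
theorem conj_ι_j (w : Mon c r) (q : Q) :
    w * D.θ (D.j q) * w⁻¹ = D.θ (D.j (D.act w.x q)) := by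
  refine Mon.ext ?_ (funext fun t => ?_)
  · rw [mul_x, mul_x, inv_x, D.θ_x, D.θ_x, D.c_j_act]
  · obtain ⟨t, rfl⟩ : ∃ t', t = w.x • t' := ⟨w.x⁻¹ • t, (smul_inv_smul _ _).symm⟩
    rw [mul_p, mul_p, inv_p, inv_x, inv_smul_smul, D.θ_x, D.smul_c_j, D.θ_p, D.θ_p, ← D.act_c,
      w.h]
    congr 1
    rw [← MulAut.mul_apply, ← MulAut.mul_apply, ← map_mul, ← map_mul]
    congr 2
    group

theorem conj_ι_j' (l : D.L) (q : Q) : l * D.ι (D.j q) * l⁻¹ = D.ι (D.j (D.act (D.toX l) q)) := by
  obtain ⟨w, rfl⟩ := QuotientGroup.mk_surjective l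
  exact congrArg (QuotientGroup.mk' D.normKer) (D.conj_ι_j w q)

theorem index_range_ι : D.ι.range.index = Nat.card (X ⧸ c.range) := by
  have hker : D.toX.ker ≤ D.ι.range := fun l hl => by
    obtain ⟨z, rfl⟩ := D.exists_center_of_toX_eq_one hl
    exact ⟨_, rfl⟩
  have h := Subgroup.index_map_eq D.ι.range D.toX_surjective hker
  have hm : D.ι.range.map D.toX = c.range := by
    rw [MonoidHom.range_eq_map, Subgroup.map_map, MonoidHom.range_eq_map]
    exact congrArg (fun f : T →* X => Subgroup.map f ⊤) (MonoidHom.ext D.toX_ι)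
  rw [hm] at h
  exact h.symm

end NormData

end Mon

end CfsgLib.Fusion
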