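import Cfsg.Agent.Lib.Fusion.System.Normal
import Cfsg.Agent.Lib.Fusion.System.Monomial

/-!
# The local model theorem

For `Q` centric and fully normalized in a saturated system, the normalizer system of `Q` has a
model.
-/

set_option autoImplicit false
set_option linter.style.haveILetI false
set_option maxHeartbeats 800000

open Subgroup
open scoped Classical

namespace CfsgLib.Fusion

open Cfsg (FusionSystem autInducedBy)
open Cfsg.FusionSystem (normalizerIn centralizerIn)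

universe u

variable {Ω : Type u} [Group Ω] {S : Subgroup Ω} (F : FusionSystem S) (Q : Subgroup Ω)

/-- The action of `N_S(Q)` on `Q`, inside `Aut_F(Q)`. -/
def toAut (hQ : Q ≤ S) : normalizerIn S Q →* F.autGroup Q :=
  MonoidHom.codRestrict
    (Q.normalizerMonoidHom.comp (Subgroup.inclusion (inf_le_right : normalizerIn S Q ≤ _))) _
    fun u => autInducedBy_le_autGroup hQ (conjAut_mem u.2.1 u.2.2)

variable {F Q}

theorem autFun_toAut (hQ : Q ≤ S) (u : normalizerIn S Q) {y : Ω} (hy : y ∈ Q) :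
    autFun (toAut F Q hQ u : MulAut Q) y = (u : Ω) * y * (u : Ω)⁻¹ :=
  autFun_conjAut u.2.2 hy

theorem range_toAut (hQ : Q ≤ S) :
    (toAut F Q hQ).range = (autInducedBy S Q).subgroupOf (F.autGroup Q) := by
  ext a
  constructor
  · rintro ⟨u, rfl⟩
    exact conjAut_mem u.2.1 u.2.2
  · intro ha
    obtain ⟨g, hg, e⟩ := mem_autInducedBy_iff.1 (show (a : MulAut Q) ∈ autInducedBy S Q from ha)
    refine ⟨⟨g, hg, mem_normalizer_of_autFun e⟩, Subtype.ext (autFun_ext fun y hy => ?_)⟩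
    rw [autFun_toAut hQ _ hy, e y hy]

theorem toAut_ker_le (hQ : Q ≤ S) (hC : centralizerIn S Q ≤ Q) :
    (toAut F Q hQ).ker ≤ (Subgroup.inclusion (le_normalizerIn hQ)).range := by
  intro u hu
  refine ⟨⟨u, hC ⟨u.2.1, mem_centralizer_iff'.2 fun y hy => ?_⟩⟩, rfl⟩
  rw [← autFun_toAut (F := F) hQ u hy, MonoidHom.mem_ker.1 hu, Subgroup.coe_one, autFun_one hy]

theorem toAut_act (hQ : Q ≤ S) (u : normalizerIn S Q) (q : Q) :
    Subgroup.inclusion (le_normalizerIn hQ) ((toAut F Q hQ u : MulAut Q) q) =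
      u * Subgroup.inclusion (le_normalizerIn hQ) q * u⁻¹ :=
  Subtype.ext ((autFun_coe _ q).symm.trans (autFun_toAut hQ u q.2))

/-- The data of the local construction. -/
structure LocalData (F : FusionSystem S) (Q : Subgroup Ω) where
  /-- containment in `S` -/
  le : Q ≤ S
  /-- coset representatives of orbits -/
  g : F.autGroup Q ⧸ (toAut F Q le).range → F.autGroup Q
  /-- moving elements -/
  s : F.autGroup Q ⧸ (toAut F Q le).range → normalizerIn S Q
  /-- extensions of automorphisms -/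
  ext : F.autGroup Q → Ω → Ω
  g_eq : ∀ (u : normalizerIn S Q) t, g (toAut F Q le u • t) = g t
  s_eq : ∀ t, toAut F Q le (s t) • (g t : F.autGroup Q ⧸ (toAut F Q le).range) = t
  ext_map : ∀ a : F.autGroup Q, IsMap F (extSub S Q (autFun (a : MulAut Q))) (ext a)
  ext_eq : ∀ a : F.autGroup Q, ∀ y ∈ Q, ext a y = autFun (a : MulAut Q) y

theorem exists_localData [Finite S] {p : ℕ} [Fact p.Prime] (hS : IsPGroup p S) (hF : F.IsSaturated p)
    (hQ : F.IsFullyNormalized Q) : Nonempty (LocalData F Q) := by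
  obtain ⟨-, hrec⟩ := IsSaturated.automized_receptive hS hF hQ
  have hext := fun a : F.autGroup Q => (isReceptive_iff.1 hrec).2 Q (autFun (a : MulAut Q))
    ((mem_autGroup_iff hQ.1).1 a.2) (img_autFun _)
  choose ext hem hee using hext
  set c := toAut F Q hQ.1 with hc
  let R : Setoid (F.autGroup Q ⧸ c.range) :=
    { r := fun t t' => ∃ u, c u • t = t'
      iseqv :=
        { refl := fun t => ⟨1, by rw [map_one, one_smul]⟩
          symm := fun {t t'} ⟨u, hu⟩ => ⟨u⁻¹, by rw [map_inv, ← hu, inv_smul_smul]⟩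
          trans := fun {t t' t''} ⟨u, hu⟩ ⟨v, hv⟩ => ⟨v * u, by rw [map_mul, mul_smul, hu, hv]⟩ } }
  have hs : ∀ t, ∃ u, c u • ((Quotient.out (Quotient.mk R t)).out : F.autGroup Q ⧸ c.range) = t := by
    intro t
    rw [QuotientGroup.out_eq']
    exact Quotient.mk_out (s := R) t
  choose s hs using hs
  exact ⟨{
    le := hQ.1
    g := fun t => (Quotient.out (Quotient.mk R t)).out
    s := s
    ext := ext
    g_eq := fun u t => congrArg (fun x => (Quotient.out x).out)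
      (Quotient.sound (s := R) ⟨u, rfl⟩).symm
    s_eq := hs
    ext_map := hem
    ext_eq := hee }⟩

namespace LocalData

variable (D : LocalData F Q)

/-- The map to `Aut_F(Q)`. -/
abbrev c : normalizerIn S Q →* F.autGroup Q := toAut F Q D.le

/-- The coset space. -/
abbrev Cst := F.autGroup Q ⧸ D.c.range

/-- The representatives. -/
def r (t : D.Cst) : F.autGroup Q := D.c (D.s t) * D.g t

theorem r_eq (t : D.Cst) : (D.r t : D.Cst) = t := D.s_eq t

theorem mem_extSub_of_fix {g : F.autGroup Q} {v : normalizerIn S Q}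
    (h : D.c v • (g : D.Cst) = g) :
    (v : Ω) ∈ extSub S Q (autFun ((g⁻¹ : F.autGroup Q) : MulAut Q)) := by
  have h1 : g⁻¹ * D.c v * g ∈ D.c.range := by
    have h2 : ((D.c v * g : F.autGroup Q) : D.Cst) = g := h
    rw [mul_assoc, ← QuotientGroup.eq, h2]
  obtain ⟨k, hk⟩ := h1
  refine ⟨v.2, k, k.2.1, fun y hy => ?_⟩
  rw [← autFun_toAut D.le v hy, ← autFun_toAut D.le k (autFun_mem _ hy), ← autFun_mul _ _ hy,
    ← autFun_mul _ _ hy, ← Subgroup.coe_mul, ← Subgroup.coe_mul,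
    show toAut F Q D.le k = g⁻¹ * D.c v * g from hk]
  congr 2
  group

theorem img_ext (a : F.autGroup Q) : img Q (D.ext a) = Q :=
  (IsMap.img_congr (D.ext_eq a)).trans (img_autFun _)

/-- The extension of `a` on its extender, with values in `N_S(Q)`. -/
noncomputable def extT (a : F.autGroup Q) (v : normalizerIn S Q) : normalizerIn S Q :=
  if h : (v : Ω) ∈ extSub S Q (autFun (a : MulAut Q)) then
    ⟨D.ext a v, by
      have := map_mem_normalizerIn (D.ext_map a) (le_extSub ((mem_autGroup_iff D.le).1 a.2)) h v.2.2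
      rwa [D.img_ext a] at this⟩
  else 1

theorem coe_extT {a : F.autGroup Q} {v : normalizerIn S Q}
    (h : (v : Ω) ∈ extSub S Q (autFun (a : MulAut Q))) : (D.extT a v : Ω) = D.ext a v := by
  rw [extT, dif_pos h]

theorem extT_mul {a : F.autGroup Q} {v w : normalizerIn S Q}
    (hv : (v : Ω) ∈ extSub S Q (autFun (a : MulAut Q)))
    (hw : (w : Ω) ∈ extSub S Q (autFun (a : MulAut Q))) :
    D.extT a (v * w) = D.extT a v * D.extT a w := by
  apply Subtype.ext
  rw [Subgroup.coe_mul, D.coe_extT hv, D.coe_extT hw, D.coe_extT (show ((v * w : normalizerIn S Q) : Ω) ∈ _ from mul_mem hv hw)]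
  exact (D.ext_map a).map_mul hv hw

theorem c_extT {a : F.autGroup Q} {v : normalizerIn S Q}
    (h : (v : Ω) ∈ extSub S Q (autFun (a : MulAut Q))) : D.c (D.extT a v) = a * D.c v * a⁻¹ := by
  refine Subtype.ext (autFun_ext fun y hy => ?_)
  obtain ⟨x, hx, rfl⟩ : ∃ x ∈ Q, autFun (a : MulAut Q) x = y :=
    ((mem_autGroup_iff D.le).1 a.2).mem_img.1 ((img_autFun _).ge hy)
  have hQE : Q ≤ extSub S Q (autFun (a : MulAut Q)) := le_extSub ((mem_autGroup_iff D.le).1 a.2)
  rw [autFun_toAut D.le _ hy, D.coe_extT h]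
  simp only [Subgroup.coe_mul, Subgroup.coe_inv]
  rw [← autFun_mul _ _ hx, inv_mul_cancel_right, autFun_mul _ _ hx, autFun_toAut D.le v hx,
    ← D.ext_eq a x hx, ← D.ext_eq a _ ((Subgroup.mem_normalizer_iff.1 v.2.2 x).1 hx),
    (D.ext_map a).map_conj h (hQE hx)]

/-- The component of `u` at `t`. -/
noncomputable def comp (u : normalizerIn S Q) (t : D.Cst) : normalizerIn S Q :=
  D.extT (D.g t)⁻¹ ((D.s (D.c u • t))⁻¹ * u * D.s t)

theorem comp_arg_fix (u : normalizerIn S Q) (t : D.Cst) :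
    D.c ((D.s (D.c u • t))⁻¹ * u * D.s t) • (D.g t : D.Cst) = D.g t := by
  have h1 := D.s_eq (D.c u • t)
  rw [D.g_eq u t] at h1
  rw [map_mul, map_mul, map_inv, mul_smul, mul_smul, D.s_eq, inv_smul_eq_iff, h1]

theorem comp_arg_mem (u : normalizerIn S Q) (t : D.Cst) :
    (((D.s (D.c u • t))⁻¹ * u * D.s t : normalizerIn S Q) : Ω) ∈
      extSub S Q (autFun (((D.g t)⁻¹ : F.autGroup Q) : MulAut Q)) :=
  D.mem_extSub_of_fix (D.comp_arg_fix u t)

theorem c_comp (u : normalizerIn S Q) (t : D.Cst) :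
    D.c (D.comp u t) = (D.r (D.c u • t))⁻¹ * D.c u * D.r t := by
  rw [comp, D.c_extT (D.comp_arg_mem u t), r, r, D.g_eq, map_mul, map_mul, map_inv]
  group

theorem comp_mul (u v : normalizerIn S Q) (t : D.Cst) :
    D.comp (u * v) t = D.comp u (D.c v • t) * D.comp v t := by
  have hv := D.comp_arg_mem v t
  have hu := D.comp_arg_mem u (D.c v • t)
  rw [D.g_eq v t] at hu
  rw [comp, comp, comp, map_mul, mul_smul, D.g_eq v t, ← D.extT_mul hu hv]
  congr 1
  group

/-- The lift of `N_S(Q)`. -/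
noncomputable def θ : normalizerIn S Q →* Mon D.c D.r :=
  MonoidHom.mk' (fun u => ⟨D.c u, D.comp u, D.c_comp u⟩) fun u v => by
    refine Mon.ext (map_mul D.c u v) (funext fun t => ?_)
    exact D.comp_mul u v t

theorem θ_j (q : Q) (t : D.Cst) :
    (D.θ (Subgroup.inclusion (le_normalizerIn D.le) q)).p t =
      Subgroup.inclusion (le_normalizerIn D.le) (((D.r t)⁻¹ : F.autGroup Q).1 q) := by
  set j := Subgroup.inclusion (le_normalizerIn (S := S) D.le) with hj
  have hinj : ∀ q', ((D.c (D.s t))⁻¹ : F.autGroup Q).1 q' = ((D.c (D.s t)⁻¹ : F.autGroup Q) : MulAut Q) q' :=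
    fun q' => by rw [map_inv]
  have hq : ∀ a : F.autGroup Q, ∀ q' : Q,
      D.c (j ((a : MulAut Q) q')) = a * D.c (j q') * a⁻¹ := fun a q' => by
    refine Subtype.ext (autFun_ext fun y hy => ?_)
    rw [autFun_toAut D.le _ hy]
    simp only [Subgroup.coe_mul, Subgroup.coe_inv]
    rw [autFun_mul _ _ hy, autFun_mul _ _ (autFun_mem _ hy), autFun_toAut D.le _ (autFun_mem _ hy)]
    simp only [hj, Subgroup.coe_inclusion]
    rw [autFun_map_mul _ (mul_mem q'.2 (autFun_mem _ hy)) (inv_mem q'.2),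
      autFun_map_mul _ q'.2 (autFun_mem _ hy), ← autFun_mul _ _ hy, mul_inv_cancel, autFun_one hy]
    show ((((a : MulAut Q) q') : Q) : Ω) * y * ((((a : MulAut Q) q') : Q) : Ω)⁻¹ = _
    rw [← autFun_coe (a : MulAut Q) q']
    congr 1
    rw [← Subgroup.coe_inv, autFun_coe, autFun_coe, map_inv, Subgroup.coe_inv]
  have ht : D.c (j q) • t = t := by
    conv_lhs => rw [← D.r_eq t]
    conv_rhs => rw [← D.r_eq t]
    refine (QuotientGroup.eq (s := D.c.range)).2 ⟨j (((D.r t)⁻¹ : F.autGroup Q).1 q⁻¹), ?_⟩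
    rw [hq, map_inv, map_inv, inv_inv]
    simp only [smul_eq_mul]
    group
  show D.comp (j q) t = _
  apply Subtype.ext
  have harg : (D.s (D.c (j q) • t))⁻¹ * j q * D.s t = j (((D.c (D.s t))⁻¹ : F.autGroup Q).1 q) := by
    rw [ht, hinj, toAut_act, inv_inv]
  rw [comp, D.coe_extT (D.comp_arg_mem _ t), harg]
  show D.ext (D.g t)⁻¹ ((((D.c (D.s t))⁻¹ : F.autGroup Q).1 q : Q) : Ω) = _
  rw [D.ext_eq _ _ (SetLike.coe_mem _), autFun_coe, r, mul_inv_rev]
  rfl

end LocalData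

section Model

variable [Finite S] {p : ℕ} [Fact p.Prime]

/-- The local model theorem. -/
theorem exists_local_model (hS : IsPGroup p S) (hF : F.IsSaturated p) (hQ : F.IsFullyNormalized Q)
    (hc : F.IsCentric Q) {E : FusionSystem (normalizerIn S Q)} (hE : F.IsNormalizerSystem Q E) :
    ∃ (L : Type u) (_ : Group L) (ι : normalizerIn S Q →* L), E.IsModel p L ι ∧
      ((Q.subgroupOf (normalizerIn S Q)).map ι).Normal := by
  obtain ⟨D⟩ := exists_localData hS hF hQ
  have hQS := D.le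
  haveI := finite_of_le hQS
  haveI := finite_of_le (S := S) (P := normalizerIn S Q) inf_le_left
  haveI := finite_mulAut (P := Q)
  have hC := centralizerIn_le_of_isCentric hc
  have hidx : ¬ p ∣ Nat.card D.Cst := by
    show ¬ p ∣ D.c.range.index
    rw [show D.c.range = _ from range_toAut D.le]
    exact ((isFullyAutomized_iff hS).1 (IsSaturated.automized_receptive hS hF hQ).1).2
  have hcop : (Nat.card (Subgroup.center Q)).Coprime (Nat.card D.Cst) := by
    obtain ⟨k, hk⟩ := ((hS.to_le hQS).to_subgroup (Subgroup.center Q)).exists_card_eq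
    rw [hk]
    exact Nat.Coprime.pow_left k ((Fact.out : p.Prime).coprime_iff_not_dvd.2 hidx)
  let M : Mon.NormData D.c D.r Q :=
    { j := Subgroup.inclusion (le_normalizerIn D.le)
      act := (F.autGroup Q).subtype
      j_inj := Subgroup.inclusion_injective _
      act_inj := Subtype.val_injective
      act_c := toAut_act (F := F) D.le
      ker_le := toAut_ker_le D.le hC
      hr := D.r_eq
      θ := D.θ
      θ_x := fun _ => rfl
      θ_p := D.θ_j
      coprime := hcop }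
  haveI := M.finite_L
  refine ⟨M.L, inferInstance, M.ι, ⟨M.finite_L, ⟨M.ι_injective, fun P hP φ hφ => ?_⟩, ?_, ?_⟩, ?_⟩
  rotate_left
  · refine ⟨(((hS.to_le (inf_le_left : normalizerIn S Q ≤ S)).to_subgroup ⊤).map M.ι).toSylow ?_, ?_⟩
    · have e : Subgroup.map M.ι ⊤ = M.ι.range := (MonoidHom.range_eq_map M.ι).symm
      show ¬ p ∣ (Subgroup.map M.ι ⊤).index
      exact fun hd => hidx (by rwa [congrArg Subgroup.index e, M.index_range_ι] at hd)
    · show Subgroup.map M.ι ⊤ = M.ι.range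
      rw [← MonoidHom.range_eq_map]
  · -- self-centralizing core
    have hn : ((Q.subgroupOf (normalizerIn S Q)).map M.ι).Normal := by
      refine ⟨fun a ha l => ?_⟩
      obtain ⟨v, hv, rfl⟩ := ha
      obtain ⟨q, rfl⟩ : ∃ q : Q, M.j q = v := ⟨⟨v, hv⟩, rfl⟩
      rw [M.conj_ι_j']
      exact ⟨_, SetLike.coe_mem (M.act (M.toX l) q), rfl⟩
    haveI := hn
    have hp : IsPGroup p ((Q.subgroupOf (normalizerIn S Q)).map M.ι) :=
      ((hS.to_le inf_le_left).to_subgroup _).map _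
    refine le_trans (Subgroup.centralizer_le (CfsgLib.Coprime.le_pCore hp)) (le_trans ?_
      (CfsgLib.Coprime.le_pCore hp))
    intro l hl
    have h1 : M.toX l = 1 := M.act_inj (by
      rw [map_one]
      refine MulEquiv.ext fun q => ?_
      have hm : M.ι (M.j q) ∈ (Q.subgroupOf (normalizerIn S Q)).map M.ι := ⟨M.j q, q.2, rfl⟩
      have e := M.conj_ι_j' l q
      rw [← Subgroup.mem_centralizer_iff.1 hl _ hm, mul_inv_cancel_right] at e
      exact (M.j_inj (M.ι_injective e)).symm)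
    obtain ⟨z, rfl⟩ := M.exists_center_of_toX_eq_one h1
    exact ⟨M.j z, (z : Q).2, rfl⟩
  · refine ⟨fun a ha l => ?_⟩
    obtain ⟨v, hv, rfl⟩ := ha
    obtain ⟨q, rfl⟩ : ∃ q : Q, M.j q = v := ⟨⟨v, hv⟩, rfl⟩
    rw [M.conj_ι_j']
    exact ⟨_, SetLike.coe_mem (M.act (M.toX l) q), rfl⟩
  -- the realization
  have hPS : P ≤ S := hP.trans inf_le_left
  have hPQ : P ⊔ Q ≤ normalizerIn S Q := sup_le hP (le_normalizerIn hQS)
  -- every automorphism with an extension is realized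
  have real : ∀ (ψ : Ω → Ω), IsMap F (P ⊔ Q) ψ → img Q ψ = Q → ∃ w : M.L,
      (∀ q : Q, (M.act (M.toX w) q : Ω) = ψ q) ∧
      ∀ u : (P ⊔ Q : Subgroup Ω), ∀ h : ψ u ∈ normalizerIn S Q,
        M.ι ⟨ψ u, h⟩ = w * M.ι ⟨u, hPQ u.2⟩ * w⁻¹ := by
    intro ψ hψ hψQ
    have hψQ' := hψ.mono (le_sup_right : Q ≤ P ⊔ Q)
    set x : F.autGroup Q := ⟨autOf hψQ' hψQ, autOf_mem hψQ' hψQ⟩ with hx
    have hxq : ∀ y ∈ Q, autFun (x : MulAut Q) y = ψ y := fun y hy => autFun_autOf hψQ' hψQ hy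
    have hval : ∀ u ∈ P ⊔ Q, ψ u ∈ normalizerIn S Q := fun u hu => by
      have := map_mem_normalizerIn hψ le_sup_right hu ((hPQ hu).2)
      rwa [hψQ] at this
    let ψT : (P ⊔ Q : Subgroup Ω) →* normalizerIn S Q :=
      MonoidHom.mk' (fun u => ⟨ψ u, hval u u.2⟩) fun u v => Subtype.ext (hψ.map_mul u.2 v.2)
    let incl := Subgroup.inclusion hPQ
    have hcψ : ∀ u, D.c (ψT u) = x * D.c (incl u) * x⁻¹ := by
      intro u
      rw [eq_mul_inv_iff_mul_eq]
      refine Subtype.ext (autFun_ext fun y hy => ?_)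
      simp only [Subgroup.coe_mul]
      rw [autFun_mul _ _ hy, autFun_mul _ _ hy, autFun_toAut D.le _ (autFun_mem _ hy),
        autFun_toAut D.le _ hy]
      simp only [incl, Subgroup.coe_inclusion]
      rw [hxq y hy, hxq _ ((Subgroup.mem_normalizer_iff.1 (hPQ u.2).2 y).1 hy)]
      show ψ u * ψ y * (ψ u)⁻¹ = ψ (u * y * (u : Ω)⁻¹)
      rw [hψ.map_conj u.2 ((le_sup_right : Q ≤ P ⊔ Q) hy)]
    set w := Mon.lift M.hr x with hw
    have hwx : w.x = x := Mon.lift_x M.hr x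
    let a : (P ⊔ Q : Subgroup Ω) →* Mon D.c D.r := D.θ.comp incl
    let b : (P ⊔ Q : Subgroup Ω) →* Mon D.c D.r :=
      (MulAut.conj w⁻¹).toMonoidHom.comp (D.θ.comp ψT)
    have hbx : ∀ u, (a u).x = (b u).x := by
      intro u
      show D.c (incl u) = w.x⁻¹ * D.c (ψT u) * w.x⁻¹⁻¹
      rw [hcψ u, hwx]
      group
    have hloc : ∀ t, ∃ z ∈ D.c.ker, ∀ u, (a u).x • t = t → (b u).p t * z = z * (a u).p t := by
      intro t
      let H : Subgroup Ω := ((MulAction.stabilizer (F.autGroup Q) t).comap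
        (D.c.comp incl)).map (P ⊔ Q).subtype
      have hHle : H ≤ P ⊔ Q := Subgroup.map_subtype_le _
      have hmem : ∀ {y : Ω}, y ∈ H → ∃ hy : y ∈ P ⊔ Q, D.c (incl ⟨y, hy⟩) • t = t := by
        rintro y ⟨u, hu, rfl⟩
        exact ⟨u.2, hu⟩
      have hQH : Q ≤ H := by
        intro q hq
        refine ⟨⟨q, (le_sup_right : Q ≤ P ⊔ Q) hq⟩, ?_, rfl⟩
        exact Mon.NormData.smul_c_j M ⟨q, hq⟩ t
      -- the two components as maps of `F`
      set t' := x • t with ht'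
      set wp : Ω := (w.p t : Ω) with hwp
      let fa : Ω → Ω := fun y => D.ext (D.g t)⁻¹ ((D.s t : Ω)⁻¹ * y * (D.s t : Ω))
      let fb : Ω → Ω := fun y =>
        wp⁻¹ * D.ext (D.g t')⁻¹ ((D.s t' : Ω)⁻¹ * ψ y * (D.s t' : Ω)) * wp
      have hfix' : ∀ (y : Ω) (hy : y ∈ P ⊔ Q), D.c (incl ⟨y, hy⟩) • t = t →
          D.c (ψT ⟨y, hy⟩) • t' = t' := fun y hy hyt => by
        rw [hcψ, mul_smul, mul_smul, ht', inv_smul_smul, hyt]
      have hargb : ∀ y ∈ H, (D.s t' : Ω)⁻¹ * ψ y * (D.s t' : Ω) ∈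
          extSub S Q (autFun (((D.g t')⁻¹ : F.autGroup Q) : MulAut Q)) := by
        intro y hy
        obtain ⟨hy', hyt⟩ := hmem hy
        have h1 := D.comp_arg_mem (ψT ⟨y, hy'⟩) t'
        rw [hfix' y hy' hyt] at h1
        exact h1
      have harga : ∀ y ∈ H, (D.s t : Ω)⁻¹ * y * (D.s t : Ω) ∈
          extSub S Q (autFun (((D.g t)⁻¹ : F.autGroup Q) : MulAut Q)) := by
        intro y hy
        obtain ⟨hy', hyt⟩ := hmem hy
        have h1 := D.comp_arg_mem (incl ⟨y, hy'⟩) t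
        rw [hyt] at h1
        exact h1
      have hHS : H ≤ S := hHle.trans (hPQ.trans inf_le_left)
      have hfa : IsMap F H fa := by
        have h1 := ((isMap_conj (F := F) hHS (S.inv_mem (D.s t).2.1)).congr
          (g := fun y => (D.s t : Ω)⁻¹ * y * (D.s t : Ω)) fun y _ => by simp)
        exact h1.comp (D.ext_map _) harga
      have hfb : IsMap F H fb := by
        have h1 : IsMap F H (fun y => (D.s t' : Ω)⁻¹ * ψ y * (D.s t' : Ω)) :=
          (((hψ.mono hHle).comp (isMap_conj le_rfl (S.inv_mem (D.s t').2.1))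
            fun y hy => hψ.mem_S (hHle hy))).congr fun y _ => by simp
        have h2 := h1.comp (D.ext_map _) hargb
        exact (h2.comp (isMap_conj le_rfl (S.inv_mem (w.p t).2.1))
          fun y hy => h2.mem_S hy).congr fun y _ => by simp [fb, wp]
      have hva : ∀ (y : Ω) (hy : y ∈ P ⊔ Q), D.c (incl ⟨y, hy⟩) • t = t →
          ((a ⟨y, hy⟩).p t : Ω) = fa y := by
        intro y hy hyt
        show (D.comp (incl ⟨y, hy⟩) t : Ω) = _
        rw [LocalData.comp, D.coe_extT (D.comp_arg_mem _ t), hyt]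
        rfl
      have hvb : ∀ (y : Ω) (hy : y ∈ P ⊔ Q), D.c (incl ⟨y, hy⟩) • t = t →
          ((b ⟨y, hy⟩).p t : Ω) = fb y := by
        intro y hy hyt
        show ((w⁻¹ * D.θ (ψT ⟨y, hy⟩) * w⁻¹⁻¹).p t : Ω) = _
        rw [inv_inv, Mon.mul_p, Mon.mul_p, Mon.inv_p, hwx, ← ht',
          show (D.θ (ψT ⟨y, hy⟩)).x = D.c (ψT ⟨y, hy⟩) from rfl, hfix' y hy hyt,
          show x⁻¹ • t' = t from inv_smul_smul x t,
          show (D.θ (ψT ⟨y, hy⟩)).p t' = D.comp (ψT ⟨y, hy⟩) t' from rfl,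
          Subgroup.coe_mul, Subgroup.coe_mul, Subgroup.coe_inv, LocalData.comp,
          D.coe_extT (D.comp_arg_mem _ t'), hfix' y hy hyt]
        rfl
      have hagree : ∀ q ∈ Q, fa q = fb q := by
        intro q hq
        have hqP := (le_sup_right : Q ≤ P ⊔ Q) hq
        have hqt : D.c (incl ⟨q, hqP⟩) • t = t := Mon.NormData.smul_c_j M ⟨q, hq⟩ t
        rw [← hva q hqP hqt, ← hvb q hqP hqt]
        congr 1
        have e1 : incl ⟨q, hqP⟩ = M.j ⟨q, hq⟩ := rfl
        have e2 : ψT ⟨q, hqP⟩ = M.j (M.act x ⟨q, hq⟩) :=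
          Subtype.ext ((hxq q hq).symm.trans (autFun_apply _ hq))
        show (D.θ (incl _)).p t = (w⁻¹ * D.θ (ψT _) * w⁻¹⁻¹).p t
        rw [e1, e2, inv_inv]
        have e3 : M.θ (M.j ⟨q, hq⟩) = w⁻¹ * M.θ (M.j (M.act x ⟨q, hq⟩)) * w := by
          rw [← hwx, ← M.conj_ι_j w ⟨q, hq⟩]
          group
        exact congrArg (fun v : Mon D.c D.r => v.p t) e3
      obtain ⟨z, hzQ, hzC, hzy⟩ := exists_eq_conj_of_agree hS hF hQH hc hfa hfb hagree
      have hzP := (le_sup_right : Q ≤ P ⊔ Q) hzQ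
      refine ⟨(a ⟨z, hzP⟩).p t, ?_, fun u hu => ?_⟩
      · show D.c (D.comp (incl ⟨z, hzP⟩) t) = 1
        have hz1 : D.c (incl ⟨z, hzP⟩) = 1 := by
          refine Subtype.ext (autFun_ext fun y hy => ?_)
          rw [autFun_toAut D.le _ hy, Subgroup.coe_one, autFun_one hy]
          exact mem_centralizer_iff'.1 hzC y hy
        rw [D.c_comp, hz1, one_smul, mul_one, inv_mul_cancel]
      · obtain ⟨y, hy⟩ := u
        have hyH : y ∈ H := ⟨⟨y, hy⟩, hu, rfl⟩
        apply Subtype.ext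
        rw [Subgroup.coe_mul, Subgroup.coe_mul, hvb y hy hu, hva y hy hu,
          hva z hzP (Mon.NormData.smul_c_j M ⟨z, hzQ⟩ t), hzy y hyH,
          hfa.map_conj (hQH hzQ) hyH, inv_mul_cancel_right]
    obtain ⟨e, he, heq⟩ := Mon.exists_conj a b hbx hloc
    refine ⟨((w * e : Mon D.c D.r) : M.L), fun q => ?_, fun u h => ?_⟩
    · show (((w * e).x : MulAut Q) q : Ω) = ψ q
      rw [Mon.mul_x, he, mul_one, hwx, ← autFun_coe, hxq q q.2]
    · have h1 : D.θ (ψT u) * (w * e) = w * e * D.θ (incl u) := by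
        have h2 := heq u
        have h3 : w⁻¹ * D.θ (ψT u) * w⁻¹⁻¹ * e = e * D.θ (incl u) := h2
        calc D.θ (ψT u) * (w * e) = w * (w⁻¹ * D.θ (ψT u) * w⁻¹⁻¹ * e) := by group
          _ = _ := by rw [h3]; group
      rw [eq_mul_inv_iff_mul_eq]
      exact congrArg (QuotientGroup.mk' M.normKer) h1
  constructor
  · intro h
    obtain ⟨-, -, ψ, hψ, hψφ, hψQ⟩ := (isMap_of_isNormalizerSystem hE).1 (isMap_toFun h)
    obtain ⟨w, -, hw⟩ := real ψ hψ hψQ
    refine ⟨w, fun u => ?_⟩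
    have hu : ψ u = φ u := (hψφ u u.2).trans (toFun_coe φ u)
    have h1 := hw ⟨u, (le_sup_left : P ≤ P ⊔ Q) u.2⟩ (by rw [hu]; exact hφ u)
    calc M.ι ⟨φ u, hφ u⟩ = M.ι ⟨ψ u, by rw [hu]; exact hφ u⟩ := congrArg M.ι (Subtype.ext hu.symm)
      _ = _ := h1
  · rintro ⟨l, hl⟩
    set x := M.toX l with hx
    have hxm := (mem_autGroup_iff D.le).1 x.2
    have hPE : P ≤ extSub S Q (autFun (x : MulAut Q)) := by
      intro u hu
      have e : D.c ⟨φ ⟨u, hu⟩, hφ _⟩ = x * D.c ⟨u, hP hu⟩ * x⁻¹ := by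
        have := congrArg M.toX (hl ⟨u, hu⟩)
        rwa [map_mul, map_mul, map_inv, M.toX_ι, M.toX_ι] at this
      refine ⟨hP hu, φ ⟨u, hu⟩, (hφ _).1, fun y hy => ?_⟩
      rw [← autFun_toAut (F := F) D.le ⟨φ ⟨u, hu⟩, hφ _⟩ (autFun_mem _ hy),
        ← autFun_toAut (F := F) D.le ⟨u, hP hu⟩ hy, ← autFun_mul _ _ hy, ← autFun_mul _ _ hy,
        ← Subgroup.coe_mul, ← Subgroup.coe_mul]
      show _ = autFun ((D.c ⟨φ ⟨u, hu⟩, hφ _⟩ * x : F.autGroup Q) : MulAut Q) y
      rw [e, inv_mul_cancel_right]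
    have hsup : P ⊔ Q ≤ extSub S Q (autFun (x : MulAut Q)) := sup_le hPE (le_extSub hxm)
    obtain ⟨g, hg, hgx⟩ := (isReceptive_iff.1 (IsSaturated.automized_receptive hS hF hQ).2).2 Q _
      hxm (img_autFun _)
    have hgQ : img Q g = Q := (IsMap.img_congr hgx).trans (img_autFun _)
    obtain ⟨w, hwq, hw⟩ := real g (hg.mono hsup) hgQ
    have hwl : M.toX (w⁻¹ * l) = 1 := by
      rw [map_mul, map_inv, inv_mul_eq_one]
      refine M.act_inj (MulEquiv.ext fun q => Subtype.ext ?_)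
      rw [hwq q, hgx q q.2, autFun_coe]
      rfl
    obtain ⟨z, hz⟩ := M.exists_center_of_toX_eq_one hwl
    have hzQ : ((z : Q) : Ω) ∈ Q := (z : Q).2
    have hzP : ((z : Q) : Ω) ∈ P ⊔ Q := (le_sup_right : Q ≤ P ⊔ Q) hzQ
    have hconj : IsMap F (P ⊔ Q) (fun y => ((z : Q) : Ω) * y * ((z : Q) : Ω)⁻¹) :=
      isMap_conj (hPQ.trans inf_le_left) (hQS hzQ)
    have hzconj : ∀ y ∈ P ⊔ Q, ((z : Q) : Ω) * y * ((z : Q) : Ω)⁻¹ ∈ P ⊔ Q :=
      fun y hy => mul_mem (mul_mem hzP hy) (inv_mem hzP)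
    refine mem_hom_of_isMap (f := g ∘ fun y => ((z : Q) : Ω) * y * ((z : Q) : Ω)⁻¹)
      ((isMap_of_isNormalizerSystem hE).2 ⟨hP, ?_, g ∘ fun y => ((z : Q) : Ω) * y * ((z : Q) : Ω)⁻¹,
        hconj.comp (hg.mono hsup) hzconj, fun _ _ => rfl, ?_⟩) fun u => ?_
    · intro y hy
      have := map_mem_normalizerIn (hg.mono hsup) le_sup_right
        (hzconj y ((le_sup_left : P ≤ P ⊔ Q) hy)) (hPQ (hzconj y ((le_sup_left : P ≤ P ⊔ Q) hy))).2
      rwa [hgQ] at this
    · refine img_eq_of_map_le hQS (hconj.comp (hg.mono hsup) hzconj) le_sup_right fun y hy => ?_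
      exact mem_of_img_eq (hg.mono hsup) le_sup_right hgQ (mul_mem (mul_mem hzQ hy) (inv_mem hzQ))
    · have hu := (le_sup_left : P ≤ P ⊔ Q) u.2
      have hm : g (((z : Q) : Ω) * u * ((z : Q) : Ω)⁻¹) ∈ normalizerIn S Q := by
        have := map_mem_normalizerIn (hg.mono hsup) le_sup_right (hzconj u hu) (hPQ (hzconj u hu)).2
        rwa [hgQ] at this
      have key : M.ι ⟨φ u, hφ u⟩ = M.ι ⟨_, hm⟩ := by
        rw [hl u, hw ⟨_, hzconj u hu⟩ hm]
        have el : l = w * M.ι (M.j z) := by rw [hz, mul_inv_cancel_left]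
        rw [el, show (⟨((z : Q) : Ω) * u * ((z : Q) : Ω)⁻¹, hPQ (hzconj u hu)⟩ : normalizerIn S Q) =
          M.j z * ⟨u, hP u.2⟩ * (M.j z)⁻¹ from rfl, map_mul, map_mul, map_inv]
        group
      exact congrArg Subtype.val (M.ι_injective key)

end Model

end CfsgLib.Fusion
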