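import Cfsg.Agent.Lib.Fusion.System.Factor

/-!
# Construction of the factor system modulo a normal subgroup
-/

set_option autoImplicit false
set_option linter.style.haveILetI false

open Subgroup
open scoped Classical

namespace CfsgLib.Fusion

open Cfsg (FusionSystem)
open Cfsg.FusionSystem (normalizerIn centralizerIn preimageAlong imageAlong InducedAlong)

variable {Ω Ω' : Type*} [Group Ω] [Group Ω'] {S : Subgroup Ω}
  {F : FusionSystem S} {α : S →* Ω'} {P Q : Subgroup Ω} {P' Q' : Subgroup Ω'}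
  {f g : Ω → Ω} {f' : Ω' → Ω'}

/-- Maps induced on the image of `α` by maps of `F` on full preimages. -/
def QMap (F : FusionSystem S) (α : S →* Ω') (P' : Subgroup Ω') (f' : Ω' → Ω') : Prop :=
  P' ≤ α.range ∧ ∃ f, IsMap F (preimageAlong α P') f ∧
    ∀ x ∈ preimageAlong α P', f' (ext1 α x) = ext1 α (f x)

theorem ext1_eq_iff {x y : Ω} (hx : x ∈ S) (hy : y ∈ S) :
    ext1 α x = ext1 α y ↔ x⁻¹ * y ∈ preimageAlong α ⊥ := by
  rw [mem_preimageAlong, ext1_mul α (S.inv_mem hx) hy, ext1_inv α hx, Subgroup.mem_bot,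
    inv_mul_eq_one]
  exact ⟨fun h => ⟨S.mul_mem (S.inv_mem hx) hy, h⟩, fun h => h.2⟩

theorem exists_preimage (hP' : P' ≤ α.range) {y : Ω'} (hy : y ∈ P') :
    ∃ x ∈ preimageAlong α P', ext1 α x = y := by
  obtain ⟨s, rfl⟩ := hP' hy
  exact ⟨s, mem_preimageAlong.2 ⟨s.2, by rwa [ext1_coe]⟩, ext1_coe α s⟩

theorem preimageAlong_imgι_le (hP : P ≤ S) :
    preimageAlong α (imgι α P) ≤ P ⊔ preimageAlong α ⊥ := by
  intro z hz
  obtain ⟨hzS, hz'⟩ := mem_preimageAlong.1 hz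
  obtain ⟨x, hx, hxz⟩ := (mem_imgι hP).1 hz'
  have h := mul_mem (Subgroup.mem_sup_left (T := preimageAlong α ⊥) hx)
    (Subgroup.mem_sup_right ((ext1_eq_iff (hP hx) hzS).1 hxz))
  rwa [mul_inv_cancel_left] at h

variable [Finite S] (hK : F.IsNormal (preimageAlong α ⊥))
include hK

theorem kernel_map_mem (hf : IsMap F P f) (hKP : preimageAlong α ⊥ ≤ P) {x : Ω}
    (hx : x ∈ preimageAlong α ⊥) : f x ∈ preimageAlong α ⊥ :=
  (stronglyClosed_iff.1 (stronglyClosed_of_isNormal hK)).2 _ _ le_rfl (hf.mono hKP) x hx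

theorem kernel_le_img_map (hf : IsMap F P f) (hKP : preimageAlong α ⊥ ≤ P) :
    preimageAlong α ⊥ ≤ img P f :=
  (img_eq_of_map_le hK.1 hf hKP fun _ hx => kernel_map_mem hK hf hKP hx).ge.trans
    (hf.img_mono hKP)

theorem ext1_map_eq_iff (hf : IsMap F P f) (hKP : preimageAlong α ⊥ ≤ P) {x y : Ω}
    (hx : x ∈ P) (hy : y ∈ P) : ext1 α (f x) = ext1 α (f y) ↔ ext1 α x = ext1 α y := by
  have hxy := mul_mem (inv_mem hx) hy
  have e : f (x⁻¹ * y) = (f x)⁻¹ * f y := by rw [hf.map_mul (inv_mem hx) hy, hf.map_inv hx]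
  rw [ext1_eq_iff (hf.mem_S hx) (hf.mem_S hy), ext1_eq_iff (hf.le hx) (hf.le hy), ← e]
  refine ⟨fun h => ?_, fun h => kernel_map_mem hK hf hKP h⟩
  obtain ⟨z, hz, hze⟩ := (hf.mono hKP).mem_img.1
    ((img_eq_of_map_le hK.1 hf hKP fun _ hx => kernel_map_mem hK hf hKP hx).ge h)
  rwa [← hf.inj (hKP hz) hxy hze]

theorem exists_qMap (hP' : P' ≤ α.range) (hf : IsMap F (preimageAlong α P') f) :
    ∃ φ' : P' →* Ω', QMap F α P' (toFun φ') ∧
      ∀ x ∈ preimageAlong α P', toFun φ' (ext1 α x) = ext1 α (f x) := by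
  set R := preimageAlong α P'
  have hKR : preimageAlong α ⊥ ≤ R := preimageAlong_mono bot_le
  choose c hc hce using fun y : P' => exists_preimage hP' y.2
  let φ : P' →* Ω' := MonoidHom.mk' (fun y => ext1 α (f (c y))) fun a b => by
    rw [← ext1_mul α (hf.mem_S (hc a)) (hf.mem_S (hc b)), ← hf.map_mul (hc a) (hc b),
      ext1_map_eq_iff hK hf hKR (hc _) (mul_mem (hc a) (hc b)),
      ext1_mul α (hf.le (hc a)) (hf.le (hc b)), hce, hce, hce]
    rfl
  have h : ∀ x ∈ R, toFun φ (ext1 α x) = ext1 α (f x) := fun x hx => by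
    rw [toFun_apply φ (mem_preimageAlong.1 hx).2]
    exact (ext1_map_eq_iff hK hf hKR (hc _) hx).2 (hce _)
  exact ⟨φ, ⟨hP', f, hf, h⟩, h⟩

/-- The factor system of `F` modulo the kernel of `α`, on the image of `α`. -/
noncomputable def quotientSystem : FusionSystem α.range where
  Hom P' := {φ' | QMap F α P' (toFun φ')}
  le_of_mem {P' φ'} := by
    rintro ⟨hP', f, hf, he⟩
    refine ⟨hP', fun y => ?_⟩
    obtain ⟨x, hx, hxy⟩ := exists_preimage hP' y.2
    rw [← toFun_coe φ' y, ← hxy, he x hx]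
    exact ext1_mem_range α _
  injective_of_mem {P' φ'} := by
    rintro ⟨hP', f, hf, he⟩ a b hab
    obtain ⟨x, hx, hxa⟩ := exists_preimage hP' a.2
    obtain ⟨y, hy, hyb⟩ := exists_preimage hP' b.2
    refine Subtype.ext ?_
    rw [← hxa, ← hyb, ← ext1_map_eq_iff hK hf (preimageAlong_mono bot_le) hx hy, ← he x hx,
      ← he y hy, hxa, hyb, toFun_coe, toFun_coe, hab]
  conj_mem {P' g} hP' hg := by
    obtain ⟨s, rfl⟩ := hg
    refine ⟨hP', _, isMap_conj (preimageAlong_le α P') s.2, fun x hx => ?_⟩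
    rw [toFun_apply _ (mem_preimageAlong.1 hx).2, ext1_conj α s.2 (preimageAlong_le α P' hx),
      ext1_coe]
    rfl
  comp_mem {P' Q' φ ψ} := by
    rintro ⟨hP', f, hf, hfe⟩ ⟨hQ', g, hg, hge⟩ h
    have hfQ : ∀ x ∈ preimageAlong α P', f x ∈ preimageAlong α Q' := fun x hx =>
      mem_preimageAlong.2 ⟨hf.mem_S hx, by
        rw [← hfe x hx, toFun_apply φ (mem_preimageAlong.1 hx).2]; exact h _⟩
    refine ⟨hP', g ∘ f, hf.comp hg hfQ, fun x hx => ?_⟩
    have hxP := (mem_preimageAlong.1 hx).2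
    rw [Function.comp_apply, ← hge _ (hfQ x hx), ← hfe x hx, toFun_apply _ hxP,
      toFun_apply φ hxP, toFun_apply ψ (h _)]
    rfl
  inv_mem {P' φ} := by
    rintro ⟨hP', f, hf, he⟩
    have hKP : preimageAlong α ⊥ ≤ preimageAlong α P' := preimageAlong_mono bot_le
    obtain ⟨g, hg, hg1, -⟩ := hf.exists_inv
    have hr : φ.range ≤ α.range := by
      rintro _ ⟨y, rfl⟩
      obtain ⟨x, hx, hxy⟩ := exists_preimage hP' y.2
      rw [← toFun_coe φ y, ← hxy, he x hx]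
      exact ext1_mem_range α _
    have hle : preimageAlong α φ.range ≤ img (preimageAlong α P') f := fun z hz => by
      obtain ⟨hzS, ⟨y, hy⟩⟩ := mem_preimageAlong.1 hz
      obtain ⟨x, hx, hxy⟩ := exists_preimage hP' y.2
      have h1 : ext1 α (f x) = ext1 α z := by rw [← he x hx, hxy, toFun_coe, hy]
      have h2 := kernel_le_img_map hK hf hKP ((ext1_eq_iff (hf.mem_S hx) hzS).1 h1)
      have h3 := mul_mem (hf.mem_img.2 ⟨x, hx, rfl⟩) h2
      rwa [mul_inv_cancel_left] at h3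
    obtain ⟨ψ, hψ, hψe⟩ := exists_qMap hK hr (hg.mono hle)
    refine ⟨ψ, hψ, fun y => ?_⟩
    obtain ⟨x, hx, hxy⟩ := exists_preimage hP' y.2
    have hfx : f x ∈ preimageAlong α φ.range :=
      mem_preimageAlong.2 ⟨hf.mem_S hx, by rw [← he x hx, hxy, toFun_coe]; exact ⟨y, rfl⟩⟩
    have h := hψe _ hfx
    rw [hg1 x hx, hxy, ← he x hx, hxy, toFun_coe, toFun_apply ψ ⟨y, rfl⟩] at h
    exact h

theorem mem_quotientSystem_iff {φ' : P' →* Ω'} :
    φ' ∈ (quotientSystem hK).Hom P' ↔ QMap F α P' (toFun φ') :=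
  Iff.rfl

theorem quotientSystem_surjective : F.IsSurjectiveMorphism (quotientSystem hK) α := by
  refine ⟨⟨fun s => ⟨s, rfl⟩, fun P φ hφ => ?_⟩, rfl, fun P' hP' φ' hφ' => ?_⟩
  · have hPS := (F.le_of_mem hφ).1
    obtain ⟨g, hg, hge, -⟩ := (isNormal_iff.1 hK).2 P _ (isMap_toFun hφ)
    obtain ⟨φ', hφ', he⟩ :=
      exists_qMap hK (imgι_le_range P) (hg.mono (preimageAlong_imgι_le hPS))
    refine ⟨φ', hφ', hPS, fun x => (F.le_of_mem hφ).2 x, fun x => ⟨⟨x, hPS x.2⟩, x.2, rfl⟩,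
      fun x => ?_⟩
    have hx : (x : Ω) ∈ preimageAlong α (imgι α P) :=
      mem_preimageAlong.2 ⟨hPS x.2, ext1_mem_imgι hPS x.2⟩
    have := he x hx
    rw [hge x x.2, toFun_coe φ x, toFun_apply φ' (ext1_mem_imgι hPS x.2)] at this
    simp only [ext1_apply α (hPS x.2), ext1_apply α ((F.le_of_mem hφ).2 x)] at this
    exact this
  · obtain ⟨-, f, hf, he⟩ := hφ'
    obtain ⟨φ, hφ, hφf⟩ := hf
    refine ⟨φ, hφ, preimageAlong_le α P', fun x => (F.le_of_mem hφ).2 x, fun x => ?_, fun x => ?_⟩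
    · have := (mem_preimageAlong.1 x.2).2
      rwa [ext1_apply α (preimageAlong_le α P' x.2)] at this
    · have h := he x x.2
      rw [toFun_apply φ' (mem_preimageAlong.1 x.2).2, ← hφf x] at h
      simp only [ext1_apply α (preimageAlong_le α P' x.2),
        ext1_apply α ((F.le_of_mem hφ).2 x)] at h
      exact h

theorem isMap_quotientSystem (h : IsMap (quotientSystem hK) P' f') : QMap F α P' f' := by
  obtain ⟨φ', hφ', hφf⟩ := h
  obtain ⟨hP', f, hf, he⟩ := hφ'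
  exact ⟨hP', f, hf, fun x hx => by
    rw [← he x hx, toFun_apply φ' (mem_preimageAlong.1 hx).2]
    exact (hφf ⟨ext1 α x, (mem_preimageAlong.1 hx).2⟩).symm⟩

theorem isSaturated_quotientSystem {p : ℕ} [Fact p.Prime] (hS : IsPGroup p S)
    (hF : F.IsSaturated p) : (quotientSystem hK).IsSaturated p :=
  isSaturated_of_surjectiveMorphism (quotientSystem_surjective hK) hS hF

end CfsgLib.Fusion
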