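import Cfsg.Agent.Lib.Fusion.FourSection
import Cfsg.Agent.Lib.Fusion.System.Quotient
import Cfsg.Agent.Lib.Fusion.System.LocalModel
import Cfsg.Agent.Lib.Fusion.System.Inner
import Cfsg.Agent.Lib.Fusion.System.Functor
import Cfsg.Agent.Lib.Fusion.System.Constrained
import Cfsg.Prelude.Def_FusionReduction

/-!
# `S₄`-freeness of systems, in a form passing to subsystems and quotients
-/

set_option autoImplicit false
set_option linter.style.haveILetI false

open Subgroup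
open scoped Classical

namespace CfsgLib.Fusion

open Cfsg (FusionSystem)
open Cfsg.FusionSystem (normalizerIn centralizerIn preimageAlong)

universe u

variable {Ω : Type u} [Group Ω] {S : Subgroup Ω} {E F : FusionSystem S} {p : ℕ}

/-- Two maps of `F` on `U` normalizing `Q`, acting on the four-group `U/Q` as noncommuting
involutions. -/
structure FourData (F : FusionSystem S) (Q U V : Subgroup Ω) (a b : Ω → Ω) : Prop where
  leU : Q ≤ U
  leV : U ≤ V
  norm : U ≤ Subgroup.normalizer (Q : Set Ω)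
  index : Q.relIndex U = 4
  mapA : IsMap F V a
  mapB : IsMap F V b
  imgAV : img V a = V
  imgBV : img V b = V
  imgAU : img U a = U
  imgBU : img U b = U
  imgAQ : img Q a = Q
  imgBQ : img Q b = Q
  cond : FourCond Q U a b

/-- `F` has no section `S₄` on a four-group. -/
def NoFourSection (F : FusionSystem S) : Prop :=
  ∀ (Q U : Subgroup Ω) (a b : Ω → Ω), ¬ FourData F Q U U a b

/-- `p` is odd or `F` has no section `S₄`. -/
def Free (p : ℕ) (F : FusionSystem S) : Prop := p ≠ 2 ∨ NoFourSection F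

theorem free_of_le (h : E ≤ F) (hF : Free p F) : Free p E :=
  hF.imp id fun hn Q U a b d => hn Q U a b
    { d with mapA := isMap_of_le h d.mapA, mapB := isMap_of_le h d.mapB }

theorem free_normalizerSystem {P : Subgroup Ω} {N : FusionSystem (normalizerIn S P)}
    (hN : F.IsNormalizerSystem P N) (hF : Free p F) : Free p N :=
  hF.imp id fun hn Q U a b d => hn Q U a b
    { d with
      mapA := ((isMap_of_isNormalizerSystem hN).1 d.mapA).isMap
      mapB := ((isMap_of_isNormalizerSystem hN).1 d.mapB).isMap }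

theorem free_quotientSystem [Finite S] {Ω' : Type u} [Group Ω'] {α : S →* Ω'}
    (hK : F.IsNormal (preimageAlong α ⊥)) (hF : Free p F) : Free p (quotientSystem hK) := by
  refine hF.imp id fun hn Q' U' a' b' d => ?_
  obtain ⟨hU'r, f, hf, he⟩ := isMap_quotientSystem hK d.mapA
  obtain ⟨-, g, hg, hge⟩ := isMap_quotientSystem hK d.mapB
  set Q := preimageAlong α Q' with hQ
  set U := preimageAlong α U' with hU
  have hUS : U ≤ S := preimageAlong_le α U'
  have hQU : Q ≤ U := preimageAlong_mono d.leU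
  have hmU : ∀ (c : Ω → Ω) (c' : Ω' → Ω'), IsMap F U c → (∀ x ∈ U, c' (ext1 α x) = ext1 α (c x)) →
      IsMap (quotientSystem hK) U' c' → ∀ W' : Subgroup Ω', W' ≤ U' → img W' c' = W' →
      img (preimageAlong α W') c = preimageAlong α W' := by
    intro c c' hc hce hc' W' hW hW'
    refine img_eq_of_map_le (preimageAlong_le α W') hc (preimageAlong_mono hW) fun x hx => ?_
    obtain ⟨hxS, hx'⟩ := mem_preimageAlong.1 hx
    refine mem_preimageAlong.2 ⟨hc.mem_S (preimageAlong_mono hW hx), ?_⟩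
    rw [← hce x (preimageAlong_mono hW hx)]
    exact mem_of_img_eq hc' hW hW' hx'
  have hUn : U ≤ Subgroup.normalizer (Q : Set Ω) := fun u hu => by
    refine conjBy_eq_iff.1 (eq_of_le_of_card_le (preimageAlong_le α Q')
      (conjBy_le_iff.2 fun x hx => ?_) (card_conjBy u _).ge)
    obtain ⟨hxS, hx'⟩ := mem_preimageAlong.1 hx
    refine mem_preimageAlong.2 ⟨S.mul_mem (S.mul_mem (hUS hu) hxS) (S.inv_mem (hUS hu)), ?_⟩
    rw [ext1_conj α (hUS hu) hxS]
    exact (Subgroup.mem_normalizer_iff.1 (d.norm (mem_preimageAlong.1 hu).2) _).1 hx'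
  have hind : Q.relIndex U = 4 := by
    rw [hQ, hU, preimageAlong, preimageAlong,
      Subgroup.relIndex_map_map_of_injective _ _ S.subtype_injective, Subgroup.relIndex_comap,
      Subgroup.map_comap_eq_self hU'r, d.index]
  refine hn Q U f g ⟨hQU, le_rfl, hUn, hind, hf, hg, hmU f a' hf he d.mapA U' le_rfl d.imgAU,
    hmU g b' hg hge d.mapB U' le_rfl d.imgBU, hmU f a' hf he d.mapA U' le_rfl d.imgAU,
    hmU g b' hg hge d.mapB U' le_rfl d.imgBU, hmU f a' hf he d.mapA Q' d.leU d.imgAQ,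
    hmU g b' hg hge d.mapB Q' d.leU d.imgBQ, ?_⟩
  refine (fourCond_iff (U' := U') (Q' := Q') (ext1 α) (fun y => ⟨fun hy => ?_, ?_⟩)
    (fun x hx => ⟨fun h => (mem_preimageAlong.1 h).2, fun h => mem_preimageAlong.2 ⟨hUS hx, h⟩⟩)
    (fun x hx y hy => ext1_mul α (hUS hx) (hUS hy))
    (fun x hx => mem_of_img_eq hf le_rfl (hmU f a' hf he d.mapA U' le_rfl d.imgAU) hx)
    (fun x hx => mem_of_img_eq hg le_rfl (hmU g b' hg hge d.mapB U' le_rfl d.imgBU) hx)
    he hge).2 d.cond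
  · exact exists_preimage hU'r hy
  · rintro ⟨x, hx, rfl⟩
    exact (mem_preimageAlong.1 hx).2

theorem FourData.transport {Q U V : Subgroup Ω} {a b θ : Ω → Ω} (d : FourData F Q U V a b)
    (hθ : IsMap F V θ) :
    ∃ a' b', FourData F (img Q θ) (img U θ) (img V θ) a' b' := by
  obtain ⟨θ', hθ', h1, h2⟩ := hθ.exists_inv
  have hθU := hθ.mono d.leV
  have hθQ := hθ.mono (d.leU.trans d.leV)
  have hc : ∀ c, IsMap F V c → img V c = V → IsMap F (img V θ) (θ ∘ c ∘ θ') := fun c hc himg =>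
    (hθ'.comp hc fun y hy => (h2 y hy).1).comp hθ fun y hy => mem_of_img_eq hc le_rfl himg (h2 y hy).1
  have heq : ∀ (c : Ω → Ω) (x : Ω), x ∈ V → (θ ∘ c ∘ θ') (θ x) = θ (c x) := fun c x hx => by
    show θ (c (θ' (θ x))) = _
    rw [h1 x hx]
  have himg : ∀ c, IsMap F V c → ∀ W : Subgroup Ω, W ≤ V → img W c = W →
      img (img W θ) (θ ∘ c ∘ θ') = img W θ := by
    intro c hc' W hW hWc
    rw [img_img (hθ.mono hW), IsMap.img_congr (f := (θ ∘ c ∘ θ') ∘ θ) (g := θ ∘ c) fun x hx => heq c x (hW hx),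
      ← img_img (hc'.mono hW), hWc]
  refine ⟨θ ∘ a ∘ θ', θ ∘ b ∘ θ', IsMap.img_mono hθU d.leU, IsMap.img_mono hθ d.leV, ?_, ?_,
    hc a d.mapA d.imgAV, hc b d.mapB d.imgBV, himg a d.mapA V le_rfl d.imgAV,
    himg b d.mapB V le_rfl d.imgBV, himg a d.mapA U d.leV d.imgAU, himg b d.mapB U d.leV d.imgBU,
    himg a d.mapA Q (d.leU.trans d.leV) d.imgAQ, himg b d.mapB Q (d.leU.trans d.leV) d.imgBQ, ?_⟩
  · intro y hy
    obtain ⟨x, hx, rfl⟩ := hθU.mem_img.1 hy
    exact (map_mem_normalizerIn hθU d.leU hx (d.norm hx)).2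
  · obtain ⟨φ, -, hφ⟩ := id hθU
    have hQimg : img Q θ = (Q.subgroupOf U).map φ := by
      rw [map_subgroupOf_eq_img d.leU φ]
      exact IsMap.img_congr fun x hx => by rw [toFun_apply φ (d.leU hx), hφ]
    have hUimg : img U θ = (U.subgroupOf U).map φ := by
      rw [map_subgroupOf_eq_img le_rfl φ]
      exact IsMap.img_congr fun x hx => by rw [toFun_apply φ hx, hφ]
    rw [hQimg, hUimg, Subgroup.relIndex_map_map_of_injective _ _ fun x y h => Subtype.ext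
      (hθU.inj x.2 y.2 (by rw [← hφ, ← hφ, h])), Subgroup.relIndex_subgroupOf le_rfl, d.index]
  · refine (fourCond_iff θ (fun y => hθU.mem_img)
      (fun x hx => ⟨fun h => hθQ.mem_img.2 ⟨x, h, rfl⟩, fun h => ?_⟩)
      (fun x hx y hy => hθU.map_mul hx hy)
      (fun x hx => mem_of_img_eq d.mapA d.leV d.imgAU hx)
      (fun x hx => mem_of_img_eq d.mapB d.leV d.imgBU hx)
      (fun x hx => heq a x (d.leV hx)) (fun x hx => heq b x (d.leV hx))).1 d.cond
    obtain ⟨z, hz, hzx⟩ := hθQ.mem_img.1 h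
    exact hθU.inj (d.leU hz) hx hzx ▸ hz

/-- Section-freeness for `S₄` excludes such four-sections. -/
theorem noFourSection_of_isSectionFree [Finite S] (hS : IsPGroup 2 S) (hF : F.IsSaturated 2)
    (hfree : F.IsSectionFree 2 (Equiv.Perm (Fin 4))) : NoFourSection F := by
  haveI := Fact.mk Nat.prime_two
  intro Q U a b d
  -- make `U` fully normalized
  obtain ⟨U₁, hUU₁, hU₁⟩ := exists_fullyNormalized (F := F) d.mapA.le
  obtain ⟨h₁, h₂⟩ := IsSaturated.automized_receptive hS hF hU₁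
  obtain ⟨θ, hθ, hθimg, -⟩ := exists_map_normalizer hS h₁ h₂ hUU₁
  obtain ⟨a₁, b₁, d₁⟩ := d.transport (hθ.mono (le_normalizerIn d.mapA.le))
  rw [hθimg] at d₁
  set Q₁ := img Q θ
  -- extend to a centric subgroup
  set V := U₁ ⊔ centralizerIn S U₁ with hV
  have hVc : F.IsCentric V := isCentric_sup_centralizerIn (IsSaturated.isFullyCentralized hS hF hU₁)
  have hext : ∀ c, IsMap F U₁ c → img U₁ c = U₁ →
      ∃ e, IsMap F V e ∧ img V e = V ∧ ∀ x ∈ U₁, e x = c x := by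
    intro c hc himg
    obtain ⟨e, he, hee⟩ := (isReceptive_iff.1 h₂).2 U₁ c hc himg
    have he' := he.mono (sup_le (le_extSub hc) centralizerIn_le_extSub : V ≤ _)
    have heU : img U₁ e = U₁ := (IsMap.img_congr hee).trans himg
    refine ⟨e, he', img_eq_of_map_le hVc.1 he' le_rfl fun y hy => he'.map_mem_of_sup
      (fun x hx => ?_) (fun x hx => ?_) hy, hee⟩
    · exact (le_sup_left : U₁ ≤ V) (mem_of_img_eq he' le_sup_left heU hx)
    · have h := map_mem_centralizerIn he' (le_sup_left : U₁ ≤ V)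
        ((le_sup_right : centralizerIn S U₁ ≤ V) hx) hx.2
      rw [heU] at h
      exact (le_sup_right : centralizerIn S U₁ ≤ V) h
  obtain ⟨a₂, ha₂, ha₂V, ha₂e⟩ := hext a₁ d₁.mapA d₁.imgAU
  obtain ⟨b₂, hb₂, hb₂V, hb₂e⟩ := hext b₁ d₁.mapB d₁.imgBU
  have d₂ : FourData F Q₁ U₁ V a₂ b₂ := by
    have hi : ∀ (c e : Ω → Ω), (∀ x ∈ U₁, e x = c x) → ∀ W : Subgroup Ω, W ≤ U₁ →
        img W c = W → img W e = W := fun c e h W hW hWc =>
      (IsMap.img_congr fun x hx => h x (hW hx)).trans hWc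
    refine ⟨d₁.leU, le_sup_left, d₁.norm, d₁.index, ha₂, hb₂, ha₂V, hb₂V,
      hi a₁ a₂ ha₂e U₁ le_rfl d₁.imgAU, hi b₁ b₂ hb₂e U₁ le_rfl d₁.imgBU,
      hi a₁ a₂ ha₂e Q₁ d₁.leU d₁.imgAQ, hi b₁ b₂ hb₂e Q₁ d₁.leU d₁.imgBQ, ?_⟩
    have mA : ∀ x ∈ U₁, a₁ x ∈ U₁ := fun x hx => mem_of_img_eq d₁.mapA le_rfl d₁.imgAU hx
    have mB : ∀ x ∈ U₁, b₁ x ∈ U₁ := fun x hx => mem_of_img_eq d₁.mapB le_rfl d₁.imgBU hx
    exact (fourCond_iff id (fun y => ⟨fun h => ⟨y, h, rfl⟩, fun ⟨x, hx, e⟩ => e ▸ hx⟩)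
      (fun x _ => Iff.rfl) (fun x _ y _ => rfl) mA mB ha₂e hb₂e).1 d₁.cond
  -- make it fully normalized
  obtain ⟨V₂, hVV₂, hV₂⟩ := exists_fullyNormalized (F := F) hVc.1
  obtain ⟨k₁, k₂⟩ := IsSaturated.automized_receptive hS hF hV₂
  obtain ⟨η, hη, hηimg, -⟩ := exists_map_normalizer hS k₁ k₂ hVV₂
  obtain ⟨a₃, b₃, d₃⟩ := d₂.transport (hη.mono (le_normalizerIn hVc.1))
  rw [hηimg] at d₃
  set U₃ := img U₁ η
  set Q₃ := img Q₁ η
  have hV₂c : F.IsCentric V₂ := isCentric_of_isConj hVc hVV₂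
  obtain ⟨N, hN⟩ := exists_normalizerSystem (F := F) hV₂.1
  obtain ⟨L, hL, ι, hmodel, -⟩ := exists_local_model hS hF hV₂ hV₂c hN
  refine hfree V₂ hV₂ hV₂c N hN L ι hmodel ?_
  haveI := hmodel.1
  haveI : Finite (normalizerIn S V₂) := finite_of_le inf_le_left
  have hV₂M : V₂ ≤ normalizerIn S V₂ := le_normalizerIn hV₂.1
  have hg : ∀ c, IsMap F V₂ c → img V₂ c = V₂ →
      ∃ g : L, ∀ x ∈ V₂, ext1 ι (c x) = g * ext1 ι x * g⁻¹ := by
    intro c hc himg
    have hm : IsMap N V₂ c := (isMap_of_isNormalizerSystem hN).2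
      ⟨hV₂M, fun x hx => hV₂M (mem_of_img_eq hc le_rfl himg hx), c,
        by rwa [sup_idem], fun _ _ => rfl, himg⟩
    exact ((isMap_realized_iff hmodel.2.1).1 hm).2.2.2
  obtain ⟨g, hge⟩ := hg a₃ d₃.mapA d₃.imgAV
  obtain ⟨k, hke⟩ := hg b₃ d₃.mapB d₃.imgBV
  have hUM : U₃ ≤ normalizerIn S V₂ := d₃.leV.trans hV₂M
  have hQM : Q₃ ≤ normalizerIn S V₂ := d₃.leU.trans hUM
  have hι := hmodel.2.1.1
  have hn : ∀ (c : Ω → Ω) (g : L), IsMap F V₂ c → (∀ x ∈ V₂, ext1 ι (c x) = g * ext1 ι x * g⁻¹) →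
      ∀ W : Subgroup Ω, W ≤ V₂ → img W c = W → g ∈ Subgroup.normalizer (imgι ι W : Set L) := by
    intro c g hc hgc W hW hWc
    refine conjBy_eq_iff.1 (conjBy_eq_of_le (conjBy_le_iff.2 fun y hy => ?_))
    obtain ⟨x, hx, rfl⟩ := (mem_imgι (hW.trans hV₂M)).1 hy
    rw [← hgc x (hW hx)]
    exact ext1_mem_imgι (hW.trans hV₂M) (mem_of_img_eq hc hW hWc hx)
  refine involves_of_fourCond (imgι ι Q₃) (imgι ι U₃) g k (imgι_mono d₃.leU)
    ((imgι_le_normalizer_iff hι hQM hUM).2 d₃.norm) ?_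
    (hn a₃ g d₃.mapA hge Q₃ (d₃.leU.trans d₃.leV) d₃.imgAQ) (hn a₃ g d₃.mapA hge U₃ d₃.leV d₃.imgAU)
    (hn b₃ k d₃.mapB hke Q₃ (d₃.leU.trans d₃.leV) d₃.imgBQ) (hn b₃ k d₃.mapB hke U₃ d₃.leV d₃.imgBU)
    ?_
  · rw [imgι, imgι, Subgroup.relIndex_map_map_of_injective _ _ hι,
      Subgroup.relIndex_subgroupOf hUM, d₃.index]
  · exact (fourCond_iff (ext1 ι) (fun y => mem_imgι hUM)
      (fun x hx => ⟨fun h => ext1_mem_imgι hQM h, fun h => mem_of_ext1_mem_imgι hι hQM (hUM hx) h⟩)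
      (fun x hx y hy => ext1_mul ι (hUM hx) (hUM hy))
      (fun x hx => mem_of_img_eq d₃.mapA d₃.leV d₃.imgAU hx)
      (fun x hx => mem_of_img_eq d₃.mapB d₃.leV d₃.imgBU hx)
      (fun x hx => (hge x (d₃.leV hx)).symm) (fun x hx => (hke x (d₃.leV hx)).symm)).1 d₃.cond

theorem free_of_hyp [Finite S] (hS : IsPGroup p S) (hF : F.IsSaturated p)
    (hp : p ≠ 2 ∨ F.IsSectionFree p (Equiv.Perm (Fin 4))) : Free p F := by
  by_cases h2 : p = 2
  · subst h2
    exact Or.inr (noFourSection_of_isSectionFree hS hF (hp.resolve_left (by simp)))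
  · exact Or.inl h2

/-- Models of a free system do not involve `S₄`. -/
theorem not_involves_of_free [Finite S] (hF : Free p F) {L : Type*} [Group L] [Finite L]
    {ι : S →* L} (hι : Function.Injective ι) (T : Sylow p L) (hT : (T : Subgroup L) = ι.range)
    (hmap : ∀ (P : Subgroup Ω), P ≤ S → ∀ g : L, (∀ x ∈ P, g * ext1 ι x * g⁻¹ ∈ ι.range) →
      ∃ f, IsMap F P f ∧ ∀ x ∈ P, ext1 ι (f x) = g * ext1 ι x * g⁻¹) :
    p ≠ 2 ∨ ¬ Cfsg.Involves (Equiv.Perm (Fin 4)) L := by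
  rcases hF with h | hn
  · exact Or.inl h
  by_cases h2 : p = 2
  swap; · exact Or.inl h2
  subst h2
  refine Or.inr fun hinv => ?_
  obtain ⟨Q', U', g, k, hU'T, hQU', hnorm, hind, hgQ, hgU, hkQ, hkU, hc⟩ :=
    exists_fourCond_of_involves T hinv
  obtain ⟨U, hUS, rfl⟩ := exists_imgι_eq hι (hU'T.trans hT.le)
  obtain ⟨Q, hQS, rfl⟩ := exists_imgι_eq hι ((hQU'.trans hU'T).trans hT.le)
  have hQU : Q ≤ U := (imgι_le_iff hι hQS hUS).1 hQU'
  have hex : ∀ g : L, g ∈ Subgroup.normalizer (imgι ι U : Set L) →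
      g ∈ Subgroup.normalizer (imgι ι Q : Set L) →
      ∃ f, IsMap F U f ∧ img U f = U ∧ img Q f = Q ∧ ∀ x ∈ U, ext1 ι (f x) = g * ext1 ι x * g⁻¹ := by
    intro g hgU hgQ
    obtain ⟨f, hf, hfg⟩ := hmap U hUS g fun x hx =>
      imgι_le_range U ((Subgroup.mem_normalizer_iff.1 hgU _).1 (ext1_mem_imgι hUS hx))
    refine ⟨f, hf, img_eq_of_map_le hUS hf le_rfl fun x hx => ?_,
      img_eq_of_map_le hQS hf hQU fun x hx => ?_, hfg⟩
    · refine mem_of_ext1_mem_imgι hι hUS (hf.mem_S hx) ?_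
      rw [hfg x hx]
      exact (Subgroup.mem_normalizer_iff.1 hgU _).1 (ext1_mem_imgι hUS hx)
    · refine mem_of_ext1_mem_imgι hι hQS (hf.mem_S (hQU hx)) ?_
      rw [hfg x (hQU hx)]
      exact (Subgroup.mem_normalizer_iff.1 hgQ _).1 (ext1_mem_imgι hQS hx)
  obtain ⟨a, ha, haU, haQ, hae⟩ := hex g hgU hgQ
  obtain ⟨b, hb, hbU, hbQ, hbe⟩ := hex k hkU hkQ
  refine hn Q U a b ⟨hQU, le_rfl, (imgι_le_normalizer_iff hι hQS hUS).1 hnorm, ?_, ha, hb, haU, hbU,
    haU, hbU, haQ, hbQ, ?_⟩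
  · rwa [imgι, imgι, Subgroup.relIndex_map_map_of_injective _ _ hι,
      Subgroup.relIndex_subgroupOf hUS] at hind
  · exact (fourCond_iff (ext1 ι) (fun y => mem_imgι hUS)
      (fun x hx => ⟨fun h => ext1_mem_imgι hQS h, fun h => mem_of_ext1_mem_imgι hι hQS (hUS hx) h⟩)
      (fun x hx y hy => ext1_mul ι (hUS hx) (hUS hy))
      (fun x hx => mem_of_img_eq ha le_rfl haU hx) (fun x hx => mem_of_img_eq hb le_rfl hbU hx)
      (fun x hx => (hae x hx).symm) (fun x hx => (hbe x hx).symm)).2 hc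

end CfsgLib.Fusion
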