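import Cfsg.Agent.Lib.Fusion.System.Families
import Cfsg.Agent.Lib.Fusion.System.Functor

/-!
# A noninner system at an odd prime contains a constrained noninner one
-/

set_option autoImplicit false
set_option linter.style.haveILetI false

open Subgroup
open scoped Classical

namespace CfsgLib.Fusion

open Cfsg (FusionSystem autInducedBy)
open Cfsg.FusionSystem (normalizerIn centralizerIn preimageAlong)

universe u

variable {p : ℕ} [Fact p.Prime]

/-- A class of systems, closed under subsystems, normalizer systems and quotients, whose constrained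
noninner members have a characteristic subgroup of `S` with noninner normalizer. -/
structure Criterion (p : ℕ) where
  /-- the class -/
  Good : ∀ (Ω : Type u) [Group Ω] (S : Subgroup Ω), FusionSystem S → Prop
  of_le : ∀ (Ω : Type u) [Group Ω] (S : Subgroup Ω) (E F : FusionSystem S), E ≤ F →
    Good Ω S F → Good Ω S E
  of_normalizer : ∀ (Ω : Type u) [Group Ω] (S : Subgroup Ω) (F : FusionSystem S) (P : Subgroup Ω)
    (N : FusionSystem (normalizerIn S P)), F.IsNormalizerSystem P N → Good Ω S F →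
    Good Ω (normalizerIn S P) N
  of_quotient : ∀ (Ω : Type u) [Group Ω] (S : Subgroup Ω) [Finite S] (F : FusionSystem S)
    (Ω' : Type u) [Group Ω'] (α : S →* Ω') (hK : F.IsNormal (preimageAlong α ⊥)),
    Good Ω S F → Good Ω' α.range (quotientSystem hK)
  choose : ∀ (Ω : Type u) [Group Ω] (S : Subgroup Ω) [Finite S] (E : FusionSystem S),
    IsPGroup p S → Good Ω S E → E.IsConstrained p → ¬ IsInner E →
    ∃ U' : Subgroup Ω, U' ≤ S ∧ (S ≠ ⊥ → U' ≠ ⊥) ∧
      (∀ R : Subgroup Ω, Finite R → IsPGroup p R → S ≤ R →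
        normalizerIn R S ≤ normalizerIn R U') ∧ ¬ NInner E U'

/-- Every noninner saturated system of the class contains a constrained noninner one, in size at
most `n`. -/
def ConstrainedBelow {p : ℕ} (C : Criterion.{u} p) (n : ℕ) : Prop :=
  ∀ (Ω : Type u) [Group Ω] (S : Subgroup Ω) [Finite S], Nat.card S < n → IsPGroup p S →
    ∀ F : FusionSystem S, F.IsSaturated p → C.Good Ω S F → ¬ IsInner F →
      ∃ E : FusionSystem S, E ≤ F ∧ E.IsConstrained p ∧ ¬ IsInner E

variable {Ω : Type u} [Group Ω] {S : Subgroup Ω} [Finite S] {F : FusionSystem S}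

theorem not_ninner_ZJ (hp : p ≠ 2) (hS : IsPGroup p S) {E : FusionSystem S}
    (hEF : E ≤ F) (hE : E.IsConstrained p) (hne : ¬ IsInner E) :
    ¬ NInner F (Iof (maxAb S) S) := fun h =>
  not_ninner_of_constrained hp hS hE hne (maxAb S) (fun _ hA => ⟨hA.1, hA.2.1⟩)
    (maxAb_nonempty_in le_rfl)
    (fun Q f hf himg hex _ hx =>
      maxAb_invariant (fun _ _ hg _ hy _ => hg.mem_S hy) Q f hf himg hex hx)
    (maxAb_replacement_in hp hS le_rfl Subgroup.le_normalizer) (ninner_of_le hEF h)

omit [Fact p.Prime] in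
theorem ninner_of_ninner_conj_step {P U U' : Subgroup Ω} {θ : Ω → Ω} (hU' : U' ≤ S)
    (hP : F.IsFullyNormalized P) (hU'P : normalizerIn S P ≤ normalizerIn S U')
    (hU'le : U' ≤ normalizerIn S P)
    (hθ : IsMap F (normalizerIn S U') θ) (hθU : img U' θ = U)
    (hθN : ∀ x ∈ normalizerIn S U', θ x ∈ normalizerIn S U) (hU : NInner F U)
    {R : Subgroup Ω} {g : Ω → Ω} (hg : IsMap F R g) (hR : R ≤ normalizerIn S P) (hPR : P ≤ R)
    (hU'R : U' ≤ R) (hgR : ∀ x ∈ R, g x ∈ normalizerIn S P) (hgP : img P g = P)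
    (hgU : img U' g = U') : ∃ t ∈ normalizerIn S P, ∀ x ∈ R, g x = t * x * t⁻¹ := by
  set T := normalizerIn S P with hT
  have hRN : R ≤ normalizerIn S U' := hR.trans hU'P
  have hθR := hθ.mono hRN
  obtain ⟨θ', hθ', h1, h2⟩ := hθR.exists_inv
  set M := img R θ with hM
  have hm : IsMap F M (θ ∘ g ∘ θ') := (hθ'.comp hg fun y hy => (h2 y hy).1).comp (hθ.mono hU'P)
    fun y hy => hgR _ (h2 y hy).1
  have heq : ∀ x ∈ R, (θ ∘ g ∘ θ') (θ x) = θ (g x) := fun x hx => by
    show θ (g (θ' (θ x))) = _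
    rw [h1 x hx]
  have hUM : U ≤ M := hθU.ge.trans (hθR.img_mono hU'R)
  have hMN : M ≤ Subgroup.normalizer (U : Set Ω) := fun y hy => by
    obtain ⟨x, hx, rfl⟩ := hθR.mem_img.1 hy
    exact (hθN x (hRN hx)).2
  have hUimg : img U (θ ∘ g ∘ θ') = U := by
    refine img_eq_of_map_le (hUM.trans hθR.img_le) hm hUM fun y hy => ?_
    obtain ⟨x, hx, rfl⟩ := (hθR.mono hU'R).mem_img.1 (hθU.ge hy)
    rw [heq x (hU'R hx)]
    refine hθU.le ((hθR.mono hU'R).mem_img.2 ⟨g x, ?_, rfl⟩)
    exact mem_of_img_eq hg hU'R hgU hx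
  obtain ⟨s, hs, hse⟩ := hU M _ hm hUM hMN hUimg
  have hTN : T ≤ normalizerIn S U' := hU'P
  have hPT : P ≤ T := le_normalizerIn hP.1
  have hθT := hθ.mono hTN
  have hfull : img T θ = normalizerIn S (img P θ) := by
    refine eq_of_le_of_card_le inf_le_left (fun y hy => ?_) ?_
    · obtain ⟨x, hx, rfl⟩ := hθT.mem_img.1 hy
      exact map_mem_normalizerIn hθT hPT hx hx.2
    · rw [hθT.card_img]
      exact hP.2 _ (isConj_iff.2 ⟨θ, hθT.mono hPT, rfl⟩)
  have hsN : s ∈ normalizerIn S (img P θ) := by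
    refine ⟨hs, conjBy_eq_iff.1 (eq_of_le_of_card_le (hθT.mono hPT).img_le
      (conjBy_le_iff.2 fun y hy => ?_) (card_conjBy s _).ge)⟩
    obtain ⟨x, hx, rfl⟩ := (hθT.mono hPT).mem_img.1 hy
    rw [← hse _ (hθR.mem_img.2 ⟨x, hPR hx, rfl⟩), heq x (hPR hx)]
    exact (hθT.mono hPT).mem_img.2 ⟨g x, mem_of_img_eq hg hPR hgP hx, rfl⟩
  obtain ⟨t, ht, rfl⟩ := hθT.mem_img.1 (hfull.ge hsN)
  refine ⟨t, ht, fun x hx => hθT.inj (hgR x hx)
    (mul_mem (mul_mem ht (hR hx)) (inv_mem ht)) ?_⟩
  rw [hθT.map_conj ht (hR hx), ← hse _ (hθR.mem_img.2 ⟨x, hx, rfl⟩), heq x hx]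

theorem isInner_of_core_bot (C : Criterion.{u} p) (hS : IsPGroup p S) (hF : F.IsSaturated p)
    (hgood : C.Good Ω S F) (ih : ConstrainedBelow C (Nat.card S))
    (hproper : ∀ E : FusionSystem S, E ≤ F → E.IsSaturated p →
      (∃ P f, IsMap F P f ∧ ¬ IsMap E P f) → IsInner E)
    (hcore : F.core = ⊥) : IsInner F := by
  refine isInner_of_ninner hS hF fun P hP hPne => ?_
  induction hk : Nat.card S - Nat.card (normalizerIn S P) using Nat.strong_induction_on
    generalizing P with
  | _ k IH =>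
  set T := normalizerIn S P with hT
  by_cases hTS : T = S
  · have hn : S ≤ Subgroup.normalizer (P : Set Ω) := hTS.ge.trans inf_le_right
    obtain ⟨E, hEF, hEs, hEm, hEN⟩ := exists_normalizer_system_over hS hF hP.1 hn
    refine hEN (hproper E hEF hEs ?_)
    by_contra hall
    push Not at hall
    have hnormal : F.IsNormal P := isNormal_iff.2 ⟨hP.1, fun R f hf => hEm R f (hall R f hf)⟩
    exact hPne (eq_bot_iff.2 (hcore ▸ le_core hnormal))
  · have hTle : T ≤ S := inf_le_left
    have hTlt : Nat.card T < Nat.card S := card_lt_of_lt le_rfl (lt_of_le_of_ne hTle hTS)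
    haveI : Finite T := finite_of_le hTle
    obtain ⟨N, hN⟩ := exists_normalizerSystem (F := F) hP.1
    have hNs : N.IsSaturated p := isSaturated_normalizerSystem hS hF hP hN
    have hTp : IsPGroup p T := hS.to_le hTle
    refine (ninner_iff hP.1).2 fun N' hN' => ?_
    rw [show N' = N from eq_of_hom fun R => (hN' R).trans (hN R).symm]
    refine isInner_iff.1 (by_contra fun hne => ?_)
    have hNgood := C.of_normalizer Ω S F P N hN hgood
    obtain ⟨E, hEN, hEc, hEne⟩ := ih Ω T hTlt hTp N hNs hNgood hne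
    obtain ⟨U', hI1, hI2, hI3', hnot⟩ := C.choose Ω T E hTp (C.of_le Ω T E N hEN hNgood) hEc hEne
    refine hnot (ninner_of_le hEN ?_)
    have hI3 := hI3' S inferInstance hS hTle
    have hU'S : U' ≤ S := hI1.trans hTle
    obtain ⟨U, hUconj, hU⟩ := exists_fullyNormalized (F := F) hU'S
    obtain ⟨h₁, h₂⟩ := IsSaturated.automized_receptive hS hF hU
    obtain ⟨θ, hθ, hθU, hθN⟩ := exists_map_normalizer hS h₁ h₂ hUconj
    have hlt : Nat.card T < Nat.card (normalizerIn S U') :=
      lt_of_lt_of_le (card_lt_of_lt inf_le_left (lt_normalizerIn hS hTle hTS))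
        (card_le_of_le' inf_le_left hI3)
    have hle : Nat.card (normalizerIn S U') ≤ Nat.card (normalizerIn S U) :=
      hU.2 _ (isConj_symm hUconj)
    have hUS : Nat.card (normalizerIn S U) ≤ Nat.card S := card_le_of_le' le_rfl inf_le_left
    have hUne : U ≠ ⊥ := by
      intro h
      refine hI2 ?_ (Subgroup.eq_bot_of_card_eq _ ?_)
      · exact fun h0 => hPne (eq_bot_iff.2 (h0 ▸ le_normalizerIn hP.1))
      · rw [← (hθ.mono (le_normalizerIn hU'S)).card_img, hθU, h, Subgroup.card_bot]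
    have hUin : NInner F U := IH _ (by omega) U hU hUne rfl
    intro R f hf hUR _ hfU
    obtain ⟨h1, h2, g, hg, hgf, hgP⟩ := (isMap_of_isNormalizerSystem hN).1 hf
    have hgR : ∀ x ∈ R ⊔ P, g x ∈ T := fun x hx => by
      have := map_mem_normalizerIn hg le_sup_right hx
        ((sup_le h1 (le_normalizerIn hP.1)) hx).2
      rwa [hgP] at this
    have hTU' : T ≤ normalizerIn S U' := fun x hx =>
      hI3 ⟨hTle hx, Subgroup.le_normalizer hx⟩
    obtain ⟨t, ht, hte⟩ := ninner_of_ninner_conj_step hU'S hP hTU' hI1 hθ hθU hθN hUin hg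
      (sup_le h1 (le_normalizerIn hP.1)) le_sup_right (hUR.trans le_sup_left) hgR hgP
      ((IsMap.img_congr fun x hx => hgf x (hUR hx)).trans hfU)
    exact ⟨t, ht, fun x hx => (hgf x hx).symm.trans (hte x ((le_sup_left : R ≤ R ⊔ P) hx))⟩

/-- If `F/Q` is inner and `Aut_F(Q)` is a `p`-group then `F` is inner. -/
theorem isInner_of_quotient (hS : IsPGroup p S) (hF : F.IsSaturated p) {Q : Subgroup Ω}
    (hQ : F.IsNormal Q) (haut : IsPGroup p (F.autGroup Q)) {Ω' : Type u} [Group Ω']
    (α : S →* Ω') (hα : preimageAlong α ⊥ = Q)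
    (hq : ∀ (P' : Subgroup Ω') (f' : Ω' → Ω'), QMap F α P' f' →
      ∃ s ∈ S, ∀ y ∈ P', f' y = ext1 α s * y * (ext1 α s)⁻¹) : IsInner F := by
  have key : ∀ R, Q ≤ R → R ≤ S → IsPGroup p (F.autGroup R) := by
    intro R hQR hRS
    haveI := finite_of_le hRS
    haveI := finite_mulAut (P := R)
    haveI := finite_of_le hQ.1
    haveI := finite_mulAut (P := Q)
    intro a
    obtain ⟨k, hk⟩ := exists_pow_coprime (p := p) a
    refine ⟨k, Subtype.ext (autFun_ext fun x hx => ?_)⟩
    set b := a ^ p ^ k with hb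
    have hbm : IsMap F R (autFun (b : MulAut R)) := (mem_autGroup_iff hRS).1 b.2
    show autFun (b : MulAut R) x = autFun (1 : MulAut R) x
    rw [autFun_one hx]
    have hQQ : ∀ z ∈ Q, autFun (b : MulAut R) z ∈ Q := fun z hz =>
      (stronglyClosed_iff.1 (stronglyClosed_of_isNormal hQ)).2 _ _ le_rfl (hbm.mono hQR) z hz
    have hpow : ∀ i : ℕ, ∀ z ∈ R, autFun ((b ^ i : F.autGroup R) : MulAut R) z =
        (autFun (b : MulAut R))^[i] z := by
      intro i
      induction i with
      | zero => intro z hz; rw [pow_zero]; exact autFun_one hz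
      | succ i ih =>
        intro z hz
        rw [pow_succ, show ((b ^ i * b : F.autGroup R) : MulAut R) =
          (b ^ i : F.autGroup R) * (b : MulAut R) from rfl, autFun_mul _ _ hz,
          ih _ (autFun_mem _ hz), Function.iterate_succ_apply]
    -- on `Q`
    have hfixQ : ∀ z ∈ Q, autFun (b : MulAut R) z = z := by
      have himgQ := img_eq_of_map_le hQ.1 hbm hQR hQQ
      let c : F.autGroup Q := ⟨autOf (hbm.mono hQR) himgQ, autOf_mem (hbm.mono hQR) himgQ⟩
      have hc : ∀ z ∈ Q, autFun (c : MulAut Q) z = autFun (b : MulAut R) z := fun z hz =>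
        autFun_autOf (hbm.mono hQR) himgQ hz
      have hcp : ∀ i : ℕ, ∀ z ∈ Q, autFun ((c ^ i : F.autGroup Q) : MulAut Q) z =
          (autFun (b : MulAut R))^[i] z := by
        intro i
        induction i with
        | zero => intro z hz; rw [pow_zero]; exact autFun_one hz
        | succ i ih =>
          intro z hz
          rw [pow_succ, show ((c ^ i * c : F.autGroup Q) : MulAut Q) =
            (c ^ i : F.autGroup Q) * (c : MulAut Q) from rfl, autFun_mul _ _ hz,
            ih _ (autFun_mem _ hz), hc z hz, Function.iterate_succ_apply]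
      have hc1 : c = 1 := by
        obtain ⟨j, hj⟩ := haut c
        refine orderOf_eq_one_iff.1 (Nat.eq_one_of_dvd_coprimes (Nat.Coprime.pow_right j hk)
          (orderOf_dvd_of_pow_eq_one (Subtype.ext (autFun_ext fun z hz => ?_)))
          (orderOf_dvd_of_pow_eq_one hj))
        rw [hcp _ z hz, ← hpow _ z (hQR hz), pow_orderOf_eq_one]
        exact (autFun_one (hQR hz)).trans (autFun_one hz).symm
      intro z hz
      rw [← hc z hz, hc1]
      exact autFun_one hz
    -- modulo `Q`
    set P' := imgι α R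
    have hle : preimageAlong α P' ≤ R := (preimageAlong_imgι_le hRS).trans
      (sup_le le_rfl (hα.le.trans hQR))
    obtain ⟨φ', hφ', hφe⟩ := exists_qMap (hα.symm ▸ hQ) (imgι_le_range R) (hbm.mono hle)
    obtain ⟨s, hs, hse⟩ := hq P' _ hφ'
    have hit : ∀ i : ℕ, ∀ z ∈ R, ext1 α (autFun ((b ^ i : F.autGroup R) : MulAut R) z) =
        (ext1 α s) ^ i * ext1 α z * ((ext1 α s) ^ i)⁻¹ := by
      intro i
      induction i with
      | zero =>
        intro z hz
        rw [pow_zero]
        show ext1 α (autFun (1 : MulAut R) z) = _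
        rw [autFun_one hz]
        simp
      | succ i ih =>
        intro z hz
        rw [pow_succ, show ((b ^ i * b : F.autGroup R) : MulAut R) =
          (b ^ i : F.autGroup R) * (b : MulAut R) from rfl, autFun_mul _ _ hz,
          ih _ (autFun_mem _ hz), ← hφe z (mem_preimageAlong.2 ⟨hRS hz, ext1_mem_imgι hRS hz⟩),
          hse _ (ext1_mem_imgι hRS hz), pow_succ]
        group
    have hmod : ext1 α (autFun (b : MulAut R) x) = ext1 α x := by
      obtain ⟨j, hj⟩ := hS ⟨s, hs⟩
      have hj' : ext1 α s ^ p ^ j = 1 := by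
        rw [ext1_apply α hs, ← map_pow, hj, map_one]
      obtain ⟨i, hi⟩ := exists_pow_eq_self_of_coprime (x := b)
        (n := p ^ j) (Nat.coprime_comm.1 (Nat.Coprime.pow_right j hk))
      have h := hit (p ^ j * i) x hx
      rw [pow_mul b, hi, pow_mul, hj', one_pow] at h
      simpa using h
    set y := autFun (b : MulAut R) x with hy
    have hxy : x⁻¹ * y ∈ Q :=
      hα ▸ (ext1_eq_iff (hRS hx) (hbm.mem_S hx)).1 hmod.symm
    have hiter : ∀ i : ℕ, autFun ((b ^ i : F.autGroup R) : MulAut R) x = x * (x⁻¹ * y) ^ i := by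
      intro i
      induction i with
      | zero => rw [pow_zero, pow_zero, mul_one]; exact autFun_one hx
      | succ i ih =>
        rw [pow_succ', show ((b * b ^ i : F.autGroup R) : MulAut R) =
          (b : MulAut R) * (b ^ i : F.autGroup R) from rfl, autFun_mul _ _ hx, ih,
          autFun_map_mul _ hx (pow_mem (hQR hxy) i), hfixQ _ (pow_mem hxy i), ← hy, pow_succ',
          ← mul_assoc, mul_inv_cancel_left]
    have h1 := hiter (orderOf b)
    rw [pow_orderOf_eq_one] at h1
    have h2 : (x⁻¹ * y) ^ orderOf b = 1 := by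
      have h3 : x = x * (x⁻¹ * y) ^ orderOf b := (autFun_one hx).symm.trans h1
      exact left_eq_mul.1 h3
    have h4 : x⁻¹ * y = 1 := by
      obtain ⟨m, hm⟩ := hS ⟨x⁻¹ * y, hQ.1 hxy⟩
      exact orderOf_eq_one_iff.1 (Nat.eq_one_of_dvd_coprimes (Nat.Coprime.pow_right m hk)
        (orderOf_dvd_of_pow_eq_one h2) (orderOf_dvd_of_pow_eq_one (congrArg Subtype.val hm)))
    exact (inv_mul_eq_one.1 h4).symm
  refine isInner_of_aut_isPGroup hS hF (key S hQ.1 le_rfl) fun R hR => key R ?_ hR.2.1.1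
  exact le_of_isNormal hS hQ hR.1 (isEssential_centric_radical hS hR).2

/-- The main induction. -/
theorem constrainedBelow (C : Criterion.{u} p) : ∀ n, ConstrainedBelow C n := by
  intro n
  induction n with
  | zero => intro Ω _ S _ h; exact absurd h (Nat.not_lt_zero _)
  | succ n ih =>
  intro Ω _ S _ hn hS
  have ihS : ConstrainedBelow C (Nat.card S) := fun Ω' _ S' _ h => ih Ω' S' (by omega)
  suffices H : ∀ (k : ℕ) (F : FusionSystem S), {z : Subgroup S × (S → S) | ∃ f,
      IsMap F (z.1.map S.subtype) f ∧ ∀ x ∈ z.1, f x = z.2 x}.ncard = k →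
      F.IsSaturated p → C.Good Ω S F → ¬ IsInner F →
      ∃ E : FusionSystem S, E ≤ F ∧ E.IsConstrained p ∧ ¬ IsInner E from
    fun F hF hgood hne => H _ F rfl hF hgood hne
  intro k
  induction k using Nat.strong_induction_on with
  | _ k ihk =>
  intro F hk hF hgood hne
  by_contra hcon
  have hproper : ∀ E : FusionSystem S, E ≤ F → E.IsSaturated p →
      (∃ P f, IsMap F P f ∧ ¬ IsMap E P f) → IsInner E := by
    rintro E hEF hEs ⟨P, f, hf, hfE⟩
    by_contra hEne
    obtain ⟨E', h1, h2, h3⟩ :=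
      ihk _ (hk ▸ ncard_maps_lt hEF hf hfE) E rfl hEs (C.of_le Ω S E F hEF hgood) hEne
    exact hcon ⟨E', fun P => (h1 P).trans (hEF P), h2, h3⟩
  by_cases hcore : F.core = ⊥
  · exact hne (isInner_of_core_bot C hS hF hgood ihS hproper hcore)
  set Q := F.core with hQdef
  have hQ : F.IsNormal Q := isNormal_core
  by_cases hQc : F.IsCentric Q
  · exact hcon ⟨F, fun _ => subset_rfl, ⟨hF, Q, hQ, hQc⟩, hne⟩
  have hQn : S ≤ normalizerIn S Q :=
    le_normalizerIn_of_stronglyClosed (stronglyClosed_of_isNormal hQ)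
  have hQfn := isFullyNormalized_of_isNormal hQ
  have hQfc := IsSaturated.isFullyCentralized hS hF hQfn
  -- the automorphisms of `Q`
  have haut : IsPGroup p (F.autGroup Q) := by
    refine (isPGroup_autInducedBy hS).to_le (K := autInducedBy S Q) fun a ha => ?_
    set V := Q ⊔ centralizerIn S Q with hV
    have hVS : V ≤ S := sup_le hQ.1 inf_le_left
    have hVn : S ≤ Subgroup.normalizer (V : Set Ω) := fun s hs =>
      (normalizerIn_le_normalizerIn_sup_centralizerIn (hQn hs)).2
    obtain ⟨E, hEF, hEs, hEm, hEN⟩ := exists_normalizer_system_over hS hF hVS hVn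
    have hin : NInner F V := hEN (hproper E hEF hEs (by
      by_contra hall
      push Not at hall
      have hVnormal : F.IsNormal V := isNormal_iff.2 ⟨hVS, fun R f hf => hEm R f (hall R f hf)⟩
      refine hQc (isCentric_of_fullyCentralized hQfc ?_)
      exact le_sup_right.trans ((le_core hVnormal).trans_eq hQdef.symm)))
    obtain ⟨g, hg, hge⟩ := (isReceptive_iff.1 (IsSaturated.automized_receptive hS hF hQfn).2).2 Q _
      ((mem_autGroup_iff hQ.1).1 ha) (img_autFun a)
    have hle : V ≤ extSub S Q (autFun a) :=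
      sup_le (le_extSub ((mem_autGroup_iff hQ.1).1 ha)) centralizerIn_le_extSub
    have hgQ : img Q g = Q := (IsMap.img_congr hge).trans (img_autFun a)
    obtain ⟨s, hs, hse⟩ := hin V g (hg.mono hle) le_rfl Subgroup.le_normalizer
      (img_eq_of_map_le hVS (hg.mono hle) le_rfl fun x hx => by
        refine (hg.mono hle).map_mem_of_sup (fun y hy => ?_) (fun y hy => ?_) hx
        · rw [hge y hy]; exact Subgroup.mem_sup_left (autFun_mem a hy)
        · refine Subgroup.mem_sup_right ?_
          have := map_mem_centralizerIn (hg.mono hle) le_sup_left (Subgroup.mem_sup_right hy) hy.2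
          rwa [hgQ] at this)
    exact mem_autInducedBy_iff.2 ⟨s, hs, fun x hx =>
      (hge x hx).symm.trans (hse x (Subgroup.mem_sup_left hx))⟩
  -- the quotient
  haveI : (Q.subgroupOf S).Normal :=
    (Subgroup.normal_subgroupOf_iff_le_normalizer hQ.1).2 (hQn.trans inf_le_right)
  let α : S →* S ⧸ Q.subgroupOf S := QuotientGroup.mk' _
  have hker : preimageAlong α ⊥ = Q := by
    rw [preimageAlong, MonoidHom.comap_bot, QuotientGroup.ker_mk']
    exact Subgroup.map_subgroupOf_eq_of_le hQ.1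
  have hKn : F.IsNormal (preimageAlong α ⊥) := hker.symm ▸ hQ
  set F' := quotientSystem hKn
  have hS' : IsPGroup p α.range := hS.of_surjective _ α.rangeRestrict_surjective
  haveI : Finite α.range := Finite.of_surjective _ α.rangeRestrict_surjective
  have hsat : F'.IsSaturated p := isSaturated_quotientSystem hKn hS hF
  have hinner' : IsInner F' := by
    by_contra hne'
    have hlt : Nat.card α.range < Nat.card S := by
      rw [MonoidHom.range_eq_top.2 (QuotientGroup.mk'_surjective _), Subgroup.card_top]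
      have h := Subgroup.card_eq_card_quotient_mul_card_subgroup (Q.subgroupOf S)
      have h1 : 1 < Nat.card (Q.subgroupOf S) := by
        rw [Nat.card_congr (Subgroup.subgroupOfEquivOfLe hQ.1).toEquiv]
        haveI := finite_of_le hQ.1
        exact (Subgroup.one_lt_card_iff_ne_bot _).2 hcore
      rw [h]
      exact lt_mul_of_one_lt_right Nat.card_pos h1
    have hgood' : C.Good _ α.range F' := C.of_quotient Ω S F _ α hKn hgood
    obtain ⟨E', hE'F, hE'c, hE'ne⟩ := ihS _ α.range hlt hS' F' hsat hgood' hne'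
    obtain ⟨U', hI1, hI2, hI3', hnot⟩ :=
      C.choose _ α.range E' hS' (C.of_le _ _ E' F' hE'F hgood') hE'c hE'ne
    have hI3 := hI3' α.range inferInstance hS' le_rfl
    refine hnot (ninner_of_le hE'F fun P' f' hf' hU'P' _ hfU' => ?_)
    set V := preimageAlong α U' with hV
    have hVS : V ≤ S := preimageAlong_le α U'
    have hVn : S ≤ Subgroup.normalizer (V : Set Ω) := fun s hs => by
      refine conjBy_eq_iff.1 (eq_of_le_of_card_le hVS (conjBy_le_iff.2 fun x hx => ?_)
        (card_conjBy s _).ge)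
      obtain ⟨hxS, hx'⟩ := mem_preimageAlong.1 hx
      refine mem_preimageAlong.2 ⟨S.mul_mem (S.mul_mem hs hxS) (S.inv_mem hs), ?_⟩
      rw [ext1_conj α hs hxS]
      exact (Subgroup.mem_normalizer_iff.1
        (hI3 ⟨ext1_mem_range α s, Subgroup.le_normalizer (ext1_mem_range α s)⟩).2 _).1 hx'
    obtain ⟨E, hEF, hEs, hEm, hEN⟩ := exists_normalizer_system_over hS hF hVS hVn
    have hin : NInner F V := hEN (hproper E hEF hEs (by
      by_contra hall
      push Not at hall
      have hVnormal : F.IsNormal V := isNormal_iff.2 ⟨hVS, fun R f hf => hEm R f (hall R f hf)⟩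
      refine hI2 (fun h0 => ?_) (eq_bot_iff.2 fun y hy => ?_)
      · exact hne' fun P g hg => ⟨1, one_mem _, fun x hx => by
          have hx1 : x = 1 := Subgroup.mem_bot.1 (h0.le (hg.le hx))
          rw [hx1, hg.map_one]; simp⟩
      · obtain ⟨x, rfl⟩ := hI1 hy
        have h1 : (x : Ω) ∈ preimageAlong α ⊥ :=
          hker.ge ((le_core hVnormal).trans_eq hQdef.symm
            (mem_preimageAlong.2 ⟨x.2, by rwa [ext1_coe]⟩))
        rw [← ext1_coe α x]
        exact (mem_preimageAlong.1 h1).2))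
    obtain ⟨hP', f, hf, he⟩ := isMap_quotientSystem hKn hf'
    obtain ⟨s, hs, hse⟩ := hin _ f hf (preimageAlong_mono hU'P') ((preimageAlong_le α P').trans hVn)
      (img_eq_of_map_le hVS hf (preimageAlong_mono hU'P') fun x hx => by
        obtain ⟨hxS, hx'⟩ := mem_preimageAlong.1 hx
        refine mem_preimageAlong.2 ⟨hf.mem_S (preimageAlong_mono hU'P' hx), ?_⟩
        rw [← he x (preimageAlong_mono hU'P' hx)]
        exact mem_of_img_eq hf' hU'P' hfU' hx')
    refine ⟨ext1 α s, ext1_mem_range α s, fun y hy => ?_⟩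
    obtain ⟨x, hx, rfl⟩ := exists_preimage hP' hy
    rw [he x hx, hse x hx, ext1_conj α hs (preimageAlong_le α P' hx)]
  refine hne (isInner_of_quotient hS hF hQ haut α hker fun P' f' hq => ?_)
  obtain ⟨hP', f, hf, hfe⟩ := hq
  obtain ⟨φ', hφ', hφe⟩ := exists_qMap hKn hP' hf
  obtain ⟨s', hs', he⟩ := hinner' P' _ (isMap_toFun (F := quotientSystem hKn) hφ')
  obtain ⟨s, rfl⟩ := hs'
  refine ⟨s, s.2, fun y hy => ?_⟩
  obtain ⟨x, hx, rfl⟩ := exists_preimage hP' hy
  rw [ext1_coe, hfe x hx, ← hφe x hx, he _ hy]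

/-- The criterion of the intersection of the largest abelian subgroups, at an odd prime. -/
def criterionZJ (hp : p ≠ 2) : Criterion.{u} p where
  Good _ _ _ _ := True
  of_le _ _ _ _ _ _ _ := trivial
  of_normalizer _ _ _ _ _ _ _ _ := trivial
  of_quotient _ _ _ _ _ _ _ _ _ _ := trivial
  choose Ω _ S _ E hS _ hE hne := by
    obtain ⟨h1, h2, -⟩ := Iof_maxAb_facts (T := S) hS le_rfl
    refine ⟨_, h1, h2, fun R hfin hR hSR => ?_, not_ninner_ZJ hp hS (fun _ => subset_rfl) hE hne⟩
    exact (Iof_maxAb_facts (S := R) hR hSR).2.2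

/-- A noninner system at an odd prime contains a constrained noninner one. -/
theorem exists_constrained_not_inner (hp : p ≠ 2) (hS : IsPGroup p S) (hF : F.IsSaturated p)
    (hne : ¬ IsInner F) : ∃ E : FusionSystem S, E ≤ F ∧ E.IsConstrained p ∧ ¬ IsInner E :=
  constrainedBelow (criterionZJ hp) (Nat.card S + 1) Ω S (Nat.lt_succ_self _) hS F hF trivial hne

/-- The axiomatic criterion. -/
theorem isInner_of_ninner_Iof (hp : p ≠ 2) (hS : IsPGroup p S) (hF : F.IsSaturated p)
    (𝒜 : Set (Subgroup Ω)) (h𝒜 : ∀ A ∈ 𝒜, A ≤ S ∧ IsMulCommutative A) (hne : 𝒜.Nonempty)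
    (hinv : ∀ (Q : Subgroup Ω) (f : Ω → Ω), IsMap F Q f → img Q f = Q → (∃ A ∈ 𝒜, A ≤ Q) →
      ∀ x ∈ Iof 𝒜 Q, f x ∈ Iof 𝒜 Q)
    (hrep : ∀ B : Subgroup Ω, B ≤ S → S ≤ Subgroup.normalizer (B : Set Ω) → ⁅⁅B, B⁆, B⁆ = ⊥ →
      (∃ A ∈ 𝒜, ⁅B, B⁆ ≤ A ∧ ¬ B ≤ A) →
      ∃ A ∈ 𝒜, ⁅B, B⁆ ≤ A ∧ ¬ B ≤ A ∧ B ≤ Subgroup.normalizer (A : Set Ω))
    (h : NInner F (Iof 𝒜 S)) : IsInner F := by
  by_contra hcon
  obtain ⟨E, hEF, hEc, hEne⟩ := exists_constrained_not_inner hp hS hF hcon
  exact not_ninner_of_constrained hp hS hEc hEne 𝒜 h𝒜 hne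
    (fun Q f hf => hinv Q f (isMap_of_le hEF hf)) hrep (ninner_of_le hEF h)

end CfsgLib.Fusion
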