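import Cfsg.Agent.Lib.Fusion.Dichotomy
import Cfsg.Agent.Lib.Fusion.System.FourFree
import Cfsg.Agent.Lib.Fusion.System.InnerCriteria

/-!
# Inner systems: the centre and the Thompson subgroup, for `p` odd or without a section `S₄`
-/

set_option autoImplicit false
set_option linter.style.haveILetI false

open Subgroup
open scoped Classical

namespace CfsgLib.Fusion

open Cfsg (FusionSystem)
open Cfsg.FusionSystem (normalizerIn centralizerIn preimageAlong)

universe u

variable {Ω : Type u} [Group Ω] {S : Subgroup Ω} {E F : FusionSystem S} {p : ℕ}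

theorem normalizer_le_normalizer_thompsonA (D : Subgroup Ω) :
    Subgroup.normalizer (D : Set Ω) ≤
      Subgroup.normalizer (Cfsg.thompsonSubgroupAOf D : Set Ω) := by
  have key : ∀ g : Ω, conjBy g D = D →
      conjBy g (Cfsg.thompsonSubgroupAOf D) ≤ Cfsg.thompsonSubgroupAOf D := by
    intro g hg
    rw [thompsonSubgroupAOf_eq, conjBy, (Subgroup.gc_map_comap _).l_sSup]
    refine iSup₂_le fun A hA => le_sSup ?_
    have h := map_mem_maxAb (MulAut.conj g) hA
    rwa [show D.map (MulAut.conj g).toMonoidHom = D from hg] at h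
  intro g hg
  have hg' : conjBy g D = D := conjBy_eq_iff.2 hg
  refine conjBy_eq_iff.1 (le_antisymm (key g hg') ?_)
  have h := conjBy_mono (g := g) (key g⁻¹ (conjBy_eq_iff.2 (inv_mem hg)))
  rwa [conjBy_conjBy_inv] at h

theorem normalizer_le_normalizer_centerOf' (D : Subgroup Ω) :
    Subgroup.normalizer (D : Set Ω) ≤ Subgroup.normalizer (centerOf D : Set Ω) := by
  intro g hg
  refine conjBy_eq_iff.1 ?_
  rw [centerOf, conjBy, Subgroup.map_inf _ _ _ (MulEquiv.injective _), ← conjBy, ← conjBy,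
    conjBy_centralizer, conjBy_eq_iff.2 hg]

variable [Finite S] [Fact p.Prime]

theorem imgι_thompsonA {L : Type*} [Group L] {ι : S →* L} (hι : Function.Injective ι) :
    imgι ι (Cfsg.thompsonSubgroupAOf S) = Cfsg.thompsonSubgroupAOf ι.range := by
  have h : Cfsg.thompsonSubgroupAOf S = (Cfsg.thompsonSubgroupAOf (⊤ : Subgroup S)).map S.subtype := by
    rw [map_thompsonSubgroupAOf _ S.subtype_injective, ← MonoidHom.range_eq_map,
      Subgroup.range_subtype]
  rw [imgι, h, Subgroup.subgroupOf, Subgroup.comap_map_eq_self_of_injective S.subtype_injective,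
    map_thompsonSubgroupAOf ι hι, ← MonoidHom.range_eq_map]

theorem imgι_centerOf {L : Type*} [Group L] {ι : S →* L} (hι : Function.Injective ι) :
    imgι ι (centerOf S) = centerOf ι.range := by
  have h : centerOf S = (centerOf (⊤ : Subgroup S)).map S.subtype := by
    rw [map_centerOf _ S.subtype_injective, ← MonoidHom.range_eq_map, Subgroup.range_subtype]
  rw [imgι, h, Subgroup.subgroupOf, Subgroup.comap_map_eq_self_of_injective S.subtype_injective,
    map_centerOf ι hι, ← MonoidHom.range_eq_map]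

theorem centerOf_ne_bot_in (hS : IsPGroup p S) (hne : S ≠ ⊥) : centerOf S ≠ ⊥ := by
  intro h
  have h2 : (centerOf (⊤ : Subgroup S)).map S.subtype = ⊥ := by
    rw [map_centerOf _ S.subtype_injective, ← MonoidHom.range_eq_map, Subgroup.range_subtype, h]
  rw [Subgroup.map_eq_bot_iff_of_injective _ S.subtype_injective] at h2
  haveI : Nontrivial S := (Subgroup.nontrivial_iff_ne_bot S).2 hne
  exact centerOf_ne_bot (hS.to_subgroup ⊤) top_ne_bot h2

theorem thompsonA_ne_bot_in (hS : IsPGroup p S) (hne : S ≠ ⊥) :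
    Cfsg.thompsonSubgroupAOf S ≠ ⊥ := by
  intro h
  obtain ⟨A₀, hA₀⟩ := maxAb_nonempty_in (le_refl S)
  obtain ⟨z, hz, hz1⟩ := (Subgroup.bot_or_exists_ne_one (centerOf S)).resolve_left
    (centerOf_ne_bot_in hS hne)
  refine hz1 (Subgroup.mem_bot.1 (h ▸ ?_))
  rw [thompsonSubgroupAOf_eq]
  exact le_sSup hA₀ (mem_of_commute_maxAb_in le_rfl hA₀ hz.1 fun a ha =>
    Subgroup.mem_centralizer_iff.1 hz.2 a (hA₀.1 ha))

/-- In a constrained noninner system the centre or the Thompson subgroup carries a map which is not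
inner. -/
theorem exists_not_inner_of_constrained (hS : IsPGroup p S) (hfree : Free p E)
    (hE : E.IsConstrained p) (hne : ¬ IsInner E) :
    ¬ NInner E (Cfsg.thompsonSubgroupAOf S) ∨
      ∃ P f, IsMap E P f ∧ centerOf S ≤ P ∧ (∀ x ∈ centerOf S, f x = x) ∧
        ¬ ∃ s ∈ S, ∀ x ∈ P, f x = s * x * s⁻¹ := by
  obtain ⟨Q, hQn, hQc⟩ := hE.2
  obtain ⟨L, hL, ι, hfin, hreal, ⟨T, hT⟩, hc⟩ := exists_model_of_normal_centric hS hE.1 hQn hQc
  haveI := hfin
  have hLp : ¬ IsPGroup p L := by
    intro h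
    refine hne fun P f hf => ?_
    obtain ⟨hP, -, -, g, hg⟩ := (isMap_realized_iff hreal).1 hf
    have hg' : g ∈ ι.range := by
      rw [← hT, T.is_maximal' (h.to_subgroup ⊤) le_top |>.symm]
      exact Subgroup.mem_top g
    obtain ⟨s, rfl⟩ := hg'
    refine ⟨s, s.2, fun x hx => ext1_inj hreal.1 (hf.mem_S hx)
      (S.mul_mem (S.mul_mem s.2 (hP hx)) (S.inv_mem s.2)) ?_⟩
    rw [hg x hx, ext1_conj ι s.2 (hP hx), ext1_coe]
  have hconj : ∀ (P : Subgroup Ω), P ≤ S → ∀ g : L, (∀ x ∈ P, g * ext1 ι x * g⁻¹ ∈ ι.range) →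
      ∃ f, IsMap E P f ∧ ∀ x ∈ P, ext1 ι (f x) = g * ext1 ι x * g⁻¹ :=
    fun P hP g hg => exists_map_of_conj hreal hP hg
  have hnot : ∀ H : Subgroup L, ¬ IsPGroup p H → ∃ g ∈ H, g ∉ ι.range := by
    intro H hH
    by_contra hall
    push Not at hall
    exact hH (T.2.to_le fun g hg => hT.ge (hall g hg))
  rcases exists_center_or_thompsonA (not_involves_of_free hfree hreal.1 T hT hconj) T hc hLp
    with h | h <;> obtain ⟨g, hg, hgr⟩ := hnot _ h
  · rw [hT, ← imgι_thompsonA hreal.1] at hg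
    left
    intro hN
    obtain ⟨P, f, hf, hUP, -, hfU, hmem⟩ :=
      exists_map_of_model hreal.1 T hT hc hconj (thompsonSubgroupAOf_le S) hg
    exact hgr (hmem (hN P f hf hUP
      (hf.le.trans (Subgroup.le_normalizer.trans (normalizer_le_normalizer_thompsonA S))) hfU))
  · rw [hT, ← imgι_centerOf hreal.1] at hg
    right
    obtain ⟨P, f, hf, hUP, hfg, -, hmem⟩ := exists_map_of_model hreal.1 T hT hc hconj
      (inf_le_left : centerOf S ≤ S) (Subgroup.centralizer_le_normalizer _ hg)
    refine ⟨P, f, hf, hUP, fun x hx => ext1_inj hreal.1 (hf.mem_S (hUP hx)) hx.1 ?_,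
      fun hs => hgr (hmem hs)⟩
    rw [hfg x (hUP hx), ← Subgroup.mem_centralizer_iff.1 hg _
      (ext1_mem_imgι inf_le_left hx), mul_inv_cancel_right]

/-- The criterion of the centre and the Thompson subgroup. -/
def criterionZA : Criterion.{u} p where
  Good _ _ _ F := Free p F
  of_le _ _ _ _ _ h hF := free_of_le h hF
  of_normalizer _ _ _ _ _ _ hN hF := free_normalizerSystem hN hF
  of_quotient _ _ _ _ _ _ _ _ hK hF := free_quotientSystem hK hF
  choose Ω _ S _ E hS hfree hE hne := by
    rcases exists_not_inner_of_constrained hS hfree hE hne with h | ⟨P, f, hf, hZP, hfix, hnot⟩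
    · exact ⟨_, thompsonSubgroupAOf_le S, thompsonA_ne_bot_in hS, fun R _ _ _ =>
        inf_le_inf le_rfl (normalizer_le_normalizer_thompsonA S), h⟩
    · refine ⟨centerOf S, inf_le_left, centerOf_ne_bot_in hS, fun R _ _ _ =>
        inf_le_inf le_rfl (normalizer_le_normalizer_centerOf' S), fun hN => hnot ?_⟩
      refine hN P f hf hZP
        (hf.le.trans (Subgroup.le_normalizer.trans (normalizer_le_normalizer_centerOf' S))) ?_
      exact img_eq_of_map_le inf_le_left hf hZP fun x hx => (hfix x hx).symm ▸ hx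

/-- A noninner free system contains a constrained noninner one. -/
theorem exists_constrained_not_inner_free (hS : IsPGroup p S) (hF : F.IsSaturated p)
    (hfree : Free p F) (hne : ¬ IsInner F) :
    ∃ E : FusionSystem S, E ≤ F ∧ E.IsConstrained p ∧ ¬ IsInner E :=
  constrainedBelow criterionZA (Nat.card S + 1) Ω S (Nat.lt_succ_self _) hS F hF hfree hne

/-- If the maps fixing `Z(S)` and those normalizing `J(S)` are inner then all maps are. -/
theorem isInner_of_center_thompsonA (hS : IsPGroup p S) (hF : F.IsSaturated p) (hfree : Free p F)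
    (hC : ∀ P f, IsMap F P f → centerOf S ≤ P → (∀ x ∈ centerOf S, f x = x) →
      ∃ s ∈ S, ∀ x ∈ P, f x = s * x * s⁻¹)
    (hN : NInner F (Cfsg.thompsonSubgroupAOf S)) : IsInner F := by
  by_contra hne
  obtain ⟨E, hEF, hEc, hEne⟩ := exists_constrained_not_inner_free hS hF hfree hne
  rcases exists_not_inner_of_constrained hS (free_of_le hEF hfree) hEc hEne
    with h | ⟨P, f, hf, hZP, hfix, hnot⟩
  · exact h (ninner_of_le hEF hN)
  · exact hnot (hC P f (isMap_of_le hEF hf) hZP hfix)

end CfsgLib.Fusion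

namespace CfsgLib.Fusion

open Cfsg (FusionSystem)
open Cfsg.FusionSystem (normalizerIn centralizerIn)

universe u

variable {Ω : Type u} [Group Ω] {S : Subgroup Ω} {F : FusionSystem S}

/-- The centralizer system of `Z(S)` being inner, in terms of maps. -/
theorem forall_fix_center_inner
    (hC : ∀ C : FusionSystem (centralizerIn S (S ⊓ Subgroup.centralizer (S : Set Ω))),
      F.IsCentralizerSystem (S ⊓ Subgroup.centralizer (S : Set Ω)) C → ∀ P : Subgroup Ω,
        C.Hom P = (Cfsg.innerFusionSystem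
          (centralizerIn S (S ⊓ Subgroup.centralizer (S : Set Ω)))).Hom P)
    (P : Subgroup Ω) (f : Ω → Ω) (hf : IsMap F P f) (hZ : centerOf S ≤ P)
    (hfix : ∀ x ∈ centerOf S, f x = x) : ∃ s ∈ S, ∀ x ∈ P, f x = s * x * s⁻¹ := by
  set T := centralizerIn S (S ⊓ Subgroup.centralizer (S : Set Ω)) with hT
  have hST : S ≤ T := fun s hs => ⟨hs, Subgroup.mem_centralizer_iff.2 fun z hz =>
    (Subgroup.mem_centralizer_iff.1 hz.2 s hs).symm⟩
  have hm : IsMap (cSystem F T _ le_rfl inf_le_left) P f :=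
    isMap_cSystem_iff.2 ⟨hf.le.trans hST, fun x hx => hST (hf.mem_S hx), f,
      by rwa [sup_eq_left.2 hZ], fun _ _ => rfl, hfix⟩
  obtain ⟨s, hs, he⟩ := isInner_iff.2 (hC _ fun R => Set.ext fun φ => by
    rw [mem_centralizerHom_iff, mem_hom_iff, isMap_cSystem_iff]) P f hm
  exact ⟨s, hs.1, he⟩

end CfsgLib.Fusion
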