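import Cfsg.Agent.Lib.Fusion.System.QdNormal
import Cfsg.Agent.Lib.Fusion.System.Glauberman
import Cfsg.Agent.Lib.Fusion.ZJFamilies
import Cfsg.Agent.Lib.Qd.Unstable

/-!
# Systems without sections `Qd(p)` are constrained
-/

set_option autoImplicit false
set_option linter.style.haveILetI false

open Subgroup
open scoped Classical commutatorElement

namespace CfsgLib.Fusion

open Cfsg (FusionSystem)
open Cfsg.FusionSystem (normalizerIn centralizerIn preimageAlong)

universe u v

/-- `Z(J)` of a group, as a functor. -/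
def zjFun (A : Type u) [Group A] : Subgroup A := centerOf (Cfsg.thompsonSubgroupAOf (⊤ : Subgroup A))

theorem centerThompsonAOf_eq {G : Type u} [Group G] (T : Subgroup G) :
    Cfsg.centerThompsonAOf T = centerOf (Cfsg.thompsonSubgroupAOf T) := rfl

theorem map_zjFun {A B : Type u} [Group A] [Group B] [Finite A] [Finite B] (f : A →* B)
    (hf : Function.Injective f) :
    (zjFun A).map f = Cfsg.centerThompsonAOf f.range := by
  rw [zjFun, map_centerOf f hf, map_thompsonSubgroupAOf f hf, ← MonoidHom.range_eq_map]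
  rfl

theorem wSub_zjFun {Ω : Type u} [Group Ω] [Finite Ω] (S : Subgroup Ω) :
    wSub zjFun S = Cfsg.centerThompsonAOf S := by
  rw [wSub, map_zjFun S.subtype S.subtype_injective, Subgroup.range_subtype]

variable {p : ℕ} [Fact p.Prime]

theorem thompsonA_ne_bot_top {A : Type u} [Group A] [Finite A] (hA : IsPGroup p A) [Nontrivial A] :
    Cfsg.thompsonSubgroupAOf (⊤ : Subgroup A) ≠ ⊥ :=
  thompsonA_ne_bot_in (S := (⊤ : Subgroup A)) (hA.to_subgroup ⊤) top_ne_bot

theorem qdFunctor_zjFun (hp : p ≠ 2) : QdFunctor p (zjFun : ∀ (A : Type u) [Group A], Subgroup A) where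
  nontrivial A _ _ hA _ := centerOf_ne_bot (hA.to_subgroup _) (thompsonA_ne_bot_top hA)
  natural A B _ _ _ _ φ := by
    haveI : Finite B := Finite.of_equiv A φ.toEquiv
    rw [map_zjFun φ.toMonoidHom φ.injective]
    show Cfsg.centerThompsonAOf φ.toMonoidHom.range = zjFun B
    rw [MonoidHom.range_eq_top.2 φ.surjective]
    rfl
  loc L _ _ T hc hfree := by
    rw [map_zjFun (T : Subgroup L).subtype (T : Subgroup L).subtype_injective, Subgroup.range_subtype]
    refine centerThompsonAOf_normal hp hc (fun P hPn hP => ?_) T le_rfl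
      (fun Q hQ g hg y hy => hQ ((Subgroup.mem_normalizer_iff.1 hg y).1 hy.2))
    by_contra hcon
    exact hfree (CfsgLib.Qd.sections_of_not_isPStableOn hp P hP hcon).1

/-- The center of a functor. -/
def centerFun (W : ∀ (A : Type u) [Group A], Subgroup A) (A : Type u) [Group A] : Subgroup A :=
  centerOf (W A)

theorem qdFunctor_centerFun {W : ∀ (A : Type u) [Group A], Subgroup A} (hW : QdFunctor p W) :
    QdFunctor p (centerFun W) where
  nontrivial A _ _ hA hA' := centerOf_ne_bot (hA.to_subgroup _) (hW.nontrivial A hA hA')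
  natural A B _ _ _ hA φ := by
    rw [centerFun, map_centerOf φ.toMonoidHom φ.injective, hW.natural A B hA φ]
    rfl
  loc L _ _ T hc hfree := by
    haveI hn := hW.loc L T hc hfree
    rw [centerFun, map_centerOf _ (T : Subgroup L).subtype_injective]
    refine ⟨fun x hx g => ⟨hn.conj_mem _ hx.1 g, Subgroup.mem_centralizer_iff.2 fun y hy => ?_⟩⟩
    have hy' := hn.conj_mem _ hy g⁻¹
    rw [inv_inv] at hy'
    have h := Subgroup.mem_centralizer_iff.1 hx.2 _ hy'
    calc y * (g * x * g⁻¹) = g * (g⁻¹ * y * g * x) * g⁻¹ := by group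
      _ = g * (x * (g⁻¹ * y * g)) * g⁻¹ := by rw [h]
      _ = g * x * g⁻¹ * y := by group

variable {Ω : Type u} [Group Ω] {S : Subgroup Ω} [Finite S] {F : FusionSystem S}

theorem isNormal_wSub {W : ∀ (A : Type u) [Group A], Subgroup A} (hW : QdFunctor p W)
    (hS : IsPGroup p S) (hF : F.IsSaturated p) (hfree : NoQd p F) : F.IsNormal (wSub W S) :=
  normalBelow hW (Nat.card S + 1) Ω S (Nat.lt_succ_self _) hS F hF hfree

/-- A system is constrained when a functor gives normal subgroups in the quotients of its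
subsystems by kernels that they centralize. -/
theorem isConstrained_of_functor {W : ∀ (A : Type u) [Group A], Subgroup A} (hW : QdFunctor p W)
    (hab : ∀ (A : Type u) [Group A] (x : A), x ∈ W A → ∀ y ∈ W A, x * y = y * x) (hS : IsPGroup p S) (hF : F.IsSaturated p)
    (H : ∀ (C : Subgroup Ω) [Finite C] (CF : FusionSystem C) {Ω' : Type u} [Group Ω'] [Finite Ω']
      (α : C →* Ω') (hK : CF.IsNormal (preimageAlong α ⊥)), C ≤ S → CF.IsSaturated p →
      (∀ P f, IsMap CF P f → IsMap F P f) →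
      (∀ P f, IsMap CF P f → ∀ x ∈ preimageAlong α ⊥, x ∈ P → f x = x) →
      (F.core ≠ ⊥ → Nat.card α.range < Nat.card S) →
      (quotientSystem hK).IsNormal (wSub W α.range)) : F.IsConstrained p := by
  refine ⟨hF, F.core, isNormal_core, ?_⟩
  by_contra hnc
  set Q := F.core with hQdef
  have hQ : F.IsNormal Q := isNormal_core
  have hQS := hQ.1
  have hQn : S ≤ normalizerIn S Q :=
    le_normalizerIn_of_stronglyClosed (stronglyClosed_of_isNormal hQ)
  have hQfn := isFullyNormalized_of_isNormal hQ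
  have hQfc := IsSaturated.isFullyCentralized hS hF hQfn
  set C := centralizerIn S Q with hC
  have hCS : C ≤ S := inf_le_left
  haveI : Finite C := finite_of_le hCS
  have hCp : IsPGroup p C := hS.to_le hCS
  set CF := cSystem F C Q le_rfl hQS with hCF
  have hCFs : CF.IsSaturated p := isSaturated_centralizerSystem hS hF hQfc fun P => Set.ext fun φ => by
    rw [mem_centralizerHom_iff]
    exact Iff.rfl
  set Z := Q ⊓ C with hZ
  have hZC : Z ≤ C := inf_le_right
  have hZn : CF.IsNormal Z := by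
    refine isNormal_iff.2 ⟨hZC, fun P f hf => ?_⟩
    obtain ⟨h1, h2, g, hg, hgf, hgQ⟩ := isMap_cSystem_iff.1 hf
    have hle : P ⊔ Z ≤ P ⊔ Q := sup_le_sup_left inf_le_left _
    have hmem : ∀ x ∈ P ⊔ Z, g x ∈ C := fun x hx => (hg.mono hle).map_mem_of_sup
      (fun y hy => by rw [hgf y hy]; exact h2 y hy) (fun y hy => by rw [hgQ y hy.1]; exact hy.2) hx
    refine ⟨g, isMap_cSystem_iff.2 ⟨sup_le h1 hZC, hmem, g,
      hg.mono (sup_le hle le_sup_right), fun _ _ => rfl, hgQ⟩, hgf, ?_⟩
    exact (IsMap.img_congr fun x hx => hgQ x (inf_le_left (b := C) hx)).trans img_id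
  haveI : (Z.subgroupOf C).Normal :=
    (Subgroup.normal_subgroupOf_iff_le_normalizer hZC).2 fun c hc =>
      Subgroup.mem_normalizer_iff.2 fun x => by
        constructor
        · intro hx
          rw [← Subgroup.mem_centralizer_iff.1 hc.2 x hx.1, mul_inv_cancel_right]
          exact hx
        · intro hx
          have h := Subgroup.mem_centralizer_iff.1 hc.2 _ hx.1
          rw [show x = c * x * c⁻¹ from mul_left_cancel (a := c) (h.symm.trans (by group)).symm]
          exact hx
  let α : C →* C ⧸ Z.subgroupOf C := QuotientGroup.mk' _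
  have hαs : Function.Surjective α := QuotientGroup.mk'_surjective _
  have hker : preimageAlong α ⊥ = Z := by
    rw [preimageAlong, MonoidHom.comap_bot, QuotientGroup.ker_mk']
    exact Subgroup.map_subgroupOf_eq_of_le hZC
  have hKn : CF.IsNormal (preimageAlong α ⊥) := hker.symm ▸ hZn
  haveI : Finite (C ⧸ Z.subgroupOf C) := inferInstance
  have hqp : IsPGroup p (C ⧸ Z.subgroupOf C) := hCp.to_quotient _
  haveI : Finite α.range := Finite.of_surjective _ α.rangeRestrict_surjective
  have hsub : ∀ P f, IsMap CF P f → IsMap F P f := fun P f hf => (isMap_cSystem_iff.1 hf).isMap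
  have hfix : ∀ P f, IsMap CF P f → ∀ x ∈ preimageAlong α ⊥, x ∈ P → f x = x := by
    intro P f hf x hx hxP
    obtain ⟨-, -, g, -, hgf, hgQ⟩ := isMap_cSystem_iff.1 hf
    rw [← hgf x hxP, hgQ x (hker.le hx).1]
  have hsmall : F.core ≠ ⊥ → Nat.card α.range < Nat.card S := by
    intro hQ1
    have hZ1 : Z ≠ ⊥ := fun h => by
      haveI : (Q.subgroupOf S).Normal :=
        (Subgroup.normal_subgroupOf_iff_le_normalizer hQS).2 (hQn.trans inf_le_right)
      haveI : Group.IsNilpotent S := hS.isNilpotent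
      refine CfsgLib.Coprime.nilpotent_inf_center_ne_bot (Q.subgroupOf S)
        (fun h0 => hQ1 <| by
          show Q = ⊥
          rw [← Subgroup.map_subgroupOf_eq_of_le hQS, h0, Subgroup.map_bot])
        (eq_bot_iff.2 fun z hz => Subgroup.mem_bot.2 (Subtype.ext (Subgroup.mem_bot.1 (h.le
          ⟨hz.1, z.2, Subgroup.mem_centralizer_iff.2 fun w hw =>
            congrArg Subtype.val (Subgroup.mem_center_iff.1 hz.2 ⟨w, hQS hw⟩)⟩))))
    rw [MonoidHom.range_eq_top.2 hαs, Subgroup.card_top]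
    refine lt_of_lt_of_le ?_ (card_le_of_le' le_rfl hCS)
    rw [Subgroup.card_eq_card_quotient_mul_card_subgroup (Z.subgroupOf C)]
    refine lt_mul_of_one_lt_right Nat.card_pos ?_
    rw [Nat.card_congr (Subgroup.subgroupOfEquivOfLe hZC).toEquiv]
    haveI : Finite Z := finite_of_le hZC
    exact (Subgroup.one_lt_card_iff_ne_bot _).2 hZ1
  have hU' := H C CF α hKn hCS hCFs hsub hfix hsmall
  set U := W (C ⧸ Z.subgroupOf C) with hU
  have hUeq : wSub W α.range = U := by
    let e : α.range ≃* C ⧸ Z.subgroupOf C :=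
      (MulEquiv.subgroupCongr (MonoidHom.range_eq_top.2 hαs)).trans Subgroup.topEquiv
    rw [hU, ← hW.natural α.range _ (hCp.of_surjective _ α.rangeRestrict_surjective) e]
    rfl
  rw [hUeq] at hU'
  set Y := preimageAlong α U with hY
  have hYn : CF.IsNormal Y := isNormal_preimage hCp hCFs hKn (fun R f hf hKR => by
    obtain ⟨-, -, g, -, hgf, hgQ⟩ := isMap_cSystem_iff.1 hf
    refine ⟨1, C.one_mem, fun x hx => ?_⟩
    rw [← hgf x (hKR hx), hgQ x (hker.le hx).1]
    simp) hU'
  have hYC : Y ≤ C := preimageAlong_le α U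
  have hZY : Z ≤ Y := hker ▸ preimageAlong_mono bot_le
  -- invariance of `Y` under automorphisms of `C` normalizing `Q`
  have hinv : ∀ (h : Ω → Ω), IsMap F C h → img C h = C → (∀ x ∈ Z, h x ∈ Q) →
      ∀ y ∈ Y, h y ∈ Y := by
    intro h hh himg hhQ y hy
    set σ := autOf hh himg with hσ
    have hσe : ∀ x : C, ((σ x : C) : Ω) = h x := fun x => by
      rw [← autFun_coe, autFun_autOf hh himg x.2]
    have hmapZ : (Z.subgroupOf C).map σ.toMonoidHom = Z.subgroupOf C := by
      refine Subgroup.eq_of_le_of_card_ge ?_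
        (Subgroup.card_map_of_injective σ.injective).ge
      rintro _ ⟨x, hx, rfl⟩
      show ((σ x : C) : Ω) ∈ Z
      rw [hσe]
      exact ⟨hhQ x hx, hσe x ▸ (σ x).2⟩
    let φ : C ⧸ Z.subgroupOf C ≃* C ⧸ Z.subgroupOf C := QuotientGroup.congr _ _ σ hmapZ
    have hφ : U.map φ.toMonoidHom = U := hW.natural _ _ hqp φ
    obtain ⟨hyC, hy'⟩ := mem_preimageAlong.1 hy
    refine mem_preimageAlong.2 ⟨hσe ⟨y, hyC⟩ ▸ (σ ⟨y, hyC⟩).2, ?_⟩
    rw [ext1_apply α hyC] at hy'
    have h2 : φ (α ⟨y, hyC⟩) ∈ U := hφ.le (Subgroup.mem_map_of_mem _ hy')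
    have h3 : ext1 α (h y) = φ (α ⟨y, hyC⟩) := by
      rw [← hσe ⟨y, hyC⟩, ext1_coe]
      rfl
    rwa [h3]
  have hZsc : F.StronglyClosed Z := by
    refine stronglyClosed_iff.2 ⟨inf_le_left.trans hQS, fun R f hR hf x hx => ?_⟩
    obtain ⟨g, hg, hgf, hgQ⟩ := (isNormal_iff.1 hQ).2 R f hf
    rw [← hgf x hx]
    refine ⟨mem_of_img_eq hg le_sup_right hgQ (hR hx).1, ?_⟩
    have h1 := map_mem_centralizerIn hg le_sup_right (Subgroup.mem_sup_left hx) (hR hx).2.2
    rwa [hgQ] at h1
  have hYsc : F.StronglyClosed Y := by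
    refine stronglyClosed_iff.2 ⟨hYC.trans hCS, fun R f hR hf x hx => ?_⟩
    obtain ⟨g, hg, hgf, hgQ⟩ := (isNormal_iff.1 hQ).2 R f hf
    obtain ⟨h, hh, hhg⟩ := (isReceptive_iff.1 (IsSaturated.automized_receptive hS hF hQfn).2).2 Q g
      (hg.mono le_sup_right) hgQ
    have hX₀ : R ⊔ Q ≤ extSub S Q g := fun z hz =>
      mem_extSub.2 ⟨hQn (hg.le hz), g z, hg.mem_S hz,
        fun w hw => hg.map_conj hz ((le_sup_right : Q ≤ R ⊔ Q) hw)⟩
    have hQh : IsMap F Q h := hh.mono (le_extSub (hg.mono le_sup_right))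
    have hhQ : img Q h = Q := (IsMap.img_congr hhg).trans hgQ
    have hhC : IsMap F C h := hh.mono centralizerIn_le_extSub
    have hmemC : ∀ c ∈ C, h c ∈ C := fun c hc => by
      have h1 := map_mem_centralizerIn hh (le_extSub (hg.mono le_sup_right))
        (centralizerIn_le_extSub hc) hc.2
      rwa [hhQ] at h1
    have hCimg : img C h = C := img_eq_of_map_le hCS hhC le_rfl hmemC
    have hhY := hinv h hhC hCimg fun z hz => mem_of_img_eq hQh le_rfl hhQ hz.1
    have hh₀ : IsMap F (R ⊔ Q) h := hh.mono hX₀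
    obtain ⟨h', hh', hh'1, hh'2⟩ := hh₀.exists_inv
    have hc : IsMap F (img (R ⊔ Q) h) (g ∘ h') := hh'.comp hg fun y hy => (hh'2 y hy).1
    have hR₀ : IsMap F R h := hh₀.mono le_sup_left
    have hQ₀ : Q ≤ img (R ⊔ Q) h := hhQ.ge.trans (IsMap.img_mono hh₀ le_sup_right)
    have hR₁ : img R h ≤ Y := fun y hy => by
      obtain ⟨r, hr, rfl⟩ := hR₀.mem_img.1 hy
      exact hhY r (hR hr)
    have hmemgC : ∀ r ∈ R, g r ∈ C := fun r hr => by
      have h1 := map_mem_centralizerIn hg le_sup_right (Subgroup.mem_sup_left hr) (hYC (hR hr)).2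
      rwa [hgQ] at h1
    have hcCF : IsMap CF (img R h) (g ∘ h') := by
      refine isMap_cSystem_iff.2 ⟨hR₁.trans hYC, fun y hy => ?_, g ∘ h',
        hc.mono (sup_le (IsMap.img_mono hh₀ le_sup_left) hQ₀), fun _ _ => rfl, fun y hy => ?_⟩
      · obtain ⟨r, hr, rfl⟩ := hR₀.mem_img.1 hy
        show g (h' (h r)) ∈ C
        rw [hh'1 r (Subgroup.mem_sup_left hr)]
        exact hmemgC r hr
      · obtain ⟨z, hz, rfl⟩ := hQh.mem_img.1 (hhQ.ge hy)
        show g (h' (h z)) = _
        rw [hh'1 z (Subgroup.mem_sup_right hz), hhg z hz]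
    have h2 := (stronglyClosed_iff.1 (stronglyClosed_of_isNormal hYn)).2 _ _ hR₁ hcCF (h x)
      (hR₀.mem_img.2 ⟨x, hx, rfl⟩)
    rw [Function.comp_apply, hh'1 x (Subgroup.mem_sup_left hx), hgf x hx] at h2
    exact h2
  have hYnF : F.IsNormal Y := by
    have hbot : F.StronglyClosed (⊥ : Subgroup Ω) := stronglyClosed_bot
    refine isNormal_of_series hS hF (n := 2) (Qs := ![⊥, Z, Y]) rfl rfl ?_ ?_ ?_
    · refine Fin.monotone_iff_le_succ.2 fun i => ?_
      fin_cases i
      · exact bot_le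
      · exact hZY
    · intro i
      fin_cases i
      · exact hZsc
      · exact hYsc
    · intro i
      fin_cases i
      · show ⁅Y, Z⁆ ≤ ⊥
        refine Subgroup.commutator_le.2 fun y hy z hz => ?_
        rw [Subgroup.mem_bot, commutatorElement_eq_one_iff_mul_comm]
        exact (Subgroup.mem_centralizer_iff.1 (hYC hy).2 z hz.1).symm
      · show ⁅Y, Y⁆ ≤ Z
        refine Subgroup.commutator_le.2 fun y hy z hz => ?_
        obtain ⟨hyC, hy'⟩ := mem_preimageAlong.1 hy
        obtain ⟨hzC, hz'⟩ := mem_preimageAlong.1 hz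
        rw [ext1_apply α hyC] at hy'
        rw [ext1_apply α hzC] at hz'
        rw [← hker]
        refine mem_preimageAlong.2 ⟨(⁅(⟨y, hyC⟩ : C), ⟨z, hzC⟩⁆ : C).2, ?_⟩
        have he : ext1 α ⁅y, z⁆ = α ⁅(⟨y, hyC⟩ : C), ⟨z, hzC⟩⁆ :=
          ext1_coe α ⁅(⟨y, hyC⟩ : C), ⟨z, hzC⟩⁆
        rw [he, map_commutatorElement, Subgroup.mem_bot, commutatorElement_eq_one_iff_mul_comm]
        exact hab _ _ hy' _ hz'
  have hYQ : Y ≤ Z := le_inf ((le_core hYnF).trans_eq hQdef.symm) hYC
  have hUbot : U = ⊥ := by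
    rw [eq_bot_iff]
    intro w hw
    obtain ⟨c, rfl⟩ := hαs w
    have h1 : (c : Ω) ∈ Y := mem_preimageAlong.2 ⟨c.2, by rwa [ext1_coe]⟩
    rw [Subgroup.mem_bot]
    exact (QuotientGroup.eq_one_iff c).2 (hYQ h1)
  refine hnc (isCentric_of_fullyCentralized hQfc fun c hc => ?_)
  by_contra hcQ
  haveI : Nontrivial (C ⧸ Z.subgroupOf C) := ⟨α ⟨c, hc⟩, 1, fun h =>
    hcQ ((QuotientGroup.eq_one_iff (N := Z.subgroupOf C) _).1 h).1⟩
  exact hW.nontrivial _ hqp inferInstance hUbot

/-- A system at an odd prime is constrained when `Z(J)` gives normal subgroups in such quotients. -/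
theorem isConstrained_of_quotient_normal (hp : p ≠ 2) (hS : IsPGroup p S) (hF : F.IsSaturated p)
    (H : ∀ (C : Subgroup Ω) [Finite C] (CF : FusionSystem C) {Ω' : Type u} [Group Ω'] [Finite Ω']
      (α : C →* Ω') (hK : CF.IsNormal (preimageAlong α ⊥)), C ≤ S → CF.IsSaturated p →
      (∀ P f, IsMap CF P f → IsMap F P f) →
      (∀ P f, IsMap CF P f → ∀ x ∈ preimageAlong α ⊥, x ∈ P → f x = x) →
      (F.core ≠ ⊥ → Nat.card α.range < Nat.card S) →
      (quotientSystem hK).IsNormal (wSub zjFun α.range)) : F.IsConstrained p :=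
  isConstrained_of_functor (qdFunctor_zjFun hp)
    (fun _ _ _ hx _ hy => (Subgroup.mem_centralizer_iff.1 hx.2 _ hy.1).symm) hS hF H

/-- A system without sections `Qd(p)` is constrained when there is a functor as above. -/
theorem isConstrained_of_functor_of_noQd {W : ∀ (A : Type u) [Group A], Subgroup A}
    (hW : QdFunctor p W) (hS : IsPGroup p S) (hF : F.IsSaturated p)
    (hfree : NoQd p F) : F.IsConstrained p :=
  isConstrained_of_functor (qdFunctor_centerFun hW)
    (fun _ _ _ hx _ hy => (Subgroup.mem_centralizer_iff.1 hx.2 _ hy.1).symm) hS hF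
    fun C _ CF _ _ _ α hK hCS hCFs hsub _ _ =>
    haveI : Finite α.range := Finite.of_surjective _ α.rangeRestrict_surjective
    isNormal_wSub (qdFunctor_centerFun hW) ((hS.to_le hCS).of_surjective _ α.rangeRestrict_surjective)
      (isSaturated_quotientSystem hK (hS.to_le hCS) hCFs)
      (noQd_quotientSystem hK fun Q U a b d => hfree Q U a b
        { d with mapA := hsub _ _ d.mapA, mapB := hsub _ _ d.mapB })

/-- A system at an odd prime without sections `Qd(p)` is constrained. -/
theorem isConstrained_of_noQd (hp : p ≠ 2) (hS : IsPGroup p S) (hF : F.IsSaturated p)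
    (hfree : NoQd p F) : F.IsConstrained p :=
  isConstrained_of_quotient_normal hp hS hF fun C _ CF _ _ _ α hK hCS hCFs hsub _ _ =>
    haveI : Finite α.range := Finite.of_surjective _ α.rangeRestrict_surjective
    isNormal_wSub (qdFunctor_zjFun hp) ((hS.to_le hCS).of_surjective _ α.rangeRestrict_surjective)
      (isSaturated_quotientSystem hK (hS.to_le hCS) hCFs)
      (noQd_quotientSystem hK fun Q U a b d => hfree Q U a b
        { d with mapA := hsub _ _ d.mapA, mapB := hsub _ _ d.mapB })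

/-- At an odd prime a system without sections `Qd(p)` has a model. -/
theorem exists_model_of_noQd (hp : p ≠ 2) (hS : IsPGroup p S) (hF : F.IsSaturated p)
    (hfree : NoQd p F) :
    ∃ (L : Type u) (_ : Group L) (ι : S →* L), F.IsModel p L ι ∧ ¬ Cfsg.Involves ↥(Cfsg.qd p) L := by
  obtain ⟨-, Q, hQ, hQc⟩ := isConstrained_of_noQd hp hS hF hfree
  obtain ⟨L, hL, ι, hm⟩ := exists_model_of_normal_centric hS hF hQ hQc
  obtain ⟨hfin, hreal, ⟨T, hT⟩, -⟩ := id hm
  haveI := hfin
  exact ⟨L, hL, ι, hm, not_involves_of_noQd hfree hreal.1 T hT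
    fun P hP g hg => exists_map_of_conj hreal hP hg⟩

end CfsgLib.Fusion
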