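import Cfsg.Agent.Lib.Fusion.System.AutStable
import Cfsg.Agent.Lib.Fusion.System.QdConstrained
import Cfsg.Agent.Lib.Fusion.System.GroupCriteria
import Cfsg.Prelude.Def_TwoFusion

/-!
# The centres of Thompson subgroups of strongly closed subgroups control fusion
-/

set_option autoImplicit false
set_option linter.style.haveILetI false
set_option linter.unusedSectionVars false

open Subgroup
open scoped Classical commutatorElement

namespace CfsgLib.Fusion

open Cfsg (FusionSystem groupFusionSystem)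
open Cfsg.FusionSystem (normalizerIn centralizerIn)

universe u

variable {p : ℕ} [Fact p.Prime]

section System

variable {Ω : Type u} [Group Ω] [Finite Ω] {S : Subgroup Ω} {F : FusionSystem S} {D : Subgroup Ω}

omit [Fact p.Prime] [Finite Ω] in
theorem mem_of_stronglyClosed (hD : F.StronglyClosed D) (P : Subgroup Ω) (f : Ω → Ω)
    (hf : IsMap F P f) (x : Ω) (hx : x ∈ P) (hxD : x ∈ D) : f x ∈ D :=
  (stronglyClosed_iff.1 hD).2 (P ⊓ D) f inf_le_right (hf.mono inf_le_left) x ⟨hx, hxD⟩

/-- Both centres are normal in a system with a stable model. -/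
theorem isNormal_centres_of_model (hp : p ≠ 2) (hS : IsPGroup p S) (hD : F.StronglyClosed D)
    {L : Type u} [Group L] {ι : S →* L} (hm : F.IsModel p L ι)
    (hst : ∀ (P : Subgroup L) [P.Normal], IsPGroup p P → Cfsg.IsPStableOn p P) :
    F.IsNormal (Cfsg.centerThompsonAOf D) ∧
      F.IsNormal (Cfsg.omegaOne p (Cfsg.centerThompsonOf p D)) := by
  have hDn : S ≤ Subgroup.normalizer (D : Set Ω) :=
    (le_normalizerIn_of_stronglyClosed hD).trans inf_le_right
  rw [← Iof_maxAb_eq_centerThompsonA hD.1, ← Iof_maxEA_eq_omega hD.1]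
  refine ⟨isNormal_Iof_of_model hm hst (maxAb D) (fun A hA => ⟨hA.1.trans hD.1, hA.2.1⟩)
      (maxAb_nonempty_in hD.1)
      (fun Q f hf himg hex _ hx => maxAb_invariant (mem_of_stronglyClosed hD) Q f hf himg hex hx)
      (maxAb_replacement_in hp hS hD.1 hDn),
    isNormal_Iof_of_model hm hst (maxEA p D) (fun A hA => ⟨hA.1.trans hD.1, hA.2.1.1⟩)
      (maxEA_nonempty_in hD.1)
      (fun Q f hf himg hex _ hx => maxEA_invariant (mem_of_stronglyClosed hD) Q f hf himg hex hx)
      (maxEA_replacement_in hp hS hD.1 hDn)⟩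

/-- Both centres are normal in a system without `Qd(p)`. -/
theorem isNormal_centres_of_noQd (hp : p ≠ 2) (hS : IsPGroup p S) (hF : F.IsSaturated p)
    (hfree : NoQd p F) (hD : F.StronglyClosed D) :
    F.IsNormal (Cfsg.centerThompsonAOf D) ∧
      F.IsNormal (Cfsg.omegaOne p (Cfsg.centerThompsonOf p D)) := by
  obtain ⟨L, hL, ι, hm, hnot⟩ := exists_model_of_noQd hp hS hF hfree
  haveI := hm.1
  refine isNormal_centres_of_model hp hS hD hm fun P hPn hP => ?_
  by_contra hcon
  exact hnot (CfsgLib.Qd.sections_of_not_isPStableOn hp P hP hcon).1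

/-- `Z(J(S))` is normal in a system without `Qd(p)`. -/
theorem isNormal_centerThompsonOf_of_noQd (hp : p ≠ 2) (hS : IsPGroup p S) (hF : F.IsSaturated p)
    (hfree : NoQd p F) : F.IsNormal (Cfsg.centerThompsonOf p S) := by
  obtain ⟨L, hL, ι, hm, hnot⟩ := exists_model_of_noQd hp hS hF hfree
  obtain ⟨hfin, hreal, ⟨T, hT⟩, hc⟩ := id hm
  haveI := hfin
  refine isNormal_of_imgι_normal hreal
    ((inf_le_left : Cfsg.centerThompsonOf p S ≤ _).trans (thompsonSubgroupOf_le S)) ?_
  rw [imgι_centerThompsonOf hreal.1, ← hT]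
  refine centerThompsonOf_normal hp hc (fun P hPn hP => ?_) T
  by_contra hcon
  exact hnot (CfsgLib.Qd.sections_of_not_isPStableOn hp P hP hcon).1

/-- A nontrivial subgroup normalized by `S` meets the centre of `S`. -/
theorem inf_centralizer_ne_bot (hS : IsPGroup p S) (hDS : D ≤ S) (hD : D ≠ ⊥)
    (hn : S ≤ Subgroup.normalizer (D : Set Ω)) :
    D ⊓ centralizerIn S S ≠ ⊥ := by
  haveI : (D.subgroupOf S).Normal := (Subgroup.normal_subgroupOf_iff_le_normalizer hDS).2 hn
  haveI : Group.IsNilpotent S := hS.isNilpotent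
  have h1 : D.subgroupOf S ≠ ⊥ := fun h => hD <| by
    rw [← Subgroup.map_subgroupOf_eq_of_le hDS, h, Subgroup.map_bot]
  obtain ⟨z, hz, hz1⟩ : ∃ z ∈ D.subgroupOf S ⊓ Subgroup.center S, z ≠ 1 := by
    by_contra h
    push Not at h
    exact CfsgLib.Coprime.nilpotent_inf_center_ne_bot (D.subgroupOf S) h1
      (eq_bot_iff.2 fun z hz => Subgroup.mem_bot.2 (h z hz))
  intro h
  refine hz1 (Subtype.ext (Subgroup.mem_bot.1 (h.le ⟨hz.1, z.2, ?_⟩)))
  exact Subgroup.mem_centralizer_iff.2 fun w hw =>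
    congrArg Subtype.val (Subgroup.mem_center_iff.1 hz.2 ⟨w, hw⟩)

end System

section Groups

variable {G : Type u} [Group G] [Finite G] {D : Subgroup G}

omit [Fact p.Prime] [Finite G] in
/-- Strong closure in a group gives strong closure in its fusion system. -/
theorem stronglyClosed_group {P : Subgroup G} (hD : Cfsg.IsStronglyClosed D P) :
    (groupFusionSystem P).StronglyClosed D := by
  refine stronglyClosed_iff.2 ⟨hD.1, fun R f hR hf x hx => ?_⟩
  obtain ⟨-, g, hg⟩ := isMap_group_iff.1 hf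
  rw [(hg x hx).2]
  exact hD.2 x (hR hx) g (hg x hx).1

/-- The normalizer of a subgroup normalizes its intersection of largest elementary abelian
subgroups. -/
theorem normalizer_le_normalizer_omega (X : Subgroup G) :
    Subgroup.normalizer (X : Set G) ≤
      Subgroup.normalizer (Cfsg.omegaOne p (Cfsg.centerThompsonOf p X) : Set G) := by
  intro g hg
  rw [← iInf_maxEA, ← Iof_maxEA_top X X le_rfl]
  obtain ⟨A, hA⟩ := maxEA_nonempty (p := p) X
  refine conjBy_eq_iff.1 (conjBy_eq_of_le (conjBy_le_iff.2 fun x hx => ?_))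
  exact Iof_maxEA_invariant ⟨A, hA, hA.1⟩ hg
    (fun y hy => (Subgroup.mem_normalizer_iff.1 hg y).1 hy.1) hx

/-- Both centres are normal when the system is stable and the local subgroups are constrained. -/
theorem isNormal_centres_of_stable (hp : p ≠ 2) (P : Sylow p G)
    (hD : Cfsg.IsStronglyClosed D (P : Subgroup G))
    (hst : AutStable p (groupFusionSystem (P : Subgroup G)))
    (hc : ∀ U : Subgroup G, U ≤ (P : Subgroup G) → U ≠ ⊥ →
      Cfsg.IsPConstrained p ↥(Subgroup.normalizer (U : Set G))) :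
    (groupFusionSystem (P : Subgroup G)).IsNormal (Cfsg.centerThompsonAOf D) ∧
      (groupFusionSystem (P : Subgroup G)).IsNormal
        (Cfsg.omegaOne p (Cfsg.centerThompsonOf p D)) := by
  set S : Subgroup G := (P : Subgroup G) with hSd
  set F := groupFusionSystem S
  have hS : IsPGroup p S := P.2
  have hF : F.IsSaturated p := isSaturated_group P
  have hDF := stronglyClosed_group hD
  have hDS : D ≤ S := hD.1
  have hDn : S ≤ Subgroup.normalizer (D : Set G) :=
    (le_normalizerIn_of_stronglyClosed hDF).trans inf_le_right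
  by_cases hD1 : D = ⊥
  · have h1 : Cfsg.centerThompsonAOf D ≤ D := by
      rw [← iInf_maxAb]
      obtain ⟨A, hA⟩ := maxAb_nonempty D
      exact (iInf₂_le A hA : _ ≤ A).trans hA.1
    have h2 : Cfsg.omegaOne p (Cfsg.centerThompsonOf p D) ≤ D := by
      rw [← iInf_maxEA]
      obtain ⟨A, hA⟩ := maxEA_nonempty (p := p) D
      exact (iInf₂_le A hA : _ ≤ A).trans hA.1
    rw [hD1] at h1 h2 ⊢
    rw [le_bot_iff.1 h1, le_bot_iff.1 h2]
    exact ⟨isNormal_bot, isNormal_bot⟩
  have hDT : ∀ R : Subgroup G, R ≤ S → normalizerIn S R ⊓ D ≠ ⊥ := fun R hR h => by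
    refine inf_centralizer_ne_bot hS hDS hD1 hDn (le_bot_iff.1 fun z hz => h.le ?_)
    obtain ⟨hzD, hzS, hzC⟩ := hz
    exact ⟨⟨hzS, Subgroup.centralizer_le_normalizer _ (Subgroup.centralizer_le hR hzC)⟩, hzD⟩
  have key : ∀ Q : Subgroup G, F.IsFullyNormalized Q → Q ≠ ⊥ →
      ∀ N : FusionSystem (normalizerIn S Q), F.IsNormalizerSystem Q N →
        N.IsNormal (Cfsg.centerThompsonAOf (normalizerIn S Q ⊓ D)) ∧
        N.IsNormal (Cfsg.omegaOne p (Cfsg.centerThompsonOf p (normalizerIn S Q ⊓ D))) := by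
    intro Q hQ hQ1 N hN
    obtain ⟨L, hL, ι, hm⟩ := exists_model_normalizer P hQ (hc Q hQ.1 hQ1) hN
    haveI := hm.1
    have hsub : ∀ R f, IsMap N R f → IsMap F R f := fun R f hf =>
      ((isMap_of_isNormalizerSystem hN).1 hf).isMap
    have hNst : AutStable p N := hst.mono inf_le_left hsub
    obtain ⟨-, hreal, ⟨T, hT⟩, -⟩ := id hm
    refine isNormal_centres_of_model hp (hS.to_le inf_le_left) ?_ hm fun R hRn hR =>
      hNst.isPStableOn hreal.1 T hT (fun R hR g hg => exists_map_of_conj hreal hR hg) R hR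
    refine stronglyClosed_iff.2 ⟨inf_le_left, fun R f hR hf x hx => ⟨hf.mem_S hx, ?_⟩⟩
    exact mem_of_stronglyClosed hDF R f (hsub R f hf) x hx (hR hx).2
  have hinf : ∀ T : Subgroup G, normalizerIn S T ≤ normalizerIn S (T ⊓ D) := fun T s hs =>
    ⟨hs.1, CfsgLib.Coprime.inf_le_normalizer (A := Subgroup.zpowers s)
      (Subgroup.zpowers_le.2 hs.2) (Subgroup.zpowers_le.2 (hDn hs.1)) (Subgroup.mem_zpowers s)⟩
  have hSD : S ⊓ D = D := inf_eq_right.2 hDS
  constructor
  · have h := isNormal_of_local hS hF (fun T => Cfsg.centerThompsonAOf (T ⊓ D))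
      (fun T hT => ?_) (fun Q hQ _ => ?_) (fun T hT => ?_) fun Q hQ hQ1 N hN =>
        (key Q hQ hQ1 N hN).1
    · simpa only [hSD] using h
    · rw [← Iof_maxAb_eq_centerThompsonA (S := T ⊓ D) le_rfl]
      exact (Iof_maxAb_facts hS (inf_le_of_left_le hT)).1.trans inf_le_left
    · rw [← Iof_maxAb_eq_centerThompsonA (S := normalizerIn S Q ⊓ D) le_rfl]
      exact (Iof_maxAb_facts hS (inf_le_of_left_le inf_le_left)).2.1 (hDT Q hQ.1)
    · show normalizerIn S T ≤ _
      rw [← Iof_maxAb_eq_centerThompsonA (S := T ⊓ D) le_rfl]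
      exact (hinf T).trans (Iof_maxAb_facts hS (inf_le_of_left_le hT)).2.2
  · have h := isNormal_of_local hS hF (fun T => Cfsg.omegaOne p (Cfsg.centerThompsonOf p (T ⊓ D)))
      (fun T hT => ?_) (fun Q hQ _ => ?_) (fun T hT => ?_) fun Q hQ hQ1 N hN =>
        (key Q hQ hQ1 N hN).2
    · simpa only [hSD] using h
    · rw [← iInf_maxEA]
      obtain ⟨A, hA⟩ := maxEA_nonempty (p := p) (T ⊓ D)
      exact ((iInf₂_le A hA : _ ≤ A).trans hA.1).trans inf_le_left
    · haveI : Finite ↥(normalizerIn S Q ⊓ D) := inferInstance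
      rw [← Iof_maxEA_eq_omega (S := normalizerIn S Q ⊓ D) le_rfl]
      exact Iof_maxEA_ne_bot (hS.to_le (inf_le_of_left_le inf_le_left)) le_rfl (hDT Q hQ.1)
    · exact le_inf inf_le_left
        (((hinf T).trans inf_le_right).trans (normalizer_le_normalizer_omega _))

/-- If `W` is normal in the fusion system and contains its own `Q`-centralizers in its normalizer,
that normalizer contains `N(Q)`. -/
theorem normalizer_le_normalizer_of_isNormal (P : Sylow p G) {W Q : Subgroup G}
    (hW : (groupFusionSystem (P : Subgroup G)).IsNormal W) (hQ : Q ≤ (P : Subgroup G))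
    (hC : Subgroup.centralizer (Q : Set G) ≤ Subgroup.normalizer (W : Set G)) :
    Subgroup.normalizer (Q : Set G) ≤ Subgroup.normalizer (W : Set G) := by
  intro g hg
  obtain ⟨x, hx, hxg⟩ := (controlsStrongFusionOf_of_isNormal P hW (Q : Set G) hQ).2 g (by
    rintro _ ⟨q, hq, rfl⟩
    exact hQ ((Subgroup.mem_normalizer_iff.1 hg q).1 hq))
  have hc : x⁻¹ * g ∈ Subgroup.centralizer (Q : Set G) := by
    refine Subgroup.mem_centralizer_iff.2 fun q hq => ?_
    calc q * (x⁻¹ * g) = x⁻¹ * (x * q * x⁻¹) * g := by group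
      _ = x⁻¹ * (g * q * g⁻¹) * g := by rw [hxg q hq]
      _ = x⁻¹ * g * q := by group
  have h := mul_mem hx (hC hc)
  rwa [mul_inv_cancel_left] at h

/-- A normal subgroup of the system of a constrained group is normal. -/
theorem normal_of_isNormal (P : Sylow p G) {W : Subgroup G}
    (hc : Subgroup.centralizer ((Cfsg.pCore p G : Subgroup G) : Set G) ≤ Cfsg.pCore p G)
    (hW : (groupFusionSystem (P : Subgroup G)).IsNormal W) : W.Normal := by
  haveI := CfsgLib.Coprime.pCore_normal' (G := G) p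
  have hO : Cfsg.pCore p G ≤ (P : Subgroup G) :=
    (CfsgLib.Coprime.pCore_isPGroup p).le_sylow_of_normal P
  refine Subgroup.normalizer_eq_top_iff.1 (top_unique ?_)
  calc (⊤ : Subgroup G) = Subgroup.normalizer ((Cfsg.pCore p G : Subgroup G) : Set G) :=
        (Subgroup.normalizer_eq_top _).symm
    _ ≤ _ := normalizer_le_normalizer_of_isNormal P hW hO ((hc.trans hO).trans
        ((le_normalizerIn_of_stronglyClosed (stronglyClosed_of_isNormal hW)).trans inf_le_right))

/-- The fusion system of a stable constrained group. -/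
theorem isNormal_centres_of_group (hp : p ≠ 2) (P : Sylow p G)
    (hD : Cfsg.IsStronglyClosed D (P : Subgroup G))
    (hst : AutStable p (groupFusionSystem (P : Subgroup G)))
    (hc : Subgroup.centralizer ((Cfsg.pCore p G : Subgroup G) : Set G) ≤ Cfsg.pCore p G) :
    (groupFusionSystem (P : Subgroup G)).IsNormal (Cfsg.centerThompsonAOf D) ∧
      (groupFusionSystem (P : Subgroup G)).IsNormal
        (Cfsg.omegaOne p (Cfsg.centerThompsonOf p D)) := by
  set ι := (P : Subgroup G).subtype
  have he : ∀ x ∈ (P : Subgroup G), ext1 ι x = x := fun x hx => ext1_apply _ hx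
  have hreal : (groupFusionSystem (P : Subgroup G)).IsRealizedBy ι := by
    refine ⟨(P : Subgroup G).subtype_injective, fun R hR φ hφ => ⟨fun h => ?_, fun ⟨g, hg⟩ => ?_⟩⟩
    · obtain ⟨-, g, hg⟩ := isMap_group_iff.1 (isMap_toFun h)
      exact ⟨g, fun x => by
        have := (hg x x.2).2
        rw [toFun_coe] at this
        exact this⟩
    · refine mem_hom_iff.2 (isMap_group_iff.2 ⟨hR, g, fun x hx => ?_⟩)
      have h : φ ⟨x, hx⟩ = g * x * g⁻¹ := hg ⟨x, hx⟩
      exact ⟨h ▸ hφ ⟨x, hx⟩, by rw [toFun_apply φ hx, h]⟩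
  refine isNormal_centres_of_model hp P.2 (stronglyClosed_group hD) (ι := ι)
    ⟨inferInstance, hreal, ⟨P, (Subgroup.range_subtype _).symm⟩, hc⟩ fun R hRn hR =>
    hst.isPStableOn hreal.1 P (Subgroup.range_subtype _).symm
      (fun R hR g hg => exists_map_of_conj hreal hR hg) R hR

/-- A `p`-complement in the normalizer of either centre. -/
theorem hasNormalPComplement_of_centres (hp : p ≠ 2) (P : Sylow p G)
    (hD : Cfsg.IsStronglyClosed D (P : Subgroup G))
    (h : Cfsg.HasNormalPComplement p ↥(Subgroup.normalizer (Cfsg.centerThompsonAOf D : Set G)) ∨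
      Cfsg.HasNormalPComplement p
        ↥(Subgroup.normalizer (Cfsg.omegaOne p (Cfsg.centerThompsonOf p D) : Set G))) :
    Cfsg.HasNormalPComplement p G := by
  set S : Subgroup G := (P : Subgroup G)
  have hDF := stronglyClosed_group hD
  have hDS : D ≤ S := hD.1
  have hDn : S ≤ Subgroup.normalizer (D : Set G) :=
    (le_normalizerIn_of_stronglyClosed hDF).trans inf_le_right
  refine hasNormalPComplement_of_isInner P ?_
  rcases h with h | h
  · refine isInner_of_ninner_Iof hp P.2 (isSaturated_group P) (maxAb D)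
      (fun A hA => ⟨hA.1.trans hDS, hA.2.1⟩) (maxAb_nonempty_in hDS)
      (fun Q f hf himg hex _ hx => maxAb_invariant (mem_of_stronglyClosed hDF) Q f hf himg hex hx)
      (maxAb_replacement_in hp P.2 hDS hDn) ?_
    rw [Iof_maxAb_eq_centerThompsonA hDS]
    refine ninner_group_of_complement P (fun s hs => ?_) h
    rw [← Iof_maxAb_eq_centerThompsonA (S := D) le_rfl]
    exact ((Iof_maxAb_facts P.2 hDS).2.2 ⟨hs, hDn hs⟩).2
  · refine isInner_of_ninner_Iof hp P.2 (isSaturated_group P) (maxEA p D)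
      (fun A hA => ⟨hA.1.trans hDS, hA.2.1.1⟩) (maxEA_nonempty_in hDS)
      (fun Q f hf himg hex _ hx => maxEA_invariant (mem_of_stronglyClosed hDF) Q f hf himg hex hx)
      (maxEA_replacement_in hp P.2 hDS hDn) ?_
    rw [Iof_maxEA_eq_omega hDS]
    exact ninner_group_of_complement P (hDn.trans (normalizer_le_normalizer_omega D)) h

end Groups

end CfsgLib.Fusion
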