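import Cfsg.Agent.Lib.Qd.Cond
import Cfsg.Agent.Lib.Fusion.System.Quotient
import Cfsg.Agent.Lib.Fusion.System.LocalModel
import Cfsg.Agent.Lib.Fusion.System.Inner
import Cfsg.Agent.Lib.Fusion.System.Functor
import Cfsg.Agent.Lib.Fusion.System.Constrained
import Cfsg.Prelude.Def_FusionReduction
import Cfsg.Prelude.Def_FusionComponents

/-!
# `Qd(p)`-freeness of systems, in a form passing to subsystems, normalizer systems and factor systems
-/

set_option autoImplicit false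
set_option linter.style.haveILetI false

open Subgroup
open scoped Classical

namespace CfsgLib.Fusion

open Cfsg (FusionSystem groupFusionSystem)
open Cfsg.FusionSystem (normalizerIn centralizerIn preimageAlong)
open CfsgLib.Qd (Cond cond_iff)

universe u v

variable {Ω : Type u} [Group Ω] {S : Subgroup Ω} {E F : FusionSystem S} {p : ℕ}

/-- Two maps of `F` on `V` stabilizing `Q ≤ U ≤ V`, acting on `U/Q` as elementary transvections. -/
structure QdData (p : ℕ) (F : FusionSystem S) (Q U V : Subgroup Ω) (a b : Ω → Ω) : Prop where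
  leU : Q ≤ U
  leV : U ≤ V
  mapA : IsMap F V a
  mapB : IsMap F V b
  imgAV : img V a = V
  imgBV : img V b = V
  imgAU : img U a = U
  imgBU : img U b = U
  imgAQ : img Q a = Q
  imgBQ : img Q b = Q
  cond : Cond p Q U a b

/-- `F` has no section `Qd(p)` on a section of order `p²`. -/
def NoQd (p : ℕ) (F : FusionSystem S) : Prop :=
  ∀ (Q U : Subgroup Ω) (a b : Ω → Ω), ¬ QdData p F Q U U a b

theorem QdData.restrict {Q U V : Subgroup Ω} {a b : Ω → Ω} (d : QdData p F Q U V a b) :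
    QdData p F Q U U a b :=
  { d with
    leV := le_rfl
    mapA := d.mapA.mono d.leV
    mapB := d.mapB.mono d.leV
    imgAV := d.imgAU
    imgBV := d.imgBU }

theorem noQd_of_le (h : E ≤ F) (hF : NoQd p F) : NoQd p E := fun Q U a b d =>
  hF Q U a b { d with mapA := isMap_of_le h d.mapA, mapB := isMap_of_le h d.mapB }

theorem noQd_normalizerSystem {P : Subgroup Ω} {N : FusionSystem (normalizerIn S P)}
    (hN : F.IsNormalizerSystem P N) (hF : NoQd p F) : NoQd p N := fun Q U a b d =>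
  hF Q U a b { d with
    mapA := ((isMap_of_isNormalizerSystem hN).1 d.mapA).isMap
    mapB := ((isMap_of_isNormalizerSystem hN).1 d.mapB).isMap }

/-- The property passes to any system whose maps are induced along a homomorphism. -/
theorem noQd_of_induced [Finite S] {Ω' : Type v} [Group Ω'] {S' : Subgroup Ω'}
    {F' : FusionSystem S'} (α : S →* Ω')
    (hind : ∀ (U' : Subgroup Ω') (c' : Ω' → Ω'), IsMap F' U' c' → U' ≤ α.range ∧
      ∃ c, IsMap F (preimageAlong α U') c ∧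
        ∀ x ∈ preimageAlong α U', c' (ext1 α x) = ext1 α (c x))
    (hF : NoQd p F) : NoQd p F' := by
  intro Q' U' a' b' d
  obtain ⟨hU'r, f, hf, he⟩ := hind U' a' d.mapA
  obtain ⟨-, g, hg, hge⟩ := hind U' b' d.mapB
  set Q := preimageAlong α Q' with hQ
  set U := preimageAlong α U' with hU
  have hUS : U ≤ S := preimageAlong_le α U'
  have hQU : Q ≤ U := preimageAlong_mono d.leU
  have hmU : ∀ (c : Ω → Ω) (c' : Ω' → Ω'), IsMap F U c → (∀ x ∈ U, c' (ext1 α x) = ext1 α (c x)) →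
      IsMap F' U' c' → ∀ W' : Subgroup Ω', W' ≤ U' → img W' c' = W' →
      img (preimageAlong α W') c = preimageAlong α W' := by
    intro c c' hc hce hc' W' hW hW'
    refine img_eq_of_map_le (preimageAlong_le α W') hc (preimageAlong_mono hW) fun x hx => ?_
    obtain ⟨hxS, hx'⟩ := mem_preimageAlong.1 hx
    refine mem_preimageAlong.2 ⟨hc.mem_S (preimageAlong_mono hW hx), ?_⟩
    rw [← hce x (preimageAlong_mono hW hx), ← hW']
    exact (hc'.mono hW).mem_img.2 ⟨_, hx', rfl⟩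
  refine hF Q U f g ⟨hQU, le_rfl, hf, hg, hmU f a' hf he d.mapA U' le_rfl d.imgAU,
    hmU g b' hg hge d.mapB U' le_rfl d.imgBU, hmU f a' hf he d.mapA U' le_rfl d.imgAU,
    hmU g b' hg hge d.mapB U' le_rfl d.imgBU, hmU f a' hf he d.mapA Q' d.leU d.imgAQ,
    hmU g b' hg hge d.mapB Q' d.leU d.imgBQ, ?_⟩
  refine (cond_iff (U' := U') (Q' := Q') (ext1 α) (fun y => ⟨fun hy => ?_, ?_⟩)
    (fun x hx => ⟨fun h => (mem_preimageAlong.1 h).2, fun h => mem_preimageAlong.2 ⟨hUS hx, h⟩⟩)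
    (fun x hx y hy => ext1_mul α (hUS hx) (hUS hy))
    (fun x hx => mem_of_img_eq hf le_rfl (hmU f a' hf he d.mapA U' le_rfl d.imgAU) hx)
    (fun x hx => mem_of_img_eq hg le_rfl (hmU g b' hg hge d.mapB U' le_rfl d.imgBU) hx)
    he hge).2 d.cond
  · exact exists_preimage hU'r hy
  · rintro ⟨x, hx, rfl⟩
    exact (mem_preimageAlong.1 hx).2

theorem noQd_quotientSystem [Finite S] {Ω' : Type u} [Group Ω'] {α : S →* Ω'}
    (hK : F.IsNormal (preimageAlong α ⊥)) (hF : NoQd p F) : NoQd p (quotientSystem hK) :=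
  noQd_of_induced α (fun _ _ h => by
    obtain ⟨h1, c, hc, hce⟩ := isMap_quotientSystem hK h
    exact ⟨h1, c, hc, hce⟩) hF

theorem noQd_factorSystem [Finite S] {Ω' : Type v} [Group Ω'] {S' : Subgroup Ω'} {α : S →* Ω'}
    {Q : Subgroup Ω} {F' : FusionSystem S'} (hE : F.IsFactorSystem Q α F') (hF : NoQd p F) :
    NoQd p F' :=
  noQd_of_induced α (fun U' c' h => by
    obtain ⟨φ', hφ', hc'⟩ := h
    obtain ⟨hle, φ, hφ, hind⟩ := (hE.2.2.2 U' φ').1 hφ'
    refine ⟨hle.trans hE.2.2.1.ge, _, isMap_toFun hφ, fun x hx => ?_⟩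
    obtain ⟨hxS, hx'⟩ := mem_preimageAlong.1 hx
    rw [toFun_apply φ hx, ← hc' ⟨_, hx'⟩]
    rw [ext1_apply α hxS] at hx'
    obtain ⟨_, hφS, _, hall⟩ := hind
    rw [ext1_apply α (hφS ⟨x, hx⟩)]
    refine Eq.trans ?_ (hall ⟨x, hx⟩)
    exact congrArg φ' (Subtype.ext (ext1_apply α hxS))) hF

theorem QdData.transport {Q U V : Subgroup Ω} {a b θ : Ω → Ω} (d : QdData p F Q U V a b)
    (hθ : IsMap F V θ) :
    ∃ a' b', QdData p F (img Q θ) (img U θ) (img V θ) a' b' := by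
  obtain ⟨θ', hθ', h1, h2⟩ := hθ.exists_inv
  have hθU := hθ.mono d.leV
  have hθQ := hθ.mono (d.leU.trans d.leV)
  have hc : ∀ c, IsMap F V c → img V c = V → IsMap F (img V θ) (θ ∘ c ∘ θ') := fun c hc himg =>
    (hθ'.comp hc fun y hy => (h2 y hy).1).comp hθ fun y hy => mem_of_img_eq hc le_rfl himg (h2 y hy).1
  have heq : ∀ (c : Ω → Ω) (x : Ω), x ∈ V → (θ ∘ c ∘ θ') (θ x) = θ (c x) := fun c x hx => by
    show θ (c (θ' (θ x))) = _
    rw [h1 x hx]
  have himg : ∀ c, IsMap F V c → ∀ W : Subgroup Ω, W ≤ V → img W c = W →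
      img (img W θ) (θ ∘ c ∘ θ') = img W θ := by
    intro c hc' W hW hWc
    rw [img_img (hθ.mono hW), IsMap.img_congr (f := (θ ∘ c ∘ θ') ∘ θ) (g := θ ∘ c)
      fun x hx => heq c x (hW hx), ← img_img (hc'.mono hW), hWc]
  refine ⟨θ ∘ a ∘ θ', θ ∘ b ∘ θ', IsMap.img_mono hθU d.leU, IsMap.img_mono hθ d.leV,
    hc a d.mapA d.imgAV, hc b d.mapB d.imgBV, himg a d.mapA V le_rfl d.imgAV,
    himg b d.mapB V le_rfl d.imgBV, himg a d.mapA U d.leV d.imgAU, himg b d.mapB U d.leV d.imgBU,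
    himg a d.mapA Q (d.leU.trans d.leV) d.imgAQ, himg b d.mapB Q (d.leU.trans d.leV) d.imgBQ, ?_⟩
  refine (cond_iff θ (fun y => hθU.mem_img)
    (fun x hx => ⟨fun h => hθQ.mem_img.2 ⟨x, h, rfl⟩, fun h => ?_⟩)
    (fun x hx y hy => hθU.map_mul hx hy)
    (fun x hx => mem_of_img_eq d.mapA d.leV d.imgAU hx)
    (fun x hx => mem_of_img_eq d.mapB d.leV d.imgBU hx)
    (fun x hx => heq a x (d.leV hx)) (fun x hx => heq b x (d.leV hx))).1 d.cond
  obtain ⟨z, hz, hzx⟩ := hθQ.mem_img.1 h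
  exact hθU.inj (d.leU hz) hx hzx ▸ hz

variable [Finite S] [Fact p.Prime]

/-- Centric data exist as soon as there are data. -/
theorem exists_centric_data (hS : IsPGroup p S) (hF : F.IsSaturated p)
    {Q U : Subgroup Ω} {a b : Ω → Ω} (d : QdData p F Q U U a b) :
    ∃ (Q' U' V : Subgroup Ω) (a' b' : Ω → Ω), QdData p F Q' U' V a' b' ∧ F.IsCentric V := by
  obtain ⟨U₁, hUU₁, hU₁⟩ := exists_fullyNormalized (F := F) d.mapA.le
  obtain ⟨h₁, h₂⟩ := IsSaturated.automized_receptive hS hF hU₁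
  obtain ⟨θ, hθ, hθimg, -⟩ := exists_map_normalizer hS h₁ h₂ hUU₁
  obtain ⟨a₁, b₁, d₁⟩ := d.transport (hθ.mono (le_normalizerIn d.mapA.le))
  rw [hθimg] at d₁
  set V := U₁ ⊔ centralizerIn S U₁ with hV
  have hVc : F.IsCentric V :=
    isCentric_sup_centralizerIn (IsSaturated.isFullyCentralized hS hF hU₁)
  have hext : ∀ c, IsMap F U₁ c → img U₁ c = U₁ →
      ∃ e, IsMap F V e ∧ img V e = V ∧ ∀ x ∈ U₁, e x = c x := by
    intro c hc himg
    obtain ⟨e, he, hee⟩ := (isReceptive_iff.1 h₂).2 U₁ c hc himg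
    have he' := he.mono (sup_le (le_extSub hc) centralizerIn_le_extSub : V ≤ _)
    have heU : img U₁ e = U₁ := (IsMap.img_congr hee).trans himg
    refine ⟨e, he', img_eq_of_map_le hVc.1 he' le_rfl fun y hy => he'.map_mem_of_sup
      (fun x hx => ?_) (fun x hx => ?_) hy, hee⟩
    · exact (le_sup_left : U₁ ≤ V) (mem_of_img_eq he' le_sup_left heU hx)
    · have h := map_mem_centralizerIn he' (le_sup_left : U₁ ≤ V)
        ((le_sup_right : centralizerIn S U₁ ≤ V) hx) hx.2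
      rw [heU] at h
      exact (le_sup_right : centralizerIn S U₁ ≤ V) h
  obtain ⟨a₂, ha₂, ha₂V, ha₂e⟩ := hext a₁ d₁.mapA d₁.imgAU
  obtain ⟨b₂, hb₂, hb₂V, hb₂e⟩ := hext b₁ d₁.mapB d₁.imgBU
  have hi : ∀ (c e : Ω → Ω), (∀ x ∈ U₁, e x = c x) → ∀ W : Subgroup Ω, W ≤ U₁ →
      img W c = W → img W e = W := fun c e h W hW hWc =>
    (IsMap.img_congr fun x hx => h x (hW hx)).trans hWc
  refine ⟨_, U₁, V, a₂, b₂, ⟨d₁.leU, le_sup_left, ha₂, hb₂, ha₂V, hb₂V,
    hi a₁ a₂ ha₂e U₁ le_rfl d₁.imgAU, hi b₁ b₂ hb₂e U₁ le_rfl d₁.imgBU,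
    hi a₁ a₂ ha₂e _ d₁.leU d₁.imgAQ, hi b₁ b₂ hb₂e _ d₁.leU d₁.imgBQ, ?_⟩, hVc⟩
  have mA : ∀ x ∈ U₁, a₁ x ∈ U₁ := fun x hx => mem_of_img_eq d₁.mapA le_rfl d₁.imgAU hx
  have mB : ∀ x ∈ U₁, b₁ x ∈ U₁ := fun x hx => mem_of_img_eq d₁.mapB le_rfl d₁.imgBU hx
  exact (cond_iff id (fun y => ⟨fun h => ⟨y, h, rfl⟩, fun ⟨x, hx, e⟩ => e ▸ hx⟩)
    (fun x _ => Iff.rfl) (fun x _ y _ => rfl) mA mB ha₂e hb₂e).1 d₁.cond

/-- Data on a fully normalized centric subgroup give a section `Qd(p)` in its model. -/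
theorem involves_of_data {Q U V : Subgroup Ω} {a b : Ω → Ω} (d : QdData p F Q U V a b)
    {N : FusionSystem (normalizerIn S V)} (hN : F.IsNormalizerSystem V N)
    {L : Type u} [Group L] {ι : normalizerIn S V →* L} (hmodel : N.IsModel p L ι) :
    ∃ g k : L,
      (∀ x ∈ V, ext1 ι (a x) = g * ext1 ι x * g⁻¹) ∧ (∀ x ∈ V, ext1 ι (b x) = k * ext1 ι x * k⁻¹) ∧
      Cfsg.Involves ↥(Cfsg.qd p) L := by
  haveI := hmodel.1
  haveI : Finite (normalizerIn S V) := finite_of_le inf_le_left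
  have hVM : V ≤ normalizerIn S V := le_normalizerIn d.mapA.le
  have hg : ∀ c, IsMap F V c → img V c = V →
      ∃ g : L, ∀ x ∈ V, ext1 ι (c x) = g * ext1 ι x * g⁻¹ := by
    intro c hc himg
    have hm : IsMap N V c := (isMap_of_isNormalizerSystem hN).2
      ⟨hVM, fun x hx => hVM (mem_of_img_eq hc le_rfl himg hx), c,
        by rwa [sup_idem], fun _ _ => rfl, himg⟩
    exact ((isMap_realized_iff hmodel.2.1).1 hm).2.2.2
  obtain ⟨g, hge⟩ := hg a d.mapA d.imgAV
  obtain ⟨k, hke⟩ := hg b d.mapB d.imgBV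
  refine ⟨g, k, hge, hke, ?_⟩
  have hUM : U ≤ normalizerIn S V := d.leV.trans hVM
  have hQM : Q ≤ normalizerIn S V := d.leU.trans hUM
  have hι := hmodel.2.1.1
  have hn : ∀ (c : Ω → Ω) (g : L), IsMap F V c → (∀ x ∈ V, ext1 ι (c x) = g * ext1 ι x * g⁻¹) →
      ∀ W : Subgroup Ω, W ≤ V → img W c = W → g ∈ Subgroup.normalizer (imgι ι W : Set L) := by
    intro c g hc hgc W hW hWc
    refine conjBy_eq_iff.1 (conjBy_eq_of_le (conjBy_le_iff.2 fun y hy => ?_))
    obtain ⟨x, hx, rfl⟩ := (mem_imgι (hW.trans hVM)).1 hy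
    rw [← hgc x (hW hx)]
    exact ext1_mem_imgι (hW.trans hVM) (mem_of_img_eq hc hW hWc hx)
  refine CfsgLib.Qd.involves_of_cond (imgι ι Q) (imgι ι U) g k (imgι_mono d.leU)
    (hn a g d.mapA hge Q (d.leU.trans d.leV) d.imgAQ) (hn a g d.mapA hge U d.leV d.imgAU)
    (hn b k d.mapB hke Q (d.leU.trans d.leV) d.imgBQ) (hn b k d.mapB hke U d.leV d.imgBU) ?_
  exact (cond_iff (ext1 ι) (fun y => mem_imgι hUM)
    (fun x hx => ⟨fun h => ext1_mem_imgι hQM h, fun h => mem_of_ext1_mem_imgι hι hQM (hUM hx) h⟩)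
    (fun x hx y hy => ext1_mul ι (hUM hx) (hUM hy))
    (fun x hx => mem_of_img_eq d.mapA d.leV d.imgAU hx)
    (fun x hx => mem_of_img_eq d.mapB d.leV d.imgBU hx)
    (fun x hx => (hge x (d.leV hx)).symm) (fun x hx => (hke x (d.leV hx)).symm)).1 d.cond

/-- Models at radical centric subgroups control the sections `Qd(p)`. -/
theorem noQd_of_radical_models (hS : IsPGroup p S) (hF : F.IsSaturated p)
    (h : ∀ Q : Subgroup Ω, F.IsFullyNormalized Q → F.IsCentric Q → F.IsRadical p Q →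
      ∀ N : FusionSystem (normalizerIn S Q), F.IsNormalizerSystem Q N →
        ∀ (L : Type u) [Group L] (ι : ↥(normalizerIn S Q) →* L),
          N.IsModel p L ι → ¬ Cfsg.Involves ↥(Cfsg.qd p) L) : NoQd p F := by
  intro Q U a b d
  suffices key : ∀ (j : ℕ) (Q U V : Subgroup Ω) (a b : Ω → Ω), Nat.card S - Nat.card V = j →
      QdData p F Q U V a b → F.IsCentric V → False by
    obtain ⟨Q', U', V, a', b', d', hV⟩ := exists_centric_data hS hF d
    exact key _ Q' U' V a' b' rfl d' hV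
  intro j
  induction j using Nat.strong_induction_on with
  | _ j ih =>
  intro Q U V a b hj d hVc
  obtain ⟨V₂, hVV₂, hV₂⟩ := exists_fullyNormalized (F := F) hVc.1
  obtain ⟨k₁, k₂⟩ := IsSaturated.automized_receptive hS hF hV₂
  obtain ⟨η, hη, hηimg, -⟩ := exists_map_normalizer hS k₁ k₂ hVV₂
  obtain ⟨a₂, b₂, d₂⟩ := d.transport (hη.mono (le_normalizerIn hVc.1))
  rw [hηimg] at d₂
  have hV₂c : F.IsCentric V₂ := isCentric_of_isConj hVc hVV₂
  have hcard : Nat.card V₂ = Nat.card V := by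
    rw [← hηimg]; exact (hη.mono (le_normalizerIn hVc.1)).card_img
  obtain ⟨N, hN⟩ := exists_normalizerSystem (F := F) hV₂.1
  obtain ⟨L, hL, ι, hmodel, hn⟩ := exists_local_model hS hF hV₂ hV₂c hN
  haveI := hmodel.1
  obtain ⟨g, k, hge, hke, hinv⟩ := involves_of_data d₂ hN hmodel
  haveI : Finite (normalizerIn S V₂) := finite_of_le inf_le_left
  have hV₂T : V₂ ≤ (normalizerIn S V₂) := le_normalizerIn hV₂.1
  have hι := hmodel.2.1.1
  obtain ⟨R, hR, hRimg⟩ : ∃ R ≤ (normalizerIn S V₂), imgι ι R = Cfsg.pCore p L := by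
    obtain ⟨T', hT'⟩ := hmodel.2.2.1
    exact exists_imgι_eq hι ((CfsgLib.Coprime.pCore_le_sylow T').trans hT'.le)
  replace hRimg := hRimg.symm
  haveI hcn := CfsgLib.Coprime.pCore_normal' (G := L) p
  haveI hVn : (imgι ι V₂).Normal := hn
  haveI : Finite V₂ := finite_of_le hV₂.1
  have hVR : V₂ ≤ R := by
    refine (imgι_le_iff hι hV₂T hR).1 ?_
    rw [← hRimg]
    exact CfsgLib.Coprime.le_pCore (((hS.to_le (inf_le_left : normalizerIn S V₂ ≤ S)).to_subgroup _).map ι)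
  by_cases heq : V₂ = R
  · -- `V₂` is radical
    refine h V₂ hV₂ hV₂c ⟨hV₂.1, le_antisymm ?_ ?_⟩ N hN L ι hmodel hinv
    · rintro _ ⟨⟨α, hα⟩, hαc, rfl⟩
      obtain ⟨T', hT'⟩ := hmodel.2.2.1
      -- the automorphisms induced by `L`
      have hmemV : ∀ (l : L), ∀ x ∈ V₂, l * ext1 ι x * l⁻¹ ∈ imgι ι V₂ := fun l x hx =>
        Subgroup.Normal.conj_mem inferInstance _ (ext1_mem_imgι hV₂T hx) l
      have hα' : IsMap N V₂ (autFun α) := by
        rw [← mem_autGroup_iff hV₂T, autGroup_normalizerSystem_self hV₂.1 hN]; exact hα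
      obtain ⟨-, -, -, l, hl⟩ := (isMap_realized_iff hmodel.2.1).1 hα'
      -- `l` lies in a normal `p`-subgroup
      let D : Subgroup L :=
        { carrier := {l | ∃ β ∈ Cfsg.pCore p (F.autGroup V₂), ∀ x ∈ V₂,
            ext1 ι (autFun (β : MulAut V₂) x) = l * ext1 ι x * l⁻¹}
          one_mem' := ⟨1, one_mem _, fun x hx => by simp [autFun_one hx]⟩
          mul_mem' := by
            rintro l l' ⟨β, hβ, hβe⟩ ⟨γ, hγ, hγe⟩
            refine ⟨β * γ, mul_mem hβ hγ, fun x hx => ?_⟩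
            rw [Subgroup.coe_mul, autFun_mul _ _ hx, hβe _ (autFun_mem _ hx), hγe x hx]
            group
          inv_mem' := by
            rintro l ⟨β, hβ, hβe⟩
            refine ⟨β⁻¹, inv_mem hβ, fun x hx => ?_⟩
            have h1 := hβe _ (autFun_mem ((β⁻¹ : F.autGroup V₂) : MulAut V₂) hx)
            rw [← autFun_mul _ _ hx, ← Subgroup.coe_mul, mul_inv_cancel, Subgroup.coe_one,
              autFun_one hx] at h1
            rw [h1]
            group }
      haveI hDn : D.Normal := by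
        refine ⟨fun l ⟨β, hβ, hβe⟩ r => ?_⟩
        obtain ⟨f, hf, hfr⟩ := exists_map_of_conj hmodel.2.1 hV₂T (g := r)
          (fun x hx => imgι_le_range V₂ (hmemV r x hx))
        have hfimg : img V₂ f = V₂ := img_eq_of_map_le hV₂T hf le_rfl fun x hx =>
          mem_of_ext1_mem_imgι hι hV₂T (hf.mem_S hx) (by rw [hfr x hx]; exact hmemV r x hx)
        have hfF : IsMap F V₂ f := ((isMap_of_isNormalizerSystem hN).1 hf).isMap
        let γ : F.autGroup V₂ := ⟨autOf hfF hfimg, autOf_mem hfF hfimg⟩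
        haveI := CfsgLib.Coprime.pCore_normal' (G := F.autGroup V₂) p
        refine ⟨γ * β * γ⁻¹, Subgroup.Normal.conj_mem inferInstance _ hβ γ, fun x hx => ?_⟩
        have hγ : ∀ y ∈ V₂, ext1 ι (autFun (γ : MulAut V₂) y) = r * ext1 ι y * r⁻¹ := fun y hy => by
          rw [show (γ : MulAut V₂) = autOf hfF hfimg from rfl, autFun_autOf hfF hfimg hy, hfr y hy]
        have h1 := hγ _ (autFun_mem ((γ⁻¹ : F.autGroup V₂) : MulAut V₂) hx)
        rw [← autFun_mul _ _ hx, ← Subgroup.coe_mul, mul_inv_cancel, Subgroup.coe_one,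
          autFun_one hx] at h1
        rw [Subgroup.coe_mul, Subgroup.coe_mul, autFun_mul _ _ hx, autFun_mul _ _ (autFun_mem _ hx),
          hγ _ (autFun_mem _ (autFun_mem _ hx)), hβe _ (autFun_mem _ hx), h1]
        group
      have hDp : IsPGroup p D := by
        rintro ⟨l, β, hβ, hβe⟩
        haveI := finite_mulAut (P := V₂)
        obtain ⟨e, he⟩ := CfsgLib.Coprime.pCore_isPGroup p (⟨β, hβ⟩ : Cfsg.pCore p (F.autGroup V₂))
        have hpow : ∀ i : ℕ, ∀ x ∈ V₂, ext1 ι (autFun ((β ^ i : F.autGroup V₂) : MulAut V₂) x) =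
            l ^ i * ext1 ι x * (l ^ i)⁻¹ := by
          intro i
          induction i with
          | zero => intro x hx; simp [autFun_one hx]
          | succ i hi =>
            intro x hx
            rw [pow_succ, Subgroup.coe_mul, autFun_mul _ _ hx, hi _ (autFun_mem _ hx), hβe x hx,
              pow_succ]
            group
        have hc : l ^ p ^ e ∈ Subgroup.centralizer (Cfsg.pCore p L : Set L) := by
          have himgV : imgι ι V₂ = Cfsg.pCore p L := by subst heq; exact hRimg.symm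
          rw [← himgV]
          refine Subgroup.mem_centralizer_iff.2 fun y hy => ?_
          obtain ⟨x, hx, rfl⟩ := (mem_imgι hV₂T).1 hy
          have h1 := hpow (p ^ e) x hx
          rw [show β ^ p ^ e = 1 from congrArg Subtype.val he, Subgroup.coe_one, autFun_one hx] at h1
          conv_lhs => rw [h1]
          group
        obtain ⟨e', he'⟩ := CfsgLib.Coprime.pCore_isPGroup p (⟨_, hmodel.2.2.2 hc⟩ : Cfsg.pCore p L)
        refine ⟨e + e', Subtype.ext ?_⟩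
        rw [SubgroupClass.coe_pow, pow_add, pow_mul]
        exact congrArg Subtype.val he'
      have hlV : l ∈ imgι ι V₂ := by
        have himgV : imgι ι V₂ = Cfsg.pCore p L := by subst heq; exact hRimg.symm
        rw [himgV]
        exact CfsgLib.Coprime.le_pCore hDp ⟨⟨α, hα⟩, hαc, hl⟩
      obtain ⟨v, hv, rfl⟩ := (mem_imgι hV₂T).1 hlV
      refine ⟨⟨v, hv⟩, autFun_ext fun x hx => ext1_inj hι (hV₂T (autFun_mem _ hx))
        (hV₂T (autFun_mem _ hx)) ?_⟩
      show _ = ext1 ι (autFun α x)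
      rw [hl x hx, ← ext1_conj ι (hV₂T hv) (hV₂T hx)]
      congr 1
      rw [autFun, toFun_apply _ hx]
      rfl
    · rintro _ ⟨v, rfl⟩
      have hv : MulAut.conj v ∈ F.autGroup V₂ := inn_le_autGroup hV₂.1 ⟨v, rfl⟩
      haveI : ((Cfsg.Inn V₂).subgroupOf (F.autGroup V₂)).Normal :=
        ⟨fun β ⟨w, hw⟩ γ => ⟨(γ : MulAut V₂) w, by
          show MulAut.conj ((γ : MulAut V₂) w) = ((γ * β * γ⁻¹ : F.autGroup V₂) : MulAut V₂)
          rw [Subgroup.coe_mul, Subgroup.coe_mul, Subgroup.coe_inv,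
            show (β : MulAut V₂) = MulAut.conj w from hw.symm]
          exact MulEquiv.ext fun x => by simp⟩⟩
      refine ⟨⟨_, hv⟩, CfsgLib.Coprime.le_pCore (N := (Cfsg.Inn V₂).subgroupOf (F.autGroup V₂)) ?_
        ⟨v, rfl⟩, rfl⟩
      intro β
      obtain ⟨w, hw⟩ := β.2
      obtain ⟨e, he⟩ := (hS.to_le hV₂.1) w
      refine ⟨e, Subtype.ext (Subtype.ext ?_)⟩
      rw [SubgroupClass.coe_pow, SubgroupClass.coe_pow,
        show ((β : F.autGroup V₂) : MulAut V₂) = MulAut.conj w from hw.symm, ← map_pow, he, map_one]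
      rfl
  · -- a larger centric subgroup
    have hlt : V₂ < R := lt_of_le_of_ne hVR heq
    have hRS : R ≤ S := hR.trans inf_le_left
    have hRc : F.IsCentric R := isCentric_mono hV₂c hVR hRS
    have hext : ∀ (c : Ω → Ω) (g : L), IsMap F V₂ c → img V₂ c = V₂ →
        (∀ x ∈ V₂, ext1 ι (c x) = g * ext1 ι x * g⁻¹) →
        ∃ f, IsMap F R f ∧ img R f = R ∧ ∀ x ∈ V₂, f x = c x := by
      intro c g hc himg hgc
      have hmem : ∀ x ∈ R, g * ext1 ι x * g⁻¹ ∈ imgι ι R := fun x hx => by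
        rw [← hRimg]
        exact Subgroup.Normal.conj_mem inferInstance _ (hRimg ▸ ext1_mem_imgι hR hx) g
      obtain ⟨f, hf, hfg⟩ := exists_map_of_conj hmodel.2.1 hR (g := g)
        (fun x hx => imgι_le_range R (hmem x hx))
      have hfF : IsMap F R f := ((isMap_of_isNormalizerSystem hN).1 hf).isMap
      exact ⟨f, hfF, img_eq_of_map_le hRS hfF le_rfl fun x hx =>
        mem_of_ext1_mem_imgι hι hR (hf.mem_S hx) (by rw [hfg x hx]; exact hmem x hx),
        fun x hx => ext1_inj hι (hf.mem_S (hVR hx)) (hV₂T (mem_of_img_eq hc le_rfl himg hx))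
          ((hfg x (hVR hx)).trans (hgc x hx).symm)⟩
    obtain ⟨a₃, ha₃, ha₃R, ha₃e⟩ := hext a₂ g d₂.mapA d₂.imgAV hge
    obtain ⟨b₃, hb₃, hb₃R, hb₃e⟩ := hext b₂ k d₂.mapB d₂.imgBV hke
    have hi : ∀ (c e : Ω → Ω), (∀ x ∈ V₂, e x = c x) → ∀ W : Subgroup Ω, W ≤ V₂ →
        img W c = W → img W e = W := fun c e h W hW hWc =>
      (IsMap.img_congr fun x hx => h x (hW hx)).trans hWc
    have hU₂ := d₂.leV
    have d₃ : QdData p F (img Q η) (img U η) R a₃ b₃ :=
      ⟨d₂.leU, hU₂.trans hVR, ha₃, hb₃, ha₃R, hb₃R,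
        hi a₂ a₃ ha₃e _ hU₂ d₂.imgAU, hi b₂ b₃ hb₃e _ hU₂ d₂.imgBU,
        hi a₂ a₃ ha₃e _ (d₂.leU.trans hU₂) d₂.imgAQ, hi b₂ b₃ hb₃e _ (d₂.leU.trans hU₂) d₂.imgBQ,
        (cond_iff id (fun y => ⟨fun h => ⟨y, h, rfl⟩, fun ⟨x, hx, e⟩ => e ▸ hx⟩)
          (fun x _ => Iff.rfl) (fun x _ y _ => rfl)
          (fun x hx => mem_of_img_eq d₂.mapA hU₂ d₂.imgAU hx)
          (fun x hx => mem_of_img_eq d₂.mapB hU₂ d₂.imgBU hx)
          (fun x hx => ha₃e x (hU₂ hx)) (fun x hx => hb₃e x (hU₂ hx))).1 d₂.cond⟩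
    have h1 : Nat.card V₂ < Nat.card R := card_lt_of_lt hRS hlt
    have h2 : Nat.card R ≤ Nat.card S := card_le_of_le' le_rfl hRS
    exact ih _ (by omega) _ _ R a₃ b₃ rfl d₃ hRc

/-- Section-freeness gives the intrinsic property. -/
theorem noQd_of_isSectionFree (hS : IsPGroup p S) (hF : F.IsSaturated p)
    (h : F.IsSectionFree p ↥(Cfsg.qd p)) : NoQd p F :=
  noQd_of_radical_models hS hF fun Q h1 h2 _ => h Q h1 h2

/-- Models of systems without such sections do not involve `Qd(p)`. -/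
theorem not_involves_of_noQd (hF : NoQd p F) {L : Type v} [Group L] [Finite L]
    {ι : S →* L} (hι : Function.Injective ι) (T : Sylow p L) (hT : (T : Subgroup L) = ι.range)
    (hmap : ∀ (P : Subgroup Ω), P ≤ S → ∀ g : L, (∀ x ∈ P, g * ext1 ι x * g⁻¹ ∈ ι.range) →
      ∃ f, IsMap F P f ∧ ∀ x ∈ P, ext1 ι (f x) = g * ext1 ι x * g⁻¹) :
    ¬ Cfsg.Involves ↥(Cfsg.qd p) L := by
  intro hinv
  obtain ⟨Q', U', g, k, hU'T, hQU', hgQ, hgU, hkQ, hkU, hc⟩ :=
    CfsgLib.Qd.exists_cond_of_involves T hinv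
  obtain ⟨U, hUS, rfl⟩ := exists_imgι_eq hι (hU'T.trans hT.le)
  obtain ⟨Q, hQS, rfl⟩ := exists_imgι_eq hι ((hQU'.trans hU'T).trans hT.le)
  have hQU : Q ≤ U := (imgι_le_iff hι hQS hUS).1 hQU'
  have hex : ∀ g : L, g ∈ Subgroup.normalizer (imgι ι U : Set L) →
      g ∈ Subgroup.normalizer (imgι ι Q : Set L) →
      ∃ f, IsMap F U f ∧ img U f = U ∧ img Q f = Q ∧
        ∀ x ∈ U, ext1 ι (f x) = g * ext1 ι x * g⁻¹ := by
    intro g hgU hgQ
    obtain ⟨f, hf, hfg⟩ := hmap U hUS g fun x hx =>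
      imgι_le_range U ((Subgroup.mem_normalizer_iff.1 hgU _).1 (ext1_mem_imgι hUS hx))
    refine ⟨f, hf, img_eq_of_map_le hUS hf le_rfl fun x hx => ?_,
      img_eq_of_map_le hQS hf hQU fun x hx => ?_, hfg⟩
    · refine mem_of_ext1_mem_imgι hι hUS (hf.mem_S hx) ?_
      rw [hfg x hx]
      exact (Subgroup.mem_normalizer_iff.1 hgU _).1 (ext1_mem_imgι hUS hx)
    · refine mem_of_ext1_mem_imgι hι hQS (hf.mem_S (hQU hx)) ?_
      rw [hfg x (hQU hx)]
      exact (Subgroup.mem_normalizer_iff.1 hgQ _).1 (ext1_mem_imgι hQS hx)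
  obtain ⟨a, ha, haU, haQ, hae⟩ := hex g hgU hgQ
  obtain ⟨b, hb, hbU, hbQ, hbe⟩ := hex k hkU hkQ
  refine hF Q U a b ⟨hQU, le_rfl, ha, hb, haU, hbU, haU, hbU, haQ, hbQ, ?_⟩
  exact (cond_iff (ext1 ι) (fun y => mem_imgι hUS)
    (fun x hx => ⟨fun h => ext1_mem_imgι hQS h, fun h => mem_of_ext1_mem_imgι hι hQS (hUS hx) h⟩)
    (fun x hx y hy => ext1_mul ι (hUS hx) (hUS hy))
    (fun x hx => mem_of_img_eq ha le_rfl haU hx) (fun x hx => mem_of_img_eq hb le_rfl hbU hx)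
    (fun x hx => (hae x hx).symm) (fun x hx => (hbe x hx).symm)).2 hc

/-- The intrinsic property gives section-freeness. -/
theorem isSectionFree_of_noQd (hF : NoQd p F) : F.IsSectionFree p ↥(Cfsg.qd p) := by
  intro Q hQn hQc N hN L _ ι hmodel
  haveI := hmodel.1
  haveI : Finite (normalizerIn S Q) := finite_of_le inf_le_left
  obtain ⟨T, hT⟩ := hmodel.2.2.1
  exact not_involves_of_noQd (noQd_normalizerSystem hN hF) hmodel.2.1.1 T hT
    fun P hP g hg => exists_map_of_conj hmodel.2.1 hP hg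

/-- The fusion system of a group without a section `Qd(p)`. -/
theorem noQd_group {G : Type u} [Group G] [Finite G] (P : Sylow p G)
    (h : ¬ Cfsg.Involves ↥(Cfsg.qd p) G) : NoQd p (groupFusionSystem (P : Subgroup G)) := by
  intro Q U a b d
  obtain ⟨hUP, g, hg⟩ := isMap_group_iff.1 d.mapA
  obtain ⟨-, k, hk⟩ := isMap_group_iff.1 d.mapB
  have hn : ∀ (c : G → G) (g : G), (∀ x ∈ U, c x = g * x * g⁻¹) →
      IsMap (groupFusionSystem (P : Subgroup G)) U c → ∀ W : Subgroup G, W ≤ U → img W c = W →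
      g ∈ Subgroup.normalizer (W : Set G) := by
    intro c g hc hcm W hW hWc
    refine conjBy_eq_iff.1 (conjBy_eq_of_le (conjBy_le_iff.2 fun x hx => ?_))
    rw [← hc x (hW hx)]
    exact mem_of_img_eq hcm hW hWc hx
  have hga : ∀ x ∈ U, a x = g * x * g⁻¹ := fun x hx => (hg x hx).2
  have hkb : ∀ x ∈ U, b x = k * x * k⁻¹ := fun x hx => (hk x hx).2
  refine h (CfsgLib.Qd.involves_of_cond Q U g k d.leU (hn a g hga d.mapA Q d.leU d.imgAQ)
    (hn a g hga d.mapA U le_rfl d.imgAU) (hn b k hkb d.mapB Q d.leU d.imgBQ)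
    (hn b k hkb d.mapB U le_rfl d.imgBU) ?_)
  exact (cond_iff id (fun y => ⟨fun h => ⟨y, h, rfl⟩, fun ⟨x, hx, e⟩ => e ▸ hx⟩)
    (fun x _ => Iff.rfl) (fun x _ y _ => rfl)
    (fun x hx => mem_of_img_eq d.mapA le_rfl d.imgAU hx)
    (fun x hx => mem_of_img_eq d.mapB le_rfl d.imgBU hx)
    (fun x hx => (hga x hx).symm) (fun x hx => (hkb x hx).symm)).1 d.cond

/-- A group without `Qd(p)` is detected by its fusion system. -/
theorem not_involves_of_noQd_group {G : Type u} [Group G] [Finite G] (P : Sylow p G)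
    (h : NoQd p (groupFusionSystem (P : Subgroup G))) : ¬ Cfsg.Involves ↥(Cfsg.qd p) G := by
  refine not_involves_of_noQd (ι := (P : Subgroup G).subtype) h
    (P : Subgroup G).subtype_injective P (Subgroup.range_subtype _).symm fun R hR g hg => ?_
  have he : ∀ x ∈ (P : Subgroup G), ext1 (P : Subgroup G).subtype x = x := fun x hx => ext1_apply _ hx
  have hm : ∀ x ∈ R, g * x * g⁻¹ ∈ (P : Subgroup G) := fun x hx => by
    obtain ⟨y, hy⟩ := hg x hx
    rw [he x (hR hx)] at hy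
    exact hy ▸ y.2
  exact ⟨fun x => g * x * g⁻¹, isMap_group_iff.2 ⟨hR, g, fun x hx => ⟨hm x hx, rfl⟩⟩,
    fun x hx => by rw [he _ (hm x hx), he x (hR hx)]⟩

end CfsgLib.Fusion
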