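import Cfsg.Agent.Lib.Fusion.System.Factor
import Cfsg.Agent.Lib.Fusion.System.Group

/-!
# The subsystem of a normal subgroup
-/

set_option autoImplicit false
set_option maxHeartbeats 1000000
set_option linter.style.haveILetI false

open Subgroup
open scoped Classical Pointwise

namespace CfsgLib.Fusion

open Cfsg (FusionSystem autInducedBy groupFusionSystem fusionSystemOfSubgroup)
open Cfsg.FusionSystem (normalizerIn centralizerIn preimageAlong imageAlong InducedAlong)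

variable {G : Type*} [Group G] [Finite G] {p : ℕ} [Fact p.Prime]

omit [Finite G] [Fact p.Prime] in
theorem isMap_subgroup_iff {H T : Subgroup G} {hTH : T ≤ H} {P : Subgroup G} {f : G → G} :
    IsMap (fusionSystemOfSubgroup H T hTH) P f ↔
      P ≤ T ∧ ∃ g ∈ H, ∀ x ∈ P, g * x * g⁻¹ ∈ T ∧ f x = g * x * g⁻¹ := by
  constructor
  · rintro ⟨φ, ⟨hP, hT, g, hgH, hg⟩, hφf⟩
    refine ⟨hP, g, hgH, fun x hx => ⟨?_, ?_⟩⟩
    · exact hg ⟨x, hx⟩ ▸ hT ⟨x, hx⟩
    · exact (hφf ⟨x, hx⟩).symm.trans (hg ⟨x, hx⟩)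
  · rintro ⟨hP, g, hgH, hg⟩
    exact ⟨Cfsg.conjHom P g, ⟨hP, fun x => (hg x x.2).1, g, hgH, fun _ => rfl⟩,
      fun x => ((hg x x.2).2).symm⟩

/-- The fusion system of a subgroup on its Sylow subgroup is saturated. -/
theorem isSaturated_subgroup {H T : Subgroup G} (hTH : T ≤ H) (hT : IsPGroup p T)
    (hi : ¬ p ∣ T.relIndex H) : (fusionSystemOfSubgroup H T hTH).IsSaturated p := by
  let T' : Sylow p H := (hT.of_equiv (Subgroup.subgroupOfEquivOfLe hTH).symm).toSylow hi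
  have hT' : (T' : Subgroup H) = T.subgroupOf H := rfl
  let θ : (T' : Subgroup H) →* G := H.subtype.comp (T' : Subgroup H).subtype
  have hθr : θ.range = T := by
    rw [MonoidHom.range_comp, Subgroup.range_subtype, hT']
    exact Subgroup.map_subgroupOf_eq_of_le hTH
  have hmor : (groupFusionSystem (T' : Subgroup H)).IsSurjectiveMorphism
      (fusionSystemOfSubgroup H T hTH) θ := by
    refine ⟨⟨fun s => s.2, fun P φ hφ => ?_⟩, hθr, fun P' hP' φ' hφ' => ?_⟩
    · obtain ⟨hP, hφS, g, hg⟩ := hφ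
      have hP'T : imageAlong θ P ≤ T := (Subgroup.map_le_range θ _).trans hθr.le
      refine ⟨Cfsg.conjHom (imageAlong θ P) g, ⟨hP'T, ?_, g, g.2, fun _ => rfl⟩,
        hP, hφS, fun x => ⟨⟨x, hP x.2⟩, x.2, rfl⟩, fun x => ?_⟩
      · rintro ⟨_, ⟨u, hu, rfl⟩⟩
        have h1 := hφS ⟨u, hu⟩
        rw [hg] at h1
        exact h1
      · show (g : G) * ((x : H) : G) * (g : G)⁻¹ = ((φ x : H) : G)
        rw [hg]
        rfl
    · obtain ⟨-, hφ'T, g, hgH, hg⟩ := hφ'
      refine ⟨Cfsg.conjHom _ ⟨g, hgH⟩, ⟨preimageAlong_le θ P', fun x => ?_, ⟨g, hgH⟩, fun _ => rfl⟩,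
        preimageAlong_le θ P', fun x => ?_, fun x => ?_, fun x => ?_⟩
      · obtain ⟨u, hu, hux⟩ := x.2
        show ⟨g, hgH⟩ * (x : H) * ⟨g, hgH⟩⁻¹ ∈ T.subgroupOf H
        have h1 := hφ'T ⟨θ u, hu⟩
        rw [hg] at h1
        rw [← hux]
        exact h1
      · obtain ⟨u, hu, hux⟩ := x.2
        show ⟨g, hgH⟩ * (x : H) * ⟨g, hgH⟩⁻¹ ∈ T.subgroupOf H
        have h1 := hφ'T ⟨θ u, hu⟩
        rw [hg] at h1
        rw [← hux]
        exact h1
      · obtain ⟨u, hu, hux⟩ := x.2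
        show ((x : H) : G) ∈ P'
        rw [← hux]
        exact hu
      · rw [hg]
        rfl
  exact isSaturated_of_surjectiveMorphism hmor T'.2 (isSaturated_group T')

/-- A normal subgroup induces a normal subsystem. -/
theorem isNormalIn_of_normal (S : Sylow p G) (H : Subgroup G) [H.Normal] :
    (fusionSystemOfSubgroup H ((S : Subgroup G) ⊓ H) inf_le_right).IsNormalIn
      (groupFusionSystem (S : Subgroup G)) p := by
  set T := (S : Subgroup G) ⊓ H with hT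
  set F := groupFusionSystem (S : Subgroup G) with hFdef
  set E := fusionSystemOfSubgroup H T inf_le_right with hE
  have hTS : T ≤ (S : Subgroup G) := inf_le_left
  have hTH : T ≤ H := inf_le_right
  have hTi : ¬ p ∣ T.relIndex H := not_dvd_relIndex_inf_of_normal S H
  have hTp : IsPGroup p T := S.2.to_le hTS
  have hconjH : ∀ g : G, ∀ x ∈ H, g * x * g⁻¹ ∈ H := fun g x hx =>
    Subgroup.Normal.conj_mem inferInstance x hx g
  have hSN : ∀ s ∈ (S : Subgroup G), s ∈ Subgroup.normalizer (T : Set G) := fun s hs => by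
    rw [Subgroup.mem_normalizer_iff]
    refine fun x => ⟨fun hx => ⟨(S : Subgroup G).mul_mem ((S : Subgroup G).mul_mem hs hx.1)
      ((S : Subgroup G).inv_mem hs), hconjH s x hx.2⟩, fun hx => ⟨?_, ?_⟩⟩
    · have h1 := (S : Subgroup G).mul_mem ((S : Subgroup G).mul_mem
        ((S : Subgroup G).inv_mem hs) hx.1) hs
      rwa [show s⁻¹ * (s * x * s⁻¹) * s = x by group] at h1
    · simpa [mul_assoc] using hconjH s⁻¹ _ hx.2
  have hsub : E.IsSubsystemOf F := by
    rintro P φ ⟨hP, hφT, g, -, hg⟩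
    exact ⟨hP.trans hTS, fun x => (hφT x).1, g, hg⟩
  have hsc : F.StronglyClosed T := stronglyClosed_iff.2 ⟨hTS, fun R f hR hf x hx => by
    obtain ⟨-, g, hg⟩ := isMap_group_iff.1 hf
    obtain ⟨hgx, hfx⟩ := hg x hx
    rw [hfx]
    exact ⟨hgx, hconjH g x (hR hx).2⟩⟩
  refine ⟨⟨isSaturated_subgroup hTH hTp hTi, isSaturated_group S, hsub, hsc, ?_, ?_⟩, ?_⟩
  · intro P hPT φ hφ α hα
    obtain ⟨-, hφT, h, hhH, hh⟩ := hφ
    obtain ⟨n, -, hn⟩ := mem_autInducedBy_iff.1 ((autGroup_group hTS).le hα)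
    rw [map_subgroupOf_eq_img hPT]
    show ∃ χ ∈ E.Hom (img P (autFun α)), _
    set P' := img P (autFun α) with hP'
    have hαm := ((mem_autGroup_iff hTS).1 hα).mono hPT
    have hP'T : P' ≤ T := hαm.img_le_of_forall fun x hx => autFun_mem α (hPT hx)
    refine ⟨Cfsg.conjHom P' (n * h * n⁻¹), ⟨hP'T, fun y => ?_, _, hconjH n h hhH, fun _ => rfl⟩,
      fun x hφx hαx => ?_⟩
    · obtain ⟨x, hx, hxy⟩ := hαm.mem_img.1 y.2
      show n * h * n⁻¹ * (y : G) * (n * h * n⁻¹)⁻¹ ∈ T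
      have h1 := autFun_mem α (hφT ⟨x, hx⟩)
      rw [hn _ (hφT ⟨x, hx⟩), hh] at h1
      rw [← hxy, hn x (hPT hx), show n * h * n⁻¹ * (n * x * n⁻¹) * (n * h * n⁻¹)⁻¹ =
        n * (h * x * h⁻¹) * n⁻¹ by group]
      exact h1
    · show n * h * n⁻¹ * ((α ⟨x, hPT x.2⟩ : T) : G) * (n * h * n⁻¹)⁻¹ = _
      rw [← autFun_apply α (hPT x.2), ← autFun_apply α hφx, hn _ (hPT x.2), hn _ hφx, hh]
      simp [mul_assoc]
  · rintro P hP φ ⟨-, hφS, g, hg⟩
    obtain ⟨k, hk, hkT⟩ := exists_conj_le_of_not_dvd_relIndex hTp hTH hTi (isPGroup_conjBy g hTp)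
      (conjBy_le_iff.2 fun x hx => hconjH g x (hTH hx))
    rw [conjBy_conjBy] at hkT
    have hn : k * g ∈ Subgroup.normalizer (T : Set G) := conjBy_eq_iff.1 (conjBy_eq_of_le hkT)
    set n := k * g with hn'
    have hnα : conjAut n hn ∈ F.autGroup T := by
      rw [autGroup_group hTS]
      exact conjAut_mem (Subgroup.mem_top n) hn
    refine ⟨conjAut n hn, hnα, Cfsg.conjHom P (n⁻¹ * g), ⟨hP, fun x => ?_, n⁻¹ * g, ?_,
      fun _ => rfl⟩, fun x hx => ?_⟩
    · show n⁻¹ * g * (x : G) * (n⁻¹ * g)⁻¹ ∈ T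
      have h1 : g * (x : G) * g⁻¹ ∈ T := ⟨hg x ▸ hφS x, hconjH g _ (hP x.2).2⟩
      have h2 := (Subgroup.mem_normalizer_iff''.1 hn _).1 h1
      simpa [mul_assoc] using h2
    · have e : n⁻¹ * g = g⁻¹ * k⁻¹ * g⁻¹⁻¹ := by rw [hn']; group
      rw [e]
      exact hconjH g⁻¹ _ (inv_mem hk)
    · rw [hg, ← autFun_apply _ hx, autFun_conjAut hn hx]
      show g * (x : G) * g⁻¹ = n * (n⁻¹ * g * (x : G) * (n⁻¹ * g)⁻¹) * n⁻¹
      group
  intro α hα
  obtain ⟨-, h, hhH, hh⟩ := isMap_subgroup_iff.1 ((mem_autGroup_iff le_rfl).1 hα)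
  have hhN : h ∈ Subgroup.normalizer (T : Set G) :=
    mem_normalizer_of_autFun fun x hx => (hh x hx).2
  set C := Subgroup.centralizer (T : Set G) with hC
  have hTfn : F.IsFullyNormalized T := ⟨hTS, fun R _ => by
    rw [show normalizerIn (S : Subgroup G) T = (S : Subgroup G) from inf_eq_left.2 hSN]
    exact card_le_of_le' le_rfl inf_le_left⟩
  have hi := (isFullyCentralized_group_iff S hTS).1
    (IsSaturated.isFullyCentralized S.2 (isSaturated_group S) hTfn)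
  set D := centralizerIn (S : Subgroup G) T with hD
  have hDC : D ≤ C := inf_le_right
  set L := (C ⊓ H) ⊔ D with hL
  have hLC : L ≤ C := sup_le inf_le_left hDC
  have hiL : ¬ p ∣ D.relIndex L := fun hd => hi (hd.trans
    (Dvd.intro _ (Subgroup.relIndex_mul_relIndex D L C le_sup_right hLC)))
  have hCn : ∀ x ∈ C, h * x * h⁻¹ ∈ C := fun x hx =>
    (Subgroup.mem_normalizer_iff.1 (le_normalizer_centralizer T hhN) x).1 hx
  have hconjL : conjBy h D ≤ L := conjBy_le_iff.2 fun x hx => by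
    have hm : h * x * h⁻¹ * x⁻¹ ∈ C ⊓ H := by
      refine ⟨C.mul_mem (hCn x (hDC hx)) (C.inv_mem (hDC hx)), ?_⟩
      rw [show h * x * h⁻¹ * x⁻¹ = h * (x * h⁻¹ * x⁻¹) by group]
      exact H.mul_mem hhH (hconjH x _ (H.inv_mem hhH))
    have h2 := mul_mem (Subgroup.mem_sup_left (T := D) hm) (Subgroup.mem_sup_right hx)
    rwa [inv_mul_cancel_right] at h2
  obtain ⟨l, hl, hlD⟩ := exists_conj_le_of_not_dvd_relIndex (isPGroup_centralizerIn S T)
    le_sup_right hiL (isPGroup_conjBy h (isPGroup_centralizerIn S T)) hconjL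
  have hDn : D ≤ Subgroup.normalizer ((C ⊓ H : Subgroup G) : Set G) := by
    have key : ∀ d ∈ D, ∀ x ∈ C ⊓ H, d * x * d⁻¹ ∈ C ⊓ H := fun d hd x hx =>
      ⟨C.mul_mem (C.mul_mem (hDC hd) hx.1) (C.inv_mem (hDC hd)), hconjH d x hx.2⟩
    intro d hd
    rw [Subgroup.mem_normalizer_iff]
    exact fun x => ⟨key d hd x, fun hx => by
      simpa [mul_assoc] using key d⁻¹ (inv_mem hd) _ hx⟩
  have hl' : l ∈ ((D : Set G) * ((C ⊓ H : Subgroup G) : Set G)) := by
    rw [← Subgroup.coe_mul_of_left_le_normalizer_right D (C ⊓ H) hDn, sup_comm]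
    exact hl
  obtain ⟨d, hd, c, hc, rfl⟩ := Set.mem_mul.1 hl'
  set k := c * h with hk
  have hkD : ∀ x ∈ D, k * x * k⁻¹ ∈ D := fun x hx => by
    have h1 := hlD (conj_mem_conjBy (g := d * c) (conj_mem_conjBy (g := h) hx))
    have h2 := D.mul_mem (D.mul_mem (D.inv_mem hd) h1) hd
    simpa [hk, mul_assoc] using h2
  have hkT : ∀ x ∈ T, k * x * k⁻¹ = h * x * h⁻¹ := fun x hx => by
    have h1 := (hh x hx).1
    rw [hk, show c * h * x * (c * h)⁻¹ = c * (h * x * h⁻¹) * c⁻¹ by group,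
      ← Subgroup.mem_centralizer_iff.1 hc.1 _ h1, mul_inv_cancel_right]
  set U := T ⊔ D with hU
  have hkN : k ∈ Subgroup.normalizer (U : Set G) := by
    refine conjBy_eq_iff.1 (conjBy_eq_of_le (conjBy_le_iff.2 fun x hx => ?_))
    refine Subgroup.closure_induction (p := fun x _ => k * x * k⁻¹ ∈ U) (fun y hy => ?_) ?_ ?_ ?_
      (by rw [← Subgroup.sup_eq_closure]; exact hx)
    · rcases hy with hy | hy
      · exact Subgroup.mem_sup_left ((hkT y hy).symm ▸ (hh y hy).1)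
      · exact Subgroup.mem_sup_right (hkD y hy)
    · simp
    · intro a b _ _ ha hb; simpa [mul_assoc] using mul_mem ha hb
    · intro a _ ha; simpa [mul_assoc] using inv_mem ha
  refine ⟨conjAut k hkN, ?_, fun x => ?_, fun x hx => ?_⟩
  · rw [autGroup_group (show U ≤ (S : Subgroup G) from sup_le hTS inf_le_left)]
    exact conjAut_mem (Subgroup.mem_top k) hkN
  · rw [← autFun_coe, ← autFun_coe, Subgroup.coe_inclusion,
      autFun_conjAut hkN (Subgroup.mem_sup_left x.2), hkT x x.2, (hh x x.2).2]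
  · rw [← autFun_coe, autFun_conjAut hkN x.2]
    have h1 := hkD x hx
    have hkH : k ∈ H := H.mul_mem hc.2 hhH
    refine ⟨⟨(S : Subgroup G).mul_mem ((S : Subgroup G).inv_mem hx.1) h1.1, ?_⟩, Subgroup.mul_mem _ (Subgroup.inv_mem _ hx.2) h1.2⟩
    rw [show (x : G)⁻¹ * (k * x * k⁻¹) = ((x : G)⁻¹ * k * (x : G)⁻¹⁻¹) * k⁻¹ by group]
    exact H.mul_mem (hconjH _ k hkH) (H.inv_mem hkH)

end CfsgLib.Fusion
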