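import Cfsg.Agent.Lib.Fusion.System.Hyperfocal
import Cfsg.Agent.Lib.Coprime.PGroupFrattini

/-!
# The hyperfocal subgroup theorem for groups
-/

set_option autoImplicit false

open Subgroup
open scoped Classical commutatorElement

namespace CfsgLib.Fusion

open Cfsg (FusionSystem autInducedBy groupFusionSystem)

variable {Ω : Type*} [Group Ω] {p : ℕ} [Fact p.Prime]

/-- A subgroup of a `p`-group `S` that generates `S` with the derived subgroup is `S`. -/
theorem eq_of_le_sup_derived {S A : Subgroup Ω} [Finite S] (hS : IsPGroup p S) (hA : A ≤ S)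
    (h : S ≤ A ⊔ ⁅S, S⁆) : A = S := by
  have hd : ⁅S, S⁆.subgroupOf S ≤ frattini S := by
    refine le_trans (le_of_eq ?_) (CfsgLib.Coprime.commutator_le_frattini hS)
    apply Subgroup.map_injective S.subtype_injective
    rw [Subgroup.map_subgroupOf_eq_of_le (Subgroup.commutator_le_self S), commutator_def,
      Subgroup.map_commutator, ← MonoidHom.range_eq_map, Subgroup.range_subtype]
  have h1 : A.subgroupOf S ⊔ frattini S = ⊤ := by
    rw [eq_top_iff]
    refine le_trans ?_ (sup_le_sup_left hd _)
    rw [← Subgroup.subgroupOf_sup hA (Subgroup.commutator_le_self S)]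
    exact le_of_eq (Subgroup.subgroupOf_eq_top.2 h).symm
  exact le_antisymm hA (Subgroup.subgroupOf_eq_top.1 (frattini_nongenerating h1))

variable {G : Type*} [Group G] [Finite G]

/-- Puig's hyperfocal subgroup theorem. -/
theorem hyperfocal_group (S : Sylow p G) :
    (groupFusionSystem (S : Subgroup G)).hyperfocalSubgroup p =
      (S : Subgroup G) ⊓ Cfsg.pResidual p G := by
  set F := groupFusionSystem (S : Subgroup G) with hFdef
  set M := Cfsg.pResidual p G with hM
  haveI : M.Normal := pResidual_normal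
  set Y := F.hyperfocalSubgroup p with hY
  have hYM : Y ≤ M := by
    refine (Subgroup.closure_le _).2 ?_
    rintro y ⟨P, α, x, hP, hα, rfl⟩
    have key : ∀ z ∈ P, z⁻¹ * autFun (α : MulAut P) z ∈ M := fun z hz => by
      refine mem_of_mem_pResidual_aut (fun a _ z hz => ?_) hα hz
      have ha := (autGroup_group hP).le a.2
      obtain ⟨g, -, hg⟩ := mem_autInducedBy_iff.1 ha
      obtain ⟨k, hk⟩ := exists_pow_p_mem_pResidual (p := p) g
      have ha' : ∀ n : ℕ, ∀ w ∈ P, autFun ((a : MulAut P) ^ n) w = g ^ n * w * (g ^ n)⁻¹ := by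
        intro n
        induction n with
        | zero => intro w hw; simp [autFun_one hw]
        | succ n ih =>
            intro w hw
            rw [pow_succ', autFun_mul _ _ hw, hg _ (autFun_mem _ hw), ih w hw, pow_succ' g]
            simp only [mul_inv_rev, mul_assoc]
      obtain ⟨n, hn⟩ := exists_pow_eq_self_of_coprime
        (show (p ^ k).Coprime (orderOf a) from (Nat.Coprime.pow_right k ‹_›).symm)
      have h2 := ha' (p ^ k * n) z hz
      rw [pow_mul, show (((a : MulAut P) ^ p ^ k) ^ n) = (a : MulAut P) from by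
        rw [← SubmonoidClass.coe_pow, ← SubmonoidClass.coe_pow, hn]] at h2
      rw [h2, pow_mul]
      have hm : (g ^ p ^ k) ^ n ∈ M := pow_mem hk n
      have h3 := Subgroup.Normal.conj_mem (show M.Normal from inferInstance) _ hm z⁻¹
      simpa [mul_assoc] using mul_mem h3 (inv_mem hm)
    have := key x x.2
    rwa [autFun_coe] at this
  refine le_antisymm (le_inf hyperfocal_le_S hYM) ?_
  have hi := not_dvd_relIndex_inf_of_normal S M
  let T : Sylow p M := ((S.2.to_le (inf_le_left (b := M))).of_equiv
    (Subgroup.subgroupOfEquivOfLe (inf_le_right : (S : Subgroup G) ⊓ M ≤ M)).symm).toSylow hi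
  have hT : (T : Subgroup M) = ((S : Subgroup G) ⊓ M).subgroupOf M := rfl
  have hTm : ∀ x : M, x ∈ (T : Subgroup M) ↔ (x : G) ∈ (S : Subgroup G) := fun x => by
    rw [hT, Subgroup.mem_subgroupOf]; exact ⟨fun h => h.1, fun h => ⟨h, x.2⟩⟩
  set E := groupFusionSystem (T : Subgroup M) with hE
  have habs : Absorbs E p (Y.subgroupOf M) := by
    refine ⟨fun x hx => (hTm x).2 (hyperfocal_le_S hx), fun t ht => ?_, ?_⟩
    · have htn := absorbs_hyperfocal.normal ((hTm t).1 ht) (F := F) (p := p)
      rw [Subgroup.mem_normalizer_iff] at htn ⊢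
      intro y
      simp only [Subgroup.mem_subgroupOf, Subgroup.coe_mul, Subgroup.coe_inv]
      exact htn y
    · intro P hP α hα x hx
      let P' := P.map M.subtype
      have hP' : P' ≤ (S : Subgroup G) := by
        rintro _ ⟨y, hy, rfl⟩
        exact (hTm y).1 (hP hy)
      let e : P ≃* P' := P.equivMapOfInjective M.subtype M.subtype_injective
      let β : MulAut P' := MulAut.congr e (α : MulAut P)
      have hα2 := (autGroup_group hP).le α.2
      obtain ⟨u, -, hu⟩ := mem_autInducedBy_iff.1 hα2
      have hβe : ∀ z : P, autFun β ((z : M) : G) = ((autFun (α : MulAut P) z : M) : G) := by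
        intro z
        rw [autFun_apply _ (show ((z : M) : G) ∈ P' from Subgroup.mem_map_of_mem M.subtype z.2),
          autFun_coe]
        show ((e ((α : MulAut P) (e.symm _)) : P') : G) = _
        rw [show (e.symm ⟨((z : M) : G), Subgroup.mem_map_of_mem M.subtype z.2⟩) = z from
          (MulEquiv.symm_apply_eq _).2 (Subtype.ext rfl)]
        rfl
      have hβ : β ∈ F.autGroup P' := by
        rw [hFdef, autGroup_group hP', mem_autInducedBy_iff]
        refine ⟨(u : G), Subgroup.mem_top _, ?_⟩
        rintro _ ⟨z, hz, rfl⟩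
        have := hβe ⟨z, hz⟩
        rw [hu z hz] at this
        exact this
      have ho : Nat.Coprime (orderOf (⟨β, hβ⟩ : F.autGroup P')) p := by
        rw [← Subgroup.orderOf_coe]
        show Nat.Coprime (orderOf (MulAut.congr e (α : MulAut P))) p
        rwa [MulEquiv.orderOf_eq, Subgroup.orderOf_coe]
      have h3 := absorbs_hyperfocal.mem P' hP' ⟨β, hβ⟩ ho _
        (Subgroup.mem_map_of_mem M.subtype hx)
      rw [show M.subtype x = ((x : M) : G) from rfl,
        show autFun (((⟨β, hβ⟩ : F.autGroup P') : MulAut P')) _ = _ from hβe ⟨x, hx⟩] at h3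
      exact h3
  haveI : Finite (T : Subgroup M) := inferInstance
  have h1 : (T : Subgroup M) ≤ E.focalSubgroup := by
    refine (le_focalSubgroup_of_pResidual_eq_top T pResidual_pResidual).trans ?_
    rw [Subgroup.focalSubgroup_def]
    refine (Subgroup.closure_le _).2 ?_
    rintro g ⟨hg, a, ha, u, rfl⟩
    have hc : u * a⁻¹ * u⁻¹ ∈ (T : Subgroup M) := by
      have h4 := (T : Subgroup M).mul_mem ((T : Subgroup M).inv_mem ha) hg
      rwa [commutatorElement_def, show a⁻¹ * (a * u * a⁻¹ * u⁻¹) = u * a⁻¹ * u⁻¹ by group] at h4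
    have hz : Subgroup.zpowers a⁻¹ ≤ (T : Subgroup M) :=
      Subgroup.zpowers_le.2 (inv_mem ha)
    have hm : IsMap E (Subgroup.zpowers a⁻¹) (fun x => u * x * u⁻¹) :=
      isMap_group_conj hz (by
        rw [conjBy_le_iff]
        intro x hx
        obtain ⟨n, rfl⟩ := Subgroup.mem_zpowers_iff.1 hx
        rw [← conj_zpow]
        exact zpow_mem hc n)
    obtain ⟨φ, hφ, he⟩ := hm
    refine Subgroup.subset_closure ⟨_, φ, ⟨a⁻¹, Subgroup.mem_zpowers _⟩, hφ, ?_⟩
    rw [he, inv_inv, commutatorElement_def]
    simp [mul_assoc]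
  have h2 : (T : Subgroup M) ≤ Y.subgroupOf M ⊔ ⁅(T : Subgroup M), (T : Subgroup M)⁆ :=
    h1.trans (habs.focal_le T.2 (isSaturated_group T))
  have h3 := eq_of_le_sup_derived T.2 habs.le h2
  intro x hx
  have : (⟨x, hx.2⟩ : M) ∈ (T : Subgroup M) := (hTm _).2 hx.1
  rw [← h3] at this
  exact this

end CfsgLib.Fusion
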