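import Cfsg.Agent.Lib.Fusion.System.LocalModel
import Cfsg.Agent.Lib.Fusion.System.Group

/-!
# Models: existence, uniqueness, rigidity; systems realized on a Sylow subgroup
-/

set_option autoImplicit false
set_option linter.style.haveILetI false
set_option maxHeartbeats 800000

open Subgroup
open scoped Classical IsMulCommutative

namespace CfsgLib.Fusion

open Cfsg (FusionSystem autInducedBy groupFusionSystem)
open Cfsg.FusionSystem (normalizerIn centralizerIn)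

universe u

section Constrained

variable {Ω : Type u} [Group Ω] {S : Subgroup Ω} [Finite S] {F : FusionSystem S} {Q : Subgroup Ω}
  {p : ℕ} [Fact p.Prime]

theorem isFullyNormalized_of_isNormal (hQ : F.IsNormal Q) : F.IsFullyNormalized Q := by
  refine ⟨hQ.1, fun R _ => ?_⟩
  rw [show normalizerIn S Q = S from le_antisymm inf_le_left
    (le_normalizerIn_of_stronglyClosed (stronglyClosed_of_isNormal hQ))]
  exact card_le_of_le' le_rfl inf_le_left

/-- A constrained system has a model. -/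
theorem exists_model_of_normal_centric (hS : IsPGroup p S) (hF : F.IsSaturated p) (hQ : F.IsNormal Q)
    (hc : F.IsCentric Q) : ∃ (L : Type u) (_ : Group L) (ι : S →* L), F.IsModel p L ι := by
  set T := normalizerIn S Q with hT
  have hTS : T = S := le_antisymm inf_le_left
    (le_normalizerIn_of_stronglyClosed (stronglyClosed_of_isNormal hQ))
  let E := nSystem F T Q le_rfl hQ.1
  have hE : F.IsNormalizerSystem Q E := fun P => Set.ext fun φ => by
    rw [mem_normalizerHom_iff]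
    exact Iff.rfl
  obtain ⟨L, hL, ι, ⟨hfin, ⟨hinj, hreal⟩, ⟨R, hR⟩, hcore⟩, -⟩ :=
    exists_local_model hS hF (isFullyNormalized_of_isNormal hQ) hc hE
  refine ⟨L, hL, ι.comp (Subgroup.inclusion hTS.ge), hfin,
    ⟨hinj.comp (Subgroup.inclusion_injective _), fun P hP φ hφ => ?_⟩, ⟨R, ?_⟩, hcore⟩
  · refine Iff.trans ⟨fun h => ?_, fun h => ?_⟩ (hreal P (hP.trans hTS.ge) φ fun x => hTS.ge (hφ x))
    · refine mem_hom_iff.2 (isMap_nSystem_iff.2 ⟨hP.trans hTS.ge, fun x hx => ?_, ?_⟩)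
      · rw [toFun_apply φ hx]; exact hTS.ge (hφ _)
      · exact (isNormal_iff.1 hQ).2 P _ (isMap_toFun h)
    · exact mem_hom_iff.2 (isMap_nSystem_iff.1 (isMap_toFun h)).isMap
  · rw [hR]
    ext l
    constructor
    · rintro ⟨⟨x, hx⟩, rfl⟩
      exact ⟨⟨x, hTS.le hx⟩, rfl⟩
    · rintro ⟨x, rfl⟩
      exact ⟨_, rfl⟩

end Constrained

/-! ### Systems realized by a homomorphism -/

variable {Ω : Type*} [Group Ω] {S : Subgroup Ω} {F : FusionSystem S} {P Q : Subgroup Ω}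
  {f : Ω → Ω} {p : ℕ} {G : Type*} [Group G] {ι : S →* G}

/-- `ι`, extended by `1`. -/
noncomputable def ext1 (ι : S →* G) : Ω → G := fun x => if h : x ∈ S then ι ⟨x, h⟩ else 1

theorem ext1_apply (ι : S →* G) {x : Ω} (h : x ∈ S) : ext1 ι x = ι ⟨x, h⟩ := dif_pos h

theorem ext1_coe (ι : S →* G) (x : S) : ext1 ι x = ι x := ext1_apply ι x.2

theorem ext1_mul (ι : S →* G) {x y : Ω} (hx : x ∈ S) (hy : y ∈ S) :
    ext1 ι (x * y) = ext1 ι x * ext1 ι y := by
  rw [ext1_apply ι hx, ext1_apply ι hy, ext1_apply ι (S.mul_mem hx hy), ← map_mul]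
  rfl

theorem ext1_inv (ι : S →* G) {x : Ω} (hx : x ∈ S) : ext1 ι x⁻¹ = (ext1 ι x)⁻¹ := by
  rw [ext1_apply ι hx, ext1_apply ι (S.inv_mem hx), ← map_inv]
  rfl

theorem ext1_conj (ι : S →* G) {x y : Ω} (hx : x ∈ S) (hy : y ∈ S) :
    ext1 ι (x * y * x⁻¹) = ext1 ι x * ext1 ι y * (ext1 ι x)⁻¹ := by
  rw [ext1_mul ι (S.mul_mem hx hy) (S.inv_mem hx), ext1_mul ι hx hy, ext1_inv ι hx]

theorem ext1_mem_range (ι : S →* G) (x : Ω) : ext1 ι x ∈ ι.range := by
  by_cases h : x ∈ S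
  · exact ⟨⟨x, h⟩, (ext1_apply ι h).symm⟩
  · rw [ext1, dif_neg h]; exact one_mem _

theorem ext1_inj (hι : Function.Injective ι) {x y : Ω} (hx : x ∈ S) (hy : y ∈ S)
    (h : ext1 ι x = ext1 ι y) : x = y := by
  rw [ext1_apply ι hx, ext1_apply ι hy] at h
  exact congrArg Subtype.val (hι h)

/-- The image of `P ≤ S` in `G`. -/
def imgι (ι : S →* G) (P : Subgroup Ω) : Subgroup G := (P.subgroupOf S).map ι

theorem mem_imgι (hP : P ≤ S) {y : G} : y ∈ imgι ι P ↔ ∃ x ∈ P, ext1 ι x = y := by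
  constructor
  · rintro ⟨x, hx, rfl⟩
    exact ⟨x, hx, ext1_coe ι x⟩
  · rintro ⟨x, hx, rfl⟩
    exact ⟨⟨x, hP hx⟩, hx, (ext1_apply ι (hP hx)).symm⟩

theorem ext1_mem_imgι (hP : P ≤ S) {x : Ω} (hx : x ∈ P) : ext1 ι x ∈ imgι ι P :=
  (mem_imgι hP).2 ⟨x, hx, rfl⟩

theorem mem_of_ext1_mem_imgι (hι : Function.Injective ι) (hP : P ≤ S) {x : Ω} (hx : x ∈ S)
    (h : ext1 ι x ∈ imgι ι P) : x ∈ P := by
  obtain ⟨y, hy, hyx⟩ := (mem_imgι hP).1 h
  exact ext1_inj hι (hP hy) hx hyx ▸ hy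

theorem imgι_le_range (P : Subgroup Ω) : imgι ι P ≤ ι.range := Subgroup.map_le_range ι _

theorem card_imgι (hι : Function.Injective ι) (hP : P ≤ S) :
    Nat.card (imgι ι P) = Nat.card P := by
  rw [imgι, Subgroup.card_map_of_injective hι]
  exact Nat.card_congr (Subgroup.subgroupOfEquivOfLe hP).toEquiv

theorem imgι_mono (h : P ≤ Q) : imgι ι P ≤ imgι ι Q := Subgroup.map_mono (Subgroup.comap_mono h)

theorem exists_imgι_eq (hι : Function.Injective ι) {R : Subgroup G} (hR : R ≤ ι.range) :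
    ∃ P : Subgroup Ω, P ≤ S ∧ imgι ι P = R := by
  refine ⟨(R.comap ι).map S.subtype, Subgroup.map_subtype_le _, ?_⟩
  rw [imgι, Subgroup.subgroupOf, Subgroup.comap_map_eq_self_of_injective S.subtype_injective,
    Subgroup.map_comap_eq, inf_eq_right.2 hR]

section Realized

variable (hF : F.IsRealizedBy ι)
include hF

theorem isMap_realized_iff :
    IsMap F P f ↔ P ≤ S ∧ (∀ x ∈ P, f x ∈ S) ∧ (∀ x ∈ P, ∀ y ∈ P, f (x * y) = f x * f y) ∧
      ∃ g : G, ∀ x ∈ P, ext1 ι (f x) = g * ext1 ι x * g⁻¹ := by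
  constructor
  · intro h
    obtain ⟨φ, hφ, hφf⟩ := id h
    obtain ⟨g, hg⟩ := (hF.2 P h.le φ fun x => (F.le_of_mem hφ).2 x).1 hφ
    refine ⟨h.le, fun x hx => h.mem_S hx, fun x hx y hy => h.map_mul hx hy, g, fun x hx => ?_⟩
    rw [ext1_apply ι (h.mem_S hx), ext1_apply ι (h.le hx)]
    have := hg ⟨x, hx⟩
    rwa [show (⟨φ ⟨x, hx⟩, (F.le_of_mem hφ).2 _⟩ : S) = ⟨f x, h.mem_S hx⟩ from
      Subtype.ext (hφf ⟨x, hx⟩)] at this
  · rintro ⟨hP, hS', hmul, g, hg⟩
    refine ⟨MonoidHom.mk' (fun x : P => f x) fun x y => hmul x x.2 y y.2, ?_, fun _ => rfl⟩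
    refine (hF.2 P hP _ fun x => hS' x x.2).2 ⟨g, fun x => ?_⟩
    have := hg x x.2
    rwa [ext1_apply ι (hS' x x.2), ext1_apply ι (hP x.2)] at this

/-- A group element carrying `ιP` into `ιS` gives a map of the system. -/
theorem exists_map_of_conj (hP : P ≤ S) {g : G} (hg : ∀ x ∈ P, g * ext1 ι x * g⁻¹ ∈ ι.range) :
    ∃ f, IsMap F P f ∧ ∀ x ∈ P, ext1 ι (f x) = g * ext1 ι x * g⁻¹ := by
  choose y hy using fun x : P => hg x x.2
  let f : Ω → Ω := fun x => if h : x ∈ P then (y ⟨x, h⟩ : Ω) else 1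
  have hf : ∀ x (hx : x ∈ P), f x = y ⟨x, hx⟩ := fun x hx => dif_pos hx
  have he : ∀ x ∈ P, ext1 ι (f x) = g * ext1 ι x * g⁻¹ := fun x hx => by
    rw [hf x hx, ext1_coe, hy]
  have hfS : ∀ x ∈ P, f x ∈ S := fun x hx => hf x hx ▸ (y _).2
  refine ⟨f, (isMap_realized_iff hF).2 ⟨hP, hfS, fun a ha b hb => ?_, g, he⟩, he⟩
  refine ext1_inj hF.1 (hfS _ (mul_mem ha hb)) (S.mul_mem (hfS a ha) (hfS b hb)) ?_
  rw [he _ (mul_mem ha hb), ext1_mul ι (hfS a ha) (hfS b hb), he a ha, he b hb,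
    ext1_mul ι (hP ha) (hP hb)]
  group

theorem imgι_img {g : G} (hf : IsMap F P f) (hg : ∀ x ∈ P, ext1 ι (f x) = g * ext1 ι x * g⁻¹) :
    imgι ι (img P f) = conjBy g (imgι ι P) := by
  ext y
  rw [mem_imgι hf.img_le]
  constructor
  · rintro ⟨z, hz, rfl⟩
    obtain ⟨x, hx, rfl⟩ := hf.mem_img.1 hz
    rw [hg x hx]
    exact conj_mem_conjBy (ext1_mem_imgι hf.le hx)
  · intro hy
    obtain ⟨x, hx, hxy⟩ := (mem_imgι hf.le).1 (mem_conjBy.1 hy)
    refine ⟨f x, hf.mem_img.2 ⟨x, hx, rfl⟩, ?_⟩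
    rw [hg x hx, hxy]
    group

theorem isConj_realized_iff (hP : P ≤ S) (hQ : Q ≤ S) :
    F.IsConj P Q ↔ (groupFusionSystem ι.range).IsConj (imgι ι P) (imgι ι Q) := by
  rw [isConj_group_iff, isConj_iff]
  constructor
  · rintro ⟨f, hf, rfl⟩
    obtain ⟨-, -, -, g, hg⟩ := (isMap_realized_iff hF).1 hf
    exact ⟨imgι_le_range P, imgι_le_range _, g, (imgι_img hF hf hg).symm⟩
  · rintro ⟨-, -, g, hg⟩
    obtain ⟨f, hf, hfg⟩ := exists_map_of_conj hF hP (g := g) fun x hx =>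
      imgι_le_range Q (hg.le (conj_mem_conjBy (ext1_mem_imgι hP hx)))
    refine ⟨f, hf, ?_⟩
    have e := (imgι_img hF hf hfg).trans hg
    refine le_antisymm (fun x hx => ?_) fun x hx => ?_
    · exact mem_of_ext1_mem_imgι hF.1 hQ (hf.img_le hx) (e.le (ext1_mem_imgι hf.img_le hx))
    · exact mem_of_ext1_mem_imgι hF.1 hf.img_le (hQ hx) (e.ge (ext1_mem_imgι hQ hx))

theorem imgι_normalizerIn (hQ : Q ≤ S) :
    imgι ι (normalizerIn S Q) = normalizerIn ι.range (imgι ι Q) := by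
  ext y
  rw [mem_imgι (show normalizerIn S Q ≤ S from inf_le_left)]
  constructor
  · rintro ⟨x, hx, rfl⟩
    refine ⟨ext1_mem_range ι x, Subgroup.mem_normalizer_iff.2 fun z => ⟨fun hz => ?_, fun hz => ?_⟩⟩
    · obtain ⟨q, hq, rfl⟩ := (mem_imgι hQ).1 hz
      rw [← ext1_conj ι hx.1 (hQ hq)]
      exact ext1_mem_imgι hQ ((Subgroup.mem_normalizer_iff.1 hx.2 q).1 hq)
    · obtain ⟨q, hq, hqz⟩ := (mem_imgι hQ).1 hz
      have hq' : x⁻¹ * q * x ∈ Q := (Subgroup.mem_normalizer_iff''.1 hx.2 q).1 hq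
      have := ext1_mem_imgι (ι := ι) hQ hq'
      rwa [show x⁻¹ * q * x = x⁻¹ * q * x⁻¹⁻¹ by group, ext1_conj ι (S.inv_mem hx.1) (hQ hq),
        ext1_inv ι hx.1, hqz, show (ext1 ι x)⁻¹ * (ext1 ι x * z * (ext1 ι x)⁻¹) *
          (ext1 ι x)⁻¹⁻¹ = z by group] at this
  · rintro ⟨⟨x, rfl⟩, hxN⟩
    refine ⟨x, ⟨x.2, Subgroup.mem_normalizer_iff.2 fun z => ?_⟩, ext1_coe ι x⟩
    by_cases hz : z ∈ S
    · constructor
      · intro hzQ
        refine mem_of_ext1_mem_imgι hF.1 hQ (S.mul_mem (S.mul_mem x.2 hz) (S.inv_mem x.2)) ?_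
        rw [ext1_conj ι x.2 hz, ext1_coe]
        exact (Subgroup.mem_normalizer_iff.1 hxN _).1 (ext1_mem_imgι hQ hzQ)
      · intro hzQ
        refine mem_of_ext1_mem_imgι hF.1 hQ hz ((Subgroup.mem_normalizer_iff.1 hxN _).2 ?_)
        rw [← ext1_coe ι x, ← ext1_conj ι x.2 hz]
        exact ext1_mem_imgι hQ hzQ
    · constructor
      · exact fun h => absurd (hQ h) hz
      · intro h
        exact absurd (by simpa [mul_assoc] using S.mul_mem (S.mul_mem (S.inv_mem x.2) (hQ h)) x.2) hz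

theorem isFullyNormalized_imgι (hQ : F.IsFullyNormalized Q) :
    (groupFusionSystem ι.range).IsFullyNormalized (imgι ι Q) := by
  refine ⟨imgι_le_range Q, fun R hR => ?_⟩
  obtain ⟨P, hP, rfl⟩ := exists_imgι_eq (Ω := Ω) hF.1 (isConj_le hR).2
  rw [← imgι_normalizerIn hF hP, ← imgι_normalizerIn hF hQ.1, card_imgι hF.1 (show normalizerIn S P ≤ S from inf_le_left),
    card_imgι hF.1 (show normalizerIn S Q ≤ S from inf_le_left)]
  exact hQ.2 P ((isConj_realized_iff hF hQ.1 hP).2 hR)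

variable [Finite G] [Finite S] [Fact p.Prime]

/-- A system realized on a Sylow subgroup is saturated. -/
theorem isSaturated_of_realized (hS : IsPGroup p S) {T : Sylow p G}
    (hT : (T : Subgroup G) = ι.range) : F.IsSaturated p := by
  have hG : (groupFusionSystem ι.range).IsSaturated p := hT ▸ isSaturated_group T
  have hTp : IsPGroup p ι.range := hT ▸ T.2
  refine isSaturated_of_top hS ?_ fun Q hQ => ?_
  · refine (isFullyAutomized_iff hS).2 ⟨le_rfl, fun hd => T.not_dvd_index ?_⟩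
    haveI := finite_mulAut (P := S)
    set N := Subgroup.normalizer (ι.range : Set G)
    have hTN : ι.range ≤ N := Subgroup.le_normalizer
    let e : S ≃* ι.range := MonoidHom.ofInjective hF.1
    let Φ : N →* MulAut S :=
      (MulAut.congr e.symm).toMonoidHom.comp (Subgroup.normalizerMonoidHom ι.range)
    have hΦ : ∀ (n : N) (x : S), ι (Φ n x) = n * ι x * (n : G)⁻¹ := fun n x => by
      show ι (e.symm (ι.range.normalizerMonoidHom n (e x))) = _
      rw [show ι (e.symm (ι.range.normalizerMonoidHom n (e x))) =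
        ((ι.range.normalizerMonoidHom n (e x) : ι.range) : G) from
          congrArg Subtype.val (e.apply_symm_apply _)]
      rfl
    have hΦR : F.autGroup S = Φ.range := by
      ext a
      rw [mem_autGroup_iff le_rfl, isMap_realized_iff hF]
      constructor
      · rintro ⟨-, -, -, g, hg⟩
        have hgN : g ∈ N := by
          refine conjBy_eq_iff.1 (conjBy_eq_of_le (conjBy_le_iff.2 ?_))
          rintro _ ⟨x, rfl⟩
          rw [← ext1_coe ι x, ← hg x x.2]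
          exact ext1_mem_range ι _
        refine ⟨⟨g, hgN⟩, autFun_ext fun x hx => ext1_inj hF.1 (autFun_mem _ hx) (autFun_mem _ hx) ?_⟩
        rw [hg x hx, autFun_apply _ hx, ext1_apply ι hx, ext1_coe, hΦ]
      · rintro ⟨n, rfl⟩
        refine ⟨le_rfl, fun x hx => autFun_mem _ hx, fun x hx y hy => autFun_map_mul _ hx hy, n,
          fun x hx => ?_⟩
        rw [autFun_apply _ hx, ext1_apply ι hx, ext1_coe, hΦ]
    have hle : (ι.range.subgroupOf N).map Φ ≤ autInducedBy S S := by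
      rintro _ ⟨n, ⟨s, hs⟩, rfl⟩
      refine mem_autInducedBy_iff.2 ⟨s, s.2, fun x hx => ?_⟩
      refine ext1_inj hF.1 (autFun_mem _ hx) (S.mul_mem (S.mul_mem s.2 hx) (S.inv_mem s.2)) ?_
      rw [ext1_conj ι s.2 hx, autFun_apply _ hx, ext1_coe, ext1_coe, hΦ, ext1_apply ι hx, hs]
      rfl
    rw [hΦR] at hd
    have h1 := hd.trans (Subgroup.relIndex_dvd_of_le_left _ hle)
    rw [MonoidHom.range_eq_map Φ, Subgroup.relIndex_map_map, Subgroup.relIndex] at h1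
    have h2 : ι.range.relIndex N ∣ (T : Subgroup G).index := by
      rw [hT, ← Subgroup.relIndex_mul_index hTN]
      exact Dvd.intro _ rfl
    refine (h1.trans ?_).trans h2
    rw [top_sup_eq, ← Subgroup.relIndex, Subgroup.relIndex_top_right]
    exact Subgroup.index_dvd_of_le le_sup_left
  · refine isReceptive_iff.2 ⟨hQ.1, fun R f hf himg => ?_⟩
    subst himg
    obtain ⟨-, -, -, g, hg⟩ := (isMap_realized_iff hF).1 hf
    have hrec := (IsSaturated.automized_receptive hTp hG (isFullyNormalized_imgι hF hQ)).2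
    have hle : conjBy g (imgι ι R) ≤ ι.range :=
      (imgι_img hF hf hg).symm.le.trans (imgι_le_range _)
    have hmap := isMap_group_conj (imgι_le_range R) hle
    obtain ⟨ψ, hψ, hψe⟩ := (isReceptive_iff.1 hrec).2 _ _ hmap
      ((img_conj _ _).trans (imgι_img hF hf hg).symm)
    obtain ⟨-, g', hg'⟩ := isMap_group_iff.1 hψ
    have hmem : ∀ u ∈ extSub S R f, ext1 ι u ∈
        extSub ι.range (imgι ι R) (fun x => g * x * g⁻¹) := by
      rintro u ⟨hu, h, hh, he⟩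
      refine ⟨(imgι_normalizerIn hF hf.le).le (ext1_mem_imgι inf_le_left hu), ext1 ι h,
        ext1_mem_range ι h, fun z hz => ?_⟩
      obtain ⟨x, hx, rfl⟩ := (mem_imgι hf.le).1 hz
      have hux := (Subgroup.mem_normalizer_iff.1 hu.2 x).1 hx
      show g * _ * g⁻¹ = ext1 ι h * (g * ext1 ι x * g⁻¹) * (ext1 ι h)⁻¹
      rw [← ext1_conj ι hu.1 (hf.le hx), ← hg _ hux, he x hx, ← hg x hx,
        ext1_conj ι hh (hf.mem_S hx)]
    obtain ⟨k, hk, hkg⟩ := exists_map_of_conj hF (P := extSub S R f) (g := g')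
      (extSub_le.trans inf_le_left) fun u hu => (hg' _ (hmem u hu)).1
    refine ⟨k, hk, fun x hx => ext1_inj hF.1 (hk.mem_S (le_extSub hf hx)) (hf.mem_S hx) ?_⟩
    rw [hkg x (le_extSub hf hx), ← (hg' _ (hmem x (le_extSub hf hx))).2,
      hψe _ (ext1_mem_imgι hf.le hx), hg x hx]

/-- A system with a model is constrained, and `O_p` of the model is the image of the core. -/
theorem model_facts (hS : IsPGroup p S) {T : Sylow p G} (hT : (T : Subgroup G) = ι.range)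
    (hC : Subgroup.centralizer ((Cfsg.pCore p G : Subgroup G) : Set G) ≤ Cfsg.pCore p G) :
    F.IsConstrained p ∧ F.IsCentric F.core ∧ (Cfsg.pCore p G : Subgroup G) = imgι ι F.core ∧
      Subgroup.centralizer (imgι ι F.core : Set G) ≤ imgι ι F.core := by
  haveI := CfsgLib.Coprime.pCore_normal' (G := G) p
  obtain ⟨R, hR, hRC⟩ := exists_imgι_eq (Ω := Ω) hF.1
    (hT ▸ (CfsgLib.Coprime.pCore_isPGroup (G := G) p).le_sylow_of_normal T :
      (Cfsg.pCore p G : Subgroup G) ≤ ι.range)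
  have hsat := isSaturated_of_realized hF hS hT
  have hnorm : ∀ g : G, ∀ x ∈ R, g * ext1 ι x * g⁻¹ ∈ imgι ι R := fun g x hx => by
    have := ext1_mem_imgι (ι := ι) hR hx
    rw [hRC] at this ⊢
    exact Subgroup.Normal.conj_mem inferInstance _ this g
  have hRn : F.IsNormal R := by
    refine isNormal_iff.2 ⟨hR, fun P f hf => ?_⟩
    obtain ⟨-, -, -, g, hg⟩ := (isMap_realized_iff hF).1 hf
    have hPR : P ⊔ R ≤ S := sup_le hf.le hR
    have hin : ∀ z ∈ imgι ι (P ⊔ R), g * z * g⁻¹ ∈ ι.range := by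
      intro z hz
      have hle : imgι ι (P ⊔ R) ≤ conjBy g⁻¹ ι.range := by
        rw [imgι, Subgroup.subgroupOf_sup hf.le hR, Subgroup.map_sup]
        refine sup_le (fun y hy => ?_) fun y hy => ?_
        · obtain ⟨x, hx, rfl⟩ := (mem_imgι hf.le).1 hy
          rw [mem_conjBy, inv_inv, ← hg x hx]
          exact ext1_mem_range ι _
        · obtain ⟨x, hx, rfl⟩ := (mem_imgι hR).1 hy
          rw [mem_conjBy, inv_inv]
          exact imgι_le_range R (hnorm g x hx)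
      have := mem_conjBy.1 (hle hz)
      rwa [inv_inv] at this
    obtain ⟨k, hk, hkg⟩ := exists_map_of_conj hF hPR fun x hx => hin _ (ext1_mem_imgι hPR hx)
    refine ⟨k, hk, fun x hx => ext1_inj hF.1 (hk.mem_S ((le_sup_left : P ≤ P ⊔ R) hx))
      (hf.mem_S hx) (by rw [hkg x ((le_sup_left : P ≤ P ⊔ R) hx), hg x hx]), ?_⟩
    refine img_eq_of_map_le hR hk le_sup_right fun x hx => ?_
    have hxs := (le_sup_right : R ≤ P ⊔ R) hx
    exact mem_of_ext1_mem_imgι hF.1 hR (hk.mem_S hxs) (hkg x hxs ▸ hnorm g x hx)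
  have hCS : centralizerIn S R ≤ R := by
    intro c hc
    refine mem_of_ext1_mem_imgι hF.1 hR hc.1 (hRC.ge (hC ?_))
    rw [← hRC]
    refine Subgroup.mem_centralizer_iff.2 fun y hy => ?_
    obtain ⟨x, hx, rfl⟩ := (mem_imgι hR).1 hy
    rw [← ext1_mul ι (hR hx) hc.1, ← ext1_mul ι hc.1 (hR hx),
      Subgroup.mem_centralizer_iff.1 hc.2 x hx]
  have hRc : F.IsCentric R := isCentric_of_fullyCentralized
    (IsSaturated.isFullyCentralized hS hsat (isFullyNormalized_of_isNormal hRn)) hCS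
  have hcn := isNormal_core (F := F)
  have hRcore := le_core hRn
  have hcc : F.IsCentric F.core := isCentric_mono hRc hRcore hcn.1
  have hmain : (Cfsg.pCore p G : Subgroup G) = imgι ι F.core := by
    refine le_antisymm (hRC.ge.trans (imgι_mono hRcore)) ?_
    have hn : (imgι ι F.core).Normal := by
      refine ⟨fun y hy g => ?_⟩
      obtain ⟨f, hf, hfg⟩ := exists_map_of_conj hF hR (g := g)
        fun x hx => imgι_le_range R (hnorm g x hx)
      obtain ⟨k, hk, hkf, hkC⟩ := (isNormal_iff.1 hcn).2 R f hf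
      obtain ⟨-, -, -, g', hg'⟩ := (isMap_realized_iff hF).1 hk
      have hgg : g'⁻¹ * g ∈ imgι ι F.core := by
        refine imgι_mono hRcore (hRC.ge (hC ?_))
        rw [← hRC]
        refine mem_centralizer_iff'.2 fun z hz => ?_
        obtain ⟨x, hx, rfl⟩ := (mem_imgι hR).1 hz
        have h1 := hg' x ((le_sup_left : R ≤ R ⊔ F.core) hx)
        rw [hkf x hx, hfg x hx] at h1
        calc g'⁻¹ * g * ext1 ι x * (g'⁻¹ * g)⁻¹ = g'⁻¹ * (g * ext1 ι x * g⁻¹) * g' := by group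
          _ = ext1 ι x := by rw [h1]; group
      have h2 : g' * ((g'⁻¹ * g) * y * (g'⁻¹ * g)⁻¹) * g'⁻¹ ∈ imgι ι F.core := by
        obtain ⟨x, hx, hxy⟩ := (mem_imgι hcn.1).1 (mul_mem (mul_mem hgg hy) (inv_mem hgg))
        have hxs := (le_sup_right : F.core ≤ R ⊔ F.core) hx
        rw [← hxy, ← hg' x hxs]
        exact ext1_mem_imgι hcn.1 (mem_of_img_eq hk le_sup_right hkC hx)
      convert h2 using 1
      group
    exact CfsgLib.Coprime.le_pCore (hN := hn) ((hS.to_subgroup _).map ι)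
  exact ⟨⟨hsat, R, hRn, hRc⟩, hcc, hmain, hmain ▸ hC⟩

end Realized

/-! ### Uniqueness and rigidity -/

section Unique

variable {G₁ G₂ : Type*} [Group G₁] [Group G₂]

theorem mem_normalizer_range_of_normal {H : Subgroup G} [H.Normal] (g : G) {x : G} (hx : x ∈ H) :
    g⁻¹ * x * g ∈ H := by simpa using Subgroup.Normal.conj_mem inferInstance x hx g⁻¹

/-- Averaging: the product of the values of a crossed homomorphism over coset representatives. -/
theorem exists_center_conj [Finite G] {H : Subgroup G} {Z : Subgroup G} [IsMulCommutative Z]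
    [hZ : Z.Normal] (ψ : G →* G) (hψ : ∀ g, ψ g * g⁻¹ ∈ Z) (hfix : ∀ h ∈ H, ψ h = h)
    (hcop : (Nat.card Z).Coprime H.index) : ∃ z ∈ Z, ∀ g, ψ g = z * g * z⁻¹ := by
  haveI := Fintype.ofFinite (G ⧸ H)
  let e : G ⧸ H → Z := fun t => ⟨ψ t.out * t.out⁻¹, hψ _⟩
  have he : ∀ g t, ((e (g • t) : Z) : G) = ψ g * (e t : G) * g⁻¹ := by
    intro g t
    obtain ⟨h, hh⟩ := QuotientGroup.mk_out_eq_mul H (g * t.out)
    have h1 : g • t = ((g * t.out : G) : G ⧸ H) := by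
      conv_lhs => rw [← QuotientGroup.out_eq' t]
      rfl
    show ψ (g • t).out * (g • t).out⁻¹ = ψ g * (ψ t.out * t.out⁻¹) * g⁻¹
    rw [h1, hh, map_mul, map_mul, hfix h h.2]
    group
  let pw := powCoprime (G := Z) (n := H.index) hcop
  set z : Z := pw.symm (∏ t, e t) with hz
  have hzp : z ^ H.index = ∏ t, e t := pw.apply_symm_apply _
  refine ⟨z, z.2, fun g => ?_⟩
  let c : Z →* Z := MonoidHom.mk' (fun w => ⟨g * (w : G) * g⁻¹, hZ.conj_mem _ w.2 g⟩)
    fun a b => Subtype.ext (by simp [mul_assoc])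
  let d : Z := ⟨ψ g * g⁻¹, hψ g⟩
  have hprod : ∏ t, e t = d ^ H.index * c (∏ t, e t) := by
    conv_lhs => rw [← Equiv.prod_comp (MulAction.toPerm g) e]
    rw [map_prod, Subgroup.index, Nat.card_eq_fintype_card, ← Finset.card_univ,
      ← Finset.prod_const, ← Finset.prod_mul_distrib]
    refine Finset.prod_congr rfl fun t _ => Subtype.ext ?_
    show ((e (g • t) : Z) : G) = ψ g * g⁻¹ * (g * (e t : G) * g⁻¹)
    rw [he]
    group
  have hzd : z = d * c z := pw.injective (by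
    show z ^ H.index = (d * c z) ^ H.index
    rw [mul_pow, ← map_pow c z, hzp]
    exact hprod)
  have h2 := congrArg Subtype.val hzd
  rw [Subgroup.coe_mul] at h2
  have h3 : (z : G) = ψ g * g⁻¹ * (g * z * g⁻¹) := h2
  calc ψ g = ψ g * g⁻¹ * (g * z * g⁻¹) * g * (z : G)⁻¹ := by group
    _ = z * g * (z : G)⁻¹ := by rw [← h3]

variable [Finite G₁] [Finite G₂] [Finite S] [Fact p.Prime] {ι₁ : S →* G₁} {ι₂ : S →* G₂}

/-- `g₁` and `g₂` induce the same action on `C`. -/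
def SameAct (ι₁ : S →* G₁) (ι₂ : S →* G₂) (C : Subgroup Ω) (g₁ : G₁) (g₂ : G₂) : Prop :=
  ∀ x ∈ C, ∃ y ∈ C, g₁ * ext1 ι₁ x * g₁⁻¹ = ext1 ι₁ y ∧ g₂ * ext1 ι₂ x * g₂⁻¹ = ext1 ι₂ y

omit [Finite G₁] [Finite G₂] [Finite S] in
theorem SameAct.mul {C : Subgroup Ω} {a b : G₁} {a' b' : G₂} (h : SameAct ι₁ ι₂ C a a')
    (h' : SameAct ι₁ ι₂ C b b') : SameAct ι₁ ι₂ C (a * b) (a' * b') := by
  intro x hx
  obtain ⟨y, hy, e1, e2⟩ := h' x hx
  obtain ⟨z, hz, f1, f2⟩ := h y hy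
  refine ⟨z, hz, ?_, ?_⟩
  · rw [← f1, ← e1]; group
  · rw [← f2, ← e2]; group

/-- Uniqueness of models. -/
theorem exists_iso_of_models (hS : IsPGroup p S) (h₁ : F.IsRealizedBy ι₁) (h₂ : F.IsRealizedBy ι₂)
    {T₁ : Sylow p G₁} (hT₁ : (T₁ : Subgroup G₁) = ι₁.range) {T₂ : Sylow p G₂}
    (hT₂ : (T₂ : Subgroup G₂) = ι₂.range)
    (hC₁ : Subgroup.centralizer ((Cfsg.pCore p G₁ : Subgroup G₁) : Set G₁) ≤ Cfsg.pCore p G₁)
    (hC₂ : Subgroup.centralizer ((Cfsg.pCore p G₂ : Subgroup G₂) : Set G₂) ≤ Cfsg.pCore p G₂) :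
    ∃ Φ : G₁ ≃* G₂, ∀ x : S, Φ (ι₁ x) = ι₂ x := by
  obtain ⟨-, -, hR₁, hcc₁⟩ := model_facts h₁ hS hT₁ hC₁
  obtain ⟨-, -, hR₂, hcc₂⟩ := model_facts h₂ hS hT₂ hC₂
  set C := F.core with hC
  have hCS : C ≤ S := (isNormal_core (F := F)).1
  have hn₁ : (imgι ι₁ C).Normal := hR₁ ▸ CfsgLib.Coprime.pCore_normal' p
  have hn₂ : (imgι ι₂ C).Normal := hR₂ ▸ CfsgLib.Coprime.pCore_normal' p
  -- every element of one model has a partner in the other
  have part : ∀ g₁, ∃ g₂, SameAct ι₁ ι₂ C g₁ g₂ := by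
    intro g₁
    obtain ⟨f, hf, hfg⟩ := exists_map_of_conj h₁ hCS (g := g₁) fun x hx =>
      imgι_le_range C (hn₁.conj_mem _ (ext1_mem_imgι hCS hx) g₁)
    obtain ⟨-, -, -, g₂, hg₂⟩ := (isMap_realized_iff h₂).1 hf
    refine ⟨g₂, fun x hx => ⟨f x, mem_of_ext1_mem_imgι h₁.1 hCS (hf.mem_S hx) ?_,
      (hfg x hx).symm, (hg₂ x hx).symm⟩⟩
    rw [hfg x hx]
    exact hn₁.conj_mem _ (ext1_mem_imgι hCS hx) g₁
  have part' : ∀ g₂, ∃ g₁, SameAct ι₁ ι₂ C g₁ g₂ := by
    intro g₂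
    obtain ⟨f, hf, hfg⟩ := exists_map_of_conj h₂ hCS (g := g₂) fun x hx =>
      imgι_le_range C (hn₂.conj_mem _ (ext1_mem_imgι hCS hx) g₂)
    obtain ⟨-, -, -, g₁, hg₁⟩ := (isMap_realized_iff h₁).1 hf
    refine ⟨g₁, fun x hx => ⟨f x, mem_of_ext1_mem_imgι h₂.1 hCS (hf.mem_S hx) ?_,
      (hg₁ x hx).symm, (hfg x hx).symm⟩⟩
    rw [hfg x hx]
    exact hn₂.conj_mem _ (ext1_mem_imgι hCS hx) g₂
  have hinvr : ∀ a a', SameAct ι₁ ι₂ C a a' → SameAct ι₁ ι₂ C a⁻¹ a'⁻¹ := by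
    intro a a' h x hx
    obtain ⟨b', hb⟩ := part a⁻¹
    obtain ⟨y, hy, e1, -⟩ := hb x hx
    refine ⟨y, hy, e1, ?_⟩
    obtain ⟨x', hx', f1, f2⟩ := h y hy
    have : x' = x := ext1_inj h₁.1 (hCS hx') (hCS hx) (by rw [← f1, ← e1]; group)
    subst this
    rw [← f2]
    group
  set Z := Subgroup.centralizer (imgι ι₂ C : Set G₂) with hZ
  haveI : IsMulCommutative Z := ⟨⟨fun a b => Subtype.ext
    (Subgroup.mem_centralizer_iff.1 b.2 _ (hcc₂ a.2))⟩⟩
  have hZdiff : ∀ g a b, SameAct ι₁ ι₂ C g a → SameAct ι₁ ι₂ C g b → a⁻¹ * b ∈ Z := by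
    intro g a b ha hb
    refine mem_centralizer_iff'.2 fun y hy => ?_
    obtain ⟨x, hx, rfl⟩ := (mem_imgι hCS).1 hy
    obtain ⟨u, hu, e1, e2⟩ := ha x hx
    obtain ⟨v, hv, f1, f2⟩ := hb x hx
    have : u = v := ext1_inj h₁.1 (hCS hu) (hCS hv) (e1.symm.trans f1)
    subst this
    calc a⁻¹ * b * ext1 ι₂ x * (a⁻¹ * b)⁻¹ = a⁻¹ * (b * ext1 ι₂ x * b⁻¹) * a := by group
      _ = ext1 ι₂ x := by rw [f2, ← e2]; group
  -- coset representatives with compatible partners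
  let R : Setoid (G₁ ⧸ ι₁.range) :=
    { r := fun t t' => ∃ u : S, ι₁ u • t = t'
      iseqv :=
        { refl := fun t => ⟨1, by rw [map_one, one_smul]⟩
          symm := fun {t t'} ⟨u, hu⟩ => ⟨u⁻¹, by rw [map_inv, ← hu, inv_smul_smul]⟩
          trans := fun {t t' t''} ⟨u, hu⟩ ⟨v, hv⟩ => ⟨v * u, by rw [map_mul, mul_smul, hu, hv]⟩ } }
  let o : G₁ ⧸ ι₁.range → G₁ ⧸ ι₁.range := fun t => Quotient.out (Quotient.mk R t)
  have ho : ∀ (v : S) t, o (ι₁ v • t) = o t := fun v t =>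
    congrArg Quotient.out (Quotient.sound (s := R) ⟨v, rfl⟩).symm
  have hou : ∀ t, ∃ u : S, ι₁ u • o t = t := fun t => Quotient.mk_out (s := R) t
  choose u hu using hou
  have hb : ∀ t : G₁ ⧸ ι₁.range, ∃ b : G₂, SameAct ι₁ ι₂ C t.out b ∧
      ∀ w w' : S, ι₁ w * t.out = t.out * ι₁ w' → ι₂ w * b = b * ι₂ w' := by
    intro t
    set H : Subgroup Ω := ((conjBy t.out ι₁.range).comap ι₁).map S.subtype
    have hHS : H ≤ S := Subgroup.map_subtype_le _
    have hCH : C ≤ H := fun x hx => by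
      refine ⟨⟨x, hCS hx⟩, mem_conjBy.2 ?_, rfl⟩
      rw [← ext1_apply ι₁ (hCS hx)]
      exact imgι_le_range C (mem_normalizer_range_of_normal _ (ext1_mem_imgι hCS hx))
    obtain ⟨f, hf, hfg⟩ := exists_map_of_conj h₁ hHS (g := t.out⁻¹) fun x hx => by
      obtain ⟨x, hx, rfl⟩ := hx
      rw [show S.subtype x = (x : Ω) from rfl, ext1_coe, inv_inv]
      exact mem_conjBy.1 hx
    obtain ⟨-, -, -, b, hb⟩ := (isMap_realized_iff h₂).1 hf
    refine ⟨b⁻¹, fun x hx => ?_, fun w w' hww => ?_⟩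
    · obtain ⟨y, hy, e1, e2⟩ : ∃ y ∈ C, t.out * ext1 ι₁ x * t.out⁻¹ = ext1 ι₁ y ∧ f y = x := by
        obtain ⟨y, hy, e⟩ := (mem_imgι hCS).1 (hn₁.conj_mem _ (ext1_mem_imgι hCS hx) t.out)
        refine ⟨y, hy, e.symm, ext1_inj h₁.1 (hf.mem_S (hCH hy)) (hCS hx) ?_⟩
        rw [hfg y (hCH hy), e]
        group
      refine ⟨y, hy, e1, ?_⟩
      have e3 := hb y (hCH hy)
      rw [e2] at e3
      rw [e3]
      group
    · have hw : (w : Ω) ∈ H := ⟨w, mem_conjBy.2 (show t.out⁻¹ * ι₁ w * t.out ∈ ι₁.range from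
        ⟨w', by rw [mul_assoc, hww, inv_mul_cancel_left]⟩), rfl⟩
      have e : f (w : Ω) = w' := by
        refine ext1_inj h₁.1 (hf.mem_S hw) w'.2 ?_
        rw [hfg _ hw, ext1_coe, ext1_coe, inv_inv, mul_assoc, hww, inv_mul_cancel_left]
      have e3 := hb _ hw
      rw [e, ext1_coe, ext1_coe] at e3
      rw [e3]
      group
  choose b hb1 hb2 using hb
  let a : G₁ ⧸ ι₁.range → G₁ := fun t => ι₁ (u t) * (o t).out
  let b' : G₁ ⧸ ι₁.range → G₂ := fun t => ι₂ (u t) * b (o t)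
  have ha : ∀ t, (a t : G₁ ⧸ ι₁.range) = t := fun t => by
    have h := hu t

    show (((ι₁ (u t) * (o t).out : G₁)) : G₁ ⧸ ι₁.range) = t
    conv_rhs => rw [← h, ← QuotientGroup.out_eq' (o t)]
    rfl
  have hιact : ∀ v : S, SameAct ι₁ ι₂ C (ι₁ v) (ι₂ v) := fun v x hx => by
    have hy : (v : Ω) * x * (v : Ω)⁻¹ ∈ C :=
      (Subgroup.mem_normalizer_iff.1 ((le_normalizerIn_of_stronglyClosed
        (stronglyClosed_of_isNormal (isNormal_core (F := F)))) v.2).2 x).1 hx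
    exact ⟨_, hy, by rw [ext1_conj ι₁ v.2 (hCS hx), ext1_coe],
      by rw [ext1_conj ι₂ v.2 (hCS hx), ext1_coe]⟩
  have hab : ∀ t, SameAct ι₁ ι₂ C (a t) (b' t) := fun t => (hιact _).mul (hb1 _)
  have hs : ∀ g t, ∃ s : S, ι₁ s = (a (g • t))⁻¹ * g * a t := fun g t => by
    have h : (a (g • t))⁻¹ * g * a t ∈ ι₁.range := by
      rw [mul_assoc, ← QuotientGroup.eq, ha]
      conv_lhs => rw [← ha t]
      rfl
    exact h
  choose s hs using hs
  let d : G₁ → G₁ ⧸ ι₁.range → G₂ := fun g t => b' (g • t) * ι₂ (s g t) * (b' t)⁻¹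
  have hd_act : ∀ g t, SameAct ι₁ ι₂ C g (d g t) := fun g t => by
    have h := ((hab (g • t)).mul (hιact (s g t))).mul (hinvr _ _ (hab t))
    rwa [hs, show a (g • t) * ((a (g • t))⁻¹ * g * a t) * (a t)⁻¹ = g by group] at h
  have hd_mul : ∀ g h t, d (g * h) t = d g (h • t) * d h t := fun g h t => by
    have e : s (g * h) t = s g (h • t) * s h t := h₁.1 (by
      rw [map_mul, hs, hs, hs, mul_smul]; group)
    show b' ((g * h) • t) * ι₂ (s (g * h) t) * (b' t)⁻¹ = _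
    rw [e, map_mul, mul_smul]
    show _ = b' (g • h • t) * ι₂ (s g (h • t)) * (b' (h • t))⁻¹ *
      (b' (h • t) * ι₂ (s h t) * (b' t)⁻¹)
    group
  have hd_ι : ∀ (v : S) t, d (ι₁ v) t = ι₂ v := fun v t => by
    have e1 : ι₁ ((u (ι₁ v • t))⁻¹ * v * u t) * (o t).out =
        (o t).out * ι₁ (s (ι₁ v) t) := by
      rw [hs, map_mul, map_mul, map_inv]
      show _ = (o t).out * ((ι₁ (u (ι₁ v • t)) * (o (ι₁ v • t)).out)⁻¹ * ι₁ v *
        (ι₁ (u t) * (o t).out))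
      rw [ho]
      group
    have e2 := hb2 _ _ _ e1
    show ι₂ (u (ι₁ v • t)) * b (o (ι₁ v • t)) * ι₂ (s (ι₁ v) t) * (ι₂ (u t) * b (o t))⁻¹ = ι₂ v
    rw [ho, mul_assoc (ι₂ _) (b _) (ι₂ _), ← e2, map_mul, map_mul, map_inv]
    group
  -- the average
  choose L hL using part
  haveI := Fintype.ofFinite (G₁ ⧸ ι₁.range)
  have hcop : (Nat.card Z).Coprime ι₁.range.index := by
    have hp : IsPGroup p Z := ((hS.to_subgroup _).map ι₂ : IsPGroup p (imgι ι₂ C)).to_le hcc₂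
    obtain ⟨k, hk⟩ := hp.exists_card_eq
    rw [hk, ← hT₁]
    exact Nat.Coprime.pow_left k ((Fact.out : p.Prime).coprime_iff_not_dvd.2 T₁.not_dvd_index)
  let pw := powCoprime (G := Z) (n := ι₁.range.index) hcop
  let E : G₁ → Z := fun g => ∏ t, (⟨(L g)⁻¹ * d g t, hZdiff g _ _ (hL g) (hd_act g t)⟩ : Z)
  let φ : G₁ → G₂ := fun g => L g * (pw.symm (E g) : Z)
  have hφ_ind : ∀ g (M : G₂) (hM : SameAct ι₁ ι₂ C g M), φ g =
      M * (pw.symm (∏ t, (⟨M⁻¹ * d g t, hZdiff g _ _ hM (hd_act g t)⟩ : Z)) : Z) := by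
    intro g M hM
    set z : Z := ⟨M⁻¹ * L g, hZdiff g _ _ hM (hL g)⟩
    have e : (∏ t, (⟨M⁻¹ * d g t, hZdiff g _ _ hM (hd_act g t)⟩ : Z)) = z ^ ι₁.range.index * E g := by
      rw [Subgroup.index, Nat.card_eq_fintype_card, ← Finset.card_univ, ← Finset.prod_const,
        ← Finset.prod_mul_distrib]
      refine Finset.prod_congr rfl fun t _ => Subtype.ext ?_
      show M⁻¹ * d g t = M⁻¹ * L g * ((L g)⁻¹ * d g t)
      group
    have e2 : pw.symm (z ^ ι₁.range.index * E g) = z * pw.symm (E g) := by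
      rw [Equiv.symm_apply_eq]
      show _ = (z * pw.symm (E g)) ^ ι₁.range.index
      rw [mul_pow, show (pw.symm (E g)) ^ ι₁.range.index = E g from pw.apply_symm_apply _]
    rw [e, e2, Subgroup.coe_mul]
    show L g * _ = M * (M⁻¹ * L g * _)
    group
  haveI hZn : Z.Normal := by
    refine ⟨fun z hz g => mem_centralizer_iff'.2 fun y hy => ?_⟩
    have h1 := mem_centralizer_iff'.1 hz _ (mem_normalizer_range_of_normal (H := imgι ι₂ C) g hy)
    calc g * z * g⁻¹ * y * (g * z * g⁻¹)⁻¹ = g * (z * (g⁻¹ * y * g) * z⁻¹) * g⁻¹ := by group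
      _ = y := by rw [h1]; group
  have hφ_mul : ∀ g h, φ (g * h) = φ g * φ h := by
    intro g h
    rw [hφ_ind _ _ ((hL g).mul (hL h))]
    let c : Z →* Z := MonoidHom.mk'
      (fun w => ⟨(L h)⁻¹ * (w : G₂) * L h, mem_normalizer_range_of_normal _ w.2⟩)
      fun x y => Subtype.ext (by simp [mul_assoc])
    have e : (∏ t, (⟨(L g * L h)⁻¹ * d (g * h) t,
        hZdiff _ _ _ ((hL g).mul (hL h)) (hd_act _ t)⟩ : Z)) = c (E g) * E h := by
      show _ = c (∏ t, _) * ∏ t, _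
      have e0 : (∏ t, (⟨(L g)⁻¹ * d g t, hZdiff g _ _ (hL g) (hd_act g t)⟩ : Z)) =
          ∏ t, (⟨(L g)⁻¹ * d g (h • t), hZdiff g _ _ (hL g) (hd_act g (h • t))⟩ : Z) :=
        (Equiv.prod_comp (MulAction.toPerm h) (fun t =>
          (⟨(L g)⁻¹ * d g t, hZdiff g _ _ (hL g) (hd_act g t)⟩ : Z))).symm
      rw [e0, map_prod, ← Finset.prod_mul_distrib]
      refine Finset.prod_congr rfl fun t _ => Subtype.ext ?_
      show (L g * L h)⁻¹ * d (g * h) t =
        (L h)⁻¹ * ((L g)⁻¹ * d g (h • t)) * L h * ((L h)⁻¹ * d h t)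
      rw [hd_mul]
      group
    have e2 : pw.symm (c (E g) * E h) = c (pw.symm (E g)) * pw.symm (E h) := by
      rw [Equiv.symm_apply_eq]
      show c (E g) * E h = (c (pw.symm (E g)) * pw.symm (E h)) ^ ι₁.range.index
      rw [mul_pow, ← map_pow, show (pw.symm (E g)) ^ ι₁.range.index = E g from pw.apply_symm_apply _,
        show (pw.symm (E h)) ^ ι₁.range.index = E h from pw.apply_symm_apply _]
    rw [e, e2, Subgroup.coe_mul]
    show L g * L h * ((L h)⁻¹ * _ * L h * _) = L g * _ * (L h * _)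
    group
  have hφ_ι : ∀ v : S, φ (ι₁ v) = ι₂ v := fun v => by
    rw [hφ_ind _ _ (hιact v)]
    have e : (∏ t, (⟨(ι₂ v)⁻¹ * d (ι₁ v) t, hZdiff _ _ _ (hιact v) (hd_act _ t)⟩ : Z)) = 1 := by
      refine Finset.prod_eq_one fun t _ => Subtype.ext ?_
      show (ι₂ v)⁻¹ * d (ι₁ v) t = 1
      rw [hd_ι, inv_mul_cancel]
    rw [e, show pw.symm (1 : Z) = 1 from pw.symm_apply_eq.2 (one_pow _).symm,
      Subgroup.coe_one, mul_one]
  let Φ := MonoidHom.mk' φ hφ_mul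
  have hrel : ∀ g, SameAct ι₁ ι₂ C g (φ g) := by
    intro g x hx
    obtain ⟨y, hy, e1, e2⟩ := hL g x hx
    refine ⟨y, hy, e1, ?_⟩
    have h1 := mem_centralizer_iff'.1 (pw.symm (E g)).2 _ (ext1_mem_imgι hCS hx)
    calc φ g * ext1 ι₂ x * (φ g)⁻¹ = L g * ((pw.symm (E g) : Z) * ext1 ι₂ x *
          ((pw.symm (E g) : Z) : G₂)⁻¹) * (L g)⁻¹ := by show L g * _ * _ * (L g * _)⁻¹ = _; group
      _ = ext1 ι₂ y := by rw [h1, e2]
  have hinj : Function.Injective Φ := by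
    rw [injective_iff_map_eq_one]
    intro g hg
    have hgC : g ∈ imgι ι₁ C := by
      refine hcc₁ (mem_centralizer_iff'.2 fun z hz => ?_)
      obtain ⟨x, hx, rfl⟩ := (mem_imgι hCS).1 hz
      obtain ⟨y, hy, e1, e2⟩ := hrel g x hx
      rw [show φ g = 1 from hg, one_mul, inv_one, mul_one] at e2
      rw [e1, ext1_inj h₂.1 (hCS hx) (hCS hy) e2]
    obtain ⟨v, -, rfl⟩ := hgC
    rw [show v = 1 from h₂.1 (((hφ_ι v).symm.trans hg).trans (map_one _).symm), map_one]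
  have hsurj : Function.Surjective Φ := by
    intro g₂
    obtain ⟨g₁, hg₁⟩ := part' g₂
    obtain ⟨v, -, hv⟩ := hcc₂ (hZdiff g₁ _ _ (hrel g₁) hg₁)
    refine ⟨g₁ * ι₁ v, ?_⟩
    show φ (g₁ * ι₁ v) = g₂
    rw [hφ_mul, hφ_ι, hv, mul_inv_cancel_left]
  exact ⟨MulEquiv.ofBijective Φ ⟨hinj, hsurj⟩, hφ_ι⟩

/-- Rigidity of models. -/
theorem exists_center_conj_of_model (hS : IsPGroup p S) [Finite G] (hF : F.IsRealizedBy ι)
    {T : Sylow p G} (hT : (T : Subgroup G) = ι.range)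
    (hC : Subgroup.centralizer ((Cfsg.pCore p G : Subgroup G) : Set G) ≤ Cfsg.pCore p G)
    (ψ : G ≃* G) (hψ : ∀ x : S, ψ (ι x) = ι x) :
    ∃ z : S, z ∈ Subgroup.center S ∧ ∀ g : G, ψ g = ι z * g * (ι z)⁻¹ := by
  have hR : (Cfsg.pCore p G : Subgroup G) ≤ ι.range :=
    hT ▸ (CfsgLib.Coprime.pCore_isPGroup (G := G) p).le_sylow_of_normal T
  haveI := CfsgLib.Coprime.pCore_normal' (G := G) p
  set R := (Cfsg.pCore p G : Subgroup G)
  set Z := Subgroup.centralizer (R : Set G)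
  haveI : IsMulCommutative Z := ⟨⟨fun a b => Subtype.ext
    (Subgroup.mem_centralizer_iff.1 b.2 _ (hC a.2))⟩⟩
  haveI : Z.Normal := by
    refine ⟨fun z hz g => mem_centralizer_iff'.2 fun y hy => ?_⟩
    have h1 := mem_centralizer_iff'.1 hz _ (mem_normalizer_range_of_normal (H := R) g hy)
    calc g * z * g⁻¹ * y * (g * z * g⁻¹)⁻¹ = g * (z * (g⁻¹ * y * g) * z⁻¹) * g⁻¹ := by group
      _ = y := by rw [h1]; group
  have hfixR : ∀ y ∈ R, ψ y = y := fun y hy => by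
    obtain ⟨x, rfl⟩ := hR hy
    exact hψ x
  have hψZ : ∀ g, ψ g * g⁻¹ ∈ Z := fun g => by
    refine mem_centralizer_iff'.2 fun y hy => ?_
    have hy' := mem_normalizer_range_of_normal (H := R) g hy
    have e := map_mul ψ (g * (g⁻¹ * y * g)) g⁻¹
    rw [show g * (g⁻¹ * y * g) * g⁻¹ = y by group, hfixR y hy, map_mul, map_inv,
      hfixR _ hy'] at e
    calc ψ g * g⁻¹ * y * (ψ g * g⁻¹)⁻¹ = ψ g * (g⁻¹ * y * g) * (ψ g)⁻¹ := by group
      _ = y := e.symm
  have hcop : (Nat.card Z).Coprime ι.range.index := by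
    obtain ⟨k, hk⟩ := ((CfsgLib.Coprime.pCore_isPGroup (G := G) p).to_le hC).exists_card_eq
    rw [hk, ← hT]
    exact Nat.Coprime.pow_left k ((Fact.out : p.Prime).coprime_iff_not_dvd.2 T.not_dvd_index)
  obtain ⟨z, hz, hzg⟩ := exists_center_conj (H := ι.range) (Z := Z) ψ.toMonoidHom hψZ
    (fun h hh => by obtain ⟨x, rfl⟩ := hh; exact hψ x) hcop
  obtain ⟨v, rfl⟩ := hR (hC hz)
  refine ⟨v, Subgroup.mem_center_iff.2 fun w => hF.1 ?_, hzg⟩
  rw [map_mul, map_mul]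
  have h1 : ι w = ι v * ι w * (ι v)⁻¹ := (hψ w).symm.trans (hzg (ι w))
  exact (eq_mul_inv_iff_mul_eq.1 h1)

end Unique

end CfsgLib.Fusion

namespace CfsgLib.Fusion

open Cfsg (FusionSystem)
open Cfsg.FusionSystem (normalizerIn centralizerIn)

section NormalizerSystem

variable {Ω : Type*} [Group Ω] {S : Subgroup Ω} {F : FusionSystem S} {P Q : Subgroup Ω}
  {E : FusionSystem (normalizerIn S Q)} {f : Ω → Ω}

/-- `Q` is normal in its normalizer system. -/
theorem isNormal_normalizerSystem (hQ : Q ≤ S) (hE : F.IsNormalizerSystem Q E) : E.IsNormal Q := by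
  refine isNormal_iff.2 ⟨le_normalizerIn hQ, fun P f hf => ?_⟩
  obtain ⟨hP, -, g, hg, hgf, hgQ⟩ := (isMap_of_isNormalizerSystem hE).1 hf
  have hPQ : P ⊔ Q ≤ normalizerIn S Q := sup_le hP (le_normalizerIn hQ)
  refine ⟨g, (isMap_of_isNormalizerSystem hE).2 ⟨hPQ, fun z hz => ?_, g, ?_, fun _ _ => rfl, hgQ⟩,
    hgf, hgQ⟩
  · have := map_mem_normalizerIn hg le_sup_right hz (hPQ hz).2
    rwa [hgQ] at this
  · rwa [sup_assoc, sup_idem]

theorem autGroup_normalizerSystem_self (hQ : Q ≤ S) (hE : F.IsNormalizerSystem Q E) :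
    E.autGroup Q = F.autGroup Q := by
  ext α
  rw [mem_autGroup_iff (le_normalizerIn hQ), mem_autGroup_iff hQ]
  constructor
  · intro h
    exact ((isMap_of_isNormalizerSystem hE).1 h).isMap
  · intro h
    refine (isMap_of_isNormalizerSystem hE).2
      ⟨le_normalizerIn hQ, fun x hx => le_normalizerIn hQ (autFun_mem α hx), autFun α,
        by rwa [sup_idem], fun _ _ => rfl, img_autFun α⟩

theorem isCentric_normalizerSystem_self (hc : F.IsCentric Q) (hE : F.IsNormalizerSystem Q E) :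
    E.IsCentric Q := by
  refine ⟨le_normalizerIn hc.1, fun R hR => ?_⟩
  obtain ⟨f, hf, rfl⟩ := isConj_iff.1 hR
  have hf' := ((isMap_of_isNormalizerSystem hE).1 hf).isMap
  exact (inf_le_inf_right _ inf_le_left).trans (centralizerIn_img_le hc hf' le_rfl)

theorem core_normalizerSystem_eq [Finite S] {p : ℕ} [Fact p.Prime] (hS : IsPGroup p S)
    (hc : F.IsCentric Q) (hr : F.IsRadical p Q) (hE : F.IsNormalizerSystem Q E) : E.core = Q := by
  haveI := finite_of_le (S := S) (P := normalizerIn S Q) inf_le_left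
  have hT : IsPGroup p (normalizerIn S Q) := hS.to_le inf_le_left
  refine le_antisymm (le_of_isNormal (S := normalizerIn S Q) hT isNormal_core
    (isCentric_normalizerSystem_self hc hE) ⟨le_normalizerIn hc.1, ?_⟩)
    (le_core (isNormal_normalizerSystem hc.1 hE))
  rw [autGroup_normalizerSystem_self hc.1 hE]
  exact hr.2

end NormalizerSystem

end CfsgLib.Fusion
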