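import Cfsg.Agent.Lib.Fusion.System.HyperfocalGroup
import Cfsg.Agent.Lib.Fusion.System.Inner
import Cfsg.Agent.Lib.Fusion.System.LocalModel
import Cfsg.Agent.Lib.Fusion.System.Centric
import Cfsg.Agent.Lib.Fusion.System.Model
import Cfsg.Agent.Lib.Fusion.Tate

/-!
# Systems with a normal subgroup between the derived and the Frattini subgroup
-/

set_option autoImplicit false

open Subgroup
open scoped Classical commutatorElement

namespace CfsgLib.Fusion

open Cfsg (FusionSystem autInducedBy groupFusionSystem)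
open Cfsg.FusionSystem (normalizerIn centralizerIn)

universe u

variable {Ω : Type u} [Group Ω] {S : Subgroup Ω} {F : FusionSystem S} {p : ℕ}
variable {P Q R T : Subgroup Ω} {f : Ω → Ω}

theorem autFun_pow_conj {Ω : Type*} [Group Ω] {P : Subgroup Ω} {a : MulAut P} {g : Ω}
    (h : ∀ x ∈ P, autFun a x = g * x * g⁻¹) :
    ∀ n : ℕ, ∀ x ∈ P, autFun (a ^ n) x = g ^ n * x * (g ^ n)⁻¹ := by
  intro n
  induction n with
  | zero => intro x hx; simp [autFun_one hx]
  | succ n ih =>
      intro x hx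
      rw [pow_succ', autFun_mul _ _ hx, h _ (autFun_mem _ hx), ih x hx, pow_succ' g]
      simp only [mul_inv_rev, mul_assoc]

theorem conj_mem_centralizer_of_mem_normalizer {g c : Ω}
    (hg : g ∈ Subgroup.normalizer (Q : Set Ω)) (hc : c ∈ Subgroup.centralizer (Q : Set Ω)) :
    g * c * g⁻¹ ∈ Subgroup.centralizer (Q : Set Ω) := by
  rw [Subgroup.mem_centralizer_iff] at hc ⊢
  intro q hq
  have hq' : g⁻¹ * q * g ∈ Q := by
    simpa using (Subgroup.mem_normalizer_iff.1 (inv_mem hg) q).1 hq
  calc q * (g * c * g⁻¹) = g * (g⁻¹ * q * g * c) * g⁻¹ := by group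
    _ = g * (c * (g⁻¹ * q * g)) * g⁻¹ := by rw [hc _ hq']
    _ = g * c * g⁻¹ * q := by group

variable [Finite S] [Fact p.Prime]

/-- If `Q` is strongly closed in a saturated system, lies above the derived subgroup of `S`, and the
automizer of `S` is a `p`-group, then every map is the identity modulo `Q`. -/
theorem map_mem_of_abelian_quotient (hS : IsPGroup p S) (hF : F.IsSaturated p)
    (hQsc : F.StronglyClosed Q) (hd : ⁅(S : Subgroup Ω), (S : Subgroup Ω)⁆ ≤ Q)
    (hT : IsPGroup p (F.autGroup S)) (hf : IsMap F P f) : ∀ x ∈ P, f x * x⁻¹ ∈ Q := by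
  have hQS := hQsc.1
  have hSn : S ≤ Subgroup.normalizer (Q : Set Ω) :=
    (le_normalizerIn_of_stronglyClosed hQsc).trans inf_le_right
  have hcj : ∀ a ∈ S, ∀ x ∈ S, a * x * a⁻¹ * x⁻¹ ∈ Q := fun a ha x hx =>
    hd (Subgroup.commutator_mem_commutator ha hx)
  let E : FusionSystem S := mkSystem F S (fun P f => IsMap F P f ∧ ∀ x ∈ P, f x * x⁻¹ ∈ Q)
    (fun _ _ h => ⟨h.1, h.1.le, fun _ hx => h.1.mem_S hx⟩)
    (fun P f g h he => ⟨h.1.congr he, fun x hx => by rw [he x hx]; exact h.2 x hx⟩)
    (fun P t hP ht => ⟨isMap_conj hP ht, fun x hx => hcj t ht x (hP hx)⟩)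
    (fun P R f g hf hg h => ⟨hf.1.comp hg.1 h, fun x hx => by
      have := mul_mem (hg.2 _ (h x hx)) (hf.2 x hx)
      simpa [mul_assoc] using this⟩)
    (fun P f f' hf hf' h => ⟨hf', fun y hy => by
      obtain ⟨x, hx, rfl⟩ := hf.1.mem_img.1 hy
      rw [h x hx]
      simpa using inv_mem (hf.2 x hx)⟩)
  induction hk : Nat.card S - Nat.card P using Nat.strong_induction_on generalizing P f with
  | _ k ih =>
  refine ((isMap_mkSystem_iff _).1 (isMap_of_autGroup_le_above (E := E) hS hF
    (fun R hPR hR => ?_) hf)).2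
  intro α hα
  rcases hR with rfl | hR
  · obtain ⟨g, hg, he⟩ := mem_autInducedBy_iff.1 (autGroup_le_inner_of_isPGroup hS hF hT hα)
    refine (mem_autGroup_iff le_rfl).2 ((isMap_mkSystem_iff _).2
      ⟨(mem_autGroup_iff le_rfl).1 hα, fun x hx => ?_⟩)
    rw [he x hx]
    exact hcj g hg x hx
  · obtain ⟨hc, hn, -⟩ := id hR
    have hRS := hn.1
    have := finite_of_le hRS
    have := finite_mulAut (P := R)
    obtain ⟨hauto, hrec⟩ := IsSaturated.automized_receptive hS hF hn
    obtain ⟨-, hi⟩ := (isFullyAutomized_iff hS).1 hauto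
    set A := F.autGroup R with hA
    set I := autInducedBy S R with hI
    let K : Subgroup (MulAut R) :=
      { carrier := {a | a ∈ A ∧ ∀ x ∈ R, autFun a x * x⁻¹ ∈ Q}
        one_mem' := ⟨one_mem A, fun x hx => by rw [autFun_one hx, mul_inv_cancel]; exact one_mem Q⟩
        mul_mem' := fun {a b} ha hb => ⟨mul_mem ha.1 hb.1, fun x hx => by
          rw [autFun_mul _ _ hx]
          have := mul_mem (ha.2 _ (autFun_mem b hx)) (hb.2 x hx)
          simpa [mul_assoc] using this⟩
        inv_mem' := fun {a} ha => ⟨inv_mem ha.1, fun x hx => by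
          have h1 := inv_mem (ha.2 _ (autFun_mem a⁻¹ hx))
          rw [autFun_inv_apply _ hx] at h1
          simpa using h1⟩ }
    have hIK : I ≤ K := fun a ha => ⟨autInducedBy_le_autGroup hRS ha, fun x hx => by
      obtain ⟨g, hg, he⟩ := mem_autInducedBy_iff.1 ha
      rw [he x hx]
      exact hcj g hg x (hRS hx)⟩
    have hKn : ∀ a ∈ A, ∀ b ∈ K, a * b * a⁻¹ ∈ K := fun a ha b hb =>
      ⟨mul_mem (mul_mem ha hb.1) (inv_mem ha), fun x hx => by
        have hy := autFun_mem a⁻¹ hx
        have h1 := hb.2 _ hy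
        rw [autFun_mul _ _ hx, autFun_mul _ _ hy]
        have hbR := autFun_mem b hy
        have h2 : autFun a (autFun b (autFun a⁻¹ x) * (autFun a⁻¹ x)⁻¹) ∈ Q :=
          (autInvariant_of_stronglyClosed hQsc hRS ha ⟨R.mul_mem hbR (R.inv_mem hy), h1⟩).2
        rw [autFun_map_mul _ hbR (inv_mem hy)] at h2
        have hax : autFun a ((autFun a⁻¹ x)⁻¹) = x⁻¹ := by
          have h3 := autFun_map_mul a hy (inv_mem hy)
          rw [mul_inv_cancel, autFun_map_one, autFun_inv_apply _ hx] at h3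
          exact eq_inv_of_mul_eq_one_right h3.symm
        rwa [hax] at h2⟩
    have hRlt : R < S := lt_of_le_of_ne hRS fun he => by
      obtain ⟨-, -, _, Y, hY⟩ := id hR
      have hp : IsPGroup p (F.autGroup R) := by rw [he]; exact hT
      exact not_isStronglyPEmbedded_of_isPGroup
        (hp.to_quotient ((Cfsg.Inn R).subgroupOf (F.autGroup R))) Y hY
    have hext : ∀ a ∈ A, (∀ b ∈ I, a * b * a⁻¹ ∈ I) → a ∈ K := by
      intro a ha hab
      have hm := (mem_autGroup_iff hRS).1 ha
      have hle : normalizerIn S R ≤ extSub S R (autFun a) := by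
        intro n hn
        refine ⟨hn, ?_⟩
        obtain ⟨h, hh, he⟩ := mem_autInducedBy_iff.1 (hab _ (conjAut_mem hn.1 hn.2))
        refine ⟨h, hh, fun x hx => ?_⟩
        rw [← he _ (autFun_mem a hx), ← autFun_mul _ _ hx, inv_mul_cancel_right,
          autFun_mul _ _ hx, autFun_conjAut hn.2 hx]
      obtain ⟨ψ, hψ, hψe⟩ := (isReceptive_iff.1 hrec).2 R (autFun a) hm (img_autFun a)
      have hψ' := hψ.mono hle
      have hlt : Nat.card S - Nat.card (normalizerIn S R) < k := by
        have h1 : Nat.card R < Nat.card (normalizerIn S R) :=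
          card_lt_of_lt inf_le_left (lt_normalizerIn hS hRS hRlt.ne)
        have h2 : Nat.card (normalizerIn S R) ≤ Nat.card S := card_le_of_le' le_rfl inf_le_left
        omega
      have h3 := ih _ hlt hψ' rfl
      refine ⟨ha, fun x hx => ?_⟩
      rw [← hψe x hx]
      exact h3 x (le_normalizerIn hRS hx)
    have hαK : α ∈ K := by
      have hA' : conjBy α I ≤ K := by
        rintro b hb
        obtain ⟨c, hc, rfl⟩ := Subgroup.mem_map.1 hb
        exact hKn α hα c (hIK hc)
      have hi' : ¬ p ∣ I.relIndex K := fun hd => hi (hd.trans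
        (Dvd.intro _ (Subgroup.relIndex_mul_relIndex I K A hIK fun b hb => hb.1)))
      obtain ⟨c, hc, hcI⟩ := exists_conj_le_of_not_dvd_relIndex (isPGroup_autInducedBy hS) hIK hi'
        (isPGroup_conjBy α (isPGroup_autInducedBy hS)) hA'
      rw [conjBy_conjBy] at hcI
      have h1 := hext (c * α) (mul_mem hc.1 hα) fun b hb => hcI (conj_mem_conjBy hb)
      simpa using mul_mem (inv_mem hc) h1
    exact (mem_autGroup_iff hRS).2 ((isMap_mkSystem_iff _).2
      ⟨(mem_autGroup_iff hRS).1 hα, hαK.2⟩)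

/-- The local model at a centric subgroup normal in `S`, over `S` itself. -/
theorem exists_model_over (hS : IsPGroup p S) (hF : F.IsSaturated p) (hc : F.IsCentric T)
    (hn : S ≤ Subgroup.normalizer (T : Set Ω)) :
    ∃ (L : Type u) (_ : Group L) (_ : Finite L) (E : FusionSystem S) (ι : S →* L),
      E.IsModel p L ι ∧ (∀ P f, IsMap E P f → IsMap F P f) ∧
      F.autGroup T ≤ E.autGroup T := by
  have hT : normalizerIn S T = S := inf_eq_left.2 hn
  have hfn : F.IsFullyNormalized T :=
    ⟨hc.1, fun R _ => by rw [hT]; exact card_le_of_le' le_rfl inf_le_left⟩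
  have aux : ∀ (U : Subgroup Ω) (hU : normalizerIn S T = U),
      ∃ (L : Type u) (_ : Group L) (_ : Finite L) (E : FusionSystem U) (ι : U →* L),
        E.IsModel p L ι ∧ ∀ P f, IsMap E P f ↔ IsMap (nSystem F U T hU.ge hc.1) P f := by
    rintro U rfl
    have hE : F.IsNormalizerSystem T (nSystem F _ T le_rfl hc.1) := fun P => Set.ext fun φ => by
      rw [mem_normalizerHom_iff]
      exact Iff.rfl
    obtain ⟨L, iL, ι, hm, -⟩ := exists_local_model hS hF hfn hc hE
    exact ⟨L, iL, hm.1, _, ι, hm, fun P f => Iff.rfl⟩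
  obtain ⟨L, iL, hL, E, ι, hm, hEiff⟩ := aux S hT
  refine ⟨L, iL, hL, E, ι, hm, fun P f h => (isMap_nSystem_iff.1 ((hEiff P f).1 h)).isMap,
    fun a ha => (mem_autGroup_iff hc.1).2 ((hEiff _ _).2 (isMap_nSystem_iff.2 ?_))⟩
  exact ⟨hc.1, fun x hx => hc.1 (autFun_mem a hx), autFun a,
    by rw [sup_idem]; exact (mem_autGroup_iff hc.1).1 ha, fun _ _ => rfl, img_autFun a⟩

/-- A saturated system with a normal subgroup between `⁅S, S⁆` and the Frattini subgroup, and
with `p`-automizer of `S`, is inner. -/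
theorem isInner_of_normal_frattini (hS : IsPGroup p S) (hF : F.IsSaturated p)
    (hQ : F.IsNormal Q) (hd : ⁅(S : Subgroup Ω), (S : Subgroup Ω)⁆ ≤ Q)
    (hfr : Q ≤ (frattini S).map S.subtype) (hT : IsPGroup p (F.autGroup S)) : IsInner F := by
  have hmod : ∀ {P : Subgroup Ω} {f : Ω → Ω}, IsMap F P f → ∀ x ∈ P, f x * x⁻¹ ∈ Q :=
    fun hf => map_mem_of_abelian_quotient hS hF (stronglyClosed_of_isNormal hQ) hd hT hf
  have hQS := hQ.1
  have hQsc := stronglyClosed_of_isNormal hQ
  have hSn : S ≤ Subgroup.normalizer (Q : Set Ω) :=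
    (le_normalizerIn_of_stronglyClosed hQsc).trans inf_le_right
  have hQfix : ∀ U, F.IsConj Q U → U = Q := fun U hU => by
    obtain ⟨f, hf, rfl⟩ := isConj_iff.1 hU
    exact eq_of_le_of_card_le hQS (hf.img_le_of_forall fun x hx =>
      (stronglyClosed_iff.1 hQsc).2 _ _ le_rfl hf x hx) hf.card_img.ge
  have hfnQ : F.IsFullyNormalized Q := ⟨hQS, fun U hU => by rw [hQfix U hU]⟩
  set T := Q ⊔ centralizerIn S Q with hTdef
  have hTS : T ≤ S := sup_le hQS inf_le_left
  have hSC : S ≤ Subgroup.normalizer (centralizerIn S Q : Set Ω) := by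
    intro s hs
    rw [Subgroup.mem_normalizer_iff]
    intro c
    constructor
    · exact fun hc => ⟨S.mul_mem (S.mul_mem hs hc.1) (S.inv_mem hs), conj_mem_centralizer_of_mem_normalizer (hSn hs) hc.2⟩
    · rintro ⟨h1, h2⟩
      have h3 := S.mul_mem (S.mul_mem (S.inv_mem hs) h1) hs
      have h4 := conj_mem_centralizer_of_mem_normalizer (hSn (inv_mem hs)) h2
      exact ⟨by simpa [mul_assoc] using h3, by simpa [mul_assoc] using h4⟩
  have hSnT : S ≤ Subgroup.normalizer (T : Set Ω) := (le_inf hSn hSC).trans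
    (Subgroup.normalizer_inf_normalizer_le_normalizer_sup _ _)
  have hTmap : ∀ f, IsMap F T f → img T f = T := by
    intro f hf
    refine eq_of_le_of_card_le hTS ?_ hf.card_img.ge
    have hfQ : img Q f = Q := hQfix _ (isConj_iff.2 ⟨f, hf.mono le_sup_left, rfl⟩)
    refine hf.img_le_of_forall fun x hx => ?_
    exact hf.map_mem_of_sup (fun y hy => Subgroup.mem_sup_left
      (hfQ.le ((hf.mono le_sup_left).mem_img.2 ⟨y, hy, rfl⟩)))
      (fun y hy => Subgroup.mem_sup_right (by
        have := map_mem_centralizerIn hf le_sup_left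
          (Subgroup.mem_sup_right (S := Q) hy) hy.2
        rwa [hfQ] at this)) hx
  have hTc : F.IsCentric T := by
    refine ⟨hTS, fun U hU => ?_⟩
    obtain ⟨f, hf, rfl⟩ := isConj_iff.1 hU
    rw [hTmap f hf]
    exact fun x hx => Subgroup.mem_sup_right
      ⟨hx.1, Subgroup.centralizer_le (SetLike.coe_subset_coe.2 le_sup_left) hx.2⟩
  -- the automizer of `T` is a `p`-group
  have hTp : IsPGroup p (F.autGroup T) := by
    obtain ⟨L, iL, hL, E, ι, ⟨-, hreal, ⟨U, hU⟩, hcent⟩, hEF, hAut⟩ :=
      exists_model_over hS hF hTc hSnT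
    have habs : Absorbs (groupFusionSystem (U : Subgroup L)) p (imgι ι Q) := by
      refine ⟨hU ▸ imgι_le_range Q, fun u hu => ?_, fun P hP a ha x hx => ?_⟩
      · rw [hU] at hu
        obtain ⟨s, rfl⟩ := hu
        rw [Subgroup.mem_normalizer_iff]
        intro y
        constructor
        · intro hy
          obtain ⟨q, hq, rfl⟩ := (mem_imgι hQS).1 hy
          rw [← ext1_coe ι s, ← ext1_conj ι s.2 (hQS hq)]
          exact ext1_mem_imgι hQS ((Subgroup.mem_normalizer_iff.1 (hSn s.2) q).1 hq)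
        · intro hy
          obtain ⟨q, hq, hqy⟩ := (mem_imgι hQS).1 hy
          have h1 := ext1_mem_imgι (ι := ι) hQS ((Subgroup.mem_normalizer_iff.1
            (hSn (inv_mem s.2)) q).1 hq)
          rw [ext1_conj ι (inv_mem s.2) (hQS hq), hqy, ext1_inv ι s.2, ext1_coe] at h1
          simpa [mul_assoc] using h1
      · obtain ⟨X, hX, hXP⟩ := exists_imgι_eq (Ω := Ω) hreal.1 (hP.trans hU.le)
        obtain ⟨g, -, hg⟩ := mem_autInducedBy_iff.1 ((autGroup_group hP).le a.2)
        subst hXP
        obtain ⟨f, hf, hfg⟩ := exists_map_of_conj hreal hX (g := g) fun z hz => by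
          rw [← hg _ (ext1_mem_imgι hX hz)]
          exact imgι_le_range X (autFun_mem _ (ext1_mem_imgι hX hz))
        obtain ⟨z, hz, rfl⟩ := (mem_imgι hX).1 hx
        rw [hg _ (ext1_mem_imgι hX hz), ← hfg z hz, ← ext1_inv ι (hX hz),
          ← ext1_mul ι (inv_mem (hX hz)) (hf.mem_S hz)]
        refine ext1_mem_imgι hQS ?_
        have h1 := (Subgroup.mem_normalizer_iff.1 (hSn (inv_mem (hX hz))) _).1
          (hmod (hEF _ _ hf) z hz)
        simpa [mul_assoc] using h1
    have hres := hyperfocal_le habs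
    rw [hyperfocal_group U] at hres
    haveI := pResidual_normal (G := L) (p := p)
    have hfrU : imgι ι Q ≤ (frattini (U : Subgroup L)).map (U : Subgroup L).subtype := by
      intro y hy
      obtain ⟨q, hq, rfl⟩ := (mem_imgι hQS).1 hy
      obtain ⟨q', hq', rfl⟩ := hfr hq
      let e : S →* (U : Subgroup L) := ι.codRestrict _ fun s => hU ▸ ⟨s, rfl⟩
      have hsurj : Function.Surjective e := fun y => by
        obtain ⟨s, hs⟩ := hU.le y.2
        exact ⟨s, Subtype.ext hs⟩
      refine ⟨e q', frattini_le_comap_frattini_of_surjective hsurj hq', ?_⟩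
      show ι q' = _
      rw [show S.subtype q' = (q' : Ω) from rfl, ext1_coe]
    have hcomp := hasNormalPComplement_of_inf_le_frattini U (Cfsg.pResidual p L)
      ((le_of_eq (inf_comm (Cfsg.pResidual p L) (U : Subgroup L))).trans (hres.trans hfrU))
    rw [hasNormalPComplement_iff_not_dvd, pResidual_pResidual, Subgroup.card_top] at hcomp
    set M := Cfsg.pResidual p L with hM
    haveI := CfsgLib.Coprime.pCore_normal' (G := L) p
    have hM1 : M = ⊥ := by
      have hdis : M ⊓ Cfsg.pCore p L = ⊥ := by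
        refine Subgroup.eq_bot_of_card_eq _ ?_
        obtain ⟨n, hn⟩ := ((CfsgLib.Coprime.pCore_isPGroup (G := L) p).to_le
          (inf_le_right (a := M))).exists_card_eq
        rcases n with _ | n
        · simpa using hn
        · exact absurd ((dvd_pow_self p n.succ_ne_zero).trans
            (hn ▸ Subgroup.card_dvd_of_le inf_le_left)) hcomp
      have h1 : M ≤ Subgroup.centralizer ((Cfsg.pCore p L : Subgroup L) : Set L) := by
        intro m hm
        rw [Subgroup.mem_centralizer_iff]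
        intro c hc
        exact ((Subgroup.commute_of_normal_of_disjoint _ _ inferInstance inferInstance
          (disjoint_iff.2 hdis) m c hm hc).eq).symm
      exact le_bot_iff.1 (hdis ▸ le_inf le_rfl (h1.trans hcent))
    have hLp : IsPGroup p L := fun g => by
      obtain ⟨k, hk⟩ := exists_pow_p_mem_pResidual (p := p) g
      rw [← hM, hM1, Subgroup.mem_bot] at hk
      exact ⟨k, hk⟩
    intro a
    obtain ⟨-, -, -, g, hg⟩ := (isMap_realized_iff hreal).1 ((mem_autGroup_iff hTS).1 (hAut a.2))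
    obtain ⟨k, hk⟩ := hLp g
    refine ⟨k, Subtype.ext (autFun_ext fun x hx => ?_)⟩
    rw [SubmonoidClass.coe_pow, OneMemClass.coe_one, autFun_one hx]
    have key : ∀ n : ℕ, ∀ y ∈ T, ext1 ι (autFun ((a : MulAut T) ^ n) y) =
        g ^ n * ext1 ι y * (g ^ n)⁻¹ := by
      intro n
      induction n with
      | zero => intro y hy; simp [autFun_one hy]
      | succ n ih =>
          intro y hy
          rw [pow_succ', autFun_mul _ _ hy, hg _ (autFun_mem _ hy), ih y hy, pow_succ' g]
          simp only [mul_inv_rev, mul_assoc]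
    have h2 := key (p ^ k) x hx
    rw [hk, inv_one, one_mul, mul_one] at h2
    exact ext1_inj hreal.1 (hTS (autFun_mem _ hx)) (hTS hx) h2
  -- conclusion
  refine isInner_of_aut_isPGroup hS hF hT fun R hR => ?_
  obtain ⟨hc, hn, -⟩ := id hR
  have hRS := hn.1
  have hQR : Q ≤ R := le_of_isNormal hS hQ hc (isRadical_of_isEssential hS hR)
  have := finite_of_le hRS
  have := finite_mulAut (P := R)
  rw [IsPGroup.iff_orderOf]
  intro a
  obtain ⟨k, hk⟩ := exists_pow_p_mem_pResidual (p := p) a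
  suffices h : ∀ b : F.autGroup R, Nat.Coprime (orderOf b) p → b = 1 by
    have hres1 : Cfsg.pResidual p (F.autGroup R) = ⊥ :=
      Subgroup.closure_eq_bot_iff.2 fun b hb => h b hb
    rw [hres1, Subgroup.mem_bot] at hk
    obtain ⟨j, -, hj⟩ := (Nat.dvd_prime_pow (Fact.out : p.Prime)).1 (orderOf_dvd_of_pow_eq_one hk)
    exact ⟨j, hj⟩
  intro b hb
  have hbm := (mem_autGroup_iff hRS).1 b.2
  obtain ⟨ψ, hψ, hψe⟩ := (isReceptive_iff.1
    (IsSaturated.automized_receptive hS hF hfnQ).2).2 Q _ (hbm.mono hQR)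
      (hQfix _ (isConj_iff.2 ⟨_, hbm.mono hQR, rfl⟩))
  have hψ' := hψ.mono (sup_le (le_extSub (hbm.mono hQR)) centralizerIn_le_extSub :
    T ≤ extSub S Q (autFun (b : MulAut R)))
  obtain ⟨m, hm⟩ := hTp ⟨_, autOf_mem hψ' (hTmap ψ hψ')⟩
  have hpow : ∀ n : ℕ, ∀ q ∈ Q, autFun ((b : MulAut R) ^ n) q =
      autFun ((autOf hψ' (hTmap ψ hψ')) ^ n) q := by
    intro n
    induction n with
    | zero => intro q hq; simp [autFun_one (hQR hq), autFun_one (Subgroup.mem_sup_left hq)]
    | succ n ih =>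
        intro q hq
        have hbq : autFun (b : MulAut R) q ∈ Q :=
          (autInvariant_of_stronglyClosed hQsc hRS b.2 ⟨hQR hq, hq⟩).2
        rw [pow_succ, pow_succ, autFun_mul _ _ (hQR hq), autFun_mul _ _ (Subgroup.mem_sup_left hq),
          autFun_autOf hψ' _ (Subgroup.mem_sup_left hq), hψe q hq, ih _ hbq]
  have hfixQ : ∀ q ∈ Q, autFun (b : MulAut R) q = q := by
    obtain ⟨j, hj⟩ := exists_pow_eq_self_of_coprime
      (show (p ^ m).Coprime (orderOf b) from (Nat.Coprime.pow_right m hb).symm)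
    intro q hq
    have hm' : (autOf hψ' (hTmap ψ hψ')) ^ p ^ m = 1 := by
      have := congrArg Subtype.val hm
      rwa [SubmonoidClass.coe_pow, OneMemClass.coe_one] at this
    rw [← hj, SubmonoidClass.coe_pow, SubmonoidClass.coe_pow, ← pow_mul, hpow _ q hq, pow_mul, hm',
      one_pow, autFun_one (Subgroup.mem_sup_left hq)]
  refine Subtype.ext (autFun_ext fun x hx => ?_)
  rw [OneMemClass.coe_one, autFun_one hx]
  set q := autFun (b : MulAut R) x * x⁻¹ with hq
  have hqQ : q ∈ Q := hmod hbm x hx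
  have hn : ∀ n : ℕ, autFun ((b : MulAut R) ^ n) x = q ^ n * x := by
    intro n
    induction n with
    | zero => simp [autFun_one hx]
    | succ n ih =>
        rw [pow_succ', autFun_mul _ _ hx, ih, autFun_map_mul _ (pow_mem (hQR hqQ) n) hx,
          hfixQ _ (pow_mem hqQ n), hq, pow_succ]
        simp [mul_assoc]
  have h1 := hn (orderOf b)
  rw [← SubmonoidClass.coe_pow, pow_orderOf_eq_one, OneMemClass.coe_one, autFun_one hx] at h1
  have h2 : q ^ orderOf b = 1 := mul_eq_right.1 h1.symm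
  obtain ⟨i, hi⟩ := hS ⟨q, hQS hqQ⟩
  have hi' : q ^ p ^ i = 1 := congrArg Subtype.val hi
  have h4 : q = 1 := orderOf_eq_one_iff.1 (Nat.eq_one_of_dvd_coprimes
    (Nat.Coprime.pow_right i hb) (orderOf_dvd_of_pow_eq_one h2) (orderOf_dvd_of_pow_eq_one hi'))
  exact mul_inv_eq_one.1 (hq ▸ h4)

/-- If the automizer of `S` is inner then so is the normalizer system of every subgroup between
the derived and the Frattini subgroup. -/
theorem ninner_of_between_derived_frattini (hS : IsPGroup p S) (hF : F.IsSaturated p)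
    (hT : NInner F S) (hd : ⁅(S : Subgroup Ω), (S : Subgroup Ω)⁆ ≤ Q)
    (hfr : Q ≤ (frattini S).map S.subtype) : NInner F Q := by
  have hQS : Q ≤ S := hfr.trans (Subgroup.map_subtype_le _)
  have hn : S ≤ Subgroup.normalizer (Q : Set Ω) := fun s hs => by
    rw [Subgroup.mem_normalizer_iff]
    have key : ∀ t ∈ S, ∀ q ∈ Q, t * q * t⁻¹ ∈ Q := fun t ht q hq => by
      simpa [commutatorElement_def] using mul_mem (hd (Subgroup.commutator_mem_commutator ht (hQS hq))) hq
    exact fun q => ⟨key s hs q, fun h => by simpa [mul_assoc] using key s⁻¹ (inv_mem hs) _ h⟩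
  have hTT : normalizerIn S Q = S := inf_eq_left.2 hn
  have hfn : F.IsFullyNormalized Q :=
    ⟨hQS, fun R _ => by rw [hTT]; exact card_le_of_le' le_rfl inf_le_left⟩
  have aux : ∀ (U : Subgroup Ω) (hU : normalizerIn S Q = U),
      (nSystem F U Q hU.ge hQS).IsSaturated p ∧ (nSystem F U Q hU.ge hQS).IsNormal Q := by
    rintro U rfl
    have hE : F.IsNormalizerSystem Q (nSystem F _ Q le_rfl hQS) := fun P => Set.ext fun φ => by
      rw [mem_normalizerHom_iff]
      exact Iff.rfl
    exact ⟨isSaturated_normalizerSystem hS hF hfn hE, isNormal_normalizerSystem hQS hE⟩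
  obtain ⟨hsat, hnor⟩ := aux S hTT
  have hTp : IsPGroup p ((nSystem F S Q hTT.ge hQS).autGroup S) :=
    (isPGroup_autInducedBy hS).to_le fun a ha =>
      autGroup_le_autInducedBy_of_ninner le_rfl hT ((mem_autGroup_iff le_rfl).2
        (isMap_nSystem_iff.1 ((mem_autGroup_iff le_rfl).1 ha)).isMap)
  have hin := isInner_of_normal_frattini hS hsat hnor hd hfr hTp
  intro P f hf hQP _ hfQ
  exact hin P f (isMap_nSystem_iff.2 ⟨hf.le, fun x hx => hf.mem_S hx, f,
    by rwa [sup_eq_left.2 hQP], fun _ _ => rfl, hfQ⟩)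

end CfsgLib.Fusion
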