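import Cfsg.Agent.Lib.Fusion.System.BisetTransfer
import Cfsg.Agent.Lib.Fusion.System.HyperfocalGroup

/-!
# Focal subgroup applications of the transfer of a saturated system
-/

set_option autoImplicit false
set_option linter.style.haveILetI false

open Subgroup
open scoped Classical commutatorElement

namespace CfsgLib.Fusion

open Cfsg (FusionSystem)
open Cfsg.FusionSystem (normalizerIn centralizerIn)

universe u

variable {Ω : Type u} [Group Ω] {S : Subgroup Ω} {F : FusionSystem S} {p : ℕ}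
variable {P : Subgroup Ω} {f : Ω → Ω}

theorem focal_le_S : F.focalSubgroup ≤ S := by
  refine (Subgroup.closure_le _).2 ?_
  rintro y ⟨P, φ, u, hφ, rfl⟩
  exact mul_mem (inv_mem ((F.le_of_mem hφ).1 u.2)) ((F.le_of_mem hφ).2 u)

theorem ofAdd_one_mul_self :
    Multiplicative.ofAdd (1 : ZMod 2) * Multiplicative.ofAdd 1 = 1 := by decide

theorem map_mem_focal (hf : IsMap F P f) {x : Ω} (hx : x ∈ P) :
    x⁻¹ * f x ∈ F.focalSubgroup := by
  obtain ⟨φ, hφ, he⟩ := hf
  exact Subgroup.subset_closure ⟨P, φ, ⟨x, hx⟩, hφ, by rw [he]⟩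

theorem focal_mono {H : FusionSystem S} (h : H.IsSubsystemOf F) :
    H.focalSubgroup ≤ F.focalSubgroup := by
  refine (Subgroup.closure_le _).2 ?_
  rintro y ⟨P, φ, u, hφ, rfl⟩
  exact Subgroup.subset_closure ⟨P, φ, u, h P hφ, rfl⟩

theorem img_zpowers {x : Ω} (hf : IsMap F (Subgroup.zpowers x) f) :
    img (Subgroup.zpowers x) f = Subgroup.zpowers (f x) := by
  obtain ⟨φ, -, hφe⟩ := id hf
  rw [← hf.img_eq_range hφe, MonoidHom.range_eq_map]
  have htop : (⊤ : Subgroup (Subgroup.zpowers x)) =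
      Subgroup.zpowers ⟨x, Subgroup.mem_zpowers x⟩ := by
    refine (eq_top_iff.2 fun y _ => ?_).symm
    obtain ⟨k, hk⟩ := Subgroup.mem_zpowers_iff.1 y.2
    exact ⟨k, Subtype.ext (by simpa using hk)⟩
  rw [htop, MonoidHom.map_zpowers]
  exact congrArg Subgroup.zpowers (hφe _)

theorem normal_subgroupOf_of_derived_le {N : Subgroup Ω} (h : ⁅S, S⁆ ≤ N) :
    (N.subgroupOf S).Normal := by
  refine ⟨fun a ha s => ?_⟩
  rw [Subgroup.mem_subgroupOf] at ha ⊢
  have h1 := mul_mem (h (Subgroup.commutator_mem_commutator s.2 a.2)) ha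
  simpa [commutatorElement_def, mul_assoc] using h1

variable [Finite S] [Fact p.Prime]

theorem pow_ne_one_of_not_dvd {A : Type*} [Group A] (hA : IsPGroup p A) {a : A} {n : ℕ}
    (hn : ¬ p ∣ n) (h : a ^ n = 1) : a = 1 := by
  obtain ⟨k, hk⟩ := hA a
  exact orderOf_eq_one_iff.1 (Nat.eq_one_of_dvd_coprimes
    (Nat.Coprime.pow_left k ((Fact.out : p.Prime).coprime_iff_not_dvd.2 hn))
    (orderOf_dvd_of_pow_eq_one hk) (orderOf_dvd_of_pow_eq_one h))

/-- The focal subgroup meets the centre of the system inside the derived subgroup. -/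
theorem focal_inf_center_le (hS : IsPGroup p S) (hF : F.IsSaturated p) :
    F.focalSubgroup ⊓ F.center ≤ ⁅(S : Subgroup Ω), (S : Subgroup Ω)⁆ := by
  rintro z ⟨hzf, hzc⟩
  obtain ⟨X, i1, i2, hX, hst, n, hn, hcard⟩ := Biset.exists_biset hS hF
  set r := Biset.sec (S := S) X
  have hzS : z ∈ S := focal_le_S hzf
  set w : S := ⟨z, hzS⟩
  have hO : Nat.card (Biset.Orb (S := S) X) = n :=
    Nat.eq_of_mul_eq_mul_right Nat.card_pos ((Biset.card_eq_orb_mul hX r).symm.trans hcard)
  have h := Biset.transfer_eq_pow hX r (Abelianization.of (G := S)) w fun k f hf => by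
    have hcen := isCentral_center (F := F)
    have hzk : ((w ^ k : S) : Ω) ∈ F.center := by
      rw [SubmonoidClass.coe_pow]
      exact pow_mem hzc k
    obtain ⟨g, hg, hge, hgfix⟩ := (isCentral_iff.1 hcen).2 _ f hf
    refine congrArg _ (Subtype.ext ?_)
    show f ((w ^ k : S) : Ω) = _
    rw [← hge _ (Subgroup.mem_zpowers _)]
    exact hgfix _ hzk
  rw [Biset.transfer_focal hX hst r _ (x := w) hzf, hO] at h
  have h1 : Abelianization.of w = 1 :=
    pow_ne_one_of_not_dvd (hS.to_quotient (commutator S)) hn h.symm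
  have h2 : w ∈ commutator S := by rwa [← Abelianization.ker_of, MonoidHom.mem_ker]
  have h3 := Subgroup.mem_map_of_mem S.subtype h2
  rwa [commutator_def, Subgroup.map_commutator, ← MonoidHom.range_eq_map,
    Subgroup.range_subtype] at h3

/-- Tate's theorem for focal subgroups. -/
theorem focal_eq_of_frattini_sup_eq (hS : IsPGroup p S) (hF : F.IsSaturated p)
    {H : FusionSystem S} (hHF : H.IsSubsystemOf F)
    (h : (frattini S).map S.subtype ⊔ F.focalSubgroup =
      (frattini S).map S.subtype ⊔ H.focalSubgroup) :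
    F.focalSubgroup = H.focalSubgroup := by
  refine le_antisymm ?_ (focal_mono hHF)
  obtain ⟨X, i1, i2, hX, hst, n, hn, hcard⟩ := Biset.exists_biset hS hF
  set r := Biset.sec (S := S) X
  have hO : Nat.card (Biset.Orb (S := S) X) = n :=
    Nat.eq_of_mul_eq_mul_right Nat.card_pos ((Biset.card_eq_orb_mul hX r).symm.trans hcard)
  set NH := H.focalSubgroup.subgroupOf S with hNH
  set NF := F.focalSubgroup.subgroupOf S with hNF
  haveI : NH.Normal := normal_subgroupOf_of_derived_le derived_le_focal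
  haveI : NF.Normal := normal_subgroupOf_of_derived_le derived_le_focal
  have hcomm : ∀ a b : S ⧸ NH, a * b = b * a := by
    intro a b
    obtain ⟨a, rfl⟩ := QuotientGroup.mk'_surjective NH a
    obtain ⟨b, rfl⟩ := QuotientGroup.mk'_surjective NH b
    rw [← map_mul, ← map_mul, QuotientGroup.mk'_eq_mk']
    refine ⟨(a * b)⁻¹ * (b * a), ?_, by group⟩
    rw [hNH, Subgroup.mem_subgroupOf]
    have h1 := Subgroup.commutator_mem_commutator (H₁ := S) (H₂ := S) (inv_mem b.2) (inv_mem a.2)
    refine derived_le_focal ?_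
    simpa [commutatorElement_def, mul_assoc] using h1
  letI : CommGroup (S ⧸ NH) := { (inferInstance : Group (S ⧸ NH)) with mul_comm := hcomm }
  set V := Biset.transfer hX r (QuotientGroup.mk' NH) with hV
  have hcommF : ∀ a b : S ⧸ NF, a * b = b * a := by
    intro a b
    obtain ⟨a, rfl⟩ := QuotientGroup.mk'_surjective NF a
    obtain ⟨b, rfl⟩ := QuotientGroup.mk'_surjective NF b
    rw [← map_mul, ← map_mul, QuotientGroup.mk'_eq_mk']
    refine ⟨(a * b)⁻¹ * (b * a), ?_, by group⟩
    rw [hNF, Subgroup.mem_subgroupOf]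
    have h1 := Subgroup.commutator_mem_commutator (H₁ := S) (H₂ := S) (inv_mem b.2) (inv_mem a.2)
    refine derived_le_focal ?_
    simpa [commutatorElement_def, mul_assoc] using h1
  letI : CommGroup (S ⧸ NF) := { (inferInstance : Group (S ⧸ NF)) with mul_comm := hcommF }
  -- `V` is the `n`-th power modulo the focal subgroup of `F`
  have hVn : ∀ x : S, ∃ v : S, QuotientGroup.mk' NH v = V x ∧
      QuotientGroup.mk' NF v = QuotientGroup.mk' NF (x ^ n) := by
    intro x
    obtain ⟨v, hv⟩ := QuotientGroup.mk'_surjective NH (V x)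
    refine ⟨v, hv, ?_⟩
    let π : S ⧸ NH →* S ⧸ NF := QuotientGroup.map NH NF (MonoidHom.id S) fun a ha => by
      show (a : Ω) ∈ F.focalSubgroup
      exact focal_mono hHF ha
    have h1 : π (V x) = Biset.transfer hX r (QuotientGroup.mk' NF) x := by
      rw [hV, Biset.transfer_apply, Biset.transfer_apply, map_prod]
      exact Finset.prod_congr rfl fun o _ => rfl
    have h2 := Biset.transfer_eq_pow hX r (QuotientGroup.mk' NF) x fun k f hf => by
      rw [QuotientGroup.mk'_eq_mk']
      refine ⟨(⟨f ((x ^ k : S) : Ω), hf.mem_S (Subgroup.mem_zpowers _)⟩ : S)⁻¹ * x ^ k, ?_, by group⟩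
      rw [hNF, Subgroup.mem_subgroupOf]
      simpa using inv_mem (map_mem_focal hf (Subgroup.mem_zpowers (((x ^ k : S)) : Ω)))
    rw [hO] at h2
    rw [← hv] at h1
    rw [map_pow, ← h2, ← h1]
    rfl
  -- the preimage of the image of `V` is everything
  set U := V.range.comap (QuotientGroup.mk' NH) with hU
  have hUNH : NH ≤ U := fun a ha => by
    rw [hU, Subgroup.mem_comap, QuotientGroup.mk'_apply, (QuotientGroup.eq_one_iff a).2 ha]
    exact one_mem _
  have hNFle : NF ≤ U ⊔ frattini S := by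
    intro a ha
    have ha' : (a : Ω) ∈ (frattini S).map S.subtype ⊔ H.focalSubgroup := by
      rw [← h]; exact Subgroup.mem_sup_right ha
    rw [← Subgroup.map_subgroupOf_eq_of_le (focal_le_S (F := H)), ← Subgroup.map_sup] at ha'
    obtain ⟨b, hb, hba⟩ := ha'
    rw [← Subtype.ext hba]
    exact (sup_le le_sup_right (hUNH.trans le_sup_left) : frattini S ⊔ NH ≤ U ⊔ frattini S) hb
  have htop : U ⊔ frattini S = ⊤ := by
    rw [eq_top_iff]
    intro x _
    obtain ⟨v, hv1, hv2⟩ := hVn x
    have hvU : v ∈ U := ⟨x, hv1.symm⟩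
    rw [QuotientGroup.mk'_eq_mk'] at hv2
    obtain ⟨z, hz, hzx⟩ := hv2
    have hxn : x ^ n ∈ U ⊔ frattini S :=
      hzx ▸ mul_mem (Subgroup.mem_sup_left hvU) (hNFle hz)
    obtain ⟨k, hk⟩ := hS x
    obtain ⟨m, hm⟩ := exists_pow_eq_self_of_coprime (x := x) (n := n)
      (Nat.Coprime.coprime_dvd_right (orderOf_dvd_of_pow_eq_one hk)
        (Nat.Coprime.pow_right k ((Fact.out : p.Prime).coprime_iff_not_dvd.2 hn).symm))
    rw [← hm]
    exact pow_mem hxn m
  have hUtop := frattini_nongenerating htop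
  have hsurj : Function.Surjective V := fun a => by
    obtain ⟨y, rfl⟩ := QuotientGroup.mk'_surjective NH a
    exact (hUtop.ge (Subgroup.mem_top y) : y ∈ U)
  have hker : NF ≤ V.ker := fun a ha => Biset.transfer_focal hX hst r _ ha
  have hc1 : Nat.card (S ⧸ NH) ≤ Nat.card (S ⧸ NF) :=
    Nat.card_le_card_of_surjective (QuotientGroup.lift NF V hker) fun a => by
      obtain ⟨y, hy⟩ := hsurj a
      exact ⟨QuotientGroup.mk y, hy⟩
  have hle : NH ≤ NF := fun a ha => focal_mono hHF ha
  have heq : NH = NF := by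
    refine Subgroup.eq_of_le_of_card_ge hle ?_
    have e1 := Subgroup.card_eq_card_quotient_mul_card_subgroup NH
    have e2 := Subgroup.card_eq_card_quotient_mul_card_subgroup NF
    have e3 : Nat.card (S ⧸ NH) * Nat.card NF ≤ Nat.card (S ⧸ NF) * Nat.card NF :=
      Nat.mul_le_mul_right _ hc1
    rw [← e2, e1] at e3
    exact Nat.le_of_mul_le_mul_left e3 Nat.card_pos
  intro x hx
  have : (⟨x, focal_le_S hx⟩ : S) ∈ NH := heq ▸ hx
  exact this

/-- Thompson's transfer lemma for saturated 2-systems. -/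
theorem not_mem_focal_of_index_two {F : FusionSystem S} (hS : IsPGroup 2 S) (hF : F.IsSaturated 2)
    (T : Subgroup Ω) (hT : T.relIndex S = 2) {i : Ω} (hi : i ∈ S) (hi2 : orderOf i = 2)
    (h : ∀ j : Ω, F.IsConjElt i j → F.IsFullyNormalized (Subgroup.zpowers j) → j ∉ T) :
    i ∉ F.focalSubgroup := by
  haveI : Fact (Nat.Prime 2) := ⟨Nat.prime_two⟩
  intro hif
  obtain ⟨X, i1, i2, hX, hst, n, hn, hcard⟩ := Biset.exists_biset hS hF
  set r := Biset.sec (S := S) X
  have hO : Nat.card (Biset.Orb (S := S) X) = n :=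
    Nat.eq_of_mul_eq_mul_right Nat.card_pos ((Biset.card_eq_orb_mul hX r).symm.trans hcard)
  set TS := T.subgroupOf S with hTS
  have hTi : TS.index = 2 := hT
  haveI : TS.Normal := Subgroup.normal_of_index_eq_two hTi
  let a₁ : Multiplicative (ZMod 2) := Multiplicative.ofAdd 1
  have ha₁ : a₁ * a₁ = 1 :=
    ofAdd_one_mul_self
  let χ : S →* Multiplicative (ZMod 2) := MonoidHom.mk' (fun s => if s ∈ TS then 1 else a₁)
    fun a b => by
      have hm := Subgroup.mul_mem_iff_of_index_two hTi (a := a) (b := b)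
      by_cases ha : a ∈ TS <;> by_cases hb : b ∈ TS <;> simp [ha, hb, hm, ha₁]
  have hχ : ∀ s, χ s = if s ∈ TS then 1 else a₁ := fun s => rfl
  set w : S := ⟨i, hi⟩
  have hw2 : w ^ 2 = 1 := Subtype.ext (by
    rw [SubmonoidClass.coe_pow, OneMemClass.coe_one, ← hi2]; exact pow_orderOf_eq_one i)
  let σ := Biset.lequiv (X := X) w
  have hσ2 : ∀ o : Biset.Orb (S := S) X, Biset.lact w (Biset.lact w o) = o := fun o => by
    rw [← Biset.lact_mul, ← sq, hw2, Biset.lact_one]
  let b : Biset.Orb (S := S) X → Multiplicative (ZMod 2) := fun o =>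
    if Biset.lact w o = o ∧ Biset.val r w o ∉ TS then a₁ else 1
  have hV : Biset.transfer hX r χ w = ∏ o, b o := by
    rw [Biset.transfer_apply]
    refine Biset.prod_eq_of_cycles σ _ _ fun o => ?_
    show ∏ j ∈ Finset.range (Function.minimalPeriod (Biset.lact w) o),
        χ (Biset.val r w ((Biset.lact w)^[j] o)) =
      ∏ j ∈ Finset.range (Function.minimalPeriod (Biset.lact w) o), b ((Biset.lact w)^[j] o)
    by_cases hfix : Biset.lact w o = o
    · rw [Function.minimalPeriod_eq_one_iff_isFixedPt.2 hfix]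
      simp only [Finset.prod_range_one, Function.iterate_zero, id]
      rw [hχ]
      show _ = if _ then a₁ else 1
      by_cases hv : Biset.val r w o ∈ TS <;> simp [hfix, hv]
    · have hper : Function.minimalPeriod (Biset.lact w) o = 2 := by
        refine Function.minimalPeriod_eq_prime ?_ hfix
        exact hσ2 o
      have hfix' : ¬ Biset.lact w (Biset.lact w o) = Biset.lact w o := fun he =>
        hfix ((hσ2 o).symm.trans he).symm
      rw [hper, Biset.prod_cycle hX, hw2, Biset.val_one hX, map_one, Finset.prod_range_succ,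
        Finset.prod_range_one]
      simp [b, hfix, hfix']
  rw [Biset.transfer_focal hX hst r χ (x := w) hif] at hV
  -- parity
  let Fx := {o : Biset.Orb (S := S) X // Biset.lact w o = o}
  let Bad := {o : Biset.Orb (S := S) X // Biset.lact w o = o ∧ Biset.val r w o ∉ TS}
  let Good := {o : Biset.Orb (S := S) X // Biset.lact w o = o ∧ Biset.val r w o ∈ TS}
  have hBad : 2 ∣ Nat.card Bad := by
    have h1 : ∏ o, b o = a₁ ^ Nat.card Bad := by
      rw [Finset.prod_ite, Finset.prod_const_one, mul_one, Finset.prod_const]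
      congr 1
      rw [Nat.card_eq_fintype_card, Fintype.card_subtype]
    have ho : orderOf a₁ = 2 := orderOf_eq_prime (by rw [sq]; exact ha₁)
      fun he => absurd (Multiplicative.ofAdd.injective (he : Multiplicative.ofAdd (1 : ZMod 2) = Multiplicative.ofAdd 0)) one_ne_zero
    rw [← ho]
    exact orderOf_dvd_of_pow_eq_one (h1.symm.trans hV.symm)
  have hFx : ¬ 2 ∣ Nat.card Fx := by
    have hmod := Equiv.Perm.card_fixedPoints_modEq (p := 2) (n := 1)
      (f := (Biset.lact w : Biset.Orb (S := S) X → Biset.Orb (S := S) X))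
      (funext fun o => hσ2 o)
    intro hd
    apply hn
    rw [← hO, Nat.card_eq_fintype_card]
    have h1 : Fintype.card (Function.fixedPoints (Biset.lact (X := X) w)) = Nat.card Fx := by
      rw [Nat.card_eq_fintype_card]
      exact Fintype.card_congr (Equiv.refl _)
    rw [h1] at hmod
    exact Nat.modEq_zero_iff_dvd.1 (hmod.trans (Nat.modEq_zero_iff_dvd.2 hd))
  have hsplit : Nat.card Fx = Nat.card Bad + Nat.card Good := by
    simp only [Fx, Bad, Good, Nat.card_eq_fintype_card, Fintype.card_subtype]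
    rw [← Finset.card_union_of_disjoint (Finset.disjoint_filter.2 fun o _ h1 h2 => h1.2 h2.2)]
    congr 1
    ext o
    simp only [Finset.mem_filter, Finset.mem_univ, true_and, Finset.mem_union]
    tauto
  -- the orbits fixed with value in `T`
  suffices hGood : 2 ∣ Nat.card Good from hFx (hsplit ▸ dvd_add hBad hGood)
  let Y := {v : S // F.IsConjElt i v ∧ v ∈ TS}
  let Dg : S → Subgroup (S × S) := fun v => Subgroup.zpowers (w, v)
  have hfixD : ∀ (v : S) (x : X), (∀ d ∈ Dg v, d • x = x) ↔ (w, v) • x = x := fun v x =>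
    ⟨fun hd => hd _ (Subgroup.mem_zpowers _), fun hd d hdm => by
      exact (Subgroup.zpowers_le.2 (show (w, v) ∈ MulAction.stabilizer (S × S) x from hd)) hdm⟩
  have hsrc : ∀ v, Biset.src (Dg v) = Subgroup.zpowers i := fun v => by
    rw [Biset.src, MonoidHom.map_zpowers]; rfl
  have htw : ∀ v : S, F.IsConjElt i v → Biset.IsTwist F (Dg v) := by
    intro v hv
    obtain ⟨g, hg, hgi⟩ := isConjElt_iff.1 hv
    refine (Biset.isTwist_diag hg).mono (Subgroup.zpowers_le.2 ⟨Subgroup.mem_zpowers i, ?_⟩)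
    exact hgi.symm
  have hconjval : ∀ o, Biset.lact w o = o → F.IsConjElt i (Biset.val r w o : S) := by
    intro o ho
    obtain ⟨g, hg, hgi⟩ := Biset.exists_map_val hX (r := r) ho
    exact isConjElt_iff.2 ⟨g, hg, hgi⟩
  have hii : F.IsConjElt i (w : Ω) :=
    isConjElt_iff.2 ⟨id, isMap_id (Subgroup.zpowers_le.2 hi), rfl⟩
  set c := Biset.nfix X (Dg w) with hc
  have hN : ∀ v : S, F.IsConjElt i v → Biset.nfix X (Dg v) = c := fun v hv =>
    hst _ _ (htw v hv) (htw w hii) (Set.mem_univ _)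
      (by rw [hsrc, hsrc]; exact isConj_refl (Subgroup.zpowers_le.2 hi))
  -- `c` is divisible by the order of every centralizer of a conjugate
  have hfree : ∀ v : S, F.IsConjElt i v →
      Nat.card (centralizerIn S (Subgroup.zpowers (v : Ω))) ∣ c := by
    intro v hv
    rw [← hN v hv]
    let C := centralizerIn S (Subgroup.zpowers (v : Ω))
    let W := {x : X // ∀ d ∈ Dg v, d • x = x}
    have hcomm : ∀ s : C, ((1 : S), (⟨s.1, s.2.1⟩ : S)) * (w, v) =
        (w, v) * ((1 : S), (⟨s.1, s.2.1⟩ : S)) := fun s => by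
      refine Prod.ext (by simp) (Subtype.ext ?_)
      exact ((Subgroup.mem_centralizer_iff.1 s.2.2) _ (Subgroup.mem_zpowers _)).symm
    letI : SMul C W := ⟨fun s x => ⟨((1 : S), (⟨s.1, s.2.1⟩ : S)) • x.1, (hfixD v _).2 (by
      rw [← mul_smul, ← hcomm, mul_smul, (hfixD v _).1 x.2])⟩⟩
    letI : MulAction C W :=
      { one_smul := fun x => Subtype.ext (one_smul (S × S) x.1)
        mul_smul := fun s t x => Subtype.ext (by
          show _ = ((1 : S), (⟨s.1, s.2.1⟩ : S)) • (((1 : S), (⟨t.1, t.2.1⟩ : S)) • x.1)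
          rw [← mul_smul]
          show ((1 : S), (⟨(s * t).1, (s * t).2.1⟩ : S)) • x.1 = _
          simp) }
    haveI := finite_of_le (S := S) (P := C) inf_le_left
    haveI : Finite W := Subtype.finite
    have := Biset.dvd_card_of_dvd_orbit (G := C) (Y := W) (Nat.card C) 1 fun x => by
      rw [one_mul, Nat.card_congr (MulAction.orbitEquivQuotientStabilizer C x)]
      have hbot : MulAction.stabilizer C x = ⊥ := by
        rw [eq_bot_iff]
        intro s hs
        have := Biset.eq_one_of_fix hX (congrArg Subtype.val hs :)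
        exact Subgroup.mem_bot.2 (Subtype.ext (congrArg (fun z : S => (z : Ω)) this :))
      rw [hbot]
      exact (Nat.card_congr QuotientGroup.quotientBot.toEquiv).symm.dvd
    rw [one_mul] at this
    exact this
  obtain ⟨Q, hQ, hQn⟩ := exists_fullyNormalized (F := F) (P := Subgroup.zpowers i)
    (Subgroup.zpowers_le.2 hi)
  obtain ⟨g, hg, hgimg⟩ := isConj_iff.1 hQ
  have hgS := hg.mem_S (Subgroup.mem_zpowers i)
  set j : S := ⟨g i, hgS⟩ with hj
  have hQj : Q = Subgroup.zpowers (j : Ω) := by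
    rw [← hgimg, img_zpowers hg]
  have hjc : F.IsConjElt i j := isConjElt_iff.2 ⟨g, hg, rfl⟩
  have hNC : ∀ v : S, F.IsConjElt i v →
      normalizerIn S (Subgroup.zpowers (v : Ω)) = centralizerIn S (Subgroup.zpowers (v : Ω)) := by
    intro v hv
    obtain ⟨g', hg', hgv⟩ := isConjElt_iff.1 hv
    have hv2 : ((v : Ω)) ^ 2 = 1 := by
      rw [← hgv, sq, ← hg'.map_mul (Subgroup.mem_zpowers _) (Subgroup.mem_zpowers _), ← sq,
        show i ^ 2 = 1 from hi2 ▸ pow_orderOf_eq_one i, hg'.map_one]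
    have hv1 : (v : Ω) ≠ 1 := fun h1 => by
      have := (hg'.eq_one_iff (Subgroup.mem_zpowers i)).1 (hgv.trans h1)
      rw [this, orderOf_one] at hi2
      omega
    refine le_antisymm (fun s hs => ⟨hs.1, Subgroup.mem_centralizer_iff.2 fun y hy => ?_⟩)
      (inf_le_inf_left _ (Subgroup.centralizer_le_normalizer _))
    have hconj := (Subgroup.mem_normalizer_iff.1 hs.2 v).1 (Subgroup.mem_zpowers _)
    obtain ⟨m, hm⟩ := Subgroup.mem_zpowers_iff.1 hconj
    have hsv : s * (v : Ω) * s⁻¹ = v := by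
      rcases Int.even_or_odd m with ⟨q, rfl⟩ | ⟨q, rfl⟩
      · exfalso
        rw [← two_mul, zpow_mul, zpow_ofNat, hv2, one_zpow] at hm
        exact hv1 (conj_eq_one_iff.1 hm.symm)
      · rw [zpow_add, zpow_mul, zpow_ofNat, hv2, one_zpow, one_mul, zpow_one] at hm
        exact hm.symm
    obtain ⟨k, rfl⟩ := Subgroup.mem_zpowers_iff.1 hy
    exact (Commute.zpow_right (show Commute s (v : Ω) from mul_inv_eq_iff_eq_mul.1 hsv) k).eq.symm
  have hcj : Nat.card (centralizerIn S (Subgroup.zpowers (j : Ω))) ∣ c := hfree j hjc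
  -- the conjugation action on `Y`
  letI : SMul S Y := ⟨fun s v => ⟨s * v.1 * s⁻¹, by
    obtain ⟨g', hg', hgv⟩ := isConjElt_iff.1 v.2.1
    refine ⟨isConjElt_iff.2 ⟨(fun x => (s : Ω) * x * (s : Ω)⁻¹) ∘ g',
      hg'.comp (isMap_conj (le_refl S) s.2) (fun x hx => hg'.mem_S hx), ?_⟩,
      Subgroup.Normal.conj_mem inferInstance _ v.2.2 s⟩
    show (s : Ω) * g' i * (s : Ω)⁻¹ = _
    rw [hgv]
    rfl⟩⟩
  letI : MulAction S Y :=
    { one_smul := fun v => Subtype.ext (show (1 : S) * v.1 * 1⁻¹ = v.1 by simp)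
      mul_smul := fun s t v => Subtype.ext
        (show s * t * v.1 * (s * t)⁻¹ = s * (t * v.1 * t⁻¹) * s⁻¹ by group) }
  have hdiv : 2 * Nat.card S ∣ c * Nat.card Y := by
    refine Biset.dvd_card_of_dvd_orbit (G := S) _ _ fun v => ?_
    set Cv := centralizerIn S (Subgroup.zpowers ((v.1 : S) : Ω))
    haveI := finite_of_le (S := S) (P := Cv) inf_le_left
    have horb : Nat.card (MulAction.orbit S v) * Nat.card Cv = Nat.card S := by
      rw [Nat.card_congr (MulAction.orbitEquivQuotientStabilizer S v),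
        Subgroup.card_eq_card_quotient_mul_card_subgroup (MulAction.stabilizer S v)]
      congr 1
      refine Nat.card_congr
        { toFun := fun s => ⟨⟨s.1, s.2.1⟩, ?_⟩
          invFun := fun s => ⟨(s.1 : Ω), ?_⟩
          left_inv := fun s => rfl
          right_inv := fun s => rfl }
      · refine Subtype.ext ?_
        show (⟨s.1, s.2.1⟩ : S) * v.1 * (⟨s.1, s.2.1⟩ : S)⁻¹ = v.1
        refine Subtype.ext ?_
        show (s.1 : Ω) * (v.1 : S) * (s.1 : Ω)⁻¹ = _
        rw [← (Subgroup.mem_centralizer_iff.1 s.2.2) _ (Subgroup.mem_zpowers _),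
          mul_inv_cancel_right]
      · refine ⟨s.1.2, Subgroup.mem_centralizer_iff.2 fun y hy => ?_⟩
        have hs : s.1 * v.1 * s.1⁻¹ = v.1 := congrArg Subtype.val s.2
        have hc' : Commute (s.1 : Ω) ((v.1 : S) : Ω) := by
          have := congrArg Subtype.val hs
          exact mul_inv_eq_iff_eq_mul.1 this
        obtain ⟨k, rfl⟩ := Subgroup.mem_zpowers_iff.1 hy
        exact (hc'.zpow_right k).eq.symm
    have hlt : Nat.card Cv < Nat.card (centralizerIn S (Subgroup.zpowers (j : Ω))) := by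
      have hnot : ¬ F.IsFullyNormalized (Subgroup.zpowers ((v.1 : S) : Ω)) := fun hv =>
        h _ v.2.1 hv v.2.2
      have hvS : Subgroup.zpowers ((v.1 : S) : Ω) ≤ S := Subgroup.zpowers_le.2 v.1.2
      by_contra hle
      push Not at hle
      refine hnot ⟨hvS, fun R hR => ?_⟩
      obtain ⟨g', hg', hgv⟩ := isConjElt_iff.1 v.2.1
      have hvQ : F.IsConj (Subgroup.zpowers ((v.1 : S) : Ω)) Q := by
        refine isConj_trans (isConj_symm (isConj_iff.2 ⟨g', hg', ?_⟩)) hQ
        rw [img_zpowers hg', hgv]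
      refine le_trans (hQn.2 R (isConj_trans (isConj_symm hvQ) hR)) ?_
      rw [hQj, hNC j hjc, hNC v.1 v.2.1]
      exact hle
    haveI := finite_of_le (S := S) (P := centralizerIn S (Subgroup.zpowers (j : Ω))) inf_le_left
    have hpj : IsPGroup 2 (centralizerIn S (Subgroup.zpowers (j : Ω))) := hS.to_le inf_le_left
    have hpv : IsPGroup 2 Cv := hS.to_le inf_le_left
    obtain ⟨a, ha⟩ := hpj.exists_card_eq
    obtain ⟨e, he⟩ := hpv.exists_card_eq
    rw [ha] at hlt hcj
    rw [he] at hlt horb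
    have hea : e < a := (Nat.pow_lt_pow_iff_right Nat.one_lt_two).1 hlt
    obtain ⟨t, rfl⟩ := Nat.exists_eq_add_of_lt hea
    obtain ⟨c', hc'⟩ := hcj
    refine ⟨2 ^ t * c', ?_⟩
    rw [hc', ← horb]
    ring
  -- compare the two counts
  let W := {x : X // ∃ v : Y, (w, v.1) • x = x}
  have hW1 : Nat.card W = c * Nat.card Y := by
    let e : W ≃ Σ v : Y, {x : X // (w, v.1) • x = x} :=
      { toFun := fun x => ⟨x.2.choose, ⟨x.1, x.2.choose_spec⟩⟩
        invFun := fun z => ⟨z.2.1, z.1, z.2.2⟩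
        left_inv := fun x => rfl
        right_inv := fun z => by
          obtain ⟨v, x, hx⟩ := z
          have hex : ∃ v : Y, (w, v.1) • x = x := ⟨v, hx⟩
          have h2 : hex.choose = v := by
            refine Subtype.ext (Biset.right_inj hX (w := (w, (1 : S)) • x) ?_)
            rw [← mul_smul, ← mul_smul]
            simpa using hex.choose_spec.trans hx.symm
          exact Sigma.subtype_ext h2 rfl }
    haveI : Fintype Y := Fintype.ofFinite Y
    rw [Nat.card_congr e, Nat.card_sigma, Finset.sum_congr rfl fun v _ =>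
      (show Nat.card {x : X // (w, v.1) • x = x} = c by
        rw [← hN v.1 v.2.1]
        exact Nat.card_congr (Equiv.subtypeEquivRight fun x => (hfixD v.1 x).symm)),
      Finset.sum_const, smul_eq_mul, Finset.card_univ, Nat.card_eq_fintype_card, mul_comm]
  have hW2 : Nat.card W = Nat.card Good * Nat.card S := by
    rw [← Nat.card_prod]
    refine (Nat.card_congr (Equiv.ofBijective (fun z : Good × S =>
      (⟨((1 : S), z.2) • r.r z.1.1,
        ⟨z.2 * Biset.val r w z.1.1 * z.2⁻¹, ?_, Subgroup.Normal.conj_mem inferInstance _ z.1.2.2 _⟩,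
        ?_⟩ : W)) ⟨?_, ?_⟩)).symm
    · obtain ⟨g', hg', hgv⟩ := isConjElt_iff.1 (hconjval _ z.1.2.1)
      refine isConjElt_iff.2 ⟨(fun x => (z.2 : Ω) * x * (z.2 : Ω)⁻¹) ∘ g',
        hg'.comp (isMap_conj (le_refl S) z.2.2) (fun x hx => hg'.mem_S hx), ?_⟩
      show (z.2 : Ω) * g' i * (z.2 : Ω)⁻¹ = _
      rw [hgv]
      rfl
    · show (w, z.2 * Biset.val r w z.1.1 * z.2⁻¹) • ((1 : S), z.2) • r.r z.1.1 = _
      rw [← mul_smul, show (w, z.2 * Biset.val r w z.1.1 * z.2⁻¹) * ((1 : S), z.2) =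
        ((1 : S), z.2) * (w, Biset.val r w z.1.1) by simp, mul_smul, Biset.val_spec, z.1.2.1]
    · rintro ⟨o, s⟩ ⟨o', s'⟩ hoo
      have h0 : ((1 : S), s) • r.r o.1 = ((1 : S), s') • r.r o'.1 := congrArg Subtype.val hoo
      have ho : o = o' := by
        refine Subtype.ext ?_
        have h1 := congrArg (Biset.cls (S := S)) h0
        rwa [Biset.cls_smul_right, Biset.cls_smul_right, r.cls_r, r.cls_r] at h1
      subst ho
      rw [Biset.right_inj hX h0]
    · rintro ⟨x, v, hv⟩
      obtain ⟨s, hs⟩ := Biset.cls_eq_iff.1 (r.cls_r (Biset.cls (S := S) x))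
      set o := Biset.cls (S := S) x
      have hv' : (w, s⁻¹ * v.1 * s) • r.r o = r.r o := by
        rw [show (w, s⁻¹ * v.1 * s) = ((1 : S), s)⁻¹ * (w, v.1) * ((1 : S), s) by simp,
          mul_smul, mul_smul, hs, hv, ← hs, inv_smul_smul]
      have hfix : Biset.lact w o = o := by
        conv_rhs => rw [← r.cls_r o, ← hv']
        conv_lhs => rw [← r.cls_r o, Biset.lact_cls]
        exact Biset.cls_eq_iff.2 ⟨s⁻¹ * v.1 * s, by rw [← mul_smul]; simp⟩
      have hval : Biset.val r w o = s⁻¹ * v.1 * s := Biset.val_eq hX (by rw [hv', hfix])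
      exact ⟨(⟨o, hfix, by rw [hval]; simpa using
        Subgroup.Normal.conj_mem (H := TS) inferInstance _ v.2.2 s⁻¹⟩, s), Subtype.ext hs⟩
  rw [← hW1, hW2, mul_comm 2, mul_comm _ (Nat.card S)] at hdiv
  exact Nat.dvd_of_mul_dvd_mul_left Nat.card_pos hdiv

end CfsgLib.Fusion
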