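import Cfsg.Agent.Lib.Fusion.System.Theta
import Cfsg.Agent.Lib.Fusion.System.TransferApps
import Cfsg.Agent.Lib.Fusion.System.SmallNormal

/-!
# Tate's theorem for hyperfocal subgroups

The twisted transfer: if `L ≤ K` is a central step below an absorbing subgroup `K`, a
characteristic biset gives a homomorphism `h : S → K/L` measuring how far the maps are from
conjugations modulo `L`.
-/

set_option autoImplicit false
set_option maxHeartbeats 1000000
set_option linter.style.haveILetI false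

open Subgroup
open scoped Classical commutatorElement

namespace CfsgLib.Fusion

open Cfsg (FusionSystem autInducedBy)
open Cfsg.FusionSystem (normalizerIn centralizerIn)

universe u

variable {Ω : Type u} [Group Ω] {S : Subgroup Ω} {F : FusionSystem S} {p : ℕ}

/-- If `K ≤ A [K, S]` for normal subgroups of a `p`-group `S` then `K ≤ A`. -/
theorem le_of_le_sup_commutator [Finite S] [Fact p.Prime] (hS : IsPGroup p S) {A K : Subgroup Ω}
    (hK : K ≤ S) (hA : S ≤ Subgroup.normalizer (A : Set Ω)) (hAS : A ≤ S)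
    (h : K ≤ A ⊔ ⁅K, S⁆) : K ≤ A := by
  haveI : (A.subgroupOf S).Normal := Subgroup.normal_subgroupOf_iff_le_normalizer hAS |>.2 hA
  set π := QuotientGroup.mk' (A.subgroupOf S)
  haveI : Group.IsNilpotent (S ⧸ A.subgroupOf S) := (hS.to_quotient _).isNilpotent
  haveI : Group.IsNilpotent (⊤ : Subgroup (S ⧸ A.subgroupOf S)) :=
    ((hS.to_quotient (A.subgroupOf S)).to_subgroup ⊤).isNilpotent
  set Kb := (K.subgroupOf S).map π with hKb
  have hcs : ⁅K, S⁆ ≤ S := (Subgroup.commutator_mono hK le_rfl).trans (Subgroup.commutator_le_self S)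
  have hcomm : (⁅K, S⁆).subgroupOf S = ⁅K.subgroupOf S, (⊤ : Subgroup S)⁆ := by
    apply Subgroup.map_injective S.subtype_injective
    rw [Subgroup.map_subgroupOf_eq_of_le hcs, Subgroup.map_commutator,
      Subgroup.map_subgroupOf_eq_of_le hK, ← MonoidHom.range_eq_map, Subgroup.range_subtype]
  have hle : Kb ≤ ⁅Kb, (⊤ : Subgroup (S ⧸ A.subgroupOf S))⁆ := by
    rintro _ ⟨k, hk, rfl⟩
    have h1 : k ∈ (A ⊔ ⁅K, S⁆).subgroupOf S := h hk
    rw [Subgroup.subgroupOf_sup hAS hcs, hcomm] at h1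
    have h2 := Subgroup.mem_map_of_mem π h1
    rwa [Subgroup.map_sup, Subgroup.map_commutator, (Subgroup.map_eq_bot_iff _).2
      (QuotientGroup.ker_mk' _).ge, bot_sup_eq, ← MonoidHom.range_eq_map,
      MonoidHom.range_eq_top.2 (QuotientGroup.mk'_surjective _)] at h2
  have hbot := eq_bot_of_le_commutator (P := ⊤) le_top hle
  intro k hk
  have h3 : π ⟨k, hK hk⟩ ∈ Kb := ⟨_, hk, rfl⟩
  rw [hbot, Subgroup.mem_bot] at h3
  exact (QuotientGroup.eq_one_iff (⟨k, hK hk⟩ : S)).1 h3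

variable [Finite S] [Fact p.Prime] {K L : Subgroup Ω}

/-- The twisted transfer. -/
theorem exists_twisted_transfer (hS : IsPGroup p S) (hF : F.IsSaturated p)
    (hKL : CStep F p K L) [hN : (L.subgroupOf S).Normal] :
    ∃ (n : ℕ) (h : S →* S ⧸ L.subgroupOf S), ¬ p ∣ n ∧
      (∀ x y, h x * h y = h y * h x) ∧
      ∀ (P : Subgroup Ω) (f : Ω → Ω), Chain F p P f 1 → ∀ (x y : S), (x : Ω) ∈ P →
        (y : Ω) = f x → h y * (QuotientGroup.mk' _ (y * x⁻¹)) ^ n = h x := by
  obtain ⟨X, i1, i2, hX, hst, n, hn, hcard⟩ := Biset.exists_biset hS hF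
  set r := Biset.sec (S := S) X with hr
  have hO : Nat.card (Biset.Orb (S := S) X) = n :=
    Nat.eq_of_mul_eq_mul_right Nat.card_pos ((Biset.card_eq_orb_mul hX r).symm.trans hcard)
  set π := QuotientGroup.mk' (L.subgroupOf S) with hπ
  set Z := (K.subgroupOf S).map π with hZ
  have hcen : ∀ z ∈ Z, ∀ q, q * z = z * q := by
    rintro _ ⟨k, hk, rfl⟩ q
    obtain ⟨s, rfl⟩ := QuotientGroup.mk'_surjective _ q
    have h1 : π (s * k * s⁻¹ * k⁻¹) = 1 := (QuotientGroup.eq_one_iff _).2 (hKL.comm s s.2 k hk)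
    rw [map_mul, map_mul, map_mul, map_inv, map_inv, mul_inv_eq_one, mul_inv_eq_iff_eq_mul] at h1
    exact h1
  letI : CommGroup Z := { (inferInstance : Group Z) with
    mul_comm := fun a b => Subtype.ext (hcen b b.2 a) }
  have hmem : ∀ s : S, (s : Ω) ∈ K → π s ∈ Z := fun s hs => ⟨s, hs, rfl⟩
  -- a chain value at a base point of every orbit
  have hbase : ∀ w : X, ∃ (f : Ω → Ω) (g : Ω),
      Chain F p (Biset.src (MulAction.stabilizer (S × S) w)) f g ∧
        ∀ d ∈ MulAction.stabilizer (S × S) w, ((d.2 : S) : Ω) = f (d.1 : S) := fun w => by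
    obtain ⟨f, hf, he⟩ := hX w
    obtain ⟨g, hg⟩ := exists_chain hS hF hf
    exact ⟨f, g, hg, he⟩
  choose f₀ g₀ hg₀ hf₀ using hbase
  let b₀ : X → X := fun w => (Quotient.mk (MulAction.orbitRel (S × S) X) w).out
  have hb₀ : ∀ (d : S × S) (w : X), b₀ (d • w) = b₀ w := fun d w => by
    show Quotient.out _ = Quotient.out _
    exact congrArg Quotient.out (Quotient.sound ⟨d, rfl⟩)
  have hmove : ∀ w, ∃ d : S × S, d • b₀ w = w := fun w => by
    have h1 : MulAction.orbitRel (S × S) X w (b₀ w) :=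
      Quotient.exact (Quotient.out_eq (Quotient.mk (MulAction.orbitRel (S × S) X) w)).symm
    obtain ⟨d, hd⟩ := h1
    exact ⟨d, hd⟩
  choose mv hmv using hmove
  let γ : X → S := fun w => (mv w).2 * ⟨g₀ (b₀ w), (hg₀ _).mem_S⟩ * (mv w).1⁻¹
  -- `γ` is equivariant modulo `K`
  have hγ : ∀ (d : S × S) (w : X), π ((γ (d • w))⁻¹ * d.2 * γ w * d.1⁻¹) ∈ Z := by
    intro d w
    have hb := hb₀ d w
    set e := (mv (d • w))⁻¹ * d * mv w with he
    have hes : e • b₀ w = b₀ w := by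
      rw [he, mul_smul, mul_smul, hmv, inv_smul_eq_iff]
      conv_lhs => rw [← hmv (d • w)]
      rw [hb]
    have he2 := hf₀ (b₀ w) e hes
    have h1 := (hg₀ (b₀ w)).mod hKL.absorbs _ (Biset.fst_mem_src (show e ∈ _ from hes))
    rw [← he2] at h1
    set g : S := ⟨g₀ (b₀ w), (hg₀ _).mem_S⟩ with hg
    have hk : ((e.2 * (g * e.1 * g⁻¹)⁻¹ : S) : Ω) ∈ K := h1
    have hk' : π (g⁻¹ * e.2 * g * e.1⁻¹) ∈ Z := by
      have h2 := hmem _ hk
      have h3 : π (g⁻¹ * e.2 * g * e.1⁻¹) = (π g)⁻¹ * π (e.2 * (g * e.1 * g⁻¹)⁻¹) * π g := by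
        rw [← map_inv, ← map_mul, ← map_mul]
        congr 1
        group
      rw [h3, hcen _ h2, mul_assoc, inv_mul_cancel, mul_one]
      exact h2
    have h4 : π ((γ (d • w))⁻¹ * d.2 * γ w * d.1⁻¹) =
        π (mv (d • w)).1 * π (g⁻¹ * e.2 * g * e.1⁻¹) * (π (mv (d • w)).1)⁻¹ := by
      rw [← map_inv, ← map_mul, ← map_mul]
      congr 1
      simp only [γ, he, hb, ← hg, Prod.fst_mul, Prod.snd_mul, Prod.fst_inv, Prod.snd_inv]
      group
    rw [h4, hcen _ hk', mul_inv_cancel_right]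
    exact hk'
  -- every value of `γ` is a chain value
  have hγc : ∀ (w : X), ∃ f, Chain F p (Biset.src (MulAction.stabilizer (S × S) w)) f (γ w) ∧
      ∀ d ∈ MulAction.stabilizer (S × S) w, ((d.2 : S) : Ω) = f (d.1 : S) := by
    intro w
    set w₀ := b₀ w
    set a := (mv w).1
    set b := (mv w).2
    set D := MulAction.stabilizer (S × S) w
    have hD : ∀ d ∈ D, (mv w)⁻¹ * d * mv w ∈ MulAction.stabilizer (S × S) w₀ := fun d hd => by
      rw [MulAction.mem_stabilizer_iff, mul_smul, mul_smul, hmv w,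
        MulAction.mem_stabilizer_iff.1 hd, inv_smul_eq_iff, hmv w]
    have hsrc : ∀ x ∈ Biset.src D, (a : Ω)⁻¹ * x * (a : Ω) ∈
        Biset.src (MulAction.stabilizer (S × S) w₀) := fun x hx => by
      obtain ⟨d, hd, rfl⟩ := Biset.mem_src.1 hx
      simpa using Biset.fst_mem_src (hD d hd)
    have c1 : Chain F p (Biset.src D) (fun x => (a : Ω)⁻¹ * x * (a : Ω)⁻¹⁻¹) (a : Ω)⁻¹ :=
      Chain.conj (Biset.src_le D) (S.inv_mem a.2)
    have c2 := c1.comp (hg₀ w₀) fun x hx => by rw [inv_inv]; exact hsrc x hx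
    have c3 : Chain F p S (fun x => (b : Ω) * x * (b : Ω)⁻¹) b := Chain.conj le_rfl b.2
    have c4 := c2.comp c3 fun x hx => c2.isMap.mem_S hx
    refine ⟨_, by convert c4 using 1; simp [γ, mul_assoc, w₀, a, b], fun d hd => ?_⟩
    have h1 := hf₀ w₀ _ (hD d hd)
    simp only [Prod.fst_mul, Prod.snd_mul, Prod.fst_inv, Prod.snd_inv, Subgroup.coe_mul,
      Subgroup.coe_inv] at h1
    show ((d.2 : S) : Ω) = (b : Ω) * f₀ w₀ ((a : Ω)⁻¹ * (d.1 : S) * (a : Ω)⁻¹⁻¹) * (b : Ω)⁻¹
    rw [inv_inv, ← h1]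
    simp [a, b, mul_assoc]
  -- the cocycle
  let δ : S → Biset.Orb (S := S) X → Z := fun x o =>
    ⟨π ((γ (r.r (Biset.lact x o)))⁻¹ * Biset.val r x o * γ (r.r o) * x⁻¹), by
      have := hγ (x, Biset.val r x o) (r.r o)
      rwa [Biset.val_spec] at this⟩
  have hδ : ∀ x y o, δ (x * y) o = δ x (Biset.lact y o) * δ y o := by
    intro x y o
    refine Subtype.ext ?_
    show π _ = π _ * π _
    rw [Biset.lact_mul, Biset.val_mul hX]
    set γ₂ := γ (r.r (Biset.lact x (Biset.lact y o)))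
    set γ₁ := γ (r.r (Biset.lact y o))
    set γ₀ := γ (r.r o)
    set v' := Biset.val r x (Biset.lact y o)
    set v := Biset.val r y o
    have hy : π (γ₁⁻¹ * v * γ₀ * y⁻¹) ∈ Z := (δ y o).2
    have h1 : π (γ₂⁻¹ * v' * γ₁ * x⁻¹) * π (γ₁⁻¹ * v * γ₀ * y⁻¹) =
        π (γ₂⁻¹ * v' * γ₁) * π (γ₁⁻¹ * v * γ₀ * y⁻¹) * π x⁻¹ := by
      rw [map_mul π (γ₂⁻¹ * v' * γ₁), mul_assoc, mul_assoc, hcen _ hy (π x⁻¹)]
      simp only [mul_assoc]
    rw [h1, ← map_mul, ← map_mul]
    congr 1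
    group
  let h₀ : S →* Z := MonoidHom.mk' (fun x => ∏ o, δ x o) fun x y => by
    rw [← Equiv.prod_comp (Biset.lequiv y) (fun o => δ x o), ← Finset.prod_mul_distrib]
    exact Finset.prod_congr rfl fun o _ => hδ x y o
  refine ⟨n, Z.subtype.comp h₀, hn, fun x y => hcen _ (h₀ y).2 _, fun P f hf x y hx hy => ?_⟩
  obtain ⟨e, he⟩ := Biset.exists_twist_equiv hX hst hf.isMap
  have he1 : ∀ (s : S) (w : X), e (((1 : S), s) • w) = ((1 : S), s) • e w := fun s w =>
    he 1 1 (one_mem P) hf.isMap.map_one.symm s w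
  let ē : Biset.Orb (S := S) X ≃ Biset.Orb (S := S) X :=
    Quotient.congr e fun w w' =>
      ⟨fun ⟨s, hs⟩ => ⟨s, by rw [← hs, he1]⟩,
        fun ⟨s, hs⟩ => ⟨s, e.injective (by rw [he1, hs])⟩⟩
  have hē : ∀ w, ē (Biset.cls (S := S) w) = Biset.cls (e w) := fun w => rfl
  have hl : ∀ o, Biset.lact y (ē o) = ē (Biset.lact x o) := fun o => by
    obtain ⟨w, rfl⟩ := Quotient.exists_rep o
    show Biset.lact y (Biset.cls (e w)) = ē (Biset.cls _)
    rw [hē, Biset.lact_cls, he x y hx hy]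
  have hk : π (y * x⁻¹) ∈ Z := by
    refine hmem _ ?_
    have := hf.mod hKL.absorbs x hx
    simpa [hy] using this
  set d : Z := ⟨π (y * x⁻¹), hk⟩
  -- the correction at each orbit
  have hc : ∀ o, ∃ c : S, ((1 : S), c) • e (r.r o) = r.r (ē o) := fun o =>
    Biset.cls_eq_iff.1 (by rw [r.cls_r, ← hē, r.cls_r])
  choose c hc using hc
  let κ : Biset.Orb (S := S) X → Z := fun o =>
    ⟨π ((γ (r.r (ē o)))⁻¹ * c o * γ (e (r.r o))), by
      have := hγ ((1 : S), c o) (e (r.r o))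
      rw [hc] at this
      simpa using this⟩
  have hμ : ∀ o, ∃ μ : S, μ = (γ (r.r o))⁻¹ * γ (e (r.r o)) := fun o => ⟨_, rfl⟩
  choose μ hμ using hμ
  have hμK : ∀ o, π ((μ (Biset.lact x o))⁻¹ * x * μ o * x⁻¹) ∈ Z := by
    intro o
    set o' := Biset.lact x o
    set v := Biset.val r x o
    have h1 := hγ (x, v) (r.r o)
    rw [Biset.val_spec] at h1
    have h2 := hγ (y, v) (e (r.r o))
    rw [← he x y hx hy, Biset.val_spec] at h2
    have h3 : π ((μ o')⁻¹ * x * μ o * x⁻¹) =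
        π ((γ (e (r.r o')))⁻¹ * v * γ (e (r.r o)) * y⁻¹) * π (y * x⁻¹) *
          (π ((γ (r.r o'))⁻¹ * v * γ (r.r o) * x⁻¹))⁻¹ := by
      rw [hμ, hμ]
      have h5 : π ((γ (r.r o'))⁻¹ * v * γ (r.r o) * x⁻¹) *
          π (((γ (r.r o'))⁻¹ * γ (e (r.r o')))⁻¹ * x * ((γ (r.r o))⁻¹ * γ (e (r.r o))) * x⁻¹) =
            π ((γ (e (r.r o')))⁻¹ * v * γ (e (r.r o)) * y⁻¹) * π (y * x⁻¹) := by
        have h6 : π (((γ (r.r o'))⁻¹ * γ (e (r.r o')))⁻¹ * x *
              ((γ (r.r o))⁻¹ * γ (e (r.r o))) * x⁻¹) =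
            π ((γ (e (r.r o')))⁻¹ * γ (r.r o')) *
              π (x * ((γ (r.r o))⁻¹ * γ (e (r.r o))) * x⁻¹) := by
          rw [← map_mul]; congr 1; group
        rw [h6, ← mul_assoc, ← hcen _ h1, ← map_mul, ← map_mul, ← map_mul]
        congr 1
        simp only [o', v]
        group
      rw [← h5, hcen _ (Subgroup.inv_mem Z h1), inv_mul_cancel_left]
    rw [h3]
    exact mul_mem (mul_mem h2 hk) (inv_mem h1)
  let ε : Biset.Orb (S := S) X → Z := fun o => ⟨_, hμK o⟩
  have hdiff : ∀ o, δ y (ē o) * κ o * d = κ (Biset.lact x o) * δ x o * ε o := by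
    intro o
    refine Subtype.ext ?_
    set o' := Biset.lact x o
    set v := Biset.val r x o
    have hv : Biset.val r y (ē o) = c o' * v * (c o)⁻¹ := by
      refine Biset.val_eq hX ?_
      rw [hl, ← hc o, ← hc o', ← mul_smul]
      have := congrArg e (Biset.val_spec r x o)
      rw [he x y hx hy] at this
      rw [← this, ← mul_smul]
      congr 1
      simp [v]
    show π _ * π _ * π _ = π _ * π _ * π _
    have e1 : π ((γ (r.r (Biset.lact y (ē o))))⁻¹ * Biset.val r y (ē o) * γ (r.r (ē o)) * y⁻¹) *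
        π ((γ (r.r (ē o)))⁻¹ * c o * γ (e (r.r o))) =
        π ((γ (r.r (Biset.lact y (ē o))))⁻¹ * Biset.val r y (ē o) * γ (r.r (ē o))) *
        π ((γ (r.r (ē o)))⁻¹ * c o * γ (e (r.r o))) * π y⁻¹ := by
      rw [map_mul π ((γ (r.r (Biset.lact y (ē o))))⁻¹ * Biset.val r y (ē o) * γ (r.r (ē o))),
        mul_assoc, mul_assoc,
        hcen _ (show π ((γ (r.r (ē o)))⁻¹ * c o * γ (e (r.r o))) ∈ Z from (κ o).2) (π y⁻¹)]
      simp only [mul_assoc]
    have e2 : π ((γ (r.r o'))⁻¹ * v * γ (r.r o) * x⁻¹) * π ((μ o')⁻¹ * x * μ o * x⁻¹) =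
        π ((γ (e (r.r o')))⁻¹ * v * γ (e (r.r o)) * x⁻¹) := by
      have e3 : π ((μ o')⁻¹ * x * μ o * x⁻¹) = π ((μ o')⁻¹) * π (x * μ o * x⁻¹) := by
        rw [← map_mul]; congr 1; group
      rw [e3, ← mul_assoc,
        ← hcen _ (show π ((γ (r.r o'))⁻¹ * v * γ (r.r o) * x⁻¹) ∈ Z from (δ x o).2),
        ← map_mul, ← map_mul, hμ, hμ]
      congr 1
      simp only [o', v]
      group
    rw [e1, mul_assoc (π ((γ (r.r (ē o')))⁻¹ * c o' * γ (e (r.r o')))), e2, ← map_mul, ← map_mul,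
      ← map_mul, ← map_mul, hl, hv]
    congr 1
    simp only [o', v]
    group
  have hε : ∏ o, ε o = 1 := by
    rw [Biset.prod_eq_of_cycles (Biset.lequiv x) ε (fun _ => 1) fun o => ?_, Finset.prod_const_one]
    rw [Finset.prod_const_one]
    have key : ∀ k : ℕ,
        ((∏ i ∈ Finset.range k, ε ((Biset.lact x)^[i] o) : Z) : S ⧸ L.subgroupOf S) =
          π ((μ (Biset.lact (x ^ k) o))⁻¹ * x ^ k * μ o * (x ^ k)⁻¹) := by
      intro k
      induction k with
      | zero => simp [Biset.lact_one]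
      | succ k ih =>
          rw [Finset.prod_range_succ, Subgroup.coe_mul, ih, Biset.lact_pow, pow_succ',
            Biset.lact_mul]
          set o₁ := Biset.lact (x ^ k) o
          have hz : π ((μ o₁)⁻¹ * x ^ k * μ o * (x ^ k)⁻¹) ∈ Z := by
            rw [← ih]; exact SetLike.coe_mem _
          show π ((μ o₁)⁻¹ * x ^ k * μ o * (x ^ k)⁻¹) * π ((μ (Biset.lact x o₁))⁻¹ * x * μ o₁ * x⁻¹) = _
          have e4 : π ((μ (Biset.lact x o₁))⁻¹ * x * μ o₁ * x⁻¹) =
              π ((μ (Biset.lact x o₁))⁻¹ * x * μ o₁) * π x⁻¹ := by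
            rw [← map_mul]
          rw [e4, ← mul_assoc, ← hcen _ hz, ← map_mul, ← map_mul]
          congr 1
          group
    show ∏ i ∈ Finset.range (Function.minimalPeriod (Biset.lact x) o), ε ((Biset.lact x)^[i] o) = 1
    set k := Function.minimalPeriod (Biset.lact x) o
    refine Subtype.ext ?_
    rw [key]
    have hfix : Biset.lact (x ^ k) o = o := by
      rw [← Biset.lact_pow]; exact Function.iterate_minimalPeriod
    rw [hfix]
    -- the loop
    set w := r.r o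
    set z := x ^ k
    have hzD : (z, Biset.val r z o) ∈ MulAction.stabilizer (S × S) w := by
      rw [MulAction.mem_stabilizer_iff, Biset.val_spec, hfix]
    have hzP : (z : Ω) ∈ P := by
      rw [SubmonoidClass.coe_pow]; exact pow_mem hx k
    obtain ⟨fw, hfw, hfwd⟩ := hγc w
    obtain ⟨fe, hfe, hfed⟩ := hγc (e w)
    set A := Biset.src (MulAction.stabilizer (S × S) w) ⊓ P
    have hmap : ∀ u ∈ A, f u ∈ Biset.src (MulAction.stabilizer (S × S) (e w)) ∧
        fe (f u) = fw u := by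
      rintro u ⟨huD, huP⟩
      obtain ⟨d, hd, rfl⟩ := Biset.mem_src.1 huD
      have hd' : ((⟨f (d.1 : S), hf.isMap.mem_S huP⟩ : S), d.2) ∈
          MulAction.stabilizer (S × S) (e w) := by
        rw [MulAction.mem_stabilizer_iff, ← he d.1 _ huP rfl,
          MulAction.mem_stabilizer_iff.1 hd]
      refine ⟨Biset.fst_mem_src hd', ?_⟩
      rw [← hfwd d hd]
      exact (hfed _ hd').symm
    have c1 := ((hf.mono (inf_le_right : A ≤ P)).comp hfe fun u hu => (hmap u hu).1)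
    obtain ⟨fwi, hfwi, hfwi'⟩ := (hfw.mono (inf_le_left : A ≤ _)).inv
    have hA : ∀ u ∈ img A fw, fwi u ∈ A := fun u hu => by
      obtain ⟨v, hv, rfl⟩ := (hfw.isMap.mono (inf_le_left : A ≤ _)).mem_img.1 hu
      rw [hfwi' v hv]; exact hv
    have c2 := c1.comp hfwi fun u hu => by
      show fe (f u) ∈ img A fw
      rw [(hmap u hu).2]
      exact (hfw.isMap.mono (inf_le_left : A ≤ _)).mem_img.2 ⟨u, hu, rfl⟩
    have hloop := loop_mem_centMod hKL hS hF _ A rfl _ _ c2 fun u hu => by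
      show fwi (fe (f u)) = u
      rw [(hmap u hu).2, hfwi' u hu]
    have hl2 := hloop.2 (z : Ω) ⟨Biset.fst_mem_src hzD, hzP⟩
    rw [mul_one] at hl2
    show π ((μ o)⁻¹ * z * μ o * z⁻¹) = 1
    refine (QuotientGroup.eq_one_iff _).2 ?_
    rw [Subgroup.mem_subgroupOf]
    have hμm : ((γ w : S) : Ω)⁻¹ * (γ (e w) : S) ∈ centMod hKL A := by
      have := hloop
      rwa [mul_one] at this
    have hl3 := (inv_mem hμm : _ ∈ centMod hKL A).2 (z : Ω) ⟨Biset.fst_mem_src hzD, hzP⟩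
    rw [hμ]
    simpa using hl3
  have hprod : h₀ y * (∏ o, κ o) * d ^ n = (∏ o, κ o) * h₀ x := by
    show (∏ o, δ y o) * _ * _ = _ * ∏ o, δ x o
    rw [← Equiv.prod_comp ē (fun o => δ y o), ← Equiv.prod_comp (Biset.lequiv x) κ,
      ← hO, Nat.card_eq_fintype_card, ← Finset.card_univ, ← Finset.prod_const]
    rw [show (∏ o, κ (Biset.lequiv x o)) = ∏ o, κ o from Equiv.prod_comp (Biset.lequiv x) κ]
    conv_rhs => rw [← Equiv.prod_comp (Biset.lequiv x) κ]
    rw [← Finset.prod_mul_distrib, ← Finset.prod_mul_distrib, ← Finset.prod_mul_distrib,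
      Finset.prod_congr rfl fun o _ => hdiff o, Finset.prod_mul_distrib, hε, mul_one]
    rfl
  have hfin : h₀ y * d ^ n = h₀ x := by
    have h7 : (∏ o, κ o) * (h₀ y * d ^ n) = (∏ o, κ o) * h₀ x := by
      rw [← hprod, ← mul_assoc, mul_comm (∏ o, κ o)]
    exact mul_left_cancel h7
  exact congrArg Subtype.val hfin

omit [Finite S] [Fact p.Prime] in
theorem hyperfocal_mono {H : FusionSystem S} (hHF : H.IsSubsystemOf F) :
    H.hyperfocalSubgroup p ≤ F.hyperfocalSubgroup p := by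
  refine (Subgroup.closure_le _).2 ?_
  rintro z ⟨P, α, x, hP, hα, rfl⟩
  let inc : H.autGroup P →* F.autGroup P := (H.autGroup P).subtype.codRestrict _ fun b =>
    (mem_autGroup_iff hP).2 (by
      obtain ⟨φ, hφ, hφe⟩ := (mem_autGroup_iff hP).1 b.2
      exact ⟨φ, hHF P hφ, hφe⟩)
  have hle : Cfsg.pResidual p (H.autGroup P) ≤ (Cfsg.pResidual p (F.autGroup P)).comap inc :=
    (Subgroup.closure_le _).2 fun b hb =>
      mem_pResidual (Nat.Coprime.coprime_dvd_left (orderOf_map_dvd inc b) hb)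
  have := mem_hyperfocal hP (hle hα) x.2
  rwa [show autFun ((inc α : F.autGroup P) : MulAut P) (x : Ω) =
    (((α : MulAut P) x : P) : Ω) from autFun_coe _ x] at this

/-- Tate's theorem for hyperfocal subgroups. -/
theorem hyperfocal_le_of_le_sup_derived (hS : IsPGroup p S) (hF : F.IsSaturated p)
    {H : FusionSystem S} (hHF : H.IsSubsystemOf F)
    (h : F.hyperfocalSubgroup p ≤
      H.hyperfocalSubgroup p ⊔ ⁅(S : Subgroup Ω), (S : Subgroup Ω)⁆) :
    F.hyperfocalSubgroup p ≤ H.hyperfocalSubgroup p := by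
  set K := F.hyperfocalSubgroup p with hK
  set A := H.hyperfocalSubgroup p with hA
  have hKS : K ≤ S := hyperfocal_le_S
  have hKn := (absorbs_hyperfocal (F := F) (p := p)).normal
  have hAn := (absorbs_hyperfocal (F := H) (p := p)).normal
  have hAK : A ≤ K := hyperfocal_mono hHF
  refine le_of_le_sup_commutator hS hKS hAn hyperfocal_le_S ?_
  set L := A ⊔ ⁅K, S⁆ with hL
  have hcK : ⁅K, S⁆ ≤ K := by
    rw [Subgroup.commutator_le]
    intro k hk s hs
    have := mul_mem hk (conj_mem_of_normalizes (hKn hs) (inv_mem hk))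
    simpa [commutatorElement_def, mul_assoc] using this
  have hLK : L ≤ K := sup_le hAK hcK
  have hLn : S ≤ Subgroup.normalizer (L : Set Ω) := by
    refine (le_inf hAn ?_).trans (Subgroup.normalizer_inf_normalizer_le_normalizer_sup _ _)
    have key : ∀ s ∈ S, ∀ z ∈ ⁅K, S⁆, s * z * s⁻¹ ∈ ⁅K, S⁆ := by
      intro s hs z hz
      have h2 := Subgroup.mem_map_of_mem (MulAut.conj s).toMonoidHom hz
      rw [Subgroup.map_commutator] at h2
      refine Subgroup.commutator_mono ?_ ?_ h2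
      · rintro _ ⟨k, hk, rfl⟩
        exact conj_mem_of_normalizes (hKn hs) hk
      · rintro _ ⟨k, hk, rfl⟩
        exact S.mul_mem (S.mul_mem hs hk) (S.inv_mem hs)
    intro s hs
    rw [Subgroup.mem_normalizer_iff]
    exact fun z => ⟨key s hs z, fun hz => by simpa [mul_assoc] using key s⁻¹ (inv_mem hs) _ hz⟩
  have hstep : CStep F p K L := ⟨absorbs_hyperfocal, hLK, hLn, fun s hs k hk => by
    refine Subgroup.mem_sup_right ?_
    have := inv_mem (Subgroup.commutator_mem_commutator (H₁ := K) (H₂ := S) hk hs)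
    simpa [commutatorElement_def, mul_assoc] using this⟩
  haveI : (L.subgroupOf S).Normal :=
    (Subgroup.normal_subgroupOf_iff_le_normalizer (hLK.trans hKS)).2 hLn
  obtain ⟨n, φ, hn, hcomm, hφ⟩ := exists_twisted_transfer hS hF hstep
  set π := QuotientGroup.mk' (L.subgroupOf S)
  let Bad : Subgroup S :=
    { carrier := {s | (s : Ω) ∈ K ∧ φ s * π s ^ n = 1}
      one_mem' := ⟨one_mem K, by simp⟩
      mul_mem' := fun {a b} ha hb => ⟨K.mul_mem ha.1 hb.1, by
        have hc : Commute (π a) (π b) := by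
          show π a * π b = π b * π a
          rw [← map_mul, ← map_mul]
          refine QuotientGroup.eq.2 ?_
          rw [Subgroup.mem_subgroupOf]
          have := hstep.comm ((b : Ω)⁻¹) (S.inv_mem b.2) ((a : Ω)⁻¹) (K.inv_mem ha.1)
          simpa [mul_assoc] using this
        rw [map_mul, map_mul, hc.mul_pow]
        have h1 : φ a = (π a ^ n)⁻¹ := eq_inv_of_mul_eq_one_left ha.2
        have h2 : φ b = (π b ^ n)⁻¹ := eq_inv_of_mul_eq_one_left hb.2
        rw [h1, h2, (hc.pow_pow n n).eq]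
        group⟩
      inv_mem' := fun {a} ha => ⟨K.inv_mem ha.1, by
        rw [map_inv, map_inv, inv_pow, ← mul_inv_rev, inv_eq_one]
        exact mul_eq_one_comm.1 ha.2⟩ }
  have hgen : ∀ s : S, (s : Ω) ∈ K → φ s * π s ^ n = 1 := by
    intro s hs
    have hle : K ≤ Bad.map S.subtype := by
      refine (Subgroup.closure_le _).2 ?_
      rintro z ⟨P, α, x, hP, hα, rfl⟩
      set y : S := ⟨((α : MulAut P) x : P), hP (SetLike.coe_mem _)⟩ with hy
      set x' : S := ⟨x, hP x.2⟩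
      have hz : ((x'⁻¹ * y : S) : Ω) ∈ K := by
        have := mem_hyperfocal hP hα x.2
        rwa [autFun_coe] at this
      refine ⟨x'⁻¹ * y, ⟨hz, ?_⟩, rfl⟩
      have h1 := hφ P _ (Chain.residual hP hα) x' y x.2 (autFun_coe _ x).symm
      have hk : π (y * x'⁻¹) = π (x'⁻¹ * y) := by
        refine QuotientGroup.eq.2 ?_
        rw [Subgroup.mem_subgroupOf]
        have := hstep.comm (x' : Ω) x'.2 _ (inv_mem hz)
        simpa [mul_assoc] using this
      rw [hk] at h1
      rw [map_mul, map_inv, mul_assoc, ← h1]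
      have hcy : φ y * π (x'⁻¹ * y) ^ n = φ x' := h1
      rw [hcy, inv_mul_cancel]
    obtain ⟨t, ht, hts⟩ := hle hs
    rw [← Subtype.ext hts]
    exact ht.2
  intro k hk
  set s : S := ⟨k, hKS hk⟩
  have hφs : φ s = 1 := by
    have h1 : (s : Ω) ∈ A ⊔ ⁅(S : Subgroup Ω), (S : Subgroup Ω)⁆ := h hk
    have hle : A ⊔ ⁅(S : Subgroup Ω), (S : Subgroup Ω)⁆ ≤ φ.ker.map S.subtype := by
      refine sup_le (fun a ha => ?_) ?_
      · refine ⟨⟨a, hKS (hAK ha)⟩, ?_, rfl⟩
        show φ _ = 1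
        have h2 := hgen ⟨a, hKS (hAK ha)⟩ (hAK ha)
        rwa [show π ⟨a, hKS (hAK ha)⟩ = 1 from (QuotientGroup.eq_one_iff _).2
          (show (⟨a, hKS (hAK ha)⟩ : S) ∈ L.subgroupOf S from Subgroup.mem_sup_left ha),
          one_pow, mul_one] at h2
      · rw [Subgroup.commutator_le]
        intro a ha b hb
        refine ⟨⁅(⟨a, ha⟩ : S), (⟨b, hb⟩ : S)⁆, ?_, rfl⟩
        show φ _ = 1
        rw [map_commutatorElement, commutatorElement_eq_one_iff_mul_comm]
        exact hcomm _ _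
    obtain ⟨t, ht, hts⟩ := hle h1
    rw [← Subtype.ext hts]
    exact ht
  have h2 := hgen s hk
  rw [hφs, one_mul] at h2
  have h3 := pow_ne_one_of_not_dvd (hS.to_quotient _) hn h2
  exact (QuotientGroup.eq_one_iff s).1 h3

/-- A system with strongly closed Frattini subgroup and `p`-automizer of `S` is inner. -/
theorem isInner_of_frattini_stronglyClosed (hS : IsPGroup p S) (hF : F.IsSaturated p)
    (hT : IsPGroup p (F.autGroup S)) (hsc : F.StronglyClosed ((frattini S).map S.subtype)) :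
    IsInner F := by
  set Φ := (frattini S).map S.subtype
  have hd : ⁅(S : Subgroup Ω), (S : Subgroup Ω)⁆ ≤ Φ := by
    have h := Subgroup.map_mono (f := S.subtype) (CfsgLib.Coprime.commutator_le_frattini hS)
    rwa [commutator_def, Subgroup.map_commutator, ← MonoidHom.range_eq_map,
      Subgroup.range_subtype] at h
  have hfoc : F.focalSubgroup ≤ Φ := by
    refine (Subgroup.closure_le _).2 ?_
    rintro y ⟨P, φ, x, hφ, rfl⟩
    have hm := map_mem_of_abelian_quotient hS hF hsc hd hT (isMap_toFun hφ) x x.2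
    rw [toFun_coe] at hm
    have h := mul_mem (hd (Subgroup.commutator_mem_commutator
      (inv_mem ((F.le_of_mem hφ).1 x.2)) ((F.le_of_mem hφ).2 x))) hm
    simpa [commutatorElement_def, mul_assoc] using h
  set I := Cfsg.innerFusionSystem S with hI
  have hIF : I.IsSubsystemOf F := by
    intro P φ hφ
    obtain ⟨hP, s, hs, he⟩ := isMap_inner_iff.1 (isMap_toFun hφ)
    refine mem_hom_iff.2 ((isMap_conj hP hs).congr fun x hx => he x hx)
  have hIfoc : I.focalSubgroup ≤ ⁅(S : Subgroup Ω), (S : Subgroup Ω)⁆ := by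
    refine (Subgroup.closure_le _).2 ?_
    rintro y ⟨P, φ, x, hφ, rfl⟩
    obtain ⟨hP, s, hs, he⟩ := isMap_inner_iff.1 (isMap_toFun hφ)
    have he' : φ x = s * (x : Ω) * s⁻¹ := (toFun_coe φ x).symm.trans (he x x.2)
    rw [he']
    have h := Subgroup.commutator_mem_commutator (H₁ := S) (H₂ := S) (inv_mem (hP x.2)) hs
    simpa [commutatorElement_def, mul_assoc] using h
  have hIhyp : I.hyperfocalSubgroup p ≤ ⊥ := by
    refine hyperfocal_le ⟨bot_le, fun s _ => ?_, fun P hP α hα x hx => ?_⟩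
    · rw [Subgroup.normalizer_eq_top]
      exact Subgroup.mem_top s
    · obtain ⟨-, s, hs, he⟩ := isMap_inner_iff.1 ((mem_autGroup_iff hP).1 α.2)
      have ha : (α : MulAut P) ∈ autInducedBy S P := mem_autInducedBy_iff.2 ⟨s, hs, he⟩
      obtain ⟨k, hk⟩ := isPGroup_autInducedBy (p := p) hS ⟨_, ha⟩
      have hk' : (α : MulAut P) ^ p ^ k = 1 := congrArg Subtype.val hk
      have h1 : α = 1 := by
        refine orderOf_eq_one_iff.1 (Nat.eq_one_of_dvd_coprimes (Nat.Coprime.pow_right k hα)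
          dvd_rfl (orderOf_dvd_of_pow_eq_one (Subtype.ext ?_)))
        rw [SubmonoidClass.coe_pow]
        exact hk'
      rw [h1, OneMemClass.coe_one, autFun_one hx, inv_mul_cancel]
      exact one_mem _
  have heq := focal_eq_of_frattini_sup_eq hS hF hIF (by
    rw [sup_eq_left.2 hfoc, sup_eq_left.2 (hIfoc.trans hd)])
  have hK : F.hyperfocalSubgroup p ≤ ⊥ := by
    refine le_trans (hyperfocal_le_of_le_sup_derived hS hF hIF ?_) hIhyp
    exact (hyperfocal_le_focal.trans (heq.le.trans hIfoc)).trans le_sup_right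
  intro P f hf
  have h0 : Absorbs F p (⊥ : Subgroup Ω) := by
    have := absorbs_hyperfocal (F := F) (p := p)
    rwa [le_bot_iff.1 hK] at this
  obtain ⟨g, hg, he⟩ := h0.conjMod hS hF hf
  exact ⟨g, hg, fun x hx => mul_inv_eq_one.1 (Subgroup.mem_bot.1 (he x hx))⟩

end CfsgLib.Fusion
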