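import Cfsg.Agent.Lib.Fusion.System.ControlNormal
import Cfsg.Agent.Lib.Invol.PConstrained
import Cfsg.Prelude.Def_LocalEven

/-!
# Stability of the automizers of a fusion system
-/

set_option autoImplicit false
set_option linter.style.haveILetI false
set_option linter.unusedSectionVars false

open Subgroup
open scoped Classical commutatorElement

namespace CfsgLib.Fusion

open Cfsg (FusionSystem groupFusionSystem autInducedBy)
open Cfsg.FusionSystem (normalizerIn centralizerIn)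

universe u

section Basic

variable {Ω : Type*} [Group Ω] {S : Subgroup Ω}

/-- Every quadratic member of an automizer lies in its largest normal `p`-subgroup. -/
def AutStable (p : ℕ) (F : FusionSystem S) : Prop :=
  ∀ P : Subgroup Ω, P ≤ S → ∀ α : F.autGroup P,
    (∀ x : P, (α : MulAut P) (x⁻¹ * (α : MulAut P) x) = x⁻¹ * (α : MulAut P) x) →
      α ∈ Cfsg.pCore p (F.autGroup P)

/-- Stability passes to smaller systems. -/
theorem AutStable.mono {p : ℕ} {F : FusionSystem S} {T : Subgroup Ω} {E : FusionSystem T}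
    (hF : AutStable p F) (hT : T ≤ S) (hEF : ∀ P f, IsMap E P f → IsMap F P f) [Finite S] :
    AutStable p E := by
  intro P hP α hq
  have hle : E.autGroup P ≤ F.autGroup P := fun β hβ =>
    (mem_autGroup_iff (hP.trans hT)).2 (hEF _ _ ((mem_autGroup_iff hP).1 hβ))
  have h := hF P (hP.trans hT) ⟨α, hle α.2⟩ hq
  haveI := finite_of_le (hP.trans hT)
  haveI := finite_mulAut (P := P)
  haveI := CfsgLib.Coprime.pCore_normal' (G := F.autGroup P) p
  let j : E.autGroup P →* F.autGroup P := Subgroup.inclusion hle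
  haveI : ((Cfsg.pCore p (F.autGroup P)).comap j).Normal := Subgroup.Normal.comap inferInstance j
  exact CfsgLib.Coprime.le_pCore ((CfsgLib.Coprime.pCore_isPGroup p).comap_of_injective j
    (Subgroup.inclusion_injective hle)) (show α ∈ (Cfsg.pCore p (F.autGroup P)).comap j from h)

/-- An image of an element lying in the `p`-core modulo a subgroup of the kernel. -/
theorem mem_pCore_of_quotient {p : ℕ} [Fact p.Prime] {K Y : Type*} [Group K] [Finite K] [Group Y]
    [Finite Y] (Φ : K →* Y) (hΦ : Function.Surjective Φ) (C : Subgroup K) [C.Normal]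
    (hC : C ≤ Φ.ker) {k : K} (hk : QuotientGroup.mk' C k ∈ Cfsg.pCore p (K ⧸ C)) :
    Φ k ∈ Cfsg.pCore p Y := by
  have hs : Function.Surjective (QuotientGroup.lift C Φ hC) := fun y => by
    obtain ⟨x, hx⟩ := hΦ y
    exact ⟨QuotientGroup.mk' C x, hx⟩
  exact CfsgLib.Coprime.map_pCore_le hs p ⟨_, hk, rfl⟩

end Basic

section Model

variable {Ω : Type*} [Group Ω] {S : Subgroup Ω} [Finite S] {F : FusionSystem S} {p : ℕ}
  [Fact p.Prime]

/-- Models of stable systems act stably on their normal `p`-subgroups. -/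
theorem AutStable.isPStableOn {L : Type*} [Group L] [Finite L] {ι : S →* L} (hF : AutStable p F)
    (hι : Function.Injective ι) (T : Sylow p L) (hT : (T : Subgroup L) = ι.range)
    (hconj : ∀ (P : Subgroup Ω), P ≤ S → ∀ g : L, (∀ x ∈ P, g * ext1 ι x * g⁻¹ ∈ ι.range) →
      ∃ f, IsMap F P f ∧ ∀ x ∈ P, ext1 ι (f x) = g * ext1 ι x * g⁻¹)
    (P' : Subgroup L) [hn : P'.Normal] (hP' : IsPGroup p P') : Cfsg.IsPStableOn p P' := by
  obtain ⟨R, hR, hRP⟩ := exists_imgι_eq hι ((hP'.le_sylow_of_normal T).trans hT.le)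
  haveI := finite_of_le hR
  haveI := finite_mulAut (P := R)
  have hex : ∀ g : L, ∃ α : F.autGroup R,
      ∀ x ∈ R, ext1 ι (autFun (α : MulAut R) x) = g * ext1 ι x * g⁻¹ := by
    intro g
    have hm : ∀ x ∈ R, g * ext1 ι x * g⁻¹ ∈ imgι ι R := fun x hx =>
      hRP.ge (hn.conj_mem _ (hRP.le (ext1_mem_imgι hR hx)) g)
    obtain ⟨f, hf, hfg⟩ := hconj R hR g fun x hx => imgι_le_range R (hm x hx)
    have himg : img R f = R := img_eq_of_map_le hR hf le_rfl fun x hx => by
      refine mem_of_ext1_mem_imgι hι hR (hf.mem_S hx) ?_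
      rw [hfg x hx]
      exact hm x hx
    exact ⟨⟨autOf hf himg, autOf_mem hf himg⟩, fun x hx => by
      rw [autFun_autOf hf himg hx, hfg x hx]⟩
  choose Φ₀ hΦ₀ using hex
  have hu : ∀ (g : L) (α : F.autGroup R),
      (∀ x ∈ R, ext1 ι (autFun (α : MulAut R) x) = g * ext1 ι x * g⁻¹) → α = Φ₀ g := by
    intro g α hα
    refine Subtype.ext (autFun_ext fun x hx => ext1_inj hι (hR (autFun_mem _ hx))
      (hR (autFun_mem _ hx)) ?_)
    rw [hα x hx, hΦ₀ g x hx]
  let Φ : L →* F.autGroup R := MonoidHom.mk' Φ₀ fun g h => (hu (g * h) _ fun x hx => by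
    rw [Subgroup.coe_mul, autFun_mul _ _ hx, hΦ₀ g _ (autFun_mem _ hx), hΦ₀ h x hx]
    group).symm
  set C := Subgroup.centralizer (P' : Set L) with hC
  have hker : ∀ g, Φ g = 1 → g ∈ C := fun g hg => by
    refine Subgroup.mem_centralizer_iff.2 fun y hy => ?_
    obtain ⟨x, hx, rfl⟩ := (mem_imgι hR).1 (hRP.ge hy)
    have h := hΦ₀ g x hx
    rw [show Φ₀ g = 1 from hg, Subgroup.coe_one, autFun_one hx] at h
    calc ext1 ι x * g = (g * ext1 ι x * g⁻¹) * g := by rw [← h]
      _ = g * ext1 ι x := by group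
  intro a ha
  have hq : ∀ y ∈ P', a * (y⁻¹ * a * y * a⁻¹) * a⁻¹ = y⁻¹ * a * y * a⁻¹ := by
    intro y hy
    rw [Subgroup.commutator_eq_bot_iff_le_centralizer] at ha
    have hm : ⁅y⁻¹, a⁆ ∈ ⁅P', Subgroup.zpowers a⁆ :=
      Subgroup.commutator_mem_commutator (inv_mem hy) (Subgroup.mem_zpowers a)
    have h1 := Subgroup.mem_centralizer_iff.1 (ha hm) a (Subgroup.mem_zpowers a)
    rw [commutatorElement_def, inv_inv] at h1
    rw [h1]
    group
  have hmem : Φ a ∈ Cfsg.pCore p (F.autGroup R) := by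
    refine hF R hR (Φ a) fun x => Subtype.ext ?_
    set α : MulAut R := (Φ a : MulAut R) with hαd
    set w : R := x⁻¹ * α x with hw
    refine ext1_inj hι (hR (α w).2) (hR w.2) ?_
    have e1 : ∀ z : R, ext1 ι (α z : Ω) = a * ext1 ι (z : Ω) * a⁻¹ := fun z => by
      rw [← autFun_coe α z]
      exact hΦ₀ a z z.2
    have e2 : ext1 ι (w : Ω) = (ext1 ι (x : Ω))⁻¹ * (a * ext1 ι (x : Ω) * a⁻¹) := by
      rw [hw, Subgroup.coe_mul, Subgroup.coe_inv, ext1_mul ι (inv_mem (hR x.2)) (hR (α x).2),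
        ext1_inv ι (hR x.2), e1]
    rw [e1, e2]
    have h := hq (ext1 ι (x : Ω)) (hRP.le (ext1_mem_imgι hR x.2))
    simpa only [mul_assoc] using h
  haveI := CfsgLib.Coprime.pCore_normal' (G := F.autGroup R) p
  set D := (Cfsg.pCore p (F.autGroup R)).comap Φ
  haveI : D.Normal := Subgroup.Normal.comap inferInstance Φ
  haveI : (D.map (QuotientGroup.mk' C)).Normal :=
    Subgroup.Normal.map inferInstance _ (QuotientGroup.mk'_surjective C)
  refine CfsgLib.Coprime.le_pCore (N := D.map (QuotientGroup.mk' C)) ?_ ⟨a, hmem, rfl⟩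
  rintro ⟨_, d, hd, rfl⟩
  obtain ⟨k, hk⟩ := CfsgLib.Coprime.pCore_isPGroup (G := F.autGroup R) p ⟨Φ d, hd⟩
  refine ⟨k, Subtype.ext ?_⟩
  show QuotientGroup.mk' C d ^ p ^ k = 1
  rw [← map_pow]
  refine (QuotientGroup.eq_one_iff _).2 (hker _ ?_)
  rw [map_pow]
  exact congrArg Subtype.val hk

/-- The intersection of an invariant family with replacement is normal in a stable constrained
system. -/
theorem AutStable.isNormal_Iof_of_model {Ω : Type u} [Group Ω] {S : Subgroup Ω} [Finite S]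
    {F : FusionSystem S} (hF : AutStable p F) {L : Type u} [Group L] {ι : S →* L}
    (hm : F.IsModel p L ι)
    (𝒜 : Set (Subgroup Ω)) (h𝒜 : ∀ A ∈ 𝒜, A ≤ S ∧ IsMulCommutative A) (hne : 𝒜.Nonempty)
    (hinv : ∀ (Q : Subgroup Ω) (f : Ω → Ω), IsMap F Q f → img Q f = Q → (∃ A ∈ 𝒜, A ≤ Q) →
      ∀ x ∈ Iof 𝒜 Q, f x ∈ Iof 𝒜 Q)
    (hrep : ∀ B : Subgroup Ω, B ≤ S → S ≤ Subgroup.normalizer (B : Set Ω) → ⁅⁅B, B⁆, B⁆ = ⊥ →
      (∃ A ∈ 𝒜, ⁅B, B⁆ ≤ A ∧ ¬ B ≤ A) →
      ∃ A ∈ 𝒜, ⁅B, B⁆ ≤ A ∧ ¬ B ≤ A ∧ B ≤ Subgroup.normalizer (A : Set Ω)) :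
    F.IsNormal (Iof 𝒜 S) := by
  obtain ⟨hfin, hreal, ⟨T, hT⟩, hc⟩ := id hm
  haveI := hfin
  refine CfsgLib.Fusion.isNormal_Iof_of_model hm (fun P hPn hP => ?_) 𝒜 h𝒜 hne hinv hrep
  exact hF.isPStableOn hreal.1 T hT (fun P hP g hg => exists_map_of_conj hreal hP hg) P hP

end Model

section GroupSystem

variable {G : Type u} [Group G] [Finite G] {p : ℕ} [Fact p.Prime]

/-- The normalizer of `P` onto its automizer. -/
theorem exists_autHom (S : Sylow p G) {P : Subgroup G} (hP : P ≤ (S : Subgroup G)) :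
    ∃ Φ : ↥(Subgroup.normalizer (P : Set G)) →* (groupFusionSystem (S : Subgroup G)).autGroup P,
      Function.Surjective Φ ∧ (∀ n, ∀ x ∈ P, autFun (Φ n : MulAut P) x = (n : G) * x * (n : G)⁻¹) ∧
      (Subgroup.centralizer (P : Set G)).subgroupOf (Subgroup.normalizer (P : Set G)) ≤ Φ.ker := by
  have hmem : ∀ n : ↥(Subgroup.normalizer (P : Set G)),
      conjAut (n : G) n.2 ∈ (groupFusionSystem (S : Subgroup G)).autGroup P := fun n => by
    rw [autGroup_group hP]
    exact conjAut_mem (Subgroup.mem_top _) n.2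
  let Φ : ↥(Subgroup.normalizer (P : Set G)) →* (groupFusionSystem (S : Subgroup G)).autGroup P :=
    MonoidHom.mk' (fun n => ⟨conjAut (n : G) n.2, hmem n⟩) fun a b => Subtype.ext (autFun_ext
      fun x hx => by
        refine (autFun_conjAut (a * b).2 hx).trans ?_
        refine Eq.trans ?_ (autFun_mul (conjAut (a : G) a.2) (conjAut (b : G) b.2) hx).symm
        rw [autFun_conjAut b.2 hx,
          autFun_conjAut a.2 ((Subgroup.mem_normalizer_iff.1 b.2 x).1 hx), Subgroup.coe_mul]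
        group)
  refine ⟨Φ, fun α => ?_, fun n x hx => autFun_conjAut n.2 hx, fun c hc => ?_⟩
  · have h : (α : MulAut P) ∈ autInducedBy ⊤ P := autGroup_group hP ▸ α.2
    obtain ⟨g, -, hg⟩ := mem_autInducedBy_iff.1 h
    exact ⟨⟨g, mem_normalizer_of_autFun hg⟩, Subtype.ext (autFun_ext fun x hx => by
      rw [hg x hx]; exact autFun_conjAut _ hx)⟩
  · refine Subtype.ext (autFun_ext fun x hx => ?_)
    rw [show autFun (Φ c : MulAut P) x = (c : G) * x * (c : G)⁻¹ from autFun_conjAut c.2 hx,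
      Subgroup.coe_one, autFun_one hx]
    rw [← Subgroup.mem_centralizer_iff.1 (Subgroup.mem_subgroupOf.1 hc) x hx, mul_inv_cancel_right]

/-- A quadratic automorphism comes from quadratically acting elements. -/
theorem commutator_eq_bot_of_quadratic {P : Subgroup G} {α : MulAut P} {g : G}
    (hg : ∀ x ∈ P, autFun α x = g * x * g⁻¹)
    (hq : ∀ x : P, α (x⁻¹ * α x) = x⁻¹ * α x) :
    ⁅⁅P, Subgroup.zpowers g⁆, Subgroup.zpowers g⁆ = ⊥ := by
  rw [Subgroup.commutator_eq_bot_iff_le_centralizer, Subgroup.commutator_le]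
  have h1 : ∀ x ∈ P, ⁅x, g⁆ ∈ Subgroup.centralizer (Subgroup.zpowers g : Set G) := by
    intro x hx
    refine Subgroup.mem_centralizer_iff.2 ?_
    rintro _ ⟨n, rfl⟩
    refine (Commute.zpow_left ?_ n).eq
    have h := congrArg Subtype.val (hq ⟨x, hx⟩⁻¹)
    have e : ∀ z : P, ((α z : P) : G) = g * (z : G) * g⁻¹ := fun z => by
      rw [← hg z z.2, autFun_coe]
    rw [e] at h
    simp only [Subgroup.coe_mul, Subgroup.coe_inv, inv_inv, e] at h
    have hw : x * (g * x⁻¹ * g⁻¹) = ⁅x, g⁆ := by rw [commutatorElement_def]; group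
    rw [hw] at h
    exact mul_inv_eq_iff_eq_mul.1 h
  intro x hx z hz
  obtain ⟨n, rfl⟩ := Subgroup.mem_zpowers_iff.1 hz
  have hc : ∀ w ∈ Subgroup.centralizer (Subgroup.zpowers g : Set G), ∀ k : ℤ,
      g ^ k * w * (g ^ k)⁻¹ = w := fun w hw k => by
    rw [Subgroup.mem_centralizer_iff.1 hw _ ⟨k, rfl⟩, mul_inv_cancel_right]
  induction n using Int.induction_on with
  | zero =>
    rw [zpow_zero, commutatorElement_one_right]
    exact one_mem _
  | succ i ih =>
    have h := ih (zpow_mem (Subgroup.mem_zpowers g) _)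
    rw [show ⁅x, g ^ ((i : ℤ) + 1)⁆ = ⁅x, g ^ (i : ℤ)⁆ * (g ^ (i : ℤ) * ⁅x, g⁆ * (g ^ (i : ℤ))⁻¹) by
      rw [commutatorElement_def, commutatorElement_def, commutatorElement_def]; group,
      hc _ (h1 x hx)]
    exact mul_mem h (h1 x hx)
  | pred i ih =>
    have h := ih (zpow_mem (Subgroup.mem_zpowers g) _)
    rw [show ⁅x, g ^ (-(i : ℤ) - 1)⁆ = ⁅x, g ^ (-(i : ℤ))⁆ *
        (g ^ (-(i : ℤ) - 1) * ⁅x, g⁆⁻¹ * (g ^ (-(i : ℤ) - 1))⁻¹) by
      rw [commutatorElement_def, commutatorElement_def, commutatorElement_def]; group,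
      hc _ (inv_mem (h1 x hx))]
    exact mul_mem h (inv_mem (h1 x hx))

/-- A group stable in the normalizer form has a stable fusion system. -/
theorem autStable_of_normalizerPStable (S : Sylow p G) (hst : Cfsg.IsNormalizerPStable p G) :
    AutStable p (groupFusionSystem (S : Subgroup G)) := by
  intro P hP α hq
  haveI := finite_mulAut (P := P)
  obtain ⟨Φ, hΦs, hΦ, hΦk⟩ := exists_autHom S hP
  obtain ⟨n, rfl⟩ := hΦs α
  refine mem_pCore_of_quotient Φ hΦs _ hΦk ?_
  exact hst P (S.2.to_le hP) (n : G) n.2 (commutator_eq_bot_of_quadratic (hΦ n) hq)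

/-- A constrained normalizer gives a model for the normalizer system. -/
theorem exists_model_normalizer (S : Sylow p G) {U : Subgroup G}
    (hU : (groupFusionSystem (S : Subgroup G)).IsFullyNormalized U)
    (hc : Cfsg.IsPConstrained p ↥(Subgroup.normalizer (U : Set G)))
    {N : FusionSystem (normalizerIn (S : Subgroup G) U)}
    (hN : (groupFusionSystem (S : Subgroup G)).IsNormalizerSystem U N) :
    ∃ (L : Type u) (_ : Group L) (ι : normalizerIn (S : Subgroup G) U →* L), N.IsModel p L ι := by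
  set H := Subgroup.normalizer (U : Set G) with hH
  set T := normalizerIn (S : Subgroup G) U with hTd
  have hTH : T ≤ H := inf_le_right
  have hTp : IsPGroup p T := S.2.to_le inf_le_left
  have hi : ¬ p ∣ T.relIndex H := (isFullyNormalized_group_iff S hU.1).1 hU
  let T' : Sylow p H := (hTp.of_equiv (Subgroup.subgroupOfEquivOfLe hTH).symm).toSylow hi
  set K := Cfsg.pPrimeCore p H with hK
  haveI : K.Normal := Subgroup.sSup_normal _ fun _ h => h.1
  have hKc : ¬ p ∣ Nat.card K := CfsgLib.Coprime.pPrimeCore_not_dvd Fact.out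
  set π := QuotientGroup.mk' K
  let ι : T →* H ⧸ K := π.comp (Subgroup.inclusion hTH)
  have hι : Function.Injective ι := (injective_iff_map_eq_one _).2 fun x hx => by
    have h1 : Subgroup.inclusion hTH x ∈ K := (QuotientGroup.eq_one_iff _).1 hx
    have h2 : (Subgroup.inclusion hTH x) = 1 := eq_one_of_pGroup_of_coprime T'.2
      (show Subgroup.inclusion hTH x ∈ (T' : Subgroup H) from Subgroup.mem_subgroupOf.2 x.2)
      ((not_dvd_card_iff_forall_coprime_orderOf K).1 hKc _ h1)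
    exact Subgroup.inclusion_injective hTH (h2.trans (map_one _).symm)
  have hrange : ((T'.mapSurjective (QuotientGroup.mk'_surjective K) : Sylow p (H ⧸ K)) :
      Subgroup (H ⧸ K)) = ι.range := by
    rw [Sylow.coe_mapSurjective, MonoidHom.range_comp, Subgroup.inclusion_range]
    rfl
  refine ⟨H ⧸ K, inferInstance, ι, inferInstance, ⟨hι, fun Q hQ φ hφ => ⟨fun hm => ?_, ?_⟩⟩,
    ⟨_, hrange⟩, CfsgLib.Invol.PClean.centralizer_le
      (CfsgLib.Invol.isPConstrained_iff.1 hc)⟩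
  · obtain ⟨-, -, g, hg, hgf, hgU⟩ := (isMap_of_isNormalizerSystem hN).1 (isMap_toFun hm)
    obtain ⟨-, x₀, hx₀⟩ := isMap_group_iff.1 hg
    have hxH : x₀ ∈ H := conjBy_eq_iff.1 (conjBy_eq_of_le (conjBy_le_iff.2 fun w hw => by
      rw [← (hx₀ w (Subgroup.mem_sup_right hw)).2]
      exact mem_of_img_eq hg le_sup_right hgU hw))
    refine ⟨π ⟨x₀, hxH⟩, fun x => ?_⟩
    show π _ = π _ * π _ * (π _)⁻¹
    rw [← map_inv, ← map_mul, ← map_mul]
    refine congrArg π (Subtype.ext ?_)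
    show φ x = x₀ * (x : G) * x₀⁻¹
    rw [← (hx₀ x (Subgroup.mem_sup_left x.2)).2, hgf x x.2, toFun_coe]
  · rintro ⟨l, hl⟩
    obtain ⟨h, rfl⟩ := QuotientGroup.mk'_surjective K l
    set Q' := Q.subgroupOf H with hQ'
    set M := ((T' : Subgroup H).map π).comap π with hM
    have hTM : (T' : Subgroup H) ≤ M := Subgroup.le_comap_map _ _
    have hQp : IsPGroup p Q' :=
      (hTp.to_le hQ).of_equiv (Subgroup.subgroupOfEquivOfLe (hQ.trans hTH)).symm
    have hRM : conjBy h Q' ≤ M := conjBy_le_iff.2 fun y hy => by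
      show π (h * y * h⁻¹) ∈ (T' : Subgroup H).map π
      have e := hl ⟨(y : G), hy⟩
      rw [map_mul, map_mul, map_inv]
      exact ⟨Subgroup.inclusion hTH ⟨_, hφ ⟨(y : G), hy⟩⟩,
        Subgroup.mem_subgroupOf.2 (hφ ⟨(y : G), hy⟩), e⟩
    obtain ⟨m, hm, hmle⟩ := exists_conj_le_of_not_dvd_relIndex T'.2 hTM
      (fun hd => T'.not_dvd_index (hd.trans (Subgroup.relIndex_dvd_index_of_le hTM)))
      (isPGroup_conjBy h hQp) hRM
    obtain ⟨s, hs, hse⟩ := hm
    rw [conjBy_conjBy] at hmle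
    set h' := s⁻¹ * m * h with hh'
    have hπ : π h' = π h := by
      rw [hh', map_mul, map_mul, map_inv, hse, inv_mul_cancel, one_mul]
    have hconj : ∀ x : Q, (h' : G) * (x : G) * (h' : G)⁻¹ = φ x := by
      intro x
      set y : H := ⟨x, hTH (hQ x.2)⟩
      have hy : h' * y * h'⁻¹ ∈ (T' : Subgroup H) := by
        have h1 := conjBy_le_iff.1 hmle y (Subgroup.mem_subgroupOf.2 x.2)
        rw [hh', show s⁻¹ * m * h * y * (s⁻¹ * m * h)⁻¹ = s⁻¹ * (m * h * y * (m * h)⁻¹) * s by group]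
        exact mul_mem (mul_mem (inv_mem hs) h1) hs
      have he : ι ⟨_, Subgroup.mem_subgroupOf.1 hy⟩ = ι ⟨φ x, hφ x⟩ := by
        show π (h' * y * h'⁻¹) = _
        rw [map_mul, map_mul, map_inv, hπ, hl x]
        rfl
      exact congrArg Subtype.val (hι he)
    refine mem_hom_iff.2 ((isMap_of_isNormalizerSystem hN).2
      ⟨hQ, fun x hx => ?_, fun x => (h' : G) * x * (h' : G)⁻¹, ?_, fun x hx => ?_, ?_⟩)
    · rw [toFun_apply φ hx]; exact hφ _
    · have hle : Q ⊔ U ≤ ((S : Subgroup G) ⊓ H).comap (MulAut.conj (h' : G)).toMonoidHom := by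
        refine sup_le (fun x hx => ?_) fun x hx => ?_
        · show (h' : G) * x * (h' : G)⁻¹ ∈ (S : Subgroup G) ⊓ H
          rw [hconj ⟨x, hx⟩]
          exact hφ _
        · show (h' : G) * x * (h' : G)⁻¹ ∈ (S : Subgroup G) ⊓ H
          have h2 := (Subgroup.mem_normalizer_iff.1 h'.2 x).1 hx
          exact Subgroup.mem_inf.2 ⟨hU.1 h2, Subgroup.le_normalizer h2⟩
      refine isMap_group_iff.2 ⟨sup_le (hQ.trans inf_le_left) hU.1, (h' : G), fun x hx =>
        ⟨(hle hx).1, rfl⟩⟩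
    · show (h' : G) * x * (h' : G)⁻¹ = _
      rw [hconj ⟨x, hx⟩, toFun_apply φ hx]
    · rw [img_conj]
      exact conjBy_eq_iff.2 h'.2

end GroupSystem

end CfsgLib.Fusion
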