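import Cfsg.Agent.Lib.Fusion.System.Model
import Cfsg.Agent.Lib.Fusion.PrimeCoreQuotient
import Cfsg.Prelude.Def_Local

/-!
# Constrained systems of `p`-solvable groups
-/

set_option autoImplicit false
set_option linter.style.haveILetI false
set_option linter.unusedSectionVars false

open Subgroup

namespace CfsgLib.Fusion

open Cfsg (FusionSystem)
open Cfsg.FusionSystem (normalizerIn centralizerIn)

universe u

variable {Ω : Type u} [Group Ω] {S : Subgroup Ω} {F : FusionSystem S} {p : ℕ}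

/-- `p`-solvable extensions of normal `p`-subgroups. -/
theorem isPSolvable_of_pGroup_extension {X : Type*} [Group X] [Finite X] [Fact p.Prime] (N : Subgroup X) [N.Normal]
    (hN : IsPGroup p N) (h : Cfsg.IsPSolvable p (X ⧸ N)) : Cfsg.IsPSolvable p X := by
  obtain ⟨n, C, h0, hl, hm, hn, hc⟩ := h
  set π := QuotientGroup.mk' N with hπ
  have hπs : Function.Surjective π := QuotientGroup.mk'_surjective N
  refine ⟨n + 1, Fin.cons ⊥ fun i => (C i).comap π, by simp, ?_, ?_, ?_, ?_⟩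
  · rw [← Fin.succ_last, Fin.cons_succ, hl, comap_top]
  · refine Fin.monotone_iff_le_succ.2 fun i => ?_
    refine Fin.cases ?_ (fun j => ?_) i
    · simp
    · rw [Fin.castSucc_succ, Fin.cons_succ, Fin.cons_succ]
      exact comap_mono (hm (Fin.castSucc_le_succ j))
  · intro i
    refine Fin.cases ?_ (fun j => ?_) i
    · rw [Fin.cons_zero]; infer_instance
    · rw [Fin.cons_succ]; exact (hn j).comap π
  · intro i
    refine Fin.cases ?_ (fun j => ?_) i
    · left
      rw [Fin.castSucc_zero, Fin.cons_zero, Fin.cons_succ, h0, relIndex_bot_left, MonoidHom.comap_bot, hπ,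
        QuotientGroup.ker_mk']
      exact IsPGroup.iff_card.1 hN
    · rw [Fin.castSucc_succ, Fin.cons_succ, Fin.cons_succ, relIndex_comap, map_comap_eq_self_of_surjective hπs]
      exact hc j

variable [Finite S] [hp : Fact p.Prime] {G : Type*} [Group G] [Finite G] {ι : S →* G}

/-- In a realization with normal image of `R`, the group maps onto `Aut_F(R)`, with kernel the centralizer. -/
theorem exists_hom_autGroup (hF : F.IsRealizedBy ι) {R : Subgroup Ω} (hR : R ≤ S) (hn : (imgι ι R).Normal) :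
    ∃ Φ : G →* MulAut R, Φ.range = F.autGroup R ∧ Φ.ker ≤ Subgroup.centralizer (imgι ι R : Set G) := by
  haveI := hn
  let E₀ : R →* imgι ι R :=
    MonoidHom.mk' (fun x => ⟨ext1 ι x, ext1_mem_imgι hR x.2⟩) fun x y => Subtype.ext (ext1_mul ι (hR x.2) (hR y.2))
  have hbij : Function.Bijective E₀ := by
    refine ⟨fun x y h => Subtype.ext (ext1_inj hF.1 (hR x.2) (hR y.2) (congrArg Subtype.val h)), fun y => ?_⟩
    obtain ⟨x, hx, hxy⟩ := (mem_imgι hR).1 y.2
    exact ⟨⟨x, hx⟩, Subtype.ext hxy⟩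
  let E := MulEquiv.ofBijective E₀ hbij
  let Φ : G →* MulAut R := (MulAut.congr E.symm).toMonoidHom.comp MulAut.conjNormal
  have hΦ : ∀ (g : G) (x : R), ext1 ι ((Φ g x : R) : Ω) = g * ext1 ι x * g⁻¹ := by
    intro g x
    have h1 : E (Φ g x) = MulAut.conjNormal g (E x) := by simp [Φ, MulAut.congr]
    have h2 := congrArg Subtype.val h1
    rwa [MulAut.conjNormal_apply] at h2
  refine ⟨Φ, le_antisymm ?_ ?_, ?_⟩
  · rintro _ ⟨g, rfl⟩
    rw [mem_autGroup_iff hR, isMap_realized_iff hF]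
    refine ⟨hR, fun x hx => hR (autFun_mem _ hx), fun x hx y hy => autFun_map_mul _ hx hy, g, fun x hx => ?_⟩
    rw [autFun_apply _ hx]
    exact hΦ g ⟨x, hx⟩
  · intro α hα
    obtain ⟨-, -, -, g, hg⟩ := (isMap_realized_iff hF).1 ((mem_autGroup_iff hR).1 hα)
    refine ⟨g, MulEquiv.ext fun x => Subtype.ext (ext1_inj hF.1 (hR (Φ g x).2) (hR (α x).2) ?_)⟩
    rw [hΦ, ← hg x x.2, autFun_apply _ x.2]
  · intro g hg
    refine mem_centralizer_iff'.2 fun z hz => ?_
    obtain ⟨x, hx, rfl⟩ := (mem_imgι hR).1 hz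
    have := hΦ g ⟨x, hx⟩
    rw [MonoidHom.mem_ker.1 hg] at this
    exact this.symm

theorem isPSolvable_congr_range {H : Type*} [Group H] (Φ : G →* H) (h : Cfsg.IsPSolvable p G) :
    Cfsg.IsPSolvable p Φ.range :=
  isPSolvable_of_surjective Φ.rangeRestrict Φ.rangeRestrict_surjective h

/-- A model is `p`-solvable exactly when the automizer of the core is. -/
theorem isPSolvable_model_iff (hS : IsPGroup p S) (hr : F.IsRealizedBy ι) {T : Sylow p G}
    (hT : (T : Subgroup G) = ι.range)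
    (hC : Subgroup.centralizer ((Cfsg.pCore p G : Subgroup G) : Set G) ≤ Cfsg.pCore p G) :
    Cfsg.IsPSolvable p G ↔ Cfsg.IsPSolvable p ↥(F.autGroup F.core) := by
  obtain ⟨-, -, hpc, hcc⟩ := model_facts hr hS hT hC
  have hR : F.core ≤ S := (isNormal_core (F := F)).1
  haveI := CfsgLib.Coprime.pCore_normal' (G := G) p
  obtain ⟨Φ, hrange, hker⟩ := exists_hom_autGroup hr hR (hpc ▸ inferInstance)
  rw [← hrange]
  refine ⟨fun h => isPSolvable_congr_range Φ h, fun h => ?_⟩
  have hk : IsPGroup p Φ.ker := (CfsgLib.Coprime.pCore_isPGroup (G := G) p).to_le (hker.trans (hcc.trans hpc.ge))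
  exact isPSolvable_of_pGroup_extension Φ.ker hk (isPSolvable_of_surjective
    (QuotientGroup.quotientKerEquivRange Φ).symm.toMonoidHom (QuotientGroup.quotientKerEquivRange Φ).symm.surjective h)

/-- Realization passes to the quotient by the `p'`-core. -/
theorem isRealizedBy_quotient (hS : IsPGroup p S) (hr : F.IsRealizedBy ι) {T : Sylow p G} (hT : (T : Subgroup G) = ι.range)
    (K : Subgroup G) [K.Normal] (hK : ¬ p ∣ Nat.card K) :
    F.IsRealizedBy ((QuotientGroup.mk' K).comp ι) := by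
  have hTK : ∀ x : G, x ∈ ι.range → x ∈ K → x = 1 := fun x hx hxK =>
    eq_one_of_pGroup_of_coprime T.2 (hT ▸ hx)
      ((not_dvd_card_iff_forall_coprime_orderOf K).1 hK _ hxK)
  have hinj : Function.Injective ((QuotientGroup.mk' K).comp ι) := (injective_iff_map_eq_one _).2 fun x hx =>
    hr.1 ((hTK _ ⟨x, rfl⟩ ((QuotientGroup.eq_one_iff _).1 hx)).trans (map_one ι).symm)
  refine ⟨hinj, fun P hP φ hφ => ?_⟩
  rw [hr.2 P hP φ hφ]
  constructor
  · rintro ⟨g, hg⟩
    exact ⟨QuotientGroup.mk' K g, fun x => by simp only [MonoidHom.comp_apply, hg, map_mul, map_inv]⟩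
  · rintro ⟨γ, hγ⟩
    obtain ⟨g₀, rfl⟩ := QuotientGroup.mk'_surjective K γ
    have hA : IsPGroup p (imgι ι P) := (hS.to_subgroup _).map ι
    set A := imgι ι P with hAdef
    have hQ : conjBy g₀ A ≤ (T : Subgroup G) ⊔ K := conjBy_le_iff.2 fun y hy => by
      obtain ⟨x, hx, rfl⟩ := (mem_imgι hP).1 hy
      have h := hγ ⟨x, hx⟩
      simp only [MonoidHom.comp_apply] at h
      rw [← map_inv, ← map_mul, ← map_mul] at h
      have h' : g₀ * ι ⟨x, hP hx⟩ * g₀⁻¹ ∈ ((T : Subgroup G).map (QuotientGroup.mk' K)).comap (QuotientGroup.mk' K) :=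
        ⟨_, hT ▸ ⟨_, rfl⟩, h⟩
      rw [comap_map_eq, QuotientGroup.ker_mk'] at h'
      rwa [ext1_apply ι (hP hx)]
    have hi : ¬ p ∣ (T : Subgroup G).relIndex ((T : Subgroup G) ⊔ K) := fun hd =>
      T.not_dvd_index (hd.trans (relIndex_dvd_index_of_le le_sup_left))
    obtain ⟨h, hh, hle⟩ := exists_conj_le_of_not_dvd_relIndex T.2 le_sup_left hi (isPGroup_conjBy g₀ hA) hQ
    rw [← SetLike.mem_coe, Subgroup.mul_normal] at hh
    obtain ⟨s, hs, n, hn, rfl⟩ := Set.mem_mul.1 hh
    refine ⟨n * g₀, fun x => ?_⟩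
    have hx := hP x.2
    have hmem : n * g₀ * ι ⟨x, hx⟩ * (n * g₀)⁻¹ ∈ ι.range := by
      rw [← hT]
      have h1 := hle (conj_mem_conjBy (g := s * n) (conj_mem_conjBy (g := g₀) (ext1_mem_imgι (ι := ι) hP x.2)))
      rw [ext1_apply ι hx] at h1
      have h2 := mul_mem (mul_mem (inv_mem hs) h1) hs
      convert h2 using 1
      group
    obtain ⟨y, hy⟩ := hmem
    rw [← hy]
    refine congrArg ι (hinj ?_)
    have hn1 : QuotientGroup.mk' K n = 1 := (QuotientGroup.eq_one_iff n).2 hn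
    rw [hγ x]
    show _ = QuotientGroup.mk' K (ι y)
    rw [hy]
    simp only [MonoidHom.comp_apply, map_mul, map_inv, hn1, one_mul]

theorem realizable_pSolvable_iff (hS : IsPGroup p S) (hsat : F.IsSaturated p) :
    (∃ (G : Type u) (_ : Group G) (_ : Finite G) (ι : S →* G), Cfsg.IsPSolvable p G ∧ F.IsRealizedBy ι ∧
      ∃ T : Sylow p G, (T : Subgroup G) = ι.range) ↔
    (F.IsConstrained p ∧ Cfsg.IsPSolvable p ↥(F.autGroup F.core)) := by
  constructor
  · rintro ⟨G, _, _, ι, hsol, hr, T, hT⟩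
    haveI := CfsgLib.Coprime.pPrimeCore_characteristic (G := G) p
    set K := Cfsg.pPrimeCore p G with hKdef
    set π := QuotientGroup.mk' K
    have hπs : Function.Surjective π := QuotientGroup.mk'_surjective K
    have hr' := isRealizedBy_quotient hS hr hT K (CfsgLib.Coprime.pPrimeCore_not_dvd Fact.out)
    have hT' : ((T.mapSurjective hπs : Sylow p (G ⧸ K)) : Subgroup (G ⧸ K)) = (π.comp ι).range := by
      rw [Sylow.coe_mapSurjective, hT, MonoidHom.range_comp]
    have hsol' : Cfsg.IsPSolvable p (G ⧸ K) := CfsgLib.PGroup.isPSolvable_quotient Fact.out hsol K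
    have hc := CfsgLib.Block.centralizer_pCore_le_of_isPSolvable hsol'
      (CfsgLib.Coprime.pPrimeCore_quotient_eq_bot (Fact.out : p.Prime))
    exact ⟨(model_facts hr' hS hT' hc).1, (isPSolvable_model_iff hS hr' hT' hc).1 hsol'⟩
  · rintro ⟨⟨-, Q, hQ, hQc⟩, hsol⟩
    obtain ⟨L, hL, ι, hfin, hr, ⟨T, hT⟩, hc⟩ := exists_model_of_normal_centric hS hsat hQ hQc
    haveI := hfin
    exact ⟨L, hL, hfin, ι, (isPSolvable_model_iff hS hr hT hc).2 hsol, hr, T, hT⟩

end CfsgLib.Fusion
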