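import Cfsg.Agent.Lib.Fusion.System.Centric
import Cfsg.Agent.Lib.Fusion.System.TopCriterion
import Cfsg.Agent.Lib.Coprime.Core

/-!
# Extendable automorphisms, essential subgroups and Alperin's fusion theorem
-/

set_option autoImplicit false
set_option linter.style.haveILetI false

open Subgroup
open scoped Classical

namespace CfsgLib.Fusion

open Cfsg (FusionSystem autInducedBy IsStronglyPEmbedded kGeneratedCore)
open Cfsg.FusionSystem (normalizerIn centralizerIn)

/-! ### Strongly `p`-embedded subgroups -/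

section Embedded

variable {X : Type*} [Group X] {p : ℕ} {P E : Subgroup X}

theorem not_pRankLE_zero_of_ne_bot [Fact p.Prime] {H : Type*} [Group H] (hH : IsPGroup p H)
    [Finite H] [Nontrivial H] : ¬ Cfsg.PRankLE p 0 H := by
  intro h
  obtain ⟨n, hn0, hn⟩ := hH.nontrivial_iff_card.1 ‹_›
  have hd : p ∣ Nat.card H := hn ▸ dvd_pow_self p hn0.ne'
  obtain ⟨a, ha⟩ := exists_prime_orderOf_dvd_card' p hd
  have h1 := h (Subgroup.zpowers a) inferInstance (fun b hb => by
    obtain ⟨k, rfl⟩ := Subgroup.mem_zpowers_iff.1 hb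
    rw [← zpow_natCast (a ^ k), ← zpow_mul, mul_comm, zpow_mul, zpow_natCast, ← ha,
      pow_orderOf_eq_one, one_zpow])
  rw [Nat.card_zpowers, ha, pow_zero] at h1
  exact absurd h1 (not_le.2 (Fact.out : p.Prime).one_lt)

theorem normalizer_le_of_kGeneratedCore [Finite X] [Fact p.Prime] (hP : IsPGroup p P)
    (h : kGeneratedCore p 1 P ≤ E) {T : Subgroup X} (hT : T ≤ P) (hT1 : T ≠ ⊥) :
    Subgroup.normalizer (T : Set X) ≤ E := by
  haveI : Nontrivial T := (Subgroup.nontrivial_iff_ne_bot T).2 hT1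
  exact (le_iSup_of_le (f := fun Q : {Q : Subgroup X // Q ≤ P ∧ ¬ Cfsg.PRankLE p (1 - 1) Q} =>
    Subgroup.normalizer ((Q : Subgroup X) : Set X))
    ⟨T, hT, by rw [Nat.sub_self]; exact not_pRankLE_zero_of_ne_bot (hP.to_le hT)⟩ le_rfl).trans h

theorem kGeneratedCore_le (h : ∀ T : Subgroup X, T ≤ P → T ≠ ⊥ →
    Subgroup.normalizer (T : Set X) ≤ E) : kGeneratedCore p 1 P ≤ E := by
  refine iSup_le fun ⟨T, hTP, hT⟩ => h T hTP fun hbot => hT ?_
  intro A _ _
  subst hbot
  rw [Subsingleton.elim A ⊥, Subgroup.card_bot]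
  simp

variable [Finite X] [Fact p.Prime]

/-- If all normalizers of nontrivial subgroups of a Sylow subgroup `P` lie in `E`, so does every
element moving a nontrivial subgroup of `P` into `P`. -/
theorem mem_of_conj_le (hP : IsPGroup p P) (hi : ¬ p ∣ P.index)
    (hE : ∀ T : Subgroup X, T ≤ P → T ≠ ⊥ → Subgroup.normalizer (T : Set X) ≤ E)
    {T : Subgroup X} (hT : T ≤ P) (hT1 : T ≠ ⊥) {g : X} (hg : conjBy g T ≤ P) : g ∈ E := by
  induction hk : Nat.card P - Nat.card T using Nat.strong_induction_on generalizing T g with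
  | _ k ih =>
  by_cases hTP : T = P
  · subst hTP
    exact hE T le_rfl hT1 (conjBy_eq_iff.1 (conjBy_eq_of_le hg))
  set T' := conjBy g T with hT'
  have hT'1 : T' ≠ ⊥ := fun h => hT1 (by
    apply Subgroup.eq_bot_of_card_eq
    rw [← card_conjBy g T, ← hT', h, Subgroup.card_bot])
  have hT'P : T' ≠ P := fun h => hTP (Subgroup.eq_of_le_of_card_ge hT
    (by rw [← card_conjBy g T, ← hT', h]))
  haveI : Group.IsNilpotent P := hP.isNilpotent
  have hlt : T < normalizerIn P T := lt_inf_normalizer hT hTP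
  set N := normalizerIn P T with hN
  have hPE : P ≤ E := Subgroup.le_normalizer.trans (hE P le_rfl fun h => hT1 (le_bot_iff.1 (h ▸ hT)))
  have hiE : ¬ p ∣ P.relIndex E := fun h => hi (Subgroup.relIndex_mul_index hPE ▸ h.mul_right _)
  obtain ⟨R, hNR, hRN, hRp, hRi⟩ := exists_le_not_dvd_relIndex (p := p)
    (R := normalizerIn P T') (H := Subgroup.normalizer (T' : Set X)) (hP.to_le inf_le_left)
    inf_le_right
  obtain ⟨h, hh, hhR⟩ := exists_conj_le_of_not_dvd_relIndex hRp hRN hRi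
    (isPGroup_conjBy g (hP.to_le (inf_le_left : N ≤ P)))
    (by rw [hT', ← conjBy_normalizer]; exact conjBy_mono inf_le_right)
  have hhE : h ∈ E := hE T' hg hT'1 hh
  obtain ⟨e, he, heP⟩ := exists_conj_le_of_not_dvd_relIndex hP hPE hiE hRp
    (hRN.trans (hE T' hg hT'1))
  have hk' : Nat.card P - Nat.card N < k := by
    have h1 : Nat.card T < Nat.card N := by
      refine lt_of_le_of_ne (Subgroup.card_le_of_le hlt.le) fun he => hlt.ne ?_
      exact Subgroup.eq_of_le_of_card_ge hlt.le he.ge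
    have h2 : Nat.card N ≤ Nat.card P := Subgroup.card_le_of_le inf_le_left
    omega
  have hmem : e * (h * g) ∈ E := by
    refine ih _ hk' inf_le_left (fun h => ?_) ?_ rfl
    · exact not_lt_bot (lt_of_lt_of_eq hlt h)
    · rw [← conjBy_conjBy, ← conjBy_conjBy]
      exact (conjBy_mono hhR).trans heP
  rwa [E.mul_mem_cancel_left he, E.mul_mem_cancel_left hhE] at hmem

/-- A strongly `p`-embedded subgroup can be taken with respect to any Sylow subgroup. -/
theorem exists_conj_embedded (hP : IsPGroup p P) (hE : IsStronglyPEmbedded p E) :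
    ∃ E' : Subgroup X, E' ≠ ⊤ ∧
      ∀ T : Subgroup X, T ≤ P → T ≠ ⊥ → Subgroup.normalizer (T : Set X) ≤ E' := by
  obtain ⟨-, hEtop, R, hR⟩ := hE
  obtain ⟨x, -, hx⟩ := exists_conj_le_of_not_dvd_relIndex (H := ⊤) R.2 le_top
    (by rw [Subgroup.relIndex_top_right]; exact R.not_dvd_index) hP le_top
  refine ⟨conjBy x⁻¹ E, fun h => hEtop (top_unique ?_), fun T hT hT1 => ?_⟩
  · intro y _
    have hy : x⁻¹ * y * x ∈ conjBy x⁻¹ E := h ▸ Subgroup.mem_top _
    have := mem_conjBy.1 hy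
    simpa [mul_assoc] using this
  · have h1 : Subgroup.normalizer (conjBy x T : Set X) ≤ E := by
      refine normalizer_le_of_kGeneratedCore R.2 hR ((conjBy_mono hT).trans hx) fun h => hT1 ?_
      apply Subgroup.eq_bot_of_card_eq
      rw [← card_conjBy x T, h, Subgroup.card_bot]
    rw [← conjBy_normalizer] at h1
    have h2 := conjBy_mono (g := x⁻¹) h1
    rwa [conjBy_inv_conjBy] at h2

/-- A group with a strongly `p`-embedded subgroup has trivial `p`-core. -/
theorem eq_bot_of_embedded (hE : IsStronglyPEmbedded p E) {N : Subgroup X} [N.Normal]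
    (hN : IsPGroup p N) : N = ⊥ := by
  by_contra h
  obtain ⟨E', hE', hT⟩ := exists_conj_embedded hN hE
  have := hT N le_rfl h
  rw [Subgroup.normalizer_eq_top] at this
  exact hE' (top_unique this)

end Embedded

/-! ### Extendable automorphisms -/

variable {Ω : Type*} [Group Ω] {S : Subgroup Ω} {F : FusionSystem S} {P Q : Subgroup Ω}
  {f : Ω → Ω} {p : ℕ}

/-- The subgroup of `Aut(P)` generated by the automorphisms extending to larger subgroups. -/
def extGroup (F : FusionSystem S) (P : Subgroup Ω) : Subgroup (MulAut P) :=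
  Subgroup.closure {α | ∃ (Q : Subgroup Ω) (f : Ω → Ω), P < Q ∧ IsMap F Q f ∧
    ∀ x ∈ P, f x = autFun α x}

theorem mem_extGroup {α : MulAut P} (hPQ : P < Q) (hf : IsMap F Q f)
    (h : ∀ x ∈ P, f x = autFun α x) : α ∈ extGroup F P :=
  Subgroup.subset_closure ⟨Q, f, hPQ, hf, h⟩

theorem extGroup_eq_closure : extGroup F P = Subgroup.closure {α : MulAut P |
    ∃ (Q : Subgroup Ω) (hPQ : P < Q) (φ : Q →* Ω), φ ∈ F.Hom Q ∧
      ∀ x : P, φ (Subgroup.inclusion hPQ.le x) = α x} := by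
  rw [extGroup]
  congr 1
  ext α
  constructor
  · rintro ⟨Q, f, hPQ, ⟨φ, hφ, hφf⟩, h⟩
    exact ⟨Q, hPQ, φ, hφ, fun x => ((hφf _).trans (h x x.2)).trans (autFun_coe α x)⟩
  · rintro ⟨Q, hPQ, φ, hφ, h⟩
    refine ⟨Q, toFun φ, hPQ, isMap_toFun hφ, fun x hx => ?_⟩
    rw [toFun_apply φ (hPQ.le hx), autFun_apply α hx]
    exact h ⟨x, hx⟩

theorem extGroup_le_autGroup (hP : P ≤ S) : extGroup F P ≤ F.autGroup P := by
  refine (Subgroup.closure_le _).2 ?_
  rintro α ⟨Q, f, hPQ, hf, h⟩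
  exact (mem_autGroup_iff hP).2 ((hf.mono hPQ.le).congr fun x hx => (h x hx).symm)

theorem autInducedBy_mono {K L : Subgroup Ω} (h : K ≤ L) :
    autInducedBy K P ≤ autInducedBy L P := fun α hα => by
  obtain ⟨g, hg, e⟩ := mem_autInducedBy_iff.1 hα
  exact mem_autInducedBy_iff.2 ⟨g, h hg, e⟩

theorem inn_eq_autInducedBy : Cfsg.Inn P = autInducedBy P P := by
  ext α
  rw [mem_autInducedBy_iff]
  constructor
  · rintro ⟨a, rfl⟩
    exact ⟨a, a.2, fun x hx => autFun_apply _ hx⟩
  · rintro ⟨g, hg, e⟩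
    exact ⟨⟨g, hg⟩, autFun_ext fun x hx => (autFun_apply _ hx).trans (e x hx).symm⟩

theorem inn_le_autInducedBy (hP : P ≤ S) : Cfsg.Inn P ≤ autInducedBy S P :=
  inn_eq_autInducedBy.trans_le (autInducedBy_mono hP)

theorem inn_le_autGroup (hP : P ≤ S) : Cfsg.Inn P ≤ F.autGroup P :=
  (inn_le_autInducedBy hP).trans (autInducedBy_le_autGroup hP)

theorem mem_of_conjAut_mem_inn {n : Ω} (hnS : n ∈ S) (hn : n ∈ Subgroup.normalizer (P : Set Ω))
    (hP : P ≤ S) (hC : centralizerIn S P ≤ P) (h : conjAut n hn ∈ Cfsg.Inn P) : n ∈ P := by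
  rw [inn_eq_autInducedBy, mem_autInducedBy_iff] at h
  obtain ⟨g, hg, e⟩ := h
  have hc : g⁻¹ * n ∈ centralizerIn S P := by
    refine ⟨S.mul_mem (S.inv_mem (hP hg)) hnS, mem_centralizer_iff'.2 fun x hx => ?_⟩
    have := e x hx
    rw [autFun_conjAut hn hx] at this
    calc g⁻¹ * n * x * (g⁻¹ * n)⁻¹ = g⁻¹ * (n * x * n⁻¹) * g := by group
      _ = x := by rw [this]; group
  simpa using mul_mem hg (hC hc)

section Saturated

variable [Finite S] [Fact p.Prime]

theorem inn_le_extGroup (hS : IsPGroup p S) (hPS : P < S) : Cfsg.Inn P ≤ extGroup F P := by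
  intro α hα
  rw [inn_eq_autInducedBy, mem_autInducedBy_iff] at hα
  obtain ⟨g, hg, e⟩ := hα
  exact mem_extGroup (lt_normalizerIn hS hPS.le hPS.ne)
    (isMap_conj inf_le_left (hPS.le hg)) fun x hx => (e x hx).symm

/-- Outer automizer data at a fully normalized centric subgroup. -/
theorem exists_mem_not_mem_normalizer (hS : IsPGroup p S) (hPS : P < S) :
    ∃ n ∈ normalizerIn S P, n ∉ P :=
  SetLike.exists_of_lt (lt_normalizerIn hS hPS.le hPS.ne)

/-- An essential proper subgroup has automorphisms outside its extendable group. -/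
theorem extGroup_ne_autGroup (hS : IsPGroup p S) (hF : F.IsSaturated p)
    (hP : F.IsEssential p P) : extGroup F P ≠ F.autGroup P := by
  intro heq
  obtain ⟨hc, hn, _, E, hE⟩ := hP
  haveI := finite_of_le hn.1
  haveI := finite_mulAut (P := P)
  set X := F.autGroup P with hX
  set I := (Cfsg.Inn P).subgroupOf X
  set π := QuotientGroup.mk' I
  set A := (autInducedBy S P).subgroupOf X with hA
  have hAp : IsPGroup p A := (isPGroup_autInducedBy hS).of_equiv
    (Subgroup.subgroupOfEquivOfLe (autInducedBy_le_autGroup hn.1)).symm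
  have hAi : ¬ p ∣ A.index :=
    ((isFullyAutomized_iff hS).1 (IsSaturated.automized_receptive hS hF hn).1).2
  have hi : ¬ p ∣ (A.map π).index :=
    fun h => hAi (h.trans (Subgroup.index_map_dvd A (QuotientGroup.mk'_surjective I)))
  obtain ⟨E', hE', hnorm⟩ := exists_conj_embedded (hAp.map π) hE
  have hgen : extGroup F P ≤ (E'.comap π).map X.subtype := by
    refine (Subgroup.closure_le _).2 ?_
    rintro α ⟨Q, f, hPQ, hf, hfα⟩
    have hαX : α ∈ X := extGroup_le_autGroup hn.1 (mem_extGroup hPQ hf hfα)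
    refine ⟨⟨α, hαX⟩, Subgroup.mem_comap.2 ?_, rfl⟩
    have hQS := hf.le
    haveI := finite_of_le hQS
    haveI : Group.IsNilpotent Q := (hS.to_le hQS).isNilpotent
    set T := ((autInducedBy (normalizerIn Q P) P).subgroupOf X).map π
    have hTA : T ≤ A.map π := Subgroup.map_mono fun a ha =>
      autInducedBy_mono (inf_le_left.trans hQS) ha
    have hT1 : T ≠ ⊥ := by
      intro hT
      obtain ⟨r, hr, hrP⟩ := SetLike.exists_of_lt (lt_inf_normalizer hPQ.le hPQ.ne)
      have hm : conjAut r hr.2 ∈ autInducedBy (normalizerIn Q P) P := conjAut_mem hr hr.2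
      have hmX : conjAut r hr.2 ∈ X := autInducedBy_le_autGroup hn.1
        (autInducedBy_mono (inf_le_left.trans hQS) hm)
      have h1 : π ⟨_, hmX⟩ ∈ T := Subgroup.mem_map_of_mem π hm
      rw [hT, Subgroup.mem_bot, QuotientGroup.mk'_apply, QuotientGroup.eq_one_iff] at h1
      exact hrP (mem_of_conjAut_mem_inn (hQS hr.1) hr.2 hn.1 (centralizerIn_le_of_isCentric hc) h1)
    refine mem_of_conj_le (hAp.map π) hi hnorm hTA hT1 (conjBy_le_iff.2 ?_)
    rintro _ ⟨⟨a, haX⟩, ha, rfl⟩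
    rw [← map_inv, ← map_mul, ← map_mul]
    refine Subgroup.mem_map_of_mem π ?_
    obtain ⟨r, hr, e⟩ := mem_autInducedBy_iff.1 (show a ∈ autInducedBy _ P from ha)
    refine mem_autInducedBy_iff.2 ⟨f r, hf.mem_S hr.1, fun y hy => ?_⟩
    show autFun (α * a * α⁻¹) y = _
    rw [autFun_mul _ _ hy, autFun_mul _ _ (autFun_mem _ hy), e _ (autFun_mem _ hy),
      ← hfα _ ((Subgroup.mem_normalizer_iff.1 hr.2 _).1 (autFun_mem _ hy)),
      hf.map_conj hr.1 (hPQ.le (autFun_mem _ hy)), hfα _ (autFun_mem _ hy),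
      ← autFun_mul _ _ hy, mul_inv_cancel, autFun_one hy]
  refine hE' (top_unique fun y _ => ?_)
  obtain ⟨⟨x, hx⟩, rfl⟩ := QuotientGroup.mk'_surjective I y
  obtain ⟨x', hx', hxx⟩ := hgen (heq.symm.le hx)
  rwa [show x' = ⟨x, hx⟩ from Subtype.ext hxx] at hx'

/-- If not all automorphisms extend, the subgroup is centric and the extendable ones give a
strongly `p`-embedded subgroup. -/
theorem centric_embedded_of_extGroup_ne (hS : IsPGroup p S) (hF : F.IsSaturated p) (hPS : P < S)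
    (hn : F.IsFullyNormalized P) (hne : extGroup F P ≠ F.autGroup P) :
    F.IsCentric P ∧ ∃ _ : ((Cfsg.Inn P).subgroupOf (F.autGroup P)).Normal,
      IsStronglyPEmbedded p (((extGroup F P).subgroupOf (F.autGroup P)).map
        (QuotientGroup.mk' ((Cfsg.Inn P).subgroupOf (F.autGroup P)))) := by
  obtain ⟨hauto, hrec⟩ := IsSaturated.automized_receptive hS hF hn
  have hext : ∀ α ∈ F.autGroup P, (∃ n ∈ extSub S P (autFun α), n ∉ P) → α ∈ extGroup F P := by
    rintro α hα ⟨n, hn', hnP⟩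
    have hm := (mem_autGroup_iff hn.1).1 hα
    obtain ⟨g, hg, hgf⟩ := (isReceptive_iff.1 hrec).2 P _ hm (img_autFun α)
    refine mem_extGroup (lt_of_le_of_ne (le_extSub hm) ?_) hg hgf
    intro he
    exact hnP (he.ge hn')
  have hC : centralizerIn S P ≤ P := by
    intro c hc
    by_contra hcP
    refine hne (le_antisymm (extGroup_le_autGroup hn.1) fun α hα => hext α hα ?_)
    exact ⟨c, centralizerIn_le_extSub hc, hcP⟩
  refine ⟨isCentric_of_fullyCentralized (IsSaturated.isFullyCentralized hS hF hn) hC, ?_⟩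
  haveI := finite_of_le hn.1
  haveI := finite_mulAut (P := P)
  refine ⟨inferInstance, ?_⟩
  set X := F.autGroup P with hX
  set I := (Cfsg.Inn P).subgroupOf X with hI
  set π := QuotientGroup.mk' I with hπ
  set A := (autInducedBy S P).subgroupOf X with hA
  have hAp : IsPGroup p A := (isPGroup_autInducedBy hS).of_equiv
    (Subgroup.subgroupOfEquivOfLe (autInducedBy_le_autGroup hn.1)).symm
  have hAi : ¬ p ∣ A.index := ((isFullyAutomized_iff hS).1 hauto).2
  have hi : ¬ p ∣ (A.map π).index :=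
    fun h => hAi (h.trans (Subgroup.index_map_dvd A (QuotientGroup.mk'_surjective I)))
  have hker : π.ker ≤ A := by
    rw [QuotientGroup.ker_mk']
    exact fun a ha => inn_le_autInducedBy hn.1 ha
  have hA1 : A.map π ≠ ⊥ := by
    intro h
    obtain ⟨n, hn', hnP⟩ := exists_mem_not_mem_normalizer (S := S) hS hPS
    have hm : conjAut n hn'.2 ∈ autInducedBy S P := conjAut_mem hn'.1 hn'.2
    have h1 : π ⟨_, autInducedBy_le_autGroup hn.1 hm⟩ ∈ A.map π := Subgroup.mem_map_of_mem π hm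
    rw [h, Subgroup.mem_bot, QuotientGroup.mk'_apply, QuotientGroup.eq_one_iff] at h1
    exact hnP (mem_of_conjAut_mem_inn hn'.1 hn'.2 hn.1 hC h1)
  refine ⟨?_, ?_, (hAp.map π).toSylow hi, kGeneratedCore_le fun T hT hT1 => ?_⟩
  · obtain ⟨k, hk⟩ := IsPGroup.iff_card.1 (hAp.map π)
    have hk0 : k ≠ 0 := fun h0 => hA1 (Subgroup.eq_bot_of_card_eq _ (by rw [hk, h0, pow_zero]))
    exact (show p ∣ Nat.card (A.map π) by rw [hk]; exact dvd_pow_self p hk0).trans
      (Subgroup.card_subgroup_dvd_card _)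
  · intro htop
    refine hne (le_antisymm (extGroup_le_autGroup hn.1) fun α hα => ?_)
    have h1 : π ⟨α, hα⟩ ∈ ((extGroup F P).subgroupOf X).map π := htop ▸ Subgroup.mem_top _
    rw [← Subgroup.mem_comap, Subgroup.comap_map_eq_self] at h1
    · exact h1
    · rw [QuotientGroup.ker_mk']
      exact fun a ha => inn_le_extGroup hS hPS ha
  · intro y hy
    obtain ⟨⟨α, hα⟩, rfl⟩ := QuotientGroup.mk'_surjective I y
    refine Subgroup.mem_map_of_mem π ?_
    obtain ⟨t, ht, ht1⟩ := T.bot_or_exists_ne_one.resolve_left hT1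
    obtain ⟨⟨a, haX⟩, ha, rfl⟩ := Subgroup.mem_map.1 (hT ht)
    have h2 : π (⟨α, hα⟩ * ⟨a, haX⟩ * ⟨α, hα⟩⁻¹) ∈ A.map π := by
      refine hT ?_
      rw [map_mul, map_mul, map_inv]
      exact (Subgroup.mem_normalizer_iff.1 hy _).1 ht
    rw [← Subgroup.mem_comap, Subgroup.comap_map_eq_self hker] at h2
    obtain ⟨h, hh, eh⟩ := mem_autInducedBy_iff.1 (show α * a * α⁻¹ ∈ autInducedBy S P from h2)
    obtain ⟨n, hnS, en⟩ := mem_autInducedBy_iff.1 (show a ∈ autInducedBy S P from ha)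
    refine hext α hα ⟨n, ⟨⟨hnS, mem_normalizer_of_autFun en⟩, h, hh, fun x hx => ?_⟩, fun hnP => ?_⟩
    · rw [← en x hx, ← eh _ (autFun_mem α hx), ← autFun_mul _ _ hx, ← autFun_mul _ _ hx,
        inv_mul_cancel_right]
    · refine ht1 ((QuotientGroup.eq_one_iff _).2 ?_)
      show a ∈ Cfsg.Inn P
      rw [inn_eq_autInducedBy]
      exact mem_autInducedBy_iff.2 ⟨n, hnP, en⟩

theorem isEssential_of_extGroup_ne (hS : IsPGroup p S) (hF : F.IsSaturated p) (hPS : P < S)
    (hn : F.IsFullyNormalized P) (hne : extGroup F P ≠ F.autGroup P) : F.IsEssential p P := by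
  obtain ⟨hc, hN, hE⟩ := centric_embedded_of_extGroup_ne hS hF hPS hn hne
  exact ⟨hc, hn, hN, _, hE⟩

/-- Alperin's fusion theorem, only using automizers of subgroups no smaller than the source. -/
theorem isMap_of_autGroup_le_above (hS : IsPGroup p S) (hF : F.IsSaturated p) {E : FusionSystem S}
    (hE : ∀ R : Subgroup Ω, Nat.card P ≤ Nat.card R → (R = S ∨ F.IsEssential p R) →
      F.autGroup R ≤ E.autGroup R)
    (hf : IsMap F P f) : IsMap E P f := by
  induction hk : Nat.card S - Nat.card P using Nat.strong_induction_on generalizing P f with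
  | _ k ih =>
  have hlt : ∀ {Q T : Subgroup Ω}, Nat.card Q = Nat.card P → Q < T → T ≤ S →
      Nat.card S - Nat.card T < k := fun {Q T} hQ hQT hT => by
    have h1 := card_lt_of_lt hT hQT
    have h2 : Nat.card T ≤ Nat.card S := card_le_of_le' le_rfl hT
    omega
  by_cases hPS : P = S
  · subst hPS
    have himg : img P f = P := eq_of_le_of_card_le le_rfl hf.img_le hf.card_img.ge
    exact ((mem_autGroup_iff le_rfl).1 (hE P le_rfl (Or.inl rfl) (autOf_mem hf himg))).congr
      fun x hx => (autFun_autOf hf himg hx).symm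
  have hne : ∀ {Q : Subgroup Ω}, Nat.card Q = Nat.card P → Q ≠ S := fun {Q} hQ he =>
    hPS (eq_of_le_of_card_le le_rfl hf.le (by rw [← hQ, he]))
  obtain ⟨P', hPP', hP'⟩ := exists_fullyNormalized (F := F) hf.le
  obtain ⟨hauto, hrec⟩ := IsSaturated.automized_receptive hS hF hP'
  have hcP' : Nat.card P' = Nat.card P := isConj_card hPP'
  obtain ⟨g, hg, hgimg, -⟩ := exists_map_normalizer hS hauto hrec hPP'
  obtain ⟨g', hg', hg'img, -⟩ := exists_map_normalizer hS hauto hrec
    (isConj_trans (isConj_symm (isConj_iff.2 ⟨f, hf, rfl⟩)) hPP')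
  have hgE : IsMap E P g := (ih _ (hlt rfl (lt_normalizerIn hS hf.le hPS) inf_le_left) (fun R hR => hE R
      ((card_le_of_le' inf_le_left (le_normalizerIn hf.le)).trans hR)) hg rfl).mono
    (le_normalizerIn hf.le)
  have hg'E : IsMap E (img P f) g' := (ih _ (hlt hf.card_img
    (lt_normalizerIn hS hf.img_le (hne hf.card_img)) inf_le_left) (fun R hR => hE R
      (hf.card_img ▸ (card_le_of_le' inf_le_left (le_normalizerIn hf.img_le)).trans hR)) hg' rfl).mono
    (le_normalizerIn hf.img_le)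
  obtain ⟨gi, hgi, hgi1, hgi2⟩ := hgE.exists_inv
  rw [hgimg] at hgi hgi2
  obtain ⟨gi', hgi', hgi'1, -⟩ := hg'E.exists_inv
  rw [hg'img] at hgi'
  obtain ⟨gF, hgF, hgF1, hgF2⟩ := (hg.mono (le_normalizerIn hf.le)).exists_inv
  rw [hgimg] at hgF hgF2
  have hmem : ∀ x ∈ P, f x ∈ img P f := fun x hx => hf.mem_img.2 ⟨x, hx, rfl⟩
  set α₀ := g' ∘ f ∘ gF with hα₀
  have hα₀m : IsMap F P' α₀ :=
    (hgF.comp hf fun y hy => (hgF2 y hy).1).comp (hg'.mono (le_normalizerIn hf.img_le))
      fun y hy => hmem _ (hgF2 y hy).1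
  have hα₀img : img P' α₀ = P' := by
    refine eq_of_le_of_card_le hP'.1 (fun y hy => ?_) hα₀m.card_img.ge
    obtain ⟨x, hx, rfl⟩ := hα₀m.mem_img.1 hy
    rw [← hg'img]
    exact (hg'.mono (le_normalizerIn hf.img_le)).mem_img.2 ⟨_, hmem _ (hgF2 x hx).1, rfl⟩
  have hP'S : P' < S := lt_of_le_of_ne hP'.1 (hne hcP')
  have hle : F.autGroup P' ≤ E.autGroup P' := by
    by_cases he : extGroup F P' = F.autGroup P'
    · rw [← he]
      refine (Subgroup.closure_le _).2 ?_
      rintro α ⟨Q, u, hQ, hu, hua⟩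
      exact (mem_autGroup_iff hP'.1).2 (((ih _ (hlt hcP' hQ hu.le) (fun R hR => hE R
        (hcP' ▸ (card_le_of_le' hu.le hQ.le).trans hR)) hu rfl).mono hQ.le).congr
        fun x hx => (hua x hx).symm)
    · exact hE P' hcP'.ge (Or.inr (isEssential_of_extGroup_ne hS hF hP'S hP' he))
  have hαE : IsMap E P' α₀ := ((mem_autGroup_iff hP'.1).1 (hle (autOf_mem hα₀m hα₀img))).congr
    fun x hx => (autFun_autOf hα₀m hα₀img hx).symm
  have hgP : ∀ x ∈ P, g x ∈ P' := fun x hx => hgimg ▸ hgE.mem_img.2 ⟨x, hx, rfl⟩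
  have hαP : ∀ x ∈ P', α₀ x ∈ P' := fun x hx => hα₀img.le (hα₀m.mem_img.2 ⟨x, hx, rfl⟩)
  refine ((hgE.comp hαE hgP).comp hgi' fun x hx => hαP _ (hgP x hx)).congr fun x hx => ?_
  show f x = gi' (g' (f (gF (g x))))
  rw [hgF1 x hx, hgi'1 _ (hmem x hx)]

/-- Alperin's fusion theorem. -/
theorem isMap_of_autGroup_le (hS : IsPGroup p S) (hF : F.IsSaturated p) {E : FusionSystem S}
    (hE : ∀ P : Subgroup Ω, (P = S ∨ F.IsEssential p P) → F.autGroup P ≤ E.autGroup P)
    (hf : IsMap F P f) : IsMap E P f :=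
  isMap_of_autGroup_le_above hS hF (fun R _ hR => hE R hR) hf

theorem le_of_autGroup_le (hS : IsPGroup p S) (hF : F.IsSaturated p) {E : FusionSystem S}
    (hE : ∀ P : Subgroup Ω, (P = S ∨ F.IsEssential p P) → F.autGroup P ≤ E.autGroup P) :
    F ≤ E := fun _ _ hφ =>
  mem_hom_iff.2 (isMap_of_autGroup_le hS hF hE (isMap_toFun hφ))

theorem isRadical_of_isEssential (hS : IsPGroup p S) (hP : F.IsEssential p P) :
    F.IsRadical p P := by
  obtain ⟨-, hn, _, E, hE⟩ := hP
  haveI := finite_of_le hn.1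
  haveI := finite_mulAut (P := P)
  refine ⟨hn.1, ?_⟩
  set X := F.autGroup P with hX
  set I := (Cfsg.Inn P).subgroupOf X with hI
  have hIp : IsPGroup p I := ((isPGroup_autInducedBy hS).to_le
    (inn_le_autInducedBy hn.1)).of_equiv (Subgroup.subgroupOfEquivOfLe (inn_le_autGroup hn.1)).symm
  haveI := CfsgLib.Coprime.pCore_normal' (G := X) p
  haveI : ((Cfsg.pCore p X).map (QuotientGroup.mk' I)).Normal :=
    Subgroup.Normal.map inferInstance _ (QuotientGroup.mk'_surjective I)
  have hbot := eq_bot_of_embedded hE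
    (N := (Cfsg.pCore p X).map (QuotientGroup.mk' I))
    ((CfsgLib.Coprime.pCore_isPGroup p).map _)
  have heq : Cfsg.pCore p X = I := by
    refine le_antisymm ?_ (CfsgLib.Coprime.le_pCore hIp)
    rwa [Subgroup.map_eq_bot_iff, QuotientGroup.ker_mk'] at hbot
  rw [heq, Subgroup.subgroupOf_map_subtype, inf_eq_left.2 (inn_le_autGroup hn.1)]

end Saturated

end CfsgLib.Fusion
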