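import Cfsg.Agent.Lib.Fusion.System.QdNormal
import Cfsg.Agent.Lib.Fusion.System.TransferApps
import Cfsg.Agent.Lib.Fusion.Transfer

/-!
# Characteristic functors controlling the focal subgroup

If a functor controls `O_p(L) ∩ L'` in all groups of characteristic `p`, then the normalizer system
of its value on `S` has the focal subgroup of the whole saturated system.
-/

set_option autoImplicit false
set_option linter.style.haveILetI false
set_option maxHeartbeats 800000

open Subgroup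
open scoped Classical commutatorElement

namespace CfsgLib.Fusion.FunctorFocal

open Cfsg (FusionSystem)
open Cfsg.FusionSystem (normalizerIn centralizerIn preimageAlong)

universe u

variable {Ω : Type u} [Group Ω] {S : Subgroup Ω} {F : FusionSystem S} {p : ℕ}

/-- The maps congruent to the identity modulo `K`. -/
noncomputable def congSystem (F : FusionSystem S) (K : Subgroup Ω) (hK : ⁅S, S⁆ ≤ K) :
    FusionSystem S :=
  mkSystem F S (fun P f => IsMap F P f ∧ ∀ x ∈ P, x⁻¹ * f x ∈ K)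
    (fun _ _ h => ⟨h.1, h.1.le, fun _ hx => h.1.mem_S hx⟩)
    (fun P f g h he => ⟨h.1.congr he, fun x hx => by rw [he x hx]; exact h.2 x hx⟩)
    (fun P t hP ht => ⟨isMap_conj hP ht, fun x hx => by
      have h := hK (Subgroup.commutator_mem_commutator (inv_mem (hP hx)) ht)
      simpa [commutatorElement_def, mul_assoc] using h⟩)
    (fun P R f g hf hg hfR => ⟨hf.1.comp hg.1 hfR, fun x hx => by
      have h := K.mul_mem (hf.2 x hx) (hg.2 (f x) (hfR x hx))
      simpa [Function.comp_apply, mul_assoc] using h⟩)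
    (fun P f f' hf hf' hinv => ⟨hf', fun y hy => by
      obtain ⟨x, hx, rfl⟩ := hf.1.mem_img.1 hy
      rw [hinv x hx]
      simpa using K.inv_mem (hf.2 x hx)⟩)

theorem isMap_congSystem_iff {K : Subgroup Ω} {hK : ⁅S, S⁆ ≤ K} {P : Subgroup Ω} {f : Ω → Ω} :
    IsMap (congSystem F K hK) P f ↔ IsMap F P f ∧ ∀ x ∈ P, x⁻¹ * f x ∈ K :=
  isMap_mkSystem_iff _

/-- The hypotheses on the functor. -/
structure FocalFunctor (p : ℕ) (W : ∀ (A : Type u) [Group A], Subgroup A) : Prop where
  nontrivial : ∀ (A : Type u) [Group A] [Finite A], IsPGroup p A → Nontrivial A → W A ≠ ⊥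
  natural : ∀ (A B : Type u) [Group A] [Group B] [Finite A], IsPGroup p A → ∀ φ : A ≃* B,
    (W A).map φ.toMonoidHom = W B
  loc : ∀ (L : Type u) [Group L] [Finite L] (T : Sylow p L),
    Subgroup.centralizer ((Cfsg.pCore p L : Subgroup L) : Set L) ≤ Cfsg.pCore p L →
    Cfsg.pCore p L ⊓ commutator L = Cfsg.pCore p L ⊓
      (commutator ↥(Subgroup.normalizer (wSub W (T : Subgroup L) : Set L))).map
        (Subgroup.normalizer (wSub W (T : Subgroup L) : Set L)).subtype

/-- The focal subgroup of the maps normalizing the value of the functor. -/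
def wFocal (W : ∀ (A : Type u) [Group A], Subgroup A) (F : FusionSystem S) : Subgroup Ω :=
  Subgroup.closure {y | ∃ (X : Subgroup Ω) (f : Ω → Ω) (x : Ω), IsMap F X f ∧ wSub W S ≤ X ∧
    img (wSub W S) f = wSub W S ∧ x ∈ X ∧ x⁻¹ * f x = y}

variable {W : ∀ (A : Type u) [Group A], Subgroup A}

theorem map_mem_wFocal {X : Subgroup Ω} {f : Ω → Ω} (hf : IsMap F X f) (hV : wSub W S ≤ X)
    (himg : img (wSub W S) f = wSub W S) {x : Ω} (hx : x ∈ X) : x⁻¹ * f x ∈ wFocal W F :=
  Subgroup.subset_closure ⟨X, f, x, hf, hV, himg, hx, rfl⟩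

theorem wFocal_le_S : wFocal W F ≤ S := by
  refine (Subgroup.closure_le _).2 ?_
  rintro y ⟨X, f, x, hf, -, -, hx, rfl⟩
  exact S.mul_mem (S.inv_mem (hf.le hx)) (hf.mem_S hx)

theorem wFocal_mono {E : FusionSystem S} (h : E ≤ F) : wFocal W E ≤ wFocal W F := by
  refine (Subgroup.closure_le _).2 ?_
  rintro y ⟨X, f, x, hf, hV, himg, hx, rfl⟩
  exact map_mem_wFocal (isMap_of_le h hf) hV himg hx

theorem wFocal_le_focal : wFocal W F ≤ F.focalSubgroup := by
  refine (Subgroup.closure_le _).2 ?_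
  rintro y ⟨X, f, x, hf, -, -, hx, rfl⟩
  exact map_mem_focal hf hx

theorem derived_le_wFocal [Finite S] (hW : FocalFunctor p W) (hS : IsPGroup p S) :
    ⁅S, S⁆ ≤ wFocal W F := by
  rw [Subgroup.commutator_le]
  intro a ha b hb
  have hn : b ∈ normalizerIn S (wSub W S) := (normalizerIn_wSub_self W hW.natural hS).ge hb
  have himg : img (wSub W S) (fun x => b * x * b⁻¹) = wSub W S :=
    (img_conj _ b).trans (conjBy_eq_iff.2 hn.2)
  have h := map_mem_wFocal (isMap_conj (F := F) le_rfl hb) (wSub_le W S) himg (inv_mem ha)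
  simpa [commutatorElement_def, mul_assoc] using h

theorem wSub_ne_bot' [Finite S] (hW : FocalFunctor p W) (hS : IsPGroup p S) (h1 : S ≠ ⊥) :
    wSub W S ≠ ⊥ := by
  haveI : Nontrivial S := (Subgroup.nontrivial_iff_ne_bot S).2 h1
  rw [wSub, Ne, Subgroup.map_eq_bot_iff_of_injective _ S.subtype_injective]
  exact hW.nontrivial S hS inferInstance

/-- All maps are congruent to the identity modulo `wFocal`, in systems smaller than `n`. -/
def CongBelow (p : ℕ) (W : ∀ (A : Type u) [Group A], Subgroup A) (n : ℕ) : Prop :=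
  ∀ (Ω : Type u) [Group Ω] (S : Subgroup Ω) [Finite S], Nat.card S < n → IsPGroup p S →
    ∀ F : FusionSystem S, F.IsSaturated p → ∀ (P : Subgroup Ω) (f : Ω → Ω), IsMap F P f →
      ∀ x ∈ P, x⁻¹ * f x ∈ wFocal W F

variable [Finite S] [Fact p.Prime]

/-- Without a nontrivial normal subgroup, all maps are congruent to the identity. -/
theorem isMap_cong_of_core_bot (hW : FocalFunctor p W) (hS : IsPGroup p S) (hF : F.IsSaturated p)
    (ihS : CongBelow p W (Nat.card S))
    (hproper : ∀ E' : FusionSystem S, E' ≤ F → E'.IsSaturated p →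
      (∃ P f, IsMap F P f ∧ ¬ IsMap E' P f) → ∀ (P : Subgroup Ω) (f : Ω → Ω), IsMap E' P f →
        IsMap (congSystem F (wFocal W F) (derived_le_wFocal hW hS)) P f)
    (hS1 : S ≠ ⊥) (hcore : F.core = ⊥) :
    ∀ (P : Subgroup Ω) (f : Ω → Ω), IsMap F P f →
      IsMap (congSystem F (wFocal W F) (derived_le_wFocal hW hS)) P f := by
  set E := congSystem F (wFocal W F) (derived_le_wFocal hW hS) with hE
  have key : ∀ (j : ℕ) (P : Subgroup Ω), Nat.card S - Nat.card (normalizerIn S P) = j →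
      F.IsFullyNormalized P → P ≠ ⊥ → ∀ (X : Subgroup Ω) (g : Ω → Ω), IsMap F X g → P ≤ X →
      X ≤ Subgroup.normalizer (P : Set Ω) → img P g = P → IsMap E X g := by
    intro j
    induction j using Nat.strong_induction_on with
    | _ j IH =>
    intro P hj hP hP1 X g hg hPX hXN hgP
    set T := normalizerIn S P with hT
    by_cases hTS : T = S
    · have hn' : S ≤ normalizerIn S P := hTS.ge
      refine hproper (nSystem F S P hn' hP.1)
        (le_of_isMap fun R f h => (isMap_nSystem_iff.1 h).isMap)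
        (isSaturated_nSystem_over hS hF hP.1 hn') ?_ X g
        (isMap_nSystem_iff.2 ⟨hg.le, fun x hx => hg.mem_S hx, g, by rwa [sup_eq_left.2 hPX],
          fun _ _ => rfl, hgP⟩)
      by_contra hall'
      push Not at hall'
      have hnormal : F.IsNormal P := isNormal_iff.2
        ⟨hP.1, fun R f hf => (isMap_nSystem_iff.1 (hall' R f hf)).2.2⟩
      exact hP1 (eq_bot_iff.2 (hcore ▸ le_core hnormal))
    have hTle : T ≤ S := inf_le_left
    have hTlt : Nat.card T < Nat.card S := card_lt_of_lt le_rfl (lt_of_le_of_ne hTle hTS)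
    haveI : Finite T := finite_of_le hTle
    have hTp : IsPGroup p T := hS.to_le hTle
    obtain ⟨N, hN⟩ := exists_normalizerSystem (F := F) hP.1
    have hNc := ihS Ω T hTlt hTp N (isSaturated_normalizerSystem hS hF hP hN)
    set U' := wSub W T with hU'def
    have hU'T : U' ≤ T := wSub_le W T
    have hTne : T ≠ ⊥ := fun h => hP1 (le_bot_iff.1 (h ▸ le_normalizerIn hP.1))
    have hU'ne : U' ≠ ⊥ := wSub_ne_bot' hW hTp hTne
    have hU'S : U' ≤ S := hU'T.trans hTle
    have hTU' : normalizerIn S T ≤ normalizerIn S U' :=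
      normalizerIn_le_normalizerIn_wSub W hW.natural hS hTle
    have hlt : Nat.card T < Nat.card (normalizerIn S U') :=
      lt_of_lt_of_le (card_lt_of_lt inf_le_left (lt_normalizerIn hS hTle hTS))
        (card_le_of_le' inf_le_left hTU')
    have big : ∀ {R : Subgroup Ω} {h : Ω → Ω}, IsMap F R h → Nat.card T < Nat.card R →
        IsMap E R h := by
      intro R h hh hR
      refine isMap_of_autGroup_le_above hS hF (fun R' hRR' hR' α hα => ?_) hh
      have hR'n : F.IsFullyNormalized R' :=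
        hR'.elim (fun e => by subst e; exact isFullyNormalized_self) fun e => e.2.1
      have hR'S := hR'n.1
      have h1 : Nat.card R' ≤ Nat.card (normalizerIn S R') :=
        card_le_of_le' inf_le_left (le_normalizerIn hR'S)
      have h2 : Nat.card (normalizerIn S R') ≤ Nat.card S := card_le_of_le' le_rfl inf_le_left
      refine (mem_autGroup_iff hR'S).2 (IH _ (by omega) R' rfl hR'n (fun e => ?_) R' _
        ((mem_autGroup_iff hR'S).1 hα) le_rfl Subgroup.le_normalizer (img_autFun α))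
      rw [e, Subgroup.card_bot] at hRR'
      have : 0 < Nat.card T := Nat.card_pos
      omega
    obtain ⟨U, hUconj, hU⟩ := exists_fullyNormalized (F := F) hU'S
    obtain ⟨h₁, h₂⟩ := IsSaturated.automized_receptive hS hF hU
    obtain ⟨θ, hθ, hθU, hθN⟩ := exists_map_normalizer hS h₁ h₂ hUconj
    have hθE : IsMap E (normalizerIn S U') θ := big hθ hlt
    -- the maps normalizing the value of the functor on `T`
    have hclaim : ∀ (Y : Subgroup Ω) (g' : Ω → Ω), IsMap F Y g' → U' ≤ Y →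
        Y ≤ normalizerIn S U' → img U' g' = U' → IsMap E Y g' := by
      intro Y g' hg' hU'Y hX2 hg'U
      have hθ2 := hθ.mono hX2
      obtain ⟨θ', hθ', hθ1, -⟩ := hθE.exists_inv
      obtain ⟨θF, hθF, hθF1, hθF2⟩ := hθ2.exists_inv
      have hg'mem : ∀ x ∈ Y, g' x ∈ normalizerIn S U' := fun x hx => by
        have := map_mem_normalizerIn hg' hU'Y hx (hX2 hx).2
        rwa [hg'U] at this
      have hg₁ : IsMap F (img Y θ) (θ ∘ g' ∘ θF) :=
        (hθF.comp hg' fun y hy => (hθF2 y hy).1).comp hθ fun y hy => hg'mem _ (hθF2 y hy).1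
      have hUX : U ≤ img Y θ := hθU ▸ IsMap.img_mono hθ2 hU'Y
      have hg₁E : IsMap E (img Y θ) (θ ∘ g' ∘ θF) := by
        have h1 : Nat.card (normalizerIn S U') ≤ Nat.card (normalizerIn S U) :=
          hU.2 _ (isConj_symm hUconj)
        have h2 : Nat.card (normalizerIn S U) ≤ Nat.card S := card_le_of_le' le_rfl inf_le_left
        refine IH _ (by omega) U rfl hU (fun e => hU'ne (Subgroup.eq_bot_of_card_eq _ ?_)) _ _ hg₁
          hUX (fun y hy => ?_) ?_
        · rw [← (hθ.mono (le_normalizerIn hU'S)).card_img, hθU, e, Subgroup.card_bot]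
        · obtain ⟨x, hx, rfl⟩ := hθ2.mem_img.1 hy
          exact (hθN x (hX2 hx)).2
        · refine img_eq_of_map_le hU.1 hg₁ hUX fun y hy => ?_
          obtain ⟨x, hx, rfl⟩ := (hθ.mono (le_normalizerIn hU'S)).mem_img.1 (hθU.ge hy)
          show θ (g' (θF (θ x))) ∈ U
          rw [hθF1 x (hU'Y hx)]
          exact hθU.le ((hθ.mono (le_normalizerIn hU'S)).mem_img.2
            ⟨_, mem_of_img_eq hg' hU'Y hg'U hx, rfl⟩)
      refine (((hθE.mono hX2).comp hg₁E fun x hx => hθ2.mem_img.2 ⟨x, hx, rfl⟩).comp hθ'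
        fun x hx => ?_).congr fun x hx => ?_
      · show θ (g' (θF (θ x))) ∈ img (normalizerIn S U') θ
        rw [hθF1 x hx]
        exact hθ.mem_img.2 ⟨g' x, hg'mem x hx, rfl⟩
      · show g' x = θ' (θ (g' (θF (θ x))))
        rw [hθF1 x hx, hθ1 _ (hg'mem x hx)]
    have hKN : wFocal W N ≤ wFocal W F := by
      refine (Subgroup.closure_le _).2 ?_
      rintro y ⟨Y, f, x, hf, hVY, himg, hx, rfl⟩
      have hYT : Y ≤ T := hf.le
      have hfF : IsMap F Y f := ((isMap_of_isNormalizerSystem hN).1 hf).isMap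
      exact (isMap_congSystem_iff.1 (hclaim Y f hfF hVY
        (hYT.trans ((le_normalizerIn hTle).trans hTU')) himg)).2 x hx
    have hgN : IsMap N X g := by
      refine (isMap_of_isNormalizerSystem hN).2
        ⟨le_inf hg.le hXN, fun x hx => ?_, g, by rwa [sup_eq_left.2 hPX], fun _ _ => rfl, hgP⟩
      have := map_mem_normalizerIn hg hPX hx (hXN hx)
      rwa [hgP] at this
    exact isMap_congSystem_iff.2 ⟨hg, fun x hx => hKN (hNc X g hgN x hx)⟩
  intro P f hf
  refine isMap_of_autGroup_le hS hF (fun R hR α hα => ?_) hf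
  have hRn : F.IsFullyNormalized R :=
    hR.elim (fun e => by subst e; exact isFullyNormalized_self) fun e => e.2.1
  have hRne : R ≠ ⊥ := fun e => by
    rcases hR with h | h
    · exact hS1 (h.symm.trans e)
    · subst e
      refine hS1 (le_bot_iff.1 fun x hx => ?_)
      exact centralizerIn_le_of_isCentric h.1 ⟨hx, Subgroup.mem_centralizer_iff.2 fun y hy => by
        rw [Subgroup.mem_bot.1 hy, one_mul, mul_one]⟩
  exact (mem_autGroup_iff hRn.1).2 (key _ R rfl hRn hRne R _
    ((mem_autGroup_iff hRn.1).1 hα) le_rfl Subgroup.le_normalizer (img_autFun α))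

/-- Passing to the quotient by the largest normal subgroup. -/
theorem sub_mem_core_sup (hW : FocalFunctor p W) (hS : IsPGroup p S) (hF : F.IsSaturated p)
    (ihS : CongBelow p W (Nat.card S))
    (hproper : ∀ E' : FusionSystem S, E' ≤ F → E'.IsSaturated p →
      (∃ P f, IsMap F P f ∧ ¬ IsMap E' P f) → ∀ (P : Subgroup Ω) (f : Ω → Ω), IsMap E' P f →
        IsMap (congSystem F (wFocal W F) (derived_le_wFocal hW hS)) P f)
    (hcore : F.core ≠ ⊥) {P : Subgroup Ω} {f : Ω → Ω} (hf : IsMap F P f) {x : Ω} (hx : x ∈ P) :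
    x⁻¹ * f x ∈ F.core ⊔ wFocal W F := by
  set Q := F.core with hQdef
  have hQ : F.IsNormal Q := isNormal_core
  by_cases hQS : Q = S
  · exact Subgroup.mem_sup_left (hQS.ge (S.mul_mem (S.inv_mem (hf.le hx)) (hf.mem_S hx)))
  have hQn : S ≤ normalizerIn S Q :=
    le_normalizerIn_of_stronglyClosed (stronglyClosed_of_isNormal hQ)
  haveI : (Q.subgroupOf S).Normal :=
    (Subgroup.normal_subgroupOf_iff_le_normalizer hQ.1).2 (hQn.trans inf_le_right)
  let α : S →* S ⧸ Q.subgroupOf S := QuotientGroup.mk' _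
  have hker : preimageAlong α ⊥ = Q := by
    rw [preimageAlong, MonoidHom.comap_bot, QuotientGroup.ker_mk']
    exact Subgroup.map_subgroupOf_eq_of_le hQ.1
  have hKn : F.IsNormal (preimageAlong α ⊥) := hker.symm ▸ hQ
  have hS' : IsPGroup p α.range := hS.of_surjective _ α.rangeRestrict_surjective
  haveI : Finite α.range := Finite.of_surjective _ α.rangeRestrict_surjective
  have hlt : Nat.card α.range < Nat.card S := by
    rw [MonoidHom.range_eq_top.2 (QuotientGroup.mk'_surjective _), Subgroup.card_top,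
      Subgroup.card_eq_card_quotient_mul_card_subgroup (Q.subgroupOf S)]
    refine lt_mul_of_one_lt_right Nat.card_pos ?_
    rw [Nat.card_congr (Subgroup.subgroupOfEquivOfLe hQ.1).toEquiv]
    haveI := finite_of_le hQ.1
    exact (Subgroup.one_lt_card_iff_ne_bot _).2 hcore
  have hcong := ihS _ α.range hlt hS' _ (isSaturated_quotientSystem hKn hS hF)
  set V' := wSub W α.range with hV'
  set V2 := preimageAlong α V' with hV2
  have hV2S : V2 ≤ S := preimageAlong_le α V'
  have hn2 : S ≤ normalizerIn S V2 := by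
    intro s hs
    refine ⟨hs, Subgroup.mem_normalizer_iff.2 fun y => ?_⟩
    have hm := (normalizerIn_wSub_self W hW.natural hS').ge (ext1_mem_range α s)
    rw [hV2, mem_preimageAlong, mem_preimageAlong]
    constructor
    · rintro ⟨hy, hyV⟩
      refine ⟨S.mul_mem (S.mul_mem hs hy) (S.inv_mem hs), ?_⟩
      rw [ext1_conj α hs hy]
      exact (Subgroup.mem_normalizer_iff.1 hm.2 _).1 hyV
    · rintro ⟨hy, hyV⟩
      have hyS : y ∈ S := by
        have := S.mul_mem (S.mul_mem (S.inv_mem hs) hy) hs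
        rwa [show s⁻¹ * (s * y * s⁻¹) * s = y by group] at this
      refine ⟨hyS, ?_⟩
      rw [ext1_conj α hs hyS] at hyV
      exact (Subgroup.mem_normalizer_iff.1 hm.2 _).2 hyV
  have hrange : α.range ≠ ⊥ := fun h0 => hQS (le_antisymm hQ.1 fun z hz => hker.le
    (mem_preimageAlong.2 ⟨hz, h0.le (ext1_mem_range α z)⟩))
  have hN2 : ∀ (R : Subgroup Ω) (g : Ω → Ω), IsMap (nSystem F S V2 hn2 hV2S) R g →
      IsMap (congSystem F (wFocal W F) (derived_le_wFocal hW hS)) R g := by
    refine hproper _ (le_of_isMap fun R g h => (isMap_nSystem_iff.1 h).isMap)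
      (isSaturated_nSystem_over hS hF hV2S hn2) ?_
    by_contra hall'
    push Not at hall'
    have hnormal : F.IsNormal V2 := isNormal_iff.2
      ⟨hV2S, fun R g hg => (isMap_nSystem_iff.1 (hall' R g hg)).2.2⟩
    refine wSub_ne_bot' hW hS' hrange (eq_bot_iff.2 fun y hy => ?_)
    obtain ⟨z, rfl⟩ := wSub_le W _ hy
    have h1 : (z : Ω) ∈ preimageAlong α ⊥ :=
      hker.ge ((le_core hnormal).trans_eq hQdef.symm
        (mem_preimageAlong.2 ⟨z.2, by rwa [ext1_coe]⟩))
    rw [← ext1_coe α z]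
    exact (mem_preimageAlong.1 h1).2
  have hKS : wFocal W F ≤ S := wFocal_le_S
  have hK' : wFocal W (quotientSystem hKn) ≤ imgι α (wFocal W F) := by
    refine (Subgroup.closure_le _).2 ?_
    rintro _ ⟨Y', f', y, hf', hVY, himg, hy, rfl⟩
    obtain ⟨hY', g, hg, hge⟩ := isMap_quotientSystem hKn hf'
    have hV2R : V2 ≤ preimageAlong α Y' := preimageAlong_mono hVY
    have hgV : img V2 g = V2 := img_eq_of_map_le hV2S hg hV2R fun z hz => by
      refine mem_preimageAlong.2 ⟨hg.mem_S (hV2R hz), ?_⟩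
      rw [← hge z (hV2R hz)]
      exact mem_of_img_eq hf' hVY himg (mem_preimageAlong.1 hz).2
    have hgE := isMap_congSystem_iff.1 (hN2 _ g (isMap_nSystem_iff.2 ⟨hg.le,
      fun z hz => hg.mem_S hz, g, by rwa [sup_eq_left.2 hV2R], fun _ _ => rfl, hgV⟩))
    obtain ⟨z, hz, rfl⟩ := exists_preimage hY' hy
    rw [hge z hz, ← ext1_inv α (hg.le hz), ← ext1_mul α (S.inv_mem (hg.le hz)) (hg.mem_S hz)]
    exact ext1_mem_imgι hKS (hgE.2 z hz)
  obtain ⟨g, hg, hgf, -⟩ := (isNormal_iff.1 hQ).2 P f hf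
  have hle : preimageAlong α (imgι α (P ⊔ Q)) ≤ P ⊔ Q :=
    (preimageAlong_imgι_le hg.le).trans (sup_le le_rfl (hker.le.trans le_sup_right))
  obtain ⟨φ', hφ', hφe⟩ := exists_qMap hKn (imgι_le_range (P ⊔ Q)) (hg.mono hle)
  have hxm : ext1 α x ∈ imgι α (P ⊔ Q) := ext1_mem_imgι hg.le (Subgroup.mem_sup_left hx)
  have h1 := hK' (hcong _ _ (isMap_toFun (F := quotientSystem hKn) hφ') _ hxm)
  rw [hφe x (mem_preimageAlong.2 ⟨hf.le hx, hxm⟩), hgf x hx, ← ext1_inv α (hf.le hx),
    ← ext1_mul α (S.inv_mem (hf.le hx)) (hf.mem_S hx)] at h1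
  obtain ⟨k, hk, hke⟩ := (mem_imgι hKS).1 h1
  have h2 := hker.le ((ext1_eq_iff (hKS hk) (S.mul_mem (S.inv_mem (hf.le hx)) (hf.mem_S hx))).1 hke)
  have h3 := mul_mem (Subgroup.mem_sup_right (S := Q) hk) (Subgroup.mem_sup_left h2)
  rwa [mul_inv_cancel_left] at h3

/-- If all maps act on `Q` like elements of `S`, the focal subgroup meets `Q` in `S'`. -/
theorem focal_inf_le_derived (hS : IsPGroup p S) (hF : F.IsSaturated p) {Q : Subgroup Ω}
    (hQ : Q ≤ S) (hall : ∀ (P : Subgroup Ω) (f : Ω → Ω), IsMap F P f → IMap F Q P f) :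
    F.focalSubgroup ⊓ Q ≤ ⁅S, S⁆ := by
  rintro z ⟨hzf, hzQ⟩
  obtain ⟨X, i1, i2, hX, hst, n, hn, hcard⟩ := Biset.exists_biset hS hF
  set r := Biset.sec (S := S) X
  set w : S := ⟨z, hQ hzQ⟩
  have hO : Nat.card (Biset.Orb (S := S) X) = n :=
    Nat.eq_of_mul_eq_mul_right Nat.card_pos ((Biset.card_eq_orb_mul hX r).symm.trans hcard)
  have h := Biset.transfer_eq_pow hX r (Abelianization.of (G := S)) w fun k f hf => by
    have hzk : ((w ^ k : S) : Ω) ∈ Q := by
      rw [SubmonoidClass.coe_pow]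
      exact pow_mem hzQ k
    obtain ⟨-, -, g, -, hge, s, hs, hgs⟩ := hall _ f hf
    have he : (⟨f ((w ^ k : S) : Ω), hf.mem_S (Subgroup.mem_zpowers _)⟩ : S) =
        ⟨s, hs⟩ * w ^ k * (⟨s, hs⟩ : S)⁻¹ := Subtype.ext (by
      show f ((w ^ k : S) : Ω) = s * ((w ^ k : S) : Ω) * s⁻¹
      rw [← hge _ (Subgroup.mem_zpowers _), hgs _ hzk])
    rw [he, map_mul, map_mul, map_inv, mul_inv_cancel_comm]
  rw [Biset.transfer_focal hX hst r _ (x := w) hzf, hO] at h
  have h1 : Abelianization.of w = 1 :=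
    pow_ne_one_of_not_dvd (hS.to_quotient (commutator S)) hn h.symm
  have h2 : w ∈ commutator S := by rwa [← Abelianization.ker_of, MonoidHom.mem_ker]
  have h3 := Subgroup.mem_map_of_mem S.subtype h2
  rwa [commutator_def, Subgroup.map_commutator, ← MonoidHom.range_eq_map,
    Subgroup.range_subtype] at h3

/-- The model of a system with a normal centric subgroup, with that subgroup normal. -/
theorem exists_model_normal (hS : IsPGroup p S) (hF : F.IsSaturated p) {Q : Subgroup Ω}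
    (hQ : F.IsNormal Q) (hc : F.IsCentric Q) :
    ∃ (L : Type u) (_ : Group L) (ι : S →* L), F.IsModel p L ι ∧ (imgι ι Q).Normal := by
  set T := normalizerIn S Q with hT
  have hTS : T = S := le_antisymm inf_le_left
    (le_normalizerIn_of_stronglyClosed (stronglyClosed_of_isNormal hQ))
  let E := nSystem F T Q le_rfl hQ.1
  have hE : F.IsNormalizerSystem Q E := fun P => Set.ext fun φ => by
    rw [mem_normalizerHom_iff]
    exact Iff.rfl
  obtain ⟨L, hL, ι, ⟨hfin, ⟨hinj, hreal⟩, ⟨R, hR⟩, hcore⟩, hn⟩ :=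
    exists_local_model hS hF (isFullyNormalized_of_isNormal hQ) hc hE
  refine ⟨L, hL, ι.comp (Subgroup.inclusion hTS.ge), ⟨hfin,
    ⟨hinj.comp (Subgroup.inclusion_injective _), fun P hP φ hφ => ?_⟩, ⟨R, ?_⟩, hcore⟩, ?_⟩
  · refine Iff.trans ⟨fun h => ?_, fun h => ?_⟩ (hreal P (hP.trans hTS.ge) φ fun x => hTS.ge (hφ x))
    · refine mem_hom_iff.2 (isMap_nSystem_iff.2 ⟨hP.trans hTS.ge, fun x hx => ?_, ?_⟩)
      · rw [toFun_apply φ hx]; exact hTS.ge (hφ _)
      · exact (isNormal_iff.1 hQ).2 P _ (isMap_toFun h)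
    · exact mem_hom_iff.2 (isMap_nSystem_iff.1 (isMap_toFun h)).isMap
  · rw [hR]
    ext l
    constructor
    · rintro ⟨⟨x, hx⟩, rfl⟩
      exact ⟨⟨x, hTS.le hx⟩, rfl⟩
    · rintro ⟨x, rfl⟩
      exact ⟨_, rfl⟩
  · have e : imgι (ι.comp (Subgroup.inclusion hTS.ge)) Q = (Q.subgroupOf T).map ι := by
      ext l
      constructor
      · rintro ⟨⟨x, hx⟩, hxQ, rfl⟩
        exact ⟨⟨x, hTS.ge hx⟩, hxQ, rfl⟩
      · rintro ⟨⟨x, hx⟩, hxQ, rfl⟩
        exact ⟨⟨x, hTS.le hx⟩, hxQ, rfl⟩
    rw [e]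
    exact hn

/-- With a normal centric subgroup `Q`, the local condition applies to `Q`. -/
theorem focal_inf_le_of_centric (hW : FocalFunctor p W) (hS : IsPGroup p S) (hF : F.IsSaturated p)
    {Q : Subgroup Ω} (hQ : F.IsNormal Q) (hQc : F.IsCentric Q) :
    F.focalSubgroup ⊓ Q ≤ wFocal W F := by
  obtain ⟨L, hL, ι, ⟨hfin, hreal, ⟨T, hT⟩, hc⟩, hn⟩ := exists_model_normal hS hF hQ hQc
  haveI := hfin
  haveI := hn
  rintro z ⟨hzf, hzQ⟩
  have hzS : z ∈ S := hQ.1 hzQ
  have hQp : IsPGroup p (Q.subgroupOf S) := hS.to_subgroup _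
  have hzO : ext1 ι z ∈ Cfsg.pCore p L :=
    CfsgLib.Coprime.le_pCore (hN := hn) (hQp.map ι) (ext1_mem_imgι hQ.1 hzQ)
  have hzC : ext1 ι z ∈ commutator L := by
    have hle : F.focalSubgroup ≤ ((commutator L).comap ι).map S.subtype := by
      refine (Subgroup.closure_le _).2 ?_
      rintro y ⟨P, φ, u, hφ, rfl⟩
      have hu : (u : Ω) ∈ S := (F.le_of_mem hφ).1 u.2
      have hφu : φ u ∈ S := (F.le_of_mem hφ).2 u
      obtain ⟨-, -, -, g, hg⟩ := (isMap_realized_iff hreal).1 (isMap_toFun hφ)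
      have h1 := hg u u.2
      rw [toFun_coe, ext1_apply ι hφu, ext1_apply ι hu] at h1
      refine ⟨(⟨u, hu⟩ : S)⁻¹ * ⟨φ u, hφu⟩, ?_, rfl⟩
      show ι _ ∈ commutator L
      rw [map_mul, map_inv, h1, _root_.commutator_def]
      have h2 := Subgroup.commutator_mem_commutator (Subgroup.mem_top (ι ⟨u, hu⟩)⁻¹)
        (Subgroup.mem_top g)
      simpa [commutatorElement_def, mul_assoc] using h2
    obtain ⟨a, ha, hae⟩ := hle hzf
    have hae' : (a : Ω) = z := hae
    rw [← hae', ext1_coe]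
    exact ha
  set VT := wSub W (T : Subgroup L) with hVT
  set M := Subgroup.normalizer (VT : Set L) with hM
  have himg : imgι ι (wSub W S) = VT := by
    rw [imgι_wSub W ι, ← map_wSub W hW.natural hS ι hreal.1 hT]
    rfl
  have hTM : (T : Subgroup L) ≤ M := fun t ht =>
    ((normalizerIn_wSub_self W hW.natural T.2).ge ht).2
  have hz' : ext1 ι z ∈ Cfsg.pCore p L ⊓ (commutator ↥M).map M.subtype :=
    (hW.loc L T hc).le ⟨hzO, hzC⟩
  obtain ⟨z', hz'c, hz'e⟩ := hz'.2
  let TM : Sylow p M := T.subtype hTM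
  have hz'T : z' ∈ (TM : Subgroup M) := by
    show (z' : L) ∈ (T : Subgroup L)
    rw [hT, show (z' : L) = ext1 ι z from hz'e]
    exact ext1_mem_range ι z
  have hz'f : z' ∈ (TM : Subgroup M).focalSubgroup := by
    rw [← commutator_inf_eq_focal (coprime_card_focalQuotient TM)]
    exact ⟨hz'c, hz'T⟩
  have hKS : wFocal W F ≤ S := wFocal_le_S
  have hfoc : (TM : Subgroup M).focalSubgroup ≤ (imgι ι (wFocal W F)).comap M.subtype := by
    rw [Subgroup.focalSubgroup_def, Subgroup.closure_le]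
    rintro _ ⟨hxu, x, hx, u, rfl⟩
    show ((⁅x, u⁆ : M) : L) ∈ imgι ι (wFocal W F)
    have hxi : ((x⁻¹ : M) : L) ∈ ι.range := hT.le (inv_mem hx : x⁻¹ ∈ (TM : Subgroup M))
    obtain ⟨a, ha⟩ := hxi
    set X := ((ι.range.comap (MulAut.conj (u : L)).toMonoidHom).comap ι).map S.subtype with hX
    have hXS : X ≤ S := Subgroup.map_subtype_le _
    have hXe : ∀ y ∈ X, (u : L) * ext1 ι y * (u : L)⁻¹ ∈ ι.range := by
      rintro _ ⟨y, hy, rfl⟩
      rw [show (S.subtype y : Ω) = (y : Ω) from rfl, ext1_coe]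
      exact hy
    obtain ⟨f, hf, hfu⟩ := exists_map_of_conj hreal hXS hXe
    have hVX : wSub W S ≤ X := fun y hy => by
      refine ⟨⟨y, wSub_le W S hy⟩, ?_, rfl⟩
      show (u : L) * ι ⟨y, wSub_le W S hy⟩ * (u : L)⁻¹ ∈ ι.range
      have h1 := ext1_mem_imgι (ι := ι) (wSub_le W S) hy
      rw [himg, ext1_apply ι (wSub_le W S hy)] at h1
      exact hT.le (wSub_le W (T : Subgroup L) ((Subgroup.mem_normalizer_iff.1 u.2 _).1 h1))
    have haX : (a : Ω) ∈ X := by
      refine ⟨a, ?_, rfl⟩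
      show (u : L) * ι a * (u : L)⁻¹ ∈ ι.range
      have h4 : ((u * x⁻¹ * u⁻¹ : M) : L) ∈ (T : Subgroup L) := by
        have h5 : x⁻¹ * ⁅x, u⁆ ∈ (TM : Subgroup M) := mul_mem (inv_mem hx) hxu
        rwa [commutatorElement_def, show x⁻¹ * (x * u * x⁻¹ * u⁻¹) = u * x⁻¹ * u⁻¹ by group] at h5
      rw [ha]
      exact hT.le h4
    have hfV : img (wSub W S) f = wSub W S := img_eq_of_map_le (wSub_le W S) hf hVX fun y hy => by
      refine mem_of_ext1_mem_imgι hreal.1 (wSub_le W S) (hf.mem_S (hVX hy)) ?_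
      rw [hfu y (hVX hy), himg]
      exact (Subgroup.mem_normalizer_iff.1 u.2 _).1 (himg ▸ ext1_mem_imgι (wSub_le W S) hy)
    have h6 := ext1_mem_imgι (ι := ι) hKS (map_mem_wFocal hf hVX hfV haX)
    rw [ext1_mul ι (S.inv_mem a.2) (hf.mem_S haX), ext1_inv ι a.2, hfu _ haX, ext1_coe, ha] at h6
    simpa [commutatorElement_def, mul_assoc] using h6
  have h7 : (z' : L) ∈ imgι ι (wFocal W F) := hfoc hz'f
  rw [show (z' : L) = ext1 ι z from hz'e] at h7
  exact mem_of_ext1_mem_imgι hreal.1 hKS hzS h7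

omit [Finite S] in
theorem congBelow (hW : FocalFunctor p W) : ∀ n, CongBelow p W n := by
  intro n
  induction n with
  | zero => intro Ω _ S _ h; exact absurd h (Nat.not_lt_zero _)
  | succ n ih =>
  intro Ω _ S _ hn hS
  have ihS : CongBelow p W (Nat.card S) := fun Ω' _ S' _ h => ih Ω' S' (by omega)
  suffices H : ∀ (k : ℕ) (F : FusionSystem S), {z : Subgroup S × (S → S) | ∃ f,
      IsMap F (z.1.map S.subtype) f ∧ ∀ x ∈ z.1, f x = z.2 x}.ncard = k →
      F.IsSaturated p → ∀ (P : Subgroup Ω) (f : Ω → Ω), IsMap F P f →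
        ∀ x ∈ P, x⁻¹ * f x ∈ wFocal W F from
    fun F hF => H _ F rfl hF
  intro k
  induction k using Nat.strong_induction_on with
  | _ k ihk =>
  intro F hk hF
  set K := wFocal W F with hKdef
  set E := congSystem F K (derived_le_wFocal hW hS) with hE
  suffices hall : ∀ (P : Subgroup Ω) (f : Ω → Ω), IsMap F P f → IsMap E P f from
    fun P f hf => (isMap_congSystem_iff.1 (hall P f hf)).2
  have hproper : ∀ E' : FusionSystem S, E' ≤ F → E'.IsSaturated p →
      (∃ P f, IsMap F P f ∧ ¬ IsMap E' P f) →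
      ∀ (P : Subgroup Ω) (f : Ω → Ω), IsMap E' P f → IsMap E P f := by
    rintro E' hEF hEs ⟨P, f, hf, hfE⟩ R g hg
    exact isMap_congSystem_iff.2 ⟨isMap_of_le hEF hg, fun x hx =>
      wFocal_mono hEF (ihk _ (hk ▸ ncard_maps_lt hEF hf hfE) E' rfl hEs R g hg x hx)⟩
  by_cases hS1 : S = ⊥
  · intro P f hf
    refine isMap_congSystem_iff.2 ⟨hf, fun x hx => ?_⟩
    have h1 : x = 1 := Subgroup.mem_bot.1 (hS1 ▸ hf.le hx)
    subst h1
    simp [hf.map_one]
  by_cases hcore : F.core = ⊥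
  · exact isMap_cong_of_core_bot hW hS hF ihS hproper hS1 hcore
  set Q := F.core with hQdef
  have hQ : F.IsNormal Q := isNormal_core
  -- it suffices to control the focal subgroup inside `Q`
  have hfin : F.focalSubgroup ⊓ Q ≤ K → ∀ (P : Subgroup Ω) (f : Ω → Ω), IsMap F P f →
      IsMap E P f := by
    intro hQK P f hf
    refine isMap_congSystem_iff.2 ⟨hf, fun x hx => ?_⟩
    have hfoc := map_mem_focal hf hx
    have hs := sub_mem_core_sup hW hS hF ihS hproper hcore hf hx
    have hKn : Q ≤ Subgroup.normalizer (K : Set Ω) := fun q hq => by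
      rw [Subgroup.mem_normalizer_iff]
      have key : ∀ t ∈ S, ∀ y ∈ K, t * y * t⁻¹ ∈ K := fun t ht y hy => by
        have h1 := K.mul_mem hy (derived_le_wFocal (F := F) hW hS
          (Subgroup.commutator_mem_commutator (inv_mem (wFocal_le_S hy)) ht))
        simpa [commutatorElement_def, mul_assoc] using h1
      exact fun y => ⟨key q (hQ.1 hq) y, fun hy => by
        have := key q⁻¹ (S.inv_mem (hQ.1 hq)) _ hy
        simpa [mul_assoc] using this⟩
    have hs' : x⁻¹ * f x ∈ ((Q ⊔ K : Subgroup Ω) : Set Ω) := hs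
    rw [Subgroup.coe_mul_of_left_le_normalizer_right Q K hKn] at hs'
    obtain ⟨q, hq, c, hc, hqc : q * c = _⟩ := Set.mem_mul.1 hs'
    have hqf : q ∈ F.focalSubgroup := by
      have h1 := mul_mem hfoc (inv_mem (wFocal_le_focal hc))
      rwa [← hqc, mul_inv_cancel_right] at h1
    rw [← hqc]
    exact K.mul_mem (hQK ⟨hqf, hq⟩) hc
  by_cases hQc : F.IsCentric Q
  · exact hfin (focal_inf_le_of_centric hW hS hF hQ hQc)
  have hQn : S ≤ normalizerIn S Q :=
    le_normalizerIn_of_stronglyClosed (stronglyClosed_of_isNormal hQ)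
  by_cases hinner : ∀ (P : Subgroup Ω) (f : Ω → Ω), IsMap F P f → IMap F Q P f
  · exact hfin ((focal_inf_le_derived hS hF hQ.1 hinner).trans (derived_le_wFocal hW hS))
  have hQfc := IsSaturated.isFullyCentralized hS hF (isFullyNormalized_of_isNormal hQ)
  set V₁ := Q ⊔ centralizerIn S Q with hV₁
  have hV₁S : V₁ ≤ S := sup_le hQ.1 inf_le_left
  have hV₁n : S ≤ normalizerIn S V₁ := fun s hs =>
    normalizerIn_le_normalizerIn_sup_centralizerIn (hQn hs)
  have hN₁ : ∀ (P : Subgroup Ω) (f : Ω → Ω),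
      IsMap (nSystem F S V₁ hV₁n hV₁S) P f → IsMap E P f := by
    refine hproper _ (le_of_isMap fun R f h => (isMap_nSystem_iff.1 h).isMap)
      (isSaturated_nSystem_over hS hF hV₁S hV₁n) ?_
    by_contra hall'
    push Not at hall'
    have hnormal : F.IsNormal V₁ := isNormal_iff.2
      ⟨hV₁S, fun R f hf => (isMap_nSystem_iff.1 (hall' R f hf)).2.2⟩
    refine hQc (isCentric_of_fullyCentralized hQfc ?_)
    exact le_sup_right.trans ((le_core hnormal).trans_eq hQdef.symm)
  have hC : ∀ (P : Subgroup Ω) (f : Ω → Ω), IsMap (iSystem F Q hQn hQ.1) P f → IsMap E P f := by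
    refine hproper _ (le_of_isMap fun R f h => ?_) (isSaturated_iSystem hS hF hQ hQn) ?_
    · obtain ⟨-, -, g, hg, hge, -⟩ := isMap_iSystem_iff.1 h
      exact (hg.mono le_sup_left).congr fun x hx => (hge x hx).symm
    push Not at hinner
    obtain ⟨P, f, hf, hnf⟩ := hinner
    exact ⟨P, f, hf, fun h => hnf (isMap_iSystem_iff.1 h)⟩
  exact isMap_of_decomposition hS hF hQ hQn hV₁n hN₁ hC

/-- The normalizer system of the value of the functor controls transfer. -/
theorem focal_eq (hW : FocalFunctor p W) (hS : IsPGroup p S) (hF : F.IsSaturated p)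
    {N : FusionSystem (normalizerIn S (wSub W S))} (hN : F.IsNormalizerSystem (wSub W S) N) :
    N.focalSubgroup = F.focalSubgroup := by
  refine le_antisymm ((Subgroup.closure_le _).2 ?_) ((Subgroup.closure_le _).2 ?_)
  · rintro y ⟨P, φ, u, hφ, rfl⟩
    rw [← toFun_coe φ u]
    exact map_mem_focal ((isMap_of_isNormalizerSystem hN).1 (isMap_toFun hφ)).isMap u.2
  rintro y ⟨P, φ, u, hφ, rfl⟩
  rw [← toFun_coe φ u]
  have h := congBelow hW (Nat.card S + 1) Ω S (Nat.lt_succ_self _) hS F hF P _ (isMap_toFun hφ)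
    u u.2
  refine (Subgroup.closure_le _).2 ?_ h
  rintro z ⟨X, f, x, hf, hVX, himg, hx, rfl⟩
  have hn := normalizerIn_wSub_self W hW.natural hS
  exact map_mem_focal ((isMap_of_isNormalizerSystem hN).2 ⟨hf.le.trans hn.ge,
    fun a ha => hn.ge (hf.mem_S ha), f, by rwa [sup_eq_left.2 hVX], fun _ _ => rfl, himg⟩) hx

end CfsgLib.Fusion.FunctorFocal
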