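import Cfsg.Agent.S1984
import Cfsg.Agent.Lib.Fusion.System.FunctorFocal
import Cfsg.Agent.Lib.Fusion.System.KNormalizer
import Cfsg.Agent.Lib.Fusion.System.Quotient
import Mathlib.GroupTheory.Nilpotent
import Mathlib.GroupTheory.SemidirectProduct

/-!
# A proper focal subgroup when the automizer is a `p`-group

For `p ≥ 5` a saturated fusion system on a nontrivial `p`-group whose automizer of the whole group is
a `p`-group has proper focal subgroup.
-/

set_option autoImplicit false
set_option linter.style.haveILetI false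

open Subgroup
open scoped Classical commutatorElement

namespace CfsgLib.Fusion

open Cfsg (FusionSystem)
open Cfsg.FusionSystem (normalizerIn centralizerIn preimageAlong)

universe u

variable {p : ℕ}

theorem focalFunctor_kInfLower [Fact p.Prime] (hp : 5 ≤ p) :
    FunctorFocal.FocalFunctor.{u} p Cfsg.kInfLower := by
  have hW : Cfsg.IsCharPFunctor.{u} p Cfsg.kInfLower := CfsgLib.CFun.kInfLower_isCharPFunctor
  refine ⟨hW.1, hW.2, fun L _ _ T _ => ?_⟩
  obtain ⟨T₀, -, hT₀, hidx, heq⟩ := Cfsg.Agent.S1984.result (G := L) hp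
  rw [Subgroup.relIndex_top_right] at hidx
  obtain ⟨P₀, hP₀⟩ : ∃ P₀ : Sylow p L, (P₀ : Subgroup L) = T₀ :=
    ⟨hT₀.toSylow hidx, rfl⟩
  subst hP₀
  obtain ⟨g, rfl⟩ := MulAction.exists_smul_eq L P₀ T
  set c : L →* L := (MulAut.conj g).toMonoidHom
  have hcinj : Function.Injective c := (MulAut.conj g).injective
  have hT : ((g • P₀ : Sylow p L) : Subgroup L) = (P₀ : Subgroup L).map c := rfl
  set N₀ := Subgroup.normalizer (((Cfsg.kInfLower ↥(P₀ : Subgroup L)).map
    (P₀ : Subgroup L).subtype : Subgroup L) : Set L) with hN₀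
  set N := Subgroup.normalizer (wSub Cfsg.kInfLower ((g • P₀ : Sylow p L) : Subgroup L) : Set L)
  have hN : N = N₀.map c := by
    have h1 : wSub Cfsg.kInfLower ((g • P₀ : Sylow p L) : Subgroup L) =
        ((Cfsg.kInfLower ↥(P₀ : Subgroup L)).map (P₀ : Subgroup L).subtype).map c := by
      rw [Subgroup.map_map]
      exact map_wSub Cfsg.kInfLower hW.2 P₀.isPGroup' (c.comp (P₀ : Subgroup L).subtype)
        (hcinj.comp (Subgroup.subtype_injective _))
        (by rw [MonoidHom.range_comp, Subgroup.range_subtype, hT])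
    show Subgroup.normalizer _ = _
    rw [h1, hN₀]
    exact (Subgroup.map_equiv_normalizer_eq _ (MulAut.conj g)).symm
  replace heq : (P₀ : Subgroup L) ⊓ ⁅(⊤ : Subgroup L), (⊤ : Subgroup L)⁆ =
      (P₀ : Subgroup L) ⊓ ⁅N₀, N₀⁆ := by
    rw [top_inf_eq] at heq
    exact heq
  rw [Subgroup.map_subtype_commutator, hN, ← Subgroup.map_commutator]
  have hker : Cfsg.pCore p L ≤ ((g • P₀ : Sylow p L) : Subgroup L) :=
    CfsgLib.PGroup.pCore_le_sylow _
  have e : ((g • P₀ : Sylow p L) : Subgroup L) ⊓ commutator L =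
      ((g • P₀ : Sylow p L) : Subgroup L) ⊓ ⁅N₀, N₀⁆.map c := by
    rw [hT, ← Subgroup.map_inf_eq _ _ _ hcinj, ← heq, Subgroup.map_inf_eq _ _ _ hcinj]
    congr 1
    rw [Subgroup.map_commutator, Subgroup.map_top_of_surjective c (MulAut.conj g).surjective]
    rfl
  calc Cfsg.pCore p L ⊓ commutator L
      = Cfsg.pCore p L ⊓ (((g • P₀ : Sylow p L) : Subgroup L) ⊓ commutator L) := by
        rw [← inf_assoc, inf_eq_left.2 hker]
    _ = Cfsg.pCore p L ⊓ ⁅N₀, N₀⁆.map c := by
        rw [e, ← inf_assoc, inf_eq_left.2 hker]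

variable {Ω : Type u} [Group Ω] {S : Subgroup Ω} {F : FusionSystem S}

/-- A `p`-group of automorphisms of a nontrivial finite `p`-group moves it modulo a proper
subgroup only. -/
theorem exists_ne_top_inv_mul_mem [Fact p.Prime] {X : Type u} [Group X] [Finite X] [Nontrivial X]
    (hX : IsPGroup p X) (A : Subgroup (MulAut X)) (hA : IsPGroup p A) :
    ∃ K : Subgroup X, K ≠ ⊤ ∧ ∀ a ∈ A, ∀ x : X, x⁻¹ * a x ∈ K := by
  haveI : Finite (MulAut X) := Finite.of_injective _ DFunLike.coe_injective
  let H := X ⋊[A.subtype] A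
  haveI : Finite H := Finite.of_equiv _ SemidirectProduct.equivProd.symm
  have hH : IsPGroup p H := by
    obtain ⟨m, hm⟩ := IsPGroup.iff_card.1 hX
    obtain ⟨n, hn⟩ := IsPGroup.iff_card.1 hA
    exact IsPGroup.of_card (n := m + n) (by
      rw [SemidirectProduct.card, hm, hn, pow_add])
  haveI := hH.isNilpotent
  set R := (SemidirectProduct.inl : X →* H).range
  haveI : R.Normal := by
    rw [show R = (SemidirectProduct.rightHom : H →* A).ker from
      SemidirectProduct.range_inl_eq_ker_rightHom]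
    infer_instance
  refine ⟨⁅R, (⊤ : Subgroup H)⁆.comap SemidirectProduct.inl, fun h => ?_, fun a ha x => ?_⟩
  · have hle : R ≤ ⁅R, (⊤ : Subgroup H)⁆ := by
      rintro _ ⟨x, rfl⟩
      exact h.ge (Subgroup.mem_top x)
    have hn : ∀ n, R ≤ (⊤ : Subgroup H).lowerCentralSeries n := by
      intro n
      induction n with
      | zero => simp
      | succ n ih =>
        rw [Subgroup.lowerCentralSeries_succ]
        exact hle.trans (Subgroup.commutator_mono ih le_rfl)
    obtain ⟨n, hn'⟩ := Subgroup.nilpotent_iff_lowerCentralSeries.1 ‹Group.IsNilpotent H›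
    obtain ⟨x, hx⟩ := exists_ne (1 : X)
    refine hx (SemidirectProduct.inl_injective (φ := A.subtype) ?_)
    rw [map_one, ← Subgroup.mem_bot, ← hn']
    exact hn n ⟨x, rfl⟩
  · rw [Subgroup.mem_comap]
    have := Subgroup.commutator_mem_commutator (inv_mem (MonoidHom.mem_range.2 ⟨x, rfl⟩ : SemidirectProduct.inl x ∈ R))
      (Subgroup.mem_top (SemidirectProduct.inr ⟨a, ha⟩ : H))
    convert this using 1
    rw [map_mul, map_inv, show a x = A.subtype ⟨a, ha⟩ x from rfl, SemidirectProduct.inl_aut,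
      commutatorElement_def, map_inv]
    group

/-- The step through the factor system of a normal subgroup. -/
theorem focalSubgroup_ne_of_factor [Fact p.Prime] {T V : Subgroup Ω} [Finite T] (N : FusionSystem T)
    (hnorm : N.IsNormal V) (hV1 : V ≠ ⊥) (hVe : V ≠ T) (hTp : IsPGroup p T)
    (hNsat : N.IsSaturated p) (hA : IsPGroup p (N.autGroup T))
    (IH : ∀ {Ω' : Type u} [Group Ω'] {T' : Subgroup Ω'} [Finite T'] (Q : FusionSystem T'),
      Nat.card T' < Nat.card T → IsPGroup p T' → T' ≠ ⊥ → Q.IsSaturated p →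
      IsPGroup p (Q.autGroup T') → Q.focalSubgroup ≠ T') : N.focalSubgroup ≠ T := by
  have hVT : V ≤ T := hnorm.1
  haveI : (V.subgroupOf T).Normal := ⟨fun v hv g =>
    (stronglyClosed_iff.1 (stronglyClosed_of_isNormal hnorm)).2 _ _ le_rfl (isMap_conj hVT g.2) _ hv⟩
  set α : T →* ↥T ⧸ V.subgroupOf T := QuotientGroup.mk' (V.subgroupOf T)
  have hker : preimageAlong α ⊥ = V := by
    ext x
    rw [mem_preimageAlong]
    constructor
    · rintro ⟨hx, h⟩
      rw [ext1_apply α hx, Subgroup.mem_bot] at h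
      exact Subgroup.mem_subgroupOf.1 ((QuotientGroup.eq_one_iff _).1 h)
    · intro hx
      refine ⟨hVT hx, ?_⟩
      rw [ext1_apply α (hVT hx), Subgroup.mem_bot]
      exact (QuotientGroup.eq_one_iff _).2 (Subgroup.mem_subgroupOf.2 hx)
  have hK : N.IsNormal (preimageAlong α ⊥) := hker.symm ▸ hnorm
  have hrange : α.range = ⊤ := MonoidHom.range_eq_top.2 (QuotientGroup.mk'_surjective _)
  haveI : Finite α.range := Subtype.finite
  have hcard : Nat.card α.range < Nat.card T := by
    rw [hrange, Subgroup.card_top,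
      Subgroup.card_eq_card_quotient_mul_card_subgroup (V.subgroupOf T)]
    refine lt_mul_of_one_lt_right Nat.card_pos ((Subgroup.one_lt_card_iff_ne_bot _).2 fun h => hV1 ?_)
    rw [← Subgroup.map_subgroupOf_eq_of_le hVT, h, Subgroup.map_bot]
  have hne : α.range ≠ ⊥ := by
    intro h
    refine hVe (le_antisymm hnorm.1 fun x hx => ?_)
    have : (α ⟨x, hx⟩) = 1 := Subgroup.mem_bot.1 (h ▸ ⟨_, rfl⟩)
    exact Subgroup.mem_subgroupOf.1 ((QuotientGroup.eq_one_iff _).1 this)
  have hA' : IsPGroup p ((quotientSystem hK).autGroup α.range) := by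
    rintro ⟨β, hβ⟩
    obtain ⟨-, f, hf, he⟩ := isMap_quotientSystem hK ((mem_autGroup_iff le_rfl).1 hβ)
    have hpre : preimageAlong α α.range = T :=
      le_antisymm (preimageAlong_le α _) fun x hx =>
        mem_preimageAlong.2 ⟨hx, ext1_mem_range α _⟩
    rw [hpre] at hf he
    have himg : img T f = T := img_eq_of_map_le le_rfl hf le_rfl fun x hx => hf.mem_S hx
    set a := autOf hf himg
    have ha : a ∈ N.autGroup T := autOf_mem hf himg
    obtain ⟨k, hk⟩ := hA ⟨a, ha⟩
    refine ⟨k, Subtype.ext ?_⟩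
    have hiter : ∀ m : ℕ, ∀ x ∈ T, autFun (β ^ m) (ext1 α x) = ext1 α (autFun (a ^ m) x) := by
      intro m
      induction m with
      | zero =>
        intro x hx
        rw [pow_zero, pow_zero, autFun_one (ext1_mem_range α x), autFun_one hx]
      | succ m ih =>
        intro x hx
        rw [pow_succ', pow_succ', autFun_mul _ _ (ext1_mem_range α x), ih x hx,
          he _ (autFun_mem _ hx), autFun_mul _ _ hx, autFun_autOf hf himg (autFun_mem _ hx)]
    refine autFun_ext fun y hy => ?_
    obtain ⟨x, hx, rfl⟩ := exists_preimage le_rfl hy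
    rw [hpre] at hx
    rw [SubmonoidClass.coe_pow, hiter _ x hx, show a ^ p ^ k = 1 from congrArg Subtype.val hk,
      autFun_one hx]
    exact (autFun_one (ext1_mem_range α x)).symm
  have hlt := IH (quotientSystem hK) hcard (hTp.of_surjective _ α.rangeRestrict_surjective)
    hne (isSaturated_quotientSystem hK hTp hNsat) hA'
  intro he
  refine hlt (le_antisymm focal_le_S ?_)
  have hle : N.focalSubgroup ≤ preimageAlong α (quotientSystem hK).focalSubgroup := by
    rw [FusionSystem.focalSubgroup, Subgroup.closure_le]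
    rintro y ⟨P, φ, x, hφ, rfl⟩
    have hm := isMap_toFun hφ
    obtain ⟨f', hf', hfe⟩ := exists_image_map (quotientSystem_surjective hK) hm
    have hx : (x : Ω) ∈ T := hm.le x.2
    have hfx : φ x ∈ T := (N.le_of_mem hφ).2 x
    refine mem_preimageAlong.2 ⟨T.mul_mem (T.inv_mem hx) hfx, ?_⟩
    rw [ext1_mul α (T.inv_mem hx) hfx, ext1_inv α hx, ← toFun_coe φ x, ← hfe x x.2]
    obtain ⟨φ', hφ', hφf⟩ := hf'
    refine Subgroup.subset_closure ⟨_, φ', ⟨ext1 α x, ext1_mem_imgι hm.le x.2⟩, hφ', ?_⟩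
    exact congrArg _ (hφf ⟨_, _⟩).symm
  intro y hy
  obtain ⟨x, hx, rfl⟩ := exists_preimage le_rfl hy
  exact (mem_preimageAlong.1 (hle (he.ge (mem_preimageAlong.1 hx).1))).2


/-- For `p ≥ 5` the focal subgroup is proper if the automizer of `S` is a `p`-group. -/
theorem focalSubgroup_ne [Fact p.Prime] (hp : 5 ≤ p) : ∀ (n : ℕ) {Ω : Type u} [Group Ω]
    {S : Subgroup Ω} [Finite S] (F : FusionSystem S), Nat.card S = n → IsPGroup p S → S ≠ ⊥ →
    F.IsSaturated p → IsPGroup p (F.autGroup S) → F.focalSubgroup ≠ S := by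
  intro n
  induction n using Nat.strong_induction_on with
  | _ n IH => ?_
  intro Ω _ S _ F hn hS h1 hF hA
  have hWf := focalFunctor_kInfLower.{u} (p := p) hp
  set V := wSub Cfsg.kInfLower S with hVdef
  have hVS : V ≤ S := wSub_le _ S
  have hV1 : V ≠ ⊥ := FunctorFocal.wSub_ne_bot' hWf hS h1
  have hNS : normalizerIn S V = S := normalizerIn_wSub_self _ hWf.natural hS
  obtain ⟨N, hN⟩ := exists_normalizerSystem (F := F) hVS
  haveI : Finite ↥(normalizerIn S V) := finite_of_le inf_le_left
  rw [← FunctorFocal.focal_eq hWf hS hF hN]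
  by_cases hVe : V = S
  · haveI : Nontrivial S := (Subgroup.nontrivial_iff_ne_bot S).2 h1
    obtain ⟨K, hK, hmem⟩ := exists_ne_top_inv_mul_mem hS (F.autGroup S) hA
    intro he
    refine hK (eq_top_iff.2 fun z _ => ?_)
    have hz : (z : Ω) ∈ N.focalSubgroup := he.ge z.2
    have hle : N.focalSubgroup ≤ K.map S.subtype := by
      rw [FusionSystem.focalSubgroup, Subgroup.closure_le]
      rintro y ⟨P, φ, x, hφ, rfl⟩
      obtain ⟨h1', -, g, hg, hge, himg⟩ := (isMap_of_isNormalizerSystem hN).1 (isMap_toFun hφ)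
      have hg' : IsMap F S g := hg.mono (hVe.ge.trans le_sup_right)
      have himg' : img S g = S := (congrArg (img · g) hVe).symm.trans (himg.trans hVe)
      have hxS : (x : Ω) ∈ S := (h1' x.2).1
      have := hmem _ (autOf_mem hg' himg') ⟨x, hxS⟩
      refine ⟨_, this, ?_⟩
      show (x : Ω)⁻¹ * _ = _
      rw [← toFun_coe φ x, ← hge x x.2]
      rfl
    obtain ⟨w, hw, hwz⟩ := hle hz
    exact (Subtype.ext hwz : w = z) ▸ hw
  refine fun he => focalSubgroup_ne_of_factor N (isNormal_normalizerSystem hVS hN) hV1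
    (fun h => hVe (h.trans hNS)) (hS.to_le inf_le_left) (isSaturated_normalizerSystem hS hF ?_ hN)
    ?_ (fun Q hlt => IH _ (hlt.trans_le ((Subgroup.card_le_of_le inf_le_left).trans hn.le)) Q rfl)
    (he.trans hNS.symm)
  · exact ⟨hVS, fun R _ => (Subgroup.card_le_of_le inf_le_left).trans_eq
      (congrArg (fun H : Subgroup Ω => Nat.card H) hNS).symm⟩
  · intro a
    have ha : (a : MulAut (normalizerIn S V)) ∈ F.autGroup (normalizerIn S V) :=
      (mem_autGroup_iff inf_le_left).2
        ((isMap_of_isNormalizerSystem hN).1 ((mem_autGroup_iff le_rfl).1 a.2)).isMap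
    obtain ⟨k, hk⟩ := (show IsPGroup p (F.autGroup (normalizerIn S V)) by
      rw [hNS]; exact hA) ⟨_, ha⟩
    exact ⟨k, Subtype.ext (by simpa only [SubmonoidClass.coe_pow, OneMemClass.coe_one] using congrArg Subtype.val hk)⟩

end CfsgLib.Fusion
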