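import Cfsg.Agent.Lib.Fusion.System.Families

/-!
# The families of largest elementary abelian subgroups, inside a fusion system
-/

set_option autoImplicit false
set_option linter.style.haveILetI false

open Subgroup
open scoped Classical commutatorElement

namespace CfsgLib.Fusion

open Cfsg (FusionSystem)

variable {Ω : Type*} [Group Ω] {S : Subgroup Ω} {F : FusionSystem S} {D A : Subgroup Ω}
  {f : Ω → Ω} {p : ℕ}

theorem map_mem_maxEA_sub (hDS : D ≤ S) {A : Subgroup S} (hA : A ∈ maxEA p (D.subgroupOf S)) :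
    A.map S.subtype ∈ maxEA p D := by
  refine ⟨(Subgroup.map_mono hA.1).trans (Subgroup.map_subgroupOf_eq_of_le hDS).le,
    isElementaryAbelian_map _ hA.2.1, fun C hC hCc => ?_⟩
  rw [← Nat.card_congr (A.equivMapOfInjective S.subtype S.subtype_injective).toEquiv,
    ← Nat.card_congr (Subgroup.subgroupOfEquivOfLe (hC.trans hDS)).toEquiv]
  exact hA.2.2 _ (Subgroup.comap_mono hC) (isElementaryAbelian_subgroupOf hCc)

theorem subgroupOf_mem_maxEA (hDS : D ≤ S) (hA : A ∈ maxEA p D) :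
    A.subgroupOf S ∈ maxEA p (D.subgroupOf S) := by
  refine ⟨Subgroup.comap_mono hA.1, isElementaryAbelian_subgroupOf hA.2.1, fun C hC hCc => ?_⟩
  rw [Nat.card_congr (Subgroup.subgroupOfEquivOfLe (hA.1.trans hDS)).toEquiv,
    Nat.card_congr (C.equivMapOfInjective S.subtype S.subtype_injective).toEquiv]
  exact hA.2.2 _ ((Subgroup.map_mono hC).trans (Subgroup.map_subgroupOf_eq_of_le hDS).le)
    (isElementaryAbelian_map _ hCc)

variable [Finite S]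

theorem maxEA_nonempty_in (hDS : D ≤ S) : (maxEA p D).Nonempty := by
  obtain ⟨A, hA⟩ := maxEA_nonempty (p := p) (D.subgroupOf S)
  exact ⟨_, map_mem_maxEA_sub hDS hA⟩

theorem maxEA_replacement_in [Fact p.Prime] (hp : p ≠ 2) (hS : IsPGroup p S) (hDS : D ≤ S)
    (hDn : S ≤ Subgroup.normalizer (D : Set Ω)) (B : Subgroup Ω) (hBS : B ≤ S)
    (hBn : S ≤ Subgroup.normalizer (B : Set Ω)) (_ : ⁅⁅B, B⁆, B⁆ = ⊥)
    (hU : ∃ U ∈ maxEA p D, ⁅B, B⁆ ≤ U ∧ ¬ B ≤ U) :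
    ∃ A ∈ maxEA p D, ⁅B, B⁆ ≤ A ∧ ¬ B ≤ A ∧ B ≤ Subgroup.normalizer (A : Set Ω) := by
  haveI : (D.subgroupOf S).Normal := (Subgroup.normal_subgroupOf_iff_le_normalizer hDS).2 hDn
  haveI : (B.subgroupOf S).Normal := (Subgroup.normal_subgroupOf_iff_le_normalizer hBS).2 hBn
  have hcomm : (⁅B.subgroupOf S, B.subgroupOf S⁆).map S.subtype = ⁅B, B⁆ := by
    rw [Subgroup.map_commutator, Subgroup.map_subgroupOf_eq_of_le hBS]
  obtain ⟨U, hU, hU1, hU2⟩ := hU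
  obtain ⟨A, hA, hA1, hA2, hA3⟩ := maxEA_replacement (p := p) hS hp (D.subgroupOf S)
    (B := B.subgroupOf S) ⟨U.subgroupOf S, subgroupOf_mem_maxEA hDS hU,
      fun x hx => hU1 (hcomm.le ⟨x, hx, rfl⟩),
      fun h => hU2 fun x hx => h (show (⟨x, hBS hx⟩ : S) ∈ B.subgroupOf S from hx)⟩
  refine ⟨_, map_mem_maxEA_sub hDS hA, hcomm.ge.trans (Subgroup.map_mono hA1),
    fun h => hA2 fun x hx => ?_, ?_⟩
  · obtain ⟨y, hy, hyx⟩ := h hx
    rwa [← S.subtype_injective hyx]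
  · exact (Subgroup.map_subgroupOf_eq_of_le hBS).ge.trans
      ((Subgroup.map_mono hA3).trans (Subgroup.le_normalizer_map S.subtype))

omit [Finite S] in
theorem img_mem_maxEA {Q : Subgroup Ω} (hf : IsMap F Q f) (hA : A ∈ maxEA p D) (hAQ : A ≤ Q)
    (hD : ∀ x ∈ Q, x ∈ D → f x ∈ D) : img A f ∈ maxEA p D := by
  have hfA := hf.mono hAQ
  have hpow : ∀ x ∈ A, ∀ n : ℕ, f (x ^ n) = f x ^ n := by
    intro x hx n
    induction n with
    | zero => rw [pow_zero, pow_zero, hfA.map_one]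
    | succ n ih => rw [pow_succ, pow_succ, hfA.map_mul (pow_mem hx n) hx, ih]
  refine ⟨fun y hy => ?_, ⟨⟨⟨fun a b => ?_⟩⟩, fun y hy => ?_⟩,
    fun C hC hCc => hfA.card_img.symm ▸ hA.2.2 C hC hCc⟩
  · obtain ⟨x, hx, rfl⟩ := hfA.mem_img.1 hy
    exact hD x (hAQ hx) (hA.1 hx)
  · obtain ⟨x, hx, hxa⟩ := hfA.mem_img.1 a.2
    obtain ⟨y, hy, hyb⟩ := hfA.mem_img.1 b.2
    refine Subtype.ext ?_
    show (a : Ω) * b = b * a
    rw [← hxa, ← hyb]
    exact hfA.map_commute hx hy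
      (congrArg Subtype.val (hA.2.1.1.is_comm.comm (⟨x, hx⟩ : A) ⟨y, hy⟩))
  · obtain ⟨x, hx, rfl⟩ := hfA.mem_img.1 hy
    rw [← hpow x hx p, hA.2.1.2 x hx, hfA.map_one]

omit [Finite S] in
theorem maxEA_invariant
    (hD : ∀ (P : Subgroup Ω) (f : Ω → Ω), IsMap F P f → ∀ x ∈ P, x ∈ D → f x ∈ D)
    (Q : Subgroup Ω) (f : Ω → Ω) (hf : IsMap F Q f) (himg : img Q f = Q)
    (hex : ∃ A ∈ maxEA p D, A ≤ Q) {x : Ω} (hx : x ∈ Iof (maxEA p D) Q) :
    f x ∈ Iof (maxEA p D) Q := by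
  obtain ⟨A₀, hA₀, hA₀Q⟩ := hex
  obtain ⟨f', hf', h1, h2⟩ := hf.exists_inv
  rw [himg] at hf' h2
  simp only [Iof, Subgroup.mem_iInf]
  rintro A ⟨hA, hAQ⟩
  have hA' : img A f' ∈ maxEA p D := img_mem_maxEA hf' hA hAQ fun y hy hyD => hD Q f' hf' y hy hyD
  have hA'Q : img A f' ≤ Q := fun y hy => by
    obtain ⟨z, hz, rfl⟩ := (hf'.mono hAQ).mem_img.1 hy
    exact (h2 z (hAQ hz)).1
  obtain ⟨z, hz, hzx⟩ := (hf'.mono hAQ).mem_img.1 (Iof_le hA' hA'Q hx)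
  rw [← hzx, (h2 z (hAQ hz)).2]
  exact hz

variable [Finite Ω]

omit [Finite Ω] in
theorem mem_of_commute_maxEA_in (hDS : D ≤ S) (hA : A ∈ maxEA p D) {x : Ω} (hxD : x ∈ D)
    (hxp : x ^ p = 1) (hc : ∀ a ∈ A, a * x = x * a) : x ∈ A :=
  mem_of_commute_maxEA (subgroupOf_mem_maxEA hDS hA) (x := (⟨x, hDS hxD⟩ : S)) hxD
    (Subtype.ext hxp) fun a ha => Subtype.ext (hc a ha)

theorem mem_Iof_maxEA_iff (hDS : D ≤ S) {x : Ω} :
    x ∈ Iof (maxEA p D) S ↔ x ∈ D ∧ x ^ p = 1 ∧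
      x ∈ Subgroup.centralizer (Cfsg.thompsonSubgroupOf p D : Set Ω) := by
  rw [thompsonSubgroupOf_eq]
  constructor
  · intro hx
    have hx' : ∀ A ∈ maxEA p D, x ∈ A := fun A hA => Iof_le hA (hA.1.trans hDS) hx
    obtain ⟨A₀, hA₀⟩ := maxEA_nonempty_in (p := p) hDS
    exact ⟨hA₀.1 (hx' _ hA₀), hA₀.2.1.2 _ (hx' _ hA₀), commute_sSup_of_commute fun A hA a ha =>
      congrArg Subtype.val
        ((show IsMaxEA p D A from hA).2.1.1.is_comm.comm (⟨a, ha⟩ : A) ⟨x, hx' A hA⟩)⟩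
  · rintro ⟨hxD, hxp, hxc⟩
    refine (le_Iof fun A hA _ => ?_ : Subgroup.zpowers x ≤ _) (Subgroup.mem_zpowers x)
    exact Subgroup.zpowers_le.2 (mem_of_commute_maxEA_in hDS hA hxD hxp fun a ha =>
      Subgroup.mem_centralizer_iff.1 hxc a
        (le_sSup (show A ∈ {A | IsMaxEA p D A} from hA) ha))

/-- `Ω₁(Z(J(D)))` as an intersection. -/
theorem Iof_maxEA_eq_omega (hDS : D ≤ S) :
    Iof (maxEA p D) S = Cfsg.omegaOne p (Cfsg.centerThompsonOf p D) := by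
  apply le_antisymm
  · intro x hx
    obtain ⟨-, hxp, hxc⟩ := (mem_Iof_maxEA_iff hDS).1 hx
    refine Subgroup.subset_closure ⟨⟨?_, hxc⟩, hxp⟩
    obtain ⟨A₀, hA₀⟩ := maxEA_nonempty_in (p := p) hDS
    exact le_thompsonSubgroupOf hA₀ (Iof_le hA₀ (hA₀.1.trans hDS) hx)
  · rw [Cfsg.omegaOne, Subgroup.closure_le]
    exact fun x hx => (mem_Iof_maxEA_iff hDS).2
      ⟨thompsonSubgroupOf_le D hx.1.1, hx.2, hx.1.2⟩

/-- The intersection is nontrivial when `D` meets the centre of `S`. -/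
theorem Iof_maxEA_ne_bot [Fact p.Prime] (hS : IsPGroup p S) (hDS : D ≤ S) (hD : D ≠ ⊥) :
    Iof (maxEA p D) S ≠ ⊥ := by
  haveI : Finite D := Finite.of_injective (Subgroup.inclusion hDS) (Subgroup.inclusion_injective hDS)
  haveI : Nontrivial D := (Subgroup.nontrivial_iff_ne_bot D).2 hD
  haveI := (hS.to_le hDS).center_nontrivial
  have hd : p ∣ Nat.card (Subgroup.center D) := by
    obtain ⟨n, hn⟩ := ((hS.to_le hDS).to_subgroup (Subgroup.center D)).exists_card_eq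
    rw [hn]
    refine dvd_pow_self p fun e => ?_
    rw [e, pow_zero] at hn
    have := Finite.one_lt_card (α := Subgroup.center D)
    omega
  obtain ⟨z, hz⟩ := exists_prime_orderOf_dvd_card' p hd
  intro h
  have hmem : ((z : D) : Ω) ∈ Iof (maxEA p D) S := by
    refine (mem_Iof_maxEA_iff hDS).2 ⟨(z : D).2, ?_, Subgroup.mem_centralizer_iff.2 fun y hy => ?_⟩
    · rw [← SubmonoidClass.coe_pow, ← SubmonoidClass.coe_pow, ← hz, pow_orderOf_eq_one]
      rfl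
    · exact congrArg Subtype.val
        (Subgroup.mem_center_iff.1 z.2 ⟨y, thompsonSubgroupOf_le D hy⟩)
  rw [h, Subgroup.mem_bot] at hmem
  have h1 : z = 1 := Subtype.ext (Subtype.ext hmem)
  rw [h1, orderOf_one] at hz
  exact (Fact.out : p.Prime).ne_one hz.symm

end CfsgLib.Fusion
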