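import Cfsg.Agent.Lib.Fusion.System.QdNormal
import Cfsg.Agent.Lib.Fusion.System.FamiliesEA

/-!
# Normal subgroups from local models, and control of strong fusion
-/

set_option autoImplicit false
set_option linter.style.haveILetI false
set_option linter.unusedSectionVars false
set_option maxHeartbeats 400000

open Subgroup
open scoped Classical commutatorElement

namespace CfsgLib.Fusion

open Cfsg (FusionSystem groupFusionSystem)
open Cfsg.FusionSystem (normalizerIn centralizerIn)

universe u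

variable {p : ℕ} [Fact p.Prime]

/-- A normal subgroup of the fusion system of a group has a normalizer controlling strong fusion. -/
theorem controlsStrongFusionOf_of_isNormal {G : Type*} [Group G] [Finite G] (P : Sylow p G)
    {W : Subgroup G} (hW : (groupFusionSystem (P : Subgroup G)).IsNormal W) (A : Set G)
    (hA : A ⊆ (P : Subgroup G)) :
    Cfsg.ControlsStrongFusionOf (Subgroup.normalizer (W : Set G)) (P : Subgroup G) A := by
  refine ⟨hA, fun g hg => ?_⟩
  set U := Subgroup.closure A with hU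
  have hUP : U ≤ (P : Subgroup G) := (Subgroup.closure_le _).2 hA
  have hgU : conjBy g U ≤ (P : Subgroup G) := by
    show U.map (MulAut.conj g).toMonoidHom ≤ (P : Subgroup G)
    rw [hU, MonoidHom.map_closure, Subgroup.closure_le]
    exact hg
  obtain ⟨f, hf, hfg, hfW⟩ := (isNormal_iff.1 hW).2 U (fun x => g * x * g⁻¹)
    (isMap_group_iff.2 ⟨hUP, g, fun x hx => ⟨hgU (conj_mem_conjBy hx), rfl⟩⟩)
  obtain ⟨-, x, hx⟩ := isMap_group_iff.1 hf
  refine ⟨x, conjBy_eq_iff.1 (conjBy_eq_of_le (conjBy_le_iff.2 fun w hw => ?_)), fun a ha => ?_⟩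
  · rw [← (hx w (Subgroup.mem_sup_right hw)).2]
    exact mem_of_img_eq hf le_sup_right hfW hw
  · have h := Subgroup.subset_closure (k := A) ha
    rw [← (hx a (Subgroup.mem_sup_left h)).2, hfg a h]

variable {Ω : Type u} [Group Ω] {S : Subgroup Ω} [Finite S] {F : FusionSystem S}

/-- A subgroup whose image in a realizing group is normal is normal in the system. -/
theorem isNormal_of_imgι_normal {L : Type*} [Group L] {ι : S →* L} (hreal : F.IsRealizedBy ι)
    {V : Subgroup Ω} (hVS : V ≤ S) (hn : (imgι ι V).Normal) : F.IsNormal V := by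
  refine isNormal_iff.2 ⟨hVS, fun P f hf => ?_⟩
  obtain ⟨hP, -, -, g, hg⟩ := (isMap_realized_iff hreal).1 hf
  have hsup : P ⊔ V ≤ S := sup_le hP hVS
  have hmem : ∀ x ∈ P ⊔ V, g * ext1 ι x * g⁻¹ ∈ ι.range := by
    intro x hx
    have hle : imgι ι (P ⊔ V) ≤ (ι.range).comap (MulAut.conj g).toMonoidHom := by
      rw [imgι_sup hP hVS]
      refine sup_le (fun y hy => ?_) fun y hy => imgι_le_range V (hn.conj_mem y hy g)
      obtain ⟨z, hz, rfl⟩ := (mem_imgι hP).1 hy
      show g * ext1 ι z * g⁻¹ ∈ ι.range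
      rw [← hg z hz]
      exact ext1_mem_range ι _
    exact hle (ext1_mem_imgι hsup hx)
  obtain ⟨f', hf', hf'g⟩ := exists_map_of_conj hreal hsup hmem
  refine ⟨f', hf', fun x hx => ext1_inj hreal.1 (hf'.mem_S (Subgroup.mem_sup_left hx)) (hf.mem_S hx)
    ((hf'g x (Subgroup.mem_sup_left hx)).trans (hg x hx).symm), ?_⟩
  refine img_eq_of_map_le hVS hf' le_sup_right fun x hx =>
    mem_of_ext1_mem_imgι hreal.1 hVS (hf'.mem_S (Subgroup.mem_sup_right hx)) ?_
  rw [hf'g x (Subgroup.mem_sup_right hx)]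
  exact hn.conj_mem _ (ext1_mem_imgι hVS hx) g

/-- In a system with a stable model the intersection of an invariant family with replacement is
normal. -/
theorem isNormal_Iof_of_model {L : Type u} [Group L] {ι : S →* L} (hm : F.IsModel p L ι)
    (hst : ∀ (P : Subgroup L) [P.Normal], IsPGroup p P → Cfsg.IsPStableOn p P)
    (𝒜 : Set (Subgroup Ω)) (h𝒜 : ∀ A ∈ 𝒜, A ≤ S ∧ IsMulCommutative A) (hne : 𝒜.Nonempty)
    (hinv : ∀ (Q : Subgroup Ω) (f : Ω → Ω), IsMap F Q f → img Q f = Q → (∃ A ∈ 𝒜, A ≤ Q) →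
      ∀ x ∈ Iof 𝒜 Q, f x ∈ Iof 𝒜 Q)
    (hrep : ∀ B : Subgroup Ω, B ≤ S → S ≤ Subgroup.normalizer (B : Set Ω) → ⁅⁅B, B⁆, B⁆ = ⊥ →
      (∃ A ∈ 𝒜, ⁅B, B⁆ ≤ A ∧ ¬ B ≤ A) →
      ∃ A ∈ 𝒜, ⁅B, B⁆ ≤ A ∧ ¬ B ≤ A ∧ B ≤ Subgroup.normalizer (A : Set Ω)) :
    F.IsNormal (Iof 𝒜 S) := by
  obtain ⟨hfin, hreal, ⟨T, hT⟩, hc⟩ := hm
  haveI := hfin
  obtain ⟨hI, hIn⟩ := Iof_normal_in (E := F) 𝒜 (fun A hA => (h𝒜 A hA).1) hne hinv
  refine isNormal_of_imgι_normal hreal hI ?_
  by_cases hall : ∀ g : L, g ∈ ι.range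
  · refine Subgroup.normalizer_eq_top_iff.1 (eq_top_iff.2 fun g _ => ?_)
    exact (imgι_le_normalizer_iff hreal.1 hI le_rfl).2 hIn (imgι_top.ge (hall g))
  · push Not at hall
    exact StableModel.Iof_normal
      { L := L, ι := ι, inj := hreal.1, T := T, hT := hT, core := hc, stable := hst
        exists_not_mem := hall, conj_map := fun P hP g hg => exists_map_of_conj hreal hP hg }
      𝒜 h𝒜 hne hinv hrep

/-- A conjugation compatible choice of a subgroup, normal in all normalizer systems, is normal. -/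
theorem isNormal_of_local (hS : IsPGroup p S) (hF : F.IsSaturated p)
    (W : Subgroup Ω → Subgroup Ω) (hW : ∀ T, T ≤ S → W T ≤ T)
    (hne : ∀ P, F.IsFullyNormalized P → P ≠ ⊥ → W (normalizerIn S P) ≠ ⊥)
    (hnorm : ∀ T, T ≤ S → normalizerIn S T ≤ normalizerIn S (W T))
    (hloc : ∀ P, F.IsFullyNormalized P → P ≠ ⊥ → ∀ N : FusionSystem (normalizerIn S P),
      F.IsNormalizerSystem P N → N.IsNormal (W (normalizerIn S P))) :
    F.IsNormal (W S) := by
  set V := W S with hV
  have hVS : V ≤ S := hW S le_rfl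
  by_cases hS1 : S = ⊥
  · rw [show V = ⊥ from le_bot_iff.1 (hS1 ▸ hVS)]
    exact isNormal_bot
  have hVn : S ≤ normalizerIn S V := (le_normalizerIn (P := S) le_rfl).trans (hnorm S le_rfl)
  set E := nSystem F S V hVn hVS with hE
  have key : ∀ (j : ℕ) (P : Subgroup Ω), Nat.card S - Nat.card (normalizerIn S P) = j →
      F.IsFullyNormalized P → P ≠ ⊥ → ∀ (X : Subgroup Ω) (g : Ω → Ω), IsMap F X g → P ≤ X →
      X ≤ Subgroup.normalizer (P : Set Ω) → img P g = P → IsMap E X g := by
    intro j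
    induction j using Nat.strong_induction_on with
    | _ j IH =>
    intro P hj hP hP1 X g hg hPX hXN hgP
    set T := normalizerIn S P with hT
    have hTle : T ≤ S := inf_le_left
    haveI : Finite T := finite_of_le hTle
    obtain ⟨N, hN⟩ := exists_normalizerSystem (F := F) hP.1
    have hNn : N.IsNormal (W T) := hloc P hP hP1 N hN
    set U' := W T with hU'def
    have hU'T : U' ≤ T := hW T hTle
    have hXT : X ≤ T := le_inf hg.le hXN
    have hgT : ∀ x ∈ X, g x ∈ T := fun x hx => by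
      have := map_mem_normalizerIn hg hPX hx (hXN hx)
      rwa [hgP] at this
    have hgN : IsMap N X g := (isMap_of_isNormalizerSystem hN).2
      ⟨hXT, hgT, g, by rwa [sup_eq_left.2 hPX], fun _ _ => rfl, hgP⟩
    obtain ⟨g', hg'N, hg'e, hg'U⟩ := (isNormal_iff.1 hNn).2 X g hgN
    have hg' : IsMap F (X ⊔ U') g' := ((isMap_of_isNormalizerSystem hN).1 hg'N).isMap
    by_cases hTS : T = S
    · have hUV : U' = V := by rw [hU'def, hTS]
      rw [hUV] at hg' hg'U
      exact isMap_nSystem_iff.2 ⟨hg.le, fun x hx => hg.mem_S hx, g', hg', hg'e, hg'U⟩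
    have hU'ne : U' ≠ ⊥ := hne P hP hP1
    have hU'S : U' ≤ S := hU'T.trans hTle
    have hTU' : normalizerIn S T ≤ normalizerIn S U' := hnorm T hTle
    have hlt : Nat.card T < Nat.card (normalizerIn S U') :=
      lt_of_lt_of_le (card_lt_of_lt inf_le_left (lt_normalizerIn hS hTle hTS))
        (card_le_of_le' inf_le_left hTU')
    have big : ∀ {R : Subgroup Ω} {h : Ω → Ω}, IsMap F R h → Nat.card T < Nat.card R →
        IsMap E R h := by
      intro R h hh hR
      refine isMap_of_autGroup_le_above hS hF (fun R' hRR' hR' α hα => ?_) hh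
      have hR'n : F.IsFullyNormalized R' :=
        hR'.elim (fun e => by subst e; exact isFullyNormalized_self) fun e => e.2.1
      have hR'S := hR'n.1
      have h1 : Nat.card R' ≤ Nat.card (normalizerIn S R') :=
        card_le_of_le' inf_le_left (le_normalizerIn hR'S)
      have h2 : Nat.card (normalizerIn S R') ≤ Nat.card S := card_le_of_le' le_rfl inf_le_left
      refine (mem_autGroup_iff hR'S).2 (IH _ (by omega) R' rfl hR'n (fun e => ?_) R' _
        ((mem_autGroup_iff hR'S).1 hα) le_rfl Subgroup.le_normalizer (img_autFun α))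
      rw [e, Subgroup.card_bot] at hRR'
      have : 0 < Nat.card T := Nat.card_pos
      omega
    obtain ⟨U, hUconj, hU⟩ := exists_fullyNormalized (F := F) hU'S
    obtain ⟨h₁, h₂⟩ := IsSaturated.automized_receptive hS hF hU
    obtain ⟨θ, hθ, hθU, hθN⟩ := exists_map_normalizer hS h₁ h₂ hUconj
    have hθE : IsMap E (normalizerIn S U') θ := big hθ hlt
    have hX2 : X ⊔ U' ≤ normalizerIn S U' :=
      (sup_le hXT hU'T).trans ((le_normalizerIn hTle).trans hTU')
    have hθ2 := hθ.mono hX2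
    obtain ⟨θ', hθ', hθ1, -⟩ := hθE.exists_inv
    obtain ⟨θF, hθF, hθF1, hθF2⟩ := hθ2.exists_inv
    have hg'mem : ∀ x ∈ X ⊔ U', g' x ∈ normalizerIn S U' := fun x hx => by
      have := map_mem_normalizerIn hg' le_sup_right hx (hX2 hx).2
      rwa [hg'U] at this
    have hg₁ : IsMap F (img (X ⊔ U') θ) (θ ∘ g' ∘ θF) :=
      (hθF.comp hg' fun y hy => (hθF2 y hy).1).comp hθ fun y hy => hg'mem _ (hθF2 y hy).1
    have hUX : U ≤ img (X ⊔ U') θ := hθU ▸ IsMap.img_mono hθ2 le_sup_right
    have hg₁E : IsMap E (img (X ⊔ U') θ) (θ ∘ g' ∘ θF) := by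
      have h1 : Nat.card (normalizerIn S U') ≤ Nat.card (normalizerIn S U) :=
        hU.2 _ (isConj_symm hUconj)
      have h2 : Nat.card (normalizerIn S U) ≤ Nat.card S := card_le_of_le' le_rfl inf_le_left
      refine IH _ (by omega) U rfl hU (fun e => hU'ne (Subgroup.eq_bot_of_card_eq _ ?_)) _ _ hg₁
        hUX (fun y hy => ?_) ?_
      · rw [← (hθ.mono (le_normalizerIn hU'S)).card_img, hθU, e, Subgroup.card_bot]
      · obtain ⟨x, hx, rfl⟩ := hθ2.mem_img.1 hy
        exact (hθN x (hX2 hx)).2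
      · refine img_eq_of_map_le hU.1 hg₁ hUX fun y hy => ?_
        obtain ⟨x, hx, rfl⟩ := (hθ.mono (le_normalizerIn hU'S)).mem_img.1 (hθU.ge hy)
        show θ (g' (θF (θ x))) ∈ U
        rw [hθF1 x (Subgroup.mem_sup_right hx)]
        exact hθU.le ((hθ.mono (le_normalizerIn hU'S)).mem_img.2
          ⟨_, mem_of_img_eq hg' le_sup_right hg'U hx, rfl⟩)
    have hg'E : IsMap E (X ⊔ U') g' := by
      refine (((hθE.mono hX2).comp hg₁E fun x hx => hθ2.mem_img.2 ⟨x, hx, rfl⟩).comp hθ'
        fun x hx => ?_).congr fun x hx => ?_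
      · show θ (g' (θF (θ x))) ∈ img (normalizerIn S U') θ
        rw [hθF1 x hx]
        exact hθ.mem_img.2 ⟨g' x, hg'mem x hx, rfl⟩
      · show g' x = θ' (θ (g' (θF (θ x))))
        rw [hθF1 x hx, hθ1 _ (hg'mem x hx)]
    exact (hg'E.mono le_sup_left).congr fun x hx => (hg'e x hx).symm
  have hall : ∀ (P : Subgroup Ω) (f : Ω → Ω), IsMap F P f → IsMap E P f := by
    intro P f hf
    refine isMap_of_autGroup_le hS hF (fun R hR α hα => ?_) hf
    have hRn : F.IsFullyNormalized R :=
      hR.elim (fun e => by subst e; exact isFullyNormalized_self) fun e => e.2.1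
    have hRne : R ≠ ⊥ := fun e => by
      rcases hR with h | h
      · exact hS1 (h.symm.trans e)
      · subst e
        refine hS1 (le_bot_iff.1 fun x hx => ?_)
        exact centralizerIn_le_of_isCentric h.1 ⟨hx, Subgroup.mem_centralizer_iff.2 fun y hy => by
          rw [Subgroup.mem_bot.1 hy, one_mul, mul_one]⟩
    exact (mem_autGroup_iff hRn.1).2 (key _ R rfl hRn hRne R _
      ((mem_autGroup_iff hRn.1).1 hα) le_rfl Subgroup.le_normalizer (img_autFun α))
  exact isNormal_iff.2 ⟨hVS, fun P f hf => (isMap_nSystem_iff.1 (hall P f hf)).2.2⟩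

end CfsgLib.Fusion
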