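import Cfsg.Agent.Lib.Fusion.System.Alperin
import Mathlib.GroupTheory.Nilpotent

/-!
# Normal, central and strongly closed subgroups; normalizer and centralizer systems
-/

set_option autoImplicit false
set_option linter.style.haveILetI false
set_option maxHeartbeats 400000

open Subgroup
open scoped Classical commutatorElement Pointwise

namespace CfsgLib.Fusion

open Cfsg (FusionSystem autInducedBy)
open Cfsg.FusionSystem (normalizerIn centralizerIn)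

variable {Ω : Type*} [Group Ω] {S : Subgroup Ω} {F : FusionSystem S} {P Q R T : Subgroup Ω}
  {f g : Ω → Ω} {p : ℕ}

theorem IsMap.img_le_of_forall (hf : IsMap F P f) {C : Subgroup Ω} (h : ∀ x ∈ P, f x ∈ C) :
    img P f ≤ C := fun y hy => by
  obtain ⟨x, hx, rfl⟩ := hf.mem_img.1 hy
  exact h x hx

theorem IsMap.map_mem_of_sup {A B C : Subgroup Ω} (hf : IsMap F (A ⊔ B) f)
    (hA : ∀ x ∈ A, f x ∈ C) (hB : ∀ x ∈ B, f x ∈ C) {z : Ω} (hz : z ∈ A ⊔ B) : f z ∈ C := by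
  obtain ⟨φ, -, hφf⟩ := hf
  have hA' : A ≤ (C.comap φ).map (A ⊔ B).subtype := fun x hx =>
    ⟨⟨x, (le_sup_left : A ≤ A ⊔ B) hx⟩, Subgroup.mem_comap.2 (by rw [hφf]; exact hA x hx), rfl⟩
  have hB' : B ≤ (C.comap φ).map (A ⊔ B).subtype := fun x hx =>
    ⟨⟨x, (le_sup_right : B ≤ A ⊔ B) hx⟩, Subgroup.mem_comap.2 (by rw [hφf]; exact hB x hx), rfl⟩
  obtain ⟨w, hw, rfl⟩ := sup_le hA' hB' hz
  exact hφf w ▸ Subgroup.mem_comap.1 hw

theorem img_eq_of_map_le [Finite S] (hQ : Q ≤ S) (hf : IsMap F R f) (hQR : Q ≤ R)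
    (h : ∀ x ∈ Q, f x ∈ Q) : img Q f = Q :=
  eq_of_le_of_card_le hQ ((hf.mono hQR).img_le_of_forall h) (hf.mono hQR).card_img.ge

theorem mem_of_img_eq (hf : IsMap F R f) (hQR : Q ≤ R) (h : img Q f = Q) {x : Ω} (hx : x ∈ Q) :
    f x ∈ Q :=
  h.le ((hf.mono hQR).mem_img.2 ⟨x, hx, rfl⟩)

theorem map_subgroupOf_eq_img (hQR : Q ≤ R) (ψ : R →* Ω) :
    (Q.subgroupOf R).map ψ = img Q (toFun ψ) := by
  rw [img, show toFun ψ '' (Q : Set Ω) = ((Q.subgroupOf R).map ψ : Set Ω) from ?_,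
    Subgroup.closure_eq]
  ext y
  constructor
  · rintro ⟨x, hx, rfl⟩
    exact ⟨⟨x, hQR hx⟩, hx, (toFun_apply ψ (hQR hx)).symm⟩
  · rintro ⟨x, hx, rfl⟩
    exact ⟨x, hx, toFun_coe ψ x⟩

/-! ### The predicates, in terms of `IsMap` -/

theorem extends_normal_iff {φ : P →* Ω} :
    (∃ ψ ∈ F.Hom (P ⊔ Q), (∀ x : P, ψ (Subgroup.inclusion le_sup_left x) = φ x) ∧
      (Q.subgroupOf (P ⊔ Q)).map ψ = Q) ↔
    ∃ g, IsMap F (P ⊔ Q) g ∧ (∀ x : P, g x = φ x) ∧ img Q g = Q := by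
  constructor
  · rintro ⟨ψ, hψ, hψφ, hQ⟩
    refine ⟨toFun ψ, isMap_toFun hψ, fun x => ?_, (map_subgroupOf_eq_img le_sup_right ψ).symm.trans hQ⟩
    rw [toFun_apply ψ ((le_sup_left : P ≤ P ⊔ Q) x.2)]
    exact hψφ x
  · rintro ⟨g, ⟨ψ, hψ, hψg⟩, hg, hQ⟩
    refine ⟨ψ, hψ, fun x => (hψg _).trans (hg x), ?_⟩
    rw [map_subgroupOf_eq_img le_sup_right ψ]
    exact (IsMap.img_congr fun x hx => (toFun_apply ψ ((le_sup_right : Q ≤ P ⊔ Q) hx)).trans
      (hψg _)).trans hQ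

theorem isNormal_iff : F.IsNormal Q ↔ Q ≤ S ∧ ∀ (P : Subgroup Ω) (f : Ω → Ω), IsMap F P f →
    ∃ g, IsMap F (P ⊔ Q) g ∧ (∀ x ∈ P, g x = f x) ∧ img Q g = Q := by
  refine and_congr_right fun _ => ⟨fun h P f hf => ?_, fun h P φ hφ => ?_⟩
  · obtain ⟨φ, hφ, hφf⟩ := hf
    obtain ⟨g, hg, hgf, hgQ⟩ := extends_normal_iff.1 (h P φ hφ)
    exact ⟨g, hg, fun x hx => (hgf ⟨x, hx⟩).trans (hφf ⟨x, hx⟩), hgQ⟩
  · obtain ⟨g, hg, hgf, hgQ⟩ := h P _ (isMap_toFun hφ)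
    exact extends_normal_iff.2 ⟨g, hg, fun x => (hgf x x.2).trans (toFun_coe φ x), hgQ⟩

theorem extends_central_iff {φ : P →* Ω} :
    (∃ ψ ∈ F.Hom (P ⊔ Q), (∀ x : P, ψ (Subgroup.inclusion le_sup_left x) = φ x) ∧
      ∀ x : Q, ψ (Subgroup.inclusion le_sup_right x) = x) ↔
    ∃ g, IsMap F (P ⊔ Q) g ∧ (∀ x : P, g x = φ x) ∧ ∀ x ∈ Q, g x = x := by
  constructor
  · rintro ⟨ψ, hψ, hψφ, hQ⟩
    refine ⟨toFun ψ, isMap_toFun hψ, fun x => ?_, fun x hx => ?_⟩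
    · rw [toFun_apply ψ ((le_sup_left : P ≤ P ⊔ Q) x.2)]
      exact hψφ x
    · rw [toFun_apply ψ ((le_sup_right : Q ≤ P ⊔ Q) hx)]
      exact hQ ⟨x, hx⟩
  · rintro ⟨g, ⟨ψ, hψ, hψg⟩, hg, hQ⟩
    exact ⟨ψ, hψ, fun x => (hψg _).trans (hg x), fun x => (hψg _).trans (hQ x x.2)⟩

theorem isCentral_iff : F.IsCentral Q ↔ Q ≤ S ∧ ∀ (P : Subgroup Ω) (f : Ω → Ω), IsMap F P f →
    ∃ g, IsMap F (P ⊔ Q) g ∧ (∀ x ∈ P, g x = f x) ∧ ∀ x ∈ Q, g x = x := by
  refine and_congr_right fun _ => ⟨fun h P f hf => ?_, fun h P φ hφ => ?_⟩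
  · obtain ⟨φ, hφ, hφf⟩ := hf
    obtain ⟨g, hg, hgf, hgQ⟩ := extends_central_iff.1 (h P φ hφ)
    exact ⟨g, hg, fun x hx => (hgf ⟨x, hx⟩).trans (hφf ⟨x, hx⟩), hgQ⟩
  · obtain ⟨g, hg, hgf, hgQ⟩ := h P _ (isMap_toFun hφ)
    exact extends_central_iff.2 ⟨g, hg, fun x => (hgf x x.2).trans (toFun_coe φ x), hgQ⟩

theorem stronglyClosed_iff : F.StronglyClosed Q ↔ Q ≤ S ∧
    ∀ (R : Subgroup Ω) (f : Ω → Ω), R ≤ Q → IsMap F R f → ∀ x ∈ R, f x ∈ Q := by
  refine and_congr_right fun _ => ⟨fun h R f hR hf x hx => ?_, fun h R hR φ hφ x => ?_⟩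
  · obtain ⟨φ, hφ, hφf⟩ := hf
    exact hφf ⟨x, hx⟩ ▸ h R hR φ hφ ⟨x, hx⟩
  · exact toFun_coe φ x ▸ h R _ hR (isMap_toFun hφ) x x.2

theorem isConjElt_iff {x y : Ω} :
    F.IsConjElt x y ↔ ∃ f, IsMap F (Subgroup.zpowers x) f ∧ f x = y := by
  constructor
  · rintro ⟨φ, hφ, h⟩
    exact ⟨toFun φ, isMap_toFun hφ, (toFun_apply φ (Subgroup.mem_zpowers x)).trans h⟩
  · rintro ⟨f, ⟨φ, hφ, hφf⟩, h⟩
    exact ⟨φ, hφ, (hφf _).trans h⟩

/-! ### Building systems from predicates -/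

/-- A fusion system over `T` from a predicate on the maps of `F`. -/
noncomputable def mkSystem (F : FusionSystem S) (T : Subgroup Ω)
    (M : Subgroup Ω → (Ω → Ω) → Prop)
    (hM : ∀ P f, M P f → IsMap F P f ∧ P ≤ T ∧ ∀ x ∈ P, f x ∈ T)
    (hcongr : ∀ P f g, M P f → (∀ x ∈ P, g x = f x) → M P g)
    (hconj : ∀ P t, P ≤ T → t ∈ T → M P (fun x => t * x * t⁻¹))
    (hcomp : ∀ P Q f g, M P f → M Q g → (∀ x ∈ P, f x ∈ Q) → M P (g ∘ f))
    (hinv : ∀ P f f', M P f → IsMap F (img P f) f' → (∀ x ∈ P, f' (f x) = x) →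
      M (img P f) f') : FusionSystem T where
  Hom P := {φ | M P (toFun φ)}
  le_of_mem {P φ} h := ⟨(hM P _ h).2.1, fun x => toFun_coe φ x ▸ (hM P _ h).2.2 x x.2⟩
  injective_of_mem {P φ} h := by
    intro a b hab
    exact Subtype.ext ((hM P _ h).1.inj a.2 b.2 (by rw [toFun_coe, toFun_coe, hab]))
  conj_mem {P t} hP ht := by
    refine hcongr P _ _ (hconj P t hP ht) fun x hx => ?_
    rw [toFun_apply _ hx]
    rfl
  comp_mem {P Q φ ψ} hφ hψ h := by
    refine hcongr P _ _ (hcomp P Q _ _ hφ hψ fun x hx => toFun_apply φ hx ▸ h ⟨x, hx⟩) fun x hx => ?_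
    rw [Function.comp_apply, toFun_apply _ hx, toFun_apply φ hx, toFun_apply ψ (h ⟨x, hx⟩)]
    rfl
  inv_mem {P φ} hφ := by
    obtain ⟨f', hf', h1, -⟩ := (hM P _ hφ).1.exists_inv
    obtain ⟨ψ, -, hψf⟩ := id hf'
    have hr : φ.range = img P (toFun φ) := (img_toFun φ).symm
    refine ⟨(ψ.comp (Subgroup.inclusion hr.le)), ?_, fun x => ?_⟩
    · show M φ.range _
      have h2 := hinv P _ f' hφ hf' h1
      rw [← hr] at h2
      refine hcongr _ _ _ h2 fun y hy => ?_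
      rw [toFun_apply _ hy]
      exact hψf _
    · show ψ _ = (x : Ω)
      rw [hψf]
      show f' (φ x) = x
      rw [← toFun_coe φ x]
      exact h1 x x.2

theorem isMap_mkSystem_iff (M : Subgroup Ω → (Ω → Ω) → Prop) {hM hcongr hconj hcomp hinv} :
    IsMap (mkSystem F T M hM hcongr hconj hcomp hinv) P f ↔ M P f := by
  constructor
  · rintro ⟨φ, hφ, hφf⟩
    exact hcongr P _ _ hφ fun x hx => ((toFun_apply φ hx).trans (hφf ⟨x, hx⟩)).symm
  · intro h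
    obtain ⟨φ, -, hφf⟩ := (hM P f h).1
    exact ⟨φ, hcongr P _ _ h fun x hx => (toFun_apply φ hx).trans (hφf ⟨x, hx⟩), hφf⟩

/-- Maps of the normalizer system of `Q`, over `T`. -/
def NMap (F : FusionSystem S) (T Q P : Subgroup Ω) (f : Ω → Ω) : Prop :=
  P ≤ T ∧ (∀ x ∈ P, f x ∈ T) ∧
    ∃ g, IsMap F (P ⊔ Q) g ∧ (∀ x ∈ P, g x = f x) ∧ img Q g = Q

/-- Maps of the centralizer system of `Q`, over `T`. -/
def CMap (F : FusionSystem S) (T Q P : Subgroup Ω) (f : Ω → Ω) : Prop :=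
  P ≤ T ∧ (∀ x ∈ P, f x ∈ T) ∧
    ∃ g, IsMap F (P ⊔ Q) g ∧ (∀ x ∈ P, g x = f x) ∧ ∀ x ∈ Q, g x = x

theorem NMap.isMap (h : NMap F T Q P f) : IsMap F P f := by
  obtain ⟨-, -, g, hg, hgf, -⟩ := h
  exact (hg.mono le_sup_left).congr fun x hx => (hgf x hx).symm

theorem CMap.isMap (h : CMap F T Q P f) : IsMap F P f := by
  obtain ⟨-, -, g, hg, hgf, -⟩ := h
  exact (hg.mono le_sup_left).congr fun x hx => (hgf x hx).symm

theorem img_eq_self_of_fix (h : ∀ x ∈ Q, g x = x) : img Q g = Q :=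
  (IsMap.img_congr h).trans img_id

theorem CMap.nMap (h : CMap F T Q P f) : NMap F T Q P f := by
  obtain ⟨h1, h2, g, hg, hgf, hgQ⟩ := h
  exact ⟨h1, h2, g, hg, hgf, img_eq_self_of_fix hgQ⟩

theorem le_inv_source (hg : IsMap F (P ⊔ Q) g) (hgf : ∀ x ∈ P, g x = f x) (hgQ : img Q g = Q) :
    img P f ⊔ Q ≤ img (P ⊔ Q) g := by
  refine sup_le ?_ ?_
  · rw [← IsMap.img_congr hgf]
    exact hg.img_mono le_sup_left
  · exact hgQ.ge.trans (hg.img_mono le_sup_right)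

theorem sup_le_source (hT : T ≤ normalizerIn S Q) (hQ : Q ≤ S) (hP : P ≤ T) : P ⊔ Q ≤ S :=
  sup_le ((hP.trans hT).trans inf_le_left) hQ

/-- The normalizer system of `Q`, over `T ≤ N_S(Q)`. -/
noncomputable def nSystem (F : FusionSystem S) (T Q : Subgroup Ω) (hT : T ≤ normalizerIn S Q)
    (hQ : Q ≤ S) : FusionSystem T :=
  mkSystem F T (NMap F T Q) (fun P f h => ⟨h.isMap, h.1, h.2.1⟩)
    (fun P f g ⟨h1, h2, k, hk, hkf, hkQ⟩ he => ⟨h1, fun x hx => by rw [he x hx]; exact h2 x hx,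
      k, hk, fun x hx => (hkf x hx).trans (he x hx).symm, hkQ⟩)
    (fun P t hP ht => ⟨hP, fun x hx => T.mul_mem (T.mul_mem ht (hP hx)) (T.inv_mem ht), _,
      isMap_conj (sup_le_source hT hQ hP) (hT ht).1, fun _ _ => rfl,
      (img_conj Q t).trans (conjBy_eq_iff.2 (hT ht).2)⟩)
    (fun P R f g ⟨h1, _, k, hk, hkf, hkQ⟩ ⟨_, h4, l, hl, hlg, hlQ⟩ hfR =>
      ⟨h1, fun x hx => h4 _ (hfR x hx), l ∘ k, hk.comp hl (fun z hz => hk.map_mem_of_sup
        (fun x hx => (le_sup_left : R ≤ R ⊔ Q) (hkf x hx ▸ hfR x hx))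
        (fun x hx => (le_sup_right : Q ≤ R ⊔ Q) (mem_of_img_eq hk le_sup_right hkQ hx)) hz),
        fun x hx => by
          show l (k x) = g (f x)
          rw [hkf x hx, hlg _ (hfR x hx)],
        by rw [← img_img (hk.mono le_sup_right), hkQ, hlQ]⟩)
    (fun P f f' h hf' hinv => by
      obtain ⟨h1, h2, k, hk, hkf, hkQ⟩ := id h
      obtain ⟨k', hk', hk'1, -⟩ := hk.exists_inv
      refine ⟨h.isMap.img_le_of_forall h2, fun y hy => ?_, k',
        hk'.mono (le_inv_source hk hkf hkQ), fun y hy => ?_, ?_⟩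
      · obtain ⟨x, hx, rfl⟩ := h.isMap.mem_img.1 hy
        rw [hinv x hx]
        exact h1 hx
      · obtain ⟨x, hx, rfl⟩ := h.isMap.mem_img.1 hy
        rw [hinv x hx, ← hkf x hx, hk'1 x ((le_sup_left : P ≤ P ⊔ Q) hx)]
      · calc img Q k' = img (img Q k) k' := by rw [hkQ]
          _ = img Q (k' ∘ k) := img_img (hk.mono le_sup_right)
          _ = img Q id := IsMap.img_congr fun x hx => hk'1 x ((le_sup_right : Q ≤ P ⊔ Q) hx)
          _ = Q := img_id)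

theorem isMap_nSystem_iff {hT : T ≤ normalizerIn S Q} {hQ : Q ≤ S} :
    IsMap (nSystem F T Q hT hQ) P f ↔ NMap F T Q P f :=
  isMap_mkSystem_iff _

/-- The centralizer system of `Q`, over `T ≤ C_S(Q)`. -/
noncomputable def cSystem (F : FusionSystem S) (T Q : Subgroup Ω) (hT : T ≤ centralizerIn S Q)
    (hQ : Q ≤ S) : FusionSystem T :=
  mkSystem F T (CMap F T Q) (fun P f h => ⟨h.isMap, h.1, h.2.1⟩)
    (fun P f g ⟨h1, h2, k, hk, hkf, hkQ⟩ he => ⟨h1, fun x hx => by rw [he x hx]; exact h2 x hx,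
      k, hk, fun x hx => (hkf x hx).trans (he x hx).symm, hkQ⟩)
    (fun P t hP ht => ⟨hP, fun x hx => T.mul_mem (T.mul_mem ht (hP hx)) (T.inv_mem ht), _,
      isMap_conj (sup_le_source (hT.trans centralizerIn_le_normalizerIn) hQ hP) (hT ht).1,
      fun _ _ => rfl, fun x hx => mem_centralizer_iff'.1 (hT ht).2 x hx⟩)
    (fun P R f g ⟨h1, _, k, hk, hkf, hkQ⟩ ⟨_, h4, l, hl, hlg, hlQ⟩ hfR =>
      ⟨h1, fun x hx => h4 _ (hfR x hx), l ∘ k, hk.comp hl (fun z hz => hk.map_mem_of_sup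
        (fun x hx => (le_sup_left : R ≤ R ⊔ Q) (hkf x hx ▸ hfR x hx))
        (fun x hx => (le_sup_right : Q ≤ R ⊔ Q) (by rw [hkQ x hx]; exact hx)) hz),
        fun x hx => by
          show l (k x) = g (f x)
          rw [hkf x hx, hlg _ (hfR x hx)],
        fun x hx => by
          show l (k x) = x
          rw [hkQ x hx, hlQ x hx]⟩)
    (fun P f f' h hf' hinv => by
      obtain ⟨h1, h2, k, hk, hkf, hkQ⟩ := id h
      obtain ⟨k', hk', hk'1, -⟩ := hk.exists_inv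
      refine ⟨h.isMap.img_le_of_forall h2, fun y hy => ?_, k',
        hk'.mono (le_inv_source hk hkf (img_eq_self_of_fix hkQ)), fun y hy => ?_, fun x hx => ?_⟩
      · obtain ⟨x, hx, rfl⟩ := h.isMap.mem_img.1 hy
        rw [hinv x hx]
        exact h1 hx
      · obtain ⟨x, hx, rfl⟩ := h.isMap.mem_img.1 hy
        rw [hinv x hx, ← hkf x hx, hk'1 x ((le_sup_left : P ≤ P ⊔ Q) hx)]
      · conv_lhs => rw [← hkQ x hx]
        exact hk'1 x ((le_sup_right : Q ≤ P ⊔ Q) hx))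

theorem isMap_cSystem_iff {hT : T ≤ centralizerIn S Q} {hQ : Q ≤ S} :
    IsMap (cSystem F T Q hT hQ) P f ↔ CMap F T Q P f :=
  isMap_mkSystem_iff _

theorem mem_normalizerHom_iff {φ : P →* Ω} :
    φ ∈ F.normalizerHom Q P ↔ NMap F (normalizerIn S Q) Q P (toFun φ) := by
  constructor
  · rintro ⟨-, hP, hval, h⟩
    obtain ⟨g, hg, hgf, hgQ⟩ := extends_normal_iff.1 h
    exact ⟨hP, fun x hx => toFun_apply φ hx ▸ hval ⟨x, hx⟩, g, hg,
      fun x hx => (hgf ⟨x, hx⟩).trans (toFun_apply φ hx).symm, hgQ⟩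
  · intro h
    obtain ⟨hP, hval, g, hg, hgf, hgQ⟩ := id h
    exact ⟨mem_hom_iff.2 h.isMap, hP, fun x => toFun_coe φ x ▸ hval x x.2,
      extends_normal_iff.2 ⟨g, hg, fun x => (hgf x x.2).trans (toFun_coe φ x), hgQ⟩⟩

theorem mem_centralizerHom_iff {φ : P →* Ω} :
    φ ∈ F.centralizerHom Q P ↔ CMap F (centralizerIn S Q) Q P (toFun φ) := by
  constructor
  · rintro ⟨-, hP, hval, h⟩
    obtain ⟨g, hg, hgf, hgQ⟩ := extends_central_iff.1 h
    exact ⟨hP, fun x hx => toFun_apply φ hx ▸ hval ⟨x, hx⟩, g, hg,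
      fun x hx => (hgf ⟨x, hx⟩).trans (toFun_apply φ hx).symm, hgQ⟩
  · intro h
    obtain ⟨hP, hval, g, hg, hgf, hgQ⟩ := id h
    exact ⟨mem_hom_iff.2 h.isMap, hP, fun x => toFun_coe φ x ▸ hval x x.2,
      extends_central_iff.2 ⟨g, hg, fun x => (hgf x x.2).trans (toFun_coe φ x), hgQ⟩⟩

theorem isMap_of_isNormalizerSystem {E : FusionSystem (normalizerIn S Q)}
    (hE : F.IsNormalizerSystem Q E) :
    IsMap E P f ↔ NMap F (normalizerIn S Q) Q P f := by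
  constructor
  · rintro ⟨φ, hφ, hφf⟩
    rw [hE P] at hφ
    obtain ⟨h1, h2, g, hg, hgf, hgQ⟩ := mem_normalizerHom_iff.1 hφ
    exact ⟨h1, fun x hx => hφf ⟨x, hx⟩ ▸ (toFun_apply φ hx ▸ h2 x hx), g, hg,
      fun x hx => (hgf x hx).trans ((toFun_apply φ hx).trans (hφf ⟨x, hx⟩)), hgQ⟩
  · intro h
    obtain ⟨φ, -, hφf⟩ := h.isMap
    obtain ⟨h1, h2, g, hg, hgf, hgQ⟩ := h
    refine ⟨φ, ?_, hφf⟩
    rw [hE P]
    exact mem_normalizerHom_iff.2 ⟨h1, fun x hx => by rw [toFun_apply φ hx, hφf]; exact h2 x hx,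
      g, hg, fun x hx => by rw [hgf x hx, toFun_apply φ hx, hφf], hgQ⟩

theorem isMap_of_isCentralizerSystem {E : FusionSystem (centralizerIn S Q)}
    (hE : F.IsCentralizerSystem Q E) :
    IsMap E P f ↔ CMap F (centralizerIn S Q) Q P f := by
  constructor
  · rintro ⟨φ, hφ, hφf⟩
    rw [hE P] at hφ
    obtain ⟨h1, h2, g, hg, hgf, hgQ⟩ := mem_centralizerHom_iff.1 hφ
    exact ⟨h1, fun x hx => hφf ⟨x, hx⟩ ▸ (toFun_apply φ hx ▸ h2 x hx), g, hg,
      fun x hx => (hgf x hx).trans ((toFun_apply φ hx).trans (hφf ⟨x, hx⟩)), hgQ⟩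
  · intro h
    obtain ⟨φ, -, hφf⟩ := h.isMap
    obtain ⟨h1, h2, g, hg, hgf, hgQ⟩ := h
    refine ⟨φ, ?_, hφf⟩
    rw [hE P]
    exact mem_centralizerHom_iff.2 ⟨h1, fun x hx => by rw [toFun_apply φ hx, hφf]; exact h2 x hx,
      g, hg, fun x hx => by rw [hgf x hx, toFun_apply φ hx, hφf], hgQ⟩

/-! ### Strongly closed subgroups -/

theorem le_normalizerIn_of_stronglyClosed (h : F.StronglyClosed Q) : S ≤ normalizerIn S Q := by
  obtain ⟨hQ, hc⟩ := stronglyClosed_iff.1 h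
  intro s hs
  refine ⟨hs, Subgroup.mem_normalizer_iff.2 fun x => ⟨fun hx => ?_, fun hx => ?_⟩⟩
  · exact hc Q _ le_rfl (isMap_conj hQ hs) x hx
  · have h1 := hc Q _ le_rfl (isMap_conj hQ (S.inv_mem hs)) _ hx
    simpa [mul_assoc] using h1

theorem stronglyClosed_bot : F.StronglyClosed ⊥ :=
  stronglyClosed_iff.2 ⟨bot_le, fun R f hR hf x hx => by
    rw [Subgroup.mem_bot.1 (hR hx), hf.map_one]; exact one_mem _⟩

/-- Maps inside `R` extend to automorphisms of `R`. -/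
def AutExtends (F : FusionSystem S) (R : Subgroup Ω) : Prop :=
  ∀ (P : Subgroup Ω) (f : Ω → Ω), P ≤ R → IsMap F P f →
    ∃ α ∈ F.autGroup R, ∀ x ∈ P, autFun α x = f x

theorem autExtends_of_isNormal (h : F.IsNormal Q) : AutExtends F Q := by
  intro P f hP hf
  obtain ⟨g, hg, hgf, hgQ⟩ := (isNormal_iff.1 h).2 P f hf
  have hgQ' := hg.mono (le_sup_right : Q ≤ P ⊔ Q)
  exact ⟨autOf hgQ' hgQ, autOf_mem hgQ' hgQ,
    fun x hx => (autFun_autOf hgQ' hgQ (hP hx)).trans (hgf x hx)⟩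

theorem stronglyClosed_of_autExtends (hR : R ≤ S) (h : AutExtends F R) : F.StronglyClosed R :=
  stronglyClosed_iff.2 ⟨hR, fun P f hP hf x hx => by
    obtain ⟨α, -, hαf⟩ := h P f hP hf
    exact hαf x hx ▸ autFun_mem α (hP hx)⟩

theorem stronglyClosed_of_isNormal (h : F.IsNormal Q) : F.StronglyClosed Q :=
  stronglyClosed_of_autExtends h.1 (autExtends_of_isNormal h)

/-- A characteristic subgroup is preserved by maps preserving `Q`. -/
theorem img_characteristic (hg : IsMap F R g) (hQR : Q ≤ R) (hgQ : img Q g = Q) {U : Subgroup Ω}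
    (hUQ : U ≤ Q) (hU : (U.subgroupOf Q).Characteristic) : img U g = U := by
  have hgQ' := hg.mono hQR
  set α := autOf hgQ' hgQ with hα
  have key : ∀ x : Q, (α x : Ω) ∈ U ↔ (x : Ω) ∈ U := fun x => by
    have h1 := SetLike.ext_iff.1 (hU.fixed α) x
    exact h1
  ext y
  rw [(hgQ'.mono hUQ).mem_img]
  constructor
  · rintro ⟨x, hx, rfl⟩
    have h1 := (key ⟨x, hUQ hx⟩).2 hx
    rwa [← autFun_coe α ⟨x, hUQ hx⟩, autFun_autOf hgQ' hgQ (hUQ hx)] at h1
  · intro hy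
    obtain ⟨x, hx, rfl⟩ := hgQ'.mem_img.1 (hgQ.ge (hUQ hy))
    refine ⟨x, (key ⟨x, hx⟩).1 ?_, rfl⟩
    rwa [← autFun_coe α ⟨x, hx⟩, autFun_autOf hgQ' hgQ hx]

theorem isNormal_of_characteristic (h : F.IsNormal Q) {U : Subgroup Ω} (hUQ : U ≤ Q)
    (hU : (U.subgroupOf Q).Characteristic) : F.IsNormal U := by
  refine isNormal_iff.2 ⟨hUQ.trans h.1, fun P f hf => ?_⟩
  obtain ⟨g, hg, hgf, hgQ⟩ := (isNormal_iff.1 h).2 P f hf
  exact ⟨g, hg.mono (sup_le_sup_left hUQ P), hgf, img_characteristic hg le_sup_right hgQ hUQ hU⟩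

theorem isNormal_bot : F.IsNormal ⊥ := by
  refine isNormal_iff.2 ⟨bot_le, fun P f hf => ⟨f, by rwa [sup_bot_eq], fun _ _ => rfl, ?_⟩⟩
  exact le_bot_iff.1 ((hf.mono bot_le).img_le_of_forall fun x hx => by
    rw [Subgroup.mem_bot.1 hx, hf.map_one]; exact one_mem _)

theorem isCentral_bot : F.IsCentral ⊥ := by
  refine isCentral_iff.2 ⟨bot_le, fun P f hf => ⟨f, by rwa [sup_bot_eq], fun _ _ => rfl,
    fun x hx => ?_⟩⟩
  rw [Subgroup.mem_bot.1 hx, hf.map_one]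

theorem isNormal_sup {A B : Subgroup Ω} (hA : F.IsNormal A) (hB : F.IsNormal B) :
    F.IsNormal (A ⊔ B) := by
  refine isNormal_iff.2 ⟨sup_le hA.1 hB.1, fun P f hf => ?_⟩
  obtain ⟨g₁, hg₁, hgf₁, hgA⟩ := (isNormal_iff.1 hA).2 P f hf
  obtain ⟨g₂, hg₂, hgf₂, hgB⟩ := (isNormal_iff.1 hB).2 (P ⊔ A) g₁ hg₁
  rw [sup_assoc] at hg₂
  have hA2 : img A g₂ = A :=
    (IsMap.img_congr fun x hx => hgf₂ x ((le_sup_right : A ≤ P ⊔ A) hx)).trans hgA
  refine ⟨g₂, hg₂, fun x hx => (hgf₂ x ((le_sup_left : P ≤ P ⊔ A) hx)).trans (hgf₁ x hx),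
    le_antisymm ?_ (sup_le ?_ ?_)⟩
  · refine (hg₂.mono le_sup_right).img_le_of_forall fun z hz => ?_
    refine (hg₂.mono le_sup_right).map_mem_of_sup (fun x hx => ?_) (fun x hx => ?_) hz
    · exact (le_sup_left : A ≤ A ⊔ B)
        (mem_of_img_eq hg₂ (le_sup_left.trans le_sup_right) hA2 hx)
    · exact (le_sup_right : B ≤ A ⊔ B)
        (mem_of_img_eq hg₂ (le_sup_right.trans le_sup_right) hgB hx)
  · exact hA2.ge.trans ((hg₂.mono le_sup_right).img_mono le_sup_left)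
  · exact hgB.ge.trans ((hg₂.mono le_sup_right).img_mono le_sup_right)

theorem isCentral_sup {A B : Subgroup Ω} (hA : F.IsCentral A) (hB : F.IsCentral B) :
    F.IsCentral (A ⊔ B) := by
  refine isCentral_iff.2 ⟨sup_le hA.1 hB.1, fun P f hf => ?_⟩
  obtain ⟨g₁, hg₁, hgf₁, hgA⟩ := (isCentral_iff.1 hA).2 P f hf
  obtain ⟨g₂, hg₂, hgf₂, hgB⟩ := (isCentral_iff.1 hB).2 (P ⊔ A) g₁ hg₁
  rw [sup_assoc] at hg₂
  refine ⟨g₂, hg₂, fun x hx => (hgf₂ x ((le_sup_left : P ≤ P ⊔ A) hx)).trans (hgf₁ x hx),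
    fun z hz => ?_⟩
  have hAB := hg₂.mono (le_sup_right : A ⊔ B ≤ P ⊔ (A ⊔ B))
  let K : Subgroup Ω :=
    { carrier := {x | x ∈ A ⊔ B ∧ g₂ x = x}
      one_mem' := ⟨one_mem _, hAB.map_one⟩
      mul_mem' := fun {a b} ha hb => ⟨mul_mem ha.1 hb.1, by
        rw [hAB.map_mul ha.1 hb.1, ha.2, hb.2]⟩
      inv_mem' := fun {a} ha => ⟨inv_mem ha.1, by rw [hAB.map_inv ha.1, ha.2]⟩ }
  have hle : A ⊔ B ≤ K := sup_le
    (fun x hx => ⟨(le_sup_left : A ≤ A ⊔ B) hx,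
      (hgf₂ x ((le_sup_right : A ≤ P ⊔ A) hx)).trans (hgA x hx)⟩)
    (fun x hx => ⟨(le_sup_right : B ≤ A ⊔ B) hx, hgB x hx⟩)
  exact (hle hz).2

theorem sSup_mem_of_sup {s : Set (Subgroup Ω)} [Finite S] (hs : ∀ Q ∈ s, Q ≤ S) (hbot : ⊥ ∈ s)
    (hsup : ∀ A ∈ s, ∀ B ∈ s, A ⊔ B ∈ s) : sSup s ∈ s := by
  have hfin : s.Finite := by
    have h : s ⊆ Set.range (fun U : Subgroup S => U.map S.subtype) := fun Q hQ =>
      ⟨Q.subgroupOf S, by
        show (Q.subgroupOf S).map S.subtype = Q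
        rw [Subgroup.subgroupOf_map_subtype, inf_eq_left.2 (hs Q hQ)]⟩
    exact (Set.finite_range _).subset h
  suffices ∀ t : Finset (Subgroup Ω), (∀ Q ∈ t, Q ∈ s) → t.sup id ∈ s by
    have h := this hfin.toFinset fun Q hQ => hfin.mem_toFinset.1 hQ
    rwa [Finset.sup_id_eq_sSup, hfin.coe_toFinset] at h
  intro t
  induction t using Finset.induction_on with
  | empty => intro _; simpa using hbot
  | insert a t ha ih =>
    intro h
    rw [Finset.sup_insert]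
    exact hsup _ (h a (Finset.mem_insert_self a t)) _
      (ih fun Q hQ => h Q (Finset.mem_insert_of_mem hQ))

theorem isNormal_core [Finite S] : F.IsNormal F.core :=
  sSup_mem_of_sup (s := {Q : Subgroup Ω | F.IsNormal Q}) (fun _ h => h.1) isNormal_bot
    fun _ hA _ hB => isNormal_sup hA hB

theorem isCentral_center [Finite S] : F.IsCentral F.center :=
  sSup_mem_of_sup (s := {Q : Subgroup Ω | F.IsCentral Q}) (fun _ h => h.1) isCentral_bot
    fun _ hA _ hB => isCentral_sup hA hB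

theorem le_core (h : F.IsNormal Q) : Q ≤ F.core := le_sSup h

/-! ### Criteria for normality -/

section Stabilizer

theorem autFun_map_mul (a : MulAut P) {x y : Ω} (hx : x ∈ P) (hy : y ∈ P) :
    autFun a (x * y) = autFun a x * autFun a y := by
  rw [autFun_apply a (mul_mem hx hy), autFun_apply a hx, autFun_apply a hy, ← Subgroup.coe_mul,
    ← map_mul]
  rfl

theorem autFun_map_one (a : MulAut P) : autFun a 1 = 1 := by
  have h := autFun_map_mul a (one_mem P) (one_mem P)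
  rw [mul_one] at h
  exact mul_eq_left.1 h.symm

/-- Automorphisms in `X` acting trivially on `L` modulo `M`. -/
def relStab (X : Subgroup (MulAut P)) (L M : Subgroup Ω)
    (hM : ∀ a ∈ X, ∀ x ∈ M, autFun a x ∈ M) (hLP : L ≤ P) (hMP : M ≤ P)
    (hL : ∀ a ∈ X, ∀ x ∈ L, autFun a x ∈ L) : Subgroup X where
  carrier := {a | ∀ x ∈ L, x⁻¹ * autFun (a : MulAut P) x ∈ M}
  one_mem' := fun x hx => by
    rw [Subgroup.coe_one, autFun_one (hLP hx), inv_mul_cancel]; exact one_mem _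
  mul_mem' := fun {a b} ha hb x hx => by
    have hz := hb x hx
    have hbx := hL _ b.2 x hx
    rw [Subgroup.coe_mul, autFun_mul _ _ (hLP hx),
      show autFun (b : MulAut P) x = x * (x⁻¹ * autFun (b : MulAut P) x) by group]
    rw [autFun_map_mul _ (hLP hx) (hMP hz), ← mul_assoc]
    exact mul_mem (ha x hx) (hM _ a.2 _ hz)
  inv_mem' := fun {a} ha x hx => by
    have hy : autFun ((a⁻¹ : X) : MulAut P) x ∈ L := hL _ (a⁻¹).2 x hx
    have h1 := ha _ hy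
    rw [← autFun_mul _ _ (hLP hx), ← Subgroup.coe_mul, mul_inv_cancel, Subgroup.coe_one,
      autFun_one (hLP hx)] at h1
    simpa using inv_mem h1

theorem mem_relStab {X : Subgroup (MulAut P)} {L M : Subgroup Ω} {hM hLP hMP hL} {a : X} :
    a ∈ relStab X L M hM hLP hMP hL ↔ ∀ x ∈ L, x⁻¹ * autFun (a : MulAut P) x ∈ M := Iff.rfl

theorem autFun_inv_map {a : MulAut P} {x y : Ω} (hx : x ∈ P) (hy : y ∈ P) :
    autFun a (x⁻¹ * y) = (autFun a x)⁻¹ * autFun a y := by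
  rw [autFun_apply _ (mul_mem (inv_mem hx) hy), autFun_apply _ hx, autFun_apply _ hy,
    ← Subgroup.coe_inv, ← Subgroup.coe_mul, ← map_inv, ← map_mul]
  rfl

theorem relStab_normal {X : Subgroup (MulAut P)} {L M : Subgroup Ω} {hM hLP hMP hL} :
    (relStab X L M hM hLP hMP hL).Normal where
  conj_mem a ha g := by
    intro x hx
    have hy : autFun ((g⁻¹ : X) : MulAut P) x ∈ L := hL _ (g⁻¹).2 x hx
    have h1 := hM _ g.2 _ (ha _ hy)
    rw [autFun_inv_map (hLP hy) (autFun_mem _ (hLP hy)), ← autFun_mul _ _ (hLP hx),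
      ← Subgroup.coe_mul X g g⁻¹, mul_inv_cancel, Subgroup.coe_one, autFun_one (hLP hx),
      ← autFun_mul _ _ (hLP hy), ← autFun_mul _ _ (hLP hx), ← Subgroup.coe_mul,
      ← Subgroup.coe_mul] at h1
    exact h1

/-- A power of `a` fixing `M` pointwise has a further power fixing `L`. -/
theorem pow_fix_step {p n : ℕ} (hP : P ≤ S) (hn : Nat.card S = p ^ n) {a : MulAut P}
    {L M : Subgroup Ω} (hLP : L ≤ P) (hMP : M ≤ P)
    (hfix : ∀ x ∈ M, autFun a x = x) (hstab : ∀ x ∈ L, x⁻¹ * autFun a x ∈ M) :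
    ∀ x ∈ L, autFun (a ^ p ^ n) x = x := by
  intro x hx
  set z := x⁻¹ * autFun a x with hz
  have hzM : z ∈ M := hstab x hx
  have key : ∀ k : ℕ, autFun (a ^ k) x = x * z ^ k := by
    intro k
    induction k with
    | zero => rw [pow_zero, pow_zero, autFun_one (hLP hx), mul_one]
    | succ k ih =>
      rw [pow_succ', autFun_mul _ _ (hLP hx), ih]
      have hzk : z ^ k ∈ M := pow_mem hzM k
      have e : autFun a x = x * z := by rw [hz, mul_inv_cancel_left]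
      rw [autFun_map_mul a (hLP hx) (hMP hzk), hfix _ hzk, pow_succ', e, mul_assoc]
  have hzS : z ^ p ^ n = 1 := by
    have h := congrArg Subtype.val (pow_card_eq_one' (x := (⟨z, hP (hMP hzM)⟩ : S)))
    rwa [hn] at h
  rw [key, hzS, mul_one]

end Stabilizer

section Saturated

variable [Finite S] [Fact p.Prime]

theorem isEssential_centric_radical (hS : IsPGroup p S) (hP : F.IsEssential p P) :
    F.IsCentric P ∧ F.IsRadical p P :=
  ⟨hP.1, isRadical_of_isEssential hS hP⟩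

theorem autInvariant_of_stronglyClosed (h : F.StronglyClosed Q) (hP : P ≤ S) {a : MulAut P}
    (ha : a ∈ F.autGroup P) {x : Ω} (hx : x ∈ P ⊓ Q) : autFun a x ∈ P ⊓ Q :=
  ⟨autFun_mem a hx.1, (stronglyClosed_iff.1 h).2 _ _ inf_le_right
    (((mem_autGroup_iff hP).1 ha).mono inf_le_left) x hx⟩

/-- Reduction of `Q ≤ P` for centric radical `P`. -/
theorem le_of_conjAut_mem_pCore (hS : IsPGroup p S) (hQ : Q ≤ S) (hn : S ≤ normalizerIn S Q)
    (hc : F.IsCentric P) (hr : F.IsRadical p P)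
    (h : ∀ n (hnP : n ∈ Subgroup.normalizer (P : Set Ω)), n ∈ Q →
      ∀ hm : conjAut n hnP ∈ F.autGroup P, ⟨_, hm⟩ ∈ Cfsg.pCore p (F.autGroup P)) : Q ≤ P := by
  have hP := hc.1
  have key : ∀ n ∈ Q, n ∈ Subgroup.normalizer (P : Set Ω) → n ∈ P := by
    intro n hnQ hnP
    have hm : conjAut n hnP ∈ F.autGroup P :=
      autInducedBy_le_autGroup hP (conjAut_mem (hQ hnQ) hnP)
    have h1 : conjAut n hnP ∈ Cfsg.Inn P := hr.2 ▸ ⟨_, h n hnP hnQ hm, rfl⟩
    exact mem_of_conjAut_mem_inn (hQ hnQ) hnP hP (centralizerIn_le_of_isCentric hc) h1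
  have hPQ : P ⊔ Q ≤ S := sup_le hP hQ
  haveI := finite_of_le hPQ
  haveI : Group.IsNilpotent (P ⊔ Q : Subgroup Ω) := (hS.to_le hPQ).isNilpotent
  by_contra hnle
  obtain ⟨m, ⟨hm, hmN⟩, hmP⟩ := SetLike.exists_of_lt
    (lt_inf_normalizer (le_sup_left : P ≤ P ⊔ Q) fun he => hnle (sup_eq_left.1 he.symm))
  have hm' : m ∈ ((P : Set Ω) * (Q : Set Ω)) := by
    rw [← Subgroup.coe_mul_of_left_le_normalizer_right P Q
      ((hP.trans hn).trans inf_le_right)]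
    exact hm
  obtain ⟨a, ha, q, hq, rfl⟩ := Set.mem_mul.1 hm'
  have hqN : q ∈ Subgroup.normalizer (P : Set Ω) := by
    simpa using mul_mem (inv_mem (Subgroup.le_normalizer (ha : a ∈ P))) hmN
  exact hmP (mul_mem ha (key q hq hqN))

/-- A subgroup with a strongly closed central series lies in every centric radical subgroup. -/
theorem le_of_series (hS : IsPGroup p S) {n : ℕ} {Qs : Fin (n + 1) → Subgroup Ω}
    (h0 : Qs 0 = ⊥) (hlast : Qs (Fin.last n) = Q) (hQ : F.StronglyClosed Q)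
    (hmono : Monotone Qs) (hsc : ∀ i : Fin n, F.StronglyClosed (Qs i.succ))
    (hcomm : ∀ i : Fin n, ⁅Q, Qs i.succ⁆ ≤ Qs (Fin.castSucc i))
    (hc : F.IsCentric P) (hr : F.IsRadical p P) : Q ≤ P := by
  have hP := hc.1
  have hall : ∀ j : Fin (n + 1), F.StronglyClosed (Qs j) :=
    Fin.cases (h0 ▸ stronglyClosed_bot) hsc
  have hinv : ∀ j : Fin (n + 1), ∀ a ∈ F.autGroup P, ∀ x ∈ P ⊓ Qs j, autFun a x ∈ P ⊓ Qs j :=
    fun j a ha x hx => autInvariant_of_stronglyClosed (hall j) hP ha hx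
  have hinvP : ∀ a ∈ F.autGroup P, ∀ x ∈ P, autFun a x ∈ P := fun a _ x hx => autFun_mem a hx
  let K : Subgroup (F.autGroup P) :=
    (⨅ j : Fin n, relStab (F.autGroup P) (P ⊓ Qs j.succ) (P ⊓ Qs j.castSucc) (hinv _) inf_le_left
      inf_le_left (hinv _)) ⊓
    relStab (F.autGroup P) P (P ⊓ Qs (Fin.last n)) (hinv _) le_rfl inf_le_left hinvP
  have hKn : K.Normal := @Subgroup.normal_inf_normal _ _ _ _
    (Subgroup.normal_iInf_normal fun j => relStab_normal) relStab_normal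
  obtain ⟨m, hm⟩ := IsPGroup.iff_card.1 hS
  have hKp : IsPGroup p K := by
    intro a
    have ha1 := fun j => Subgroup.mem_iInf.1 (Subgroup.mem_inf.1 a.2).1 j
    have ha2 := (Subgroup.mem_inf.1 a.2).2
    have key : ∀ j : Fin (n + 1), ∃ k : ℕ, ∀ x ∈ P ⊓ Qs j,
        autFun (((a : F.autGroup P) : MulAut P) ^ p ^ k) x = x := by
      intro j
      induction j using Fin.induction with
      | zero =>
        refine ⟨0, fun x hx => ?_⟩
        have : x = 1 := Subgroup.mem_bot.1 (h0 ▸ hx.2)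
        subst this
        exact autFun_map_one _
      | succ j ih =>
        obtain ⟨k, hk⟩ := ih
        refine ⟨k + m, fun x hx => ?_⟩
        rw [pow_add, pow_mul]
        refine pow_fix_step hP hm inf_le_left inf_le_left hk (fun y hy => ?_) x hx
        have h1 := mem_relStab.1 (pow_mem (ha1 j) (p ^ k)) y hy
        rwa [Subgroup.coe_pow] at h1
    obtain ⟨k, hk⟩ := key (Fin.last n)
    refine ⟨k + m, Subtype.ext (Subtype.ext ?_)⟩
    simp only [Subgroup.coe_pow, Subgroup.coe_one]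
    refine autFun_ext fun x hx => ?_
    rw [autFun_one hx, pow_add, pow_mul]
    refine pow_fix_step hP hm le_rfl inf_le_left hk (fun y hy => ?_) x hx
    have h1 := mem_relStab.1 (pow_mem ha2 (p ^ k)) y hy
    rwa [Subgroup.coe_pow] at h1
  refine le_of_conjAut_mem_pCore hS hQ.1 (le_normalizerIn_of_stronglyClosed hQ) hc hr
    fun q hqN hqQ hm' => CfsgLib.Coprime.le_pCore (hN := hKn) hKp ?_
  refine Subgroup.mem_inf.2 ⟨Subgroup.mem_iInf.2 fun j x hx => ?_, fun x hx => ?_⟩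
  · show x⁻¹ * autFun (conjAut q hqN) x ∈ P ⊓ Qs j.castSucc
    rw [autFun_conjAut hqN hx.1]
    refine Subgroup.mem_inf.2 ⟨mul_mem (inv_mem hx.1)
      ((Subgroup.mem_normalizer_iff.1 hqN x).1 hx.1), ?_⟩
    rw [show x⁻¹ * (q * x * q⁻¹) = ⁅q, x⁻¹⁆⁻¹ by simp [commutatorElement_def, mul_assoc]]
    exact inv_mem (hcomm j (Subgroup.commutator_mem_commutator hqQ (inv_mem hx.2)))
  · show x⁻¹ * autFun (conjAut q hqN) x ∈ P ⊓ Qs (Fin.last n)
    rw [autFun_conjAut hqN hx, hlast]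
    refine Subgroup.mem_inf.2 ⟨mul_mem (inv_mem hx)
      ((Subgroup.mem_normalizer_iff.1 hqN x).1 hx), ?_⟩
    have hxN := (le_normalizerIn_of_stronglyClosed hQ (hP hx)).2
    have h1 := (Subgroup.mem_normalizer_iff''.1 hxN q).1 hqQ
    have := mul_mem h1 (inv_mem hqQ)
    simpa [mul_assoc] using this

/-- Normality from invariance under the automizers of `S` and the essential subgroups. -/
theorem isNormal_of_invariant (hS : IsPGroup p S) (hF : F.IsSaturated p) (hQ : Q ≤ S)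
    (h : ∀ P : Subgroup Ω, (P = S ∨ F.IsEssential p P) →
      Q ≤ P ∧ ∀ α ∈ F.autGroup P, img Q (autFun α) = Q) : F.IsNormal Q := by
  have hn : S ≤ normalizerIn S Q := by
    intro s hs
    refine ⟨hs, conjBy_eq_iff.1 ?_⟩
    have hα : conjAut (P := S) s (Subgroup.le_normalizer hs) ∈ F.autGroup S :=
      autInducedBy_le_autGroup le_rfl (conjAut_mem hs _)
    have e := (h S (Or.inl rfl)).2 _ hα
    rw [← img_conj]
    refine Eq.trans (IsMap.img_congr fun x hx => ?_) e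
    exact (autFun_conjAut (P := S) (Subgroup.le_normalizer hs) (hQ hx)).symm
  refine isNormal_iff.2 ⟨hQ, fun P f hf => ?_⟩
  have hm : IsMap (nSystem F S Q hn hQ) P f := by
    refine isMap_of_autGroup_le hS hF (fun R hR α hα => ?_) hf
    have hRS : R ≤ S := hR.elim (fun e => e.le) (fun e => e.1.1)
    obtain ⟨hQR, hinv⟩ := h R hR
    have hm := (mem_autGroup_iff hRS).1 hα
    refine (mem_autGroup_iff hRS).2 (isMap_nSystem_iff.2 ⟨hRS, fun x hx => hm.mem_S hx,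
      autFun α, ?_, fun _ _ => rfl, hinv α hα⟩)
    rwa [sup_eq_left.2 hQR]
  obtain ⟨-, -, g, hg, hgf, hgQ⟩ := isMap_nSystem_iff.1 hm
  exact ⟨g, hg, hgf, hgQ⟩

theorem isNormal_of_stronglyClosed_le (hS : IsPGroup p S) (hF : F.IsSaturated p)
    (hQ : F.StronglyClosed Q) (h : ∀ P, F.IsEssential p P → Q ≤ P) : F.IsNormal Q := by
  refine isNormal_of_invariant hS hF hQ.1 fun P hP => ?_
  have hQP : Q ≤ P := hP.elim (fun e => e ▸ hQ.1) (h P)
  have hPS : P ≤ S := hP.elim (fun e => e.le) (fun e => e.1.1)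
  refine ⟨hQP, fun α hα => ?_⟩
  have hm := (mem_autGroup_iff hPS).1 hα
  exact img_eq_of_map_le hQ.1 hm hQP fun x hx =>
    (stronglyClosed_iff.1 hQ).2 Q _ le_rfl (hm.mono hQP) x hx

theorem isNormal_of_series (hS : IsPGroup p S) (hF : F.IsSaturated p) {n : ℕ}
    {Qs : Fin (n + 1) → Subgroup Ω} (h0 : Qs 0 = ⊥) (hlast : Qs (Fin.last n) = Q)
    (hmono : Monotone Qs) (hsc : ∀ i : Fin n, F.StronglyClosed (Qs i.succ))
    (hcomm : ∀ i : Fin n, ⁅Q, Qs i.succ⁆ ≤ Qs (Fin.castSucc i)) : F.IsNormal Q := by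
  have hQ : F.StronglyClosed Q := by
    rw [← hlast]
    cases n with
    | zero => exact h0 ▸ stronglyClosed_bot
    | succ k => exact hsc (Fin.last k)
  exact isNormal_of_stronglyClosed_le hS hF hQ fun P hP =>
    le_of_series hS h0 hlast hQ hmono hsc hcomm hP.1 (isEssential_centric_radical hS hP).2

theorem exists_series_of_autExtends (hS : IsPGroup p S) (hR : R ≤ S) (h : AutExtends F R) :
    ∃ (n : ℕ) (Qs : Fin (n + 1) → Subgroup Ω), Qs 0 = ⊥ ∧ Qs (Fin.last n) = R ∧ Monotone Qs ∧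
      ∀ i : Fin n, F.StronglyClosed (Qs i.succ) ∧ ⁅R, Qs i.succ⁆ ≤ Qs (Fin.castSucc i) := by
  haveI := finite_of_le hR
  haveI : Group.IsNilpotent R := (hS.to_le hR).isNilpotent
  refine ⟨Group.nilpotencyClass R, fun i => (Subgroup.upperCentralSeries R (i : ℕ)).map R.subtype,
    ?_, ?_, fun i j hij => Subgroup.map_mono (Subgroup.upperCentralSeries_mono R hij),
    fun i => ⟨?_, ?_⟩⟩
  · simp
  · simp only [Fin.val_last, Subgroup.upperCentralSeries_nilpotencyClass]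
    rw [← MonoidHom.range_eq_map, Subgroup.range_subtype]
  · refine stronglyClosed_iff.2 ⟨(Subgroup.map_subtype_le _).trans hR, fun T f hT hf x hx => ?_⟩
    obtain ⟨α, -, hαf⟩ := h T f (hT.trans (Subgroup.map_subtype_le _)) hf
    obtain ⟨z, hz, rfl⟩ := hT hx
    rw [← hαf _ hx, show R.subtype z = (z : Ω) from rfl, autFun_coe]
    refine ⟨α z, ?_, rfl⟩
    have hchar := (inferInstance :
      (Subgroup.upperCentralSeries R ((i.succ : Fin _) : ℕ)).Characteristic).fixed α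
    exact (SetLike.ext_iff.1 hchar z).2 hz
  · refine Subgroup.commutator_le.2 fun r hr q hq => ?_
    obtain ⟨z, hz, rfl⟩ := hq
    refine ⟨⁅(⟨r, hr⟩ : R), z⁆, ?_, rfl⟩
    rw [← commutatorElement_inv]
    exact inv_mem (Subgroup.mem_upperCentralSeries_succ_iff.1 hz ⟨r, hr⟩)

theorem isNormal_iff_autExtends (hS : IsPGroup p S) (hF : F.IsSaturated p) (hR : R ≤ S) :
    F.IsNormal R ↔ AutExtends F R := by
  refine ⟨autExtends_of_isNormal, fun h => ?_⟩
  obtain ⟨n, Qs, h0, hlast, hmono, hi⟩ := exists_series_of_autExtends hS hR h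
  exact isNormal_of_series hS hF h0 hlast hmono (fun i => (hi i).1) (fun i => (hi i).2)

theorem le_of_isNormal (hS : IsPGroup p S) (hQ : F.IsNormal Q) (hc : F.IsCentric P)
    (hr : F.IsRadical p P) : Q ≤ P := by
  obtain ⟨n, Qs, h0, hlast, hmono, hi⟩ :=
    exists_series_of_autExtends hS hQ.1 (autExtends_of_isNormal hQ)
  exact le_of_series hS h0 hlast (stronglyClosed_of_isNormal hQ) hmono (fun i => (hi i).1)
    (fun i => (hi i).2) hc hr

theorem isNormal_of_stronglyClosed_abelian (hS : IsPGroup p S) (hF : F.IsSaturated p)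
    (hQ : F.StronglyClosed Q) (hab : ∀ x ∈ Q, ∀ y ∈ Q, Commute x y) : F.IsNormal Q := by
  refine isNormal_of_series hS hF (n := 1) (Qs := ![⊥, Q]) rfl rfl ?_ (fun i => ?_) fun i => ?_
  · intro i j hij
    fin_cases i <;> fin_cases j <;> simp at hij ⊢
  · fin_cases i
    exact hQ
  · fin_cases i
    refine Subgroup.commutator_le.2 fun a ha b hb => ?_
    show ⁅a, b⁆ ∈ (⊥ : Subgroup Ω)
    rw [Subgroup.mem_bot, commutatorElement_eq_one_iff_mul_comm]
    exact hab a ha b hb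

end Saturated

end CfsgLib.Fusion
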