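import Cfsg.Prelude.Def_PLocal
import Cfsg.Agent.Lib.Fusion.System.Normal
import Cfsg.Agent.Lib.Fusion.System.TopCriterion
import Cfsg.Agent.Lib.PGroup.OmegaOddAut

/-!
# Normality from series inside strongly closed subgroups
-/

set_option autoImplicit false

open Subgroup
open scoped Classical commutatorElement

namespace CfsgLib.Fusion

open Cfsg (FusionSystem autInducedBy)
open Cfsg.FusionSystem (normalizerIn centralizerIn)

variable {Ω : Type*} [Group Ω] {S : Subgroup Ω} [Finite S] {F : FusionSystem S} {p : ℕ}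
  [Fact p.Prime] {P Q R : Subgroup Ω}

/-- A subgroup centralizing a strongly closed series lies in every centric radical subgroup. -/
theorem le_of_relative_series (hS : IsPGroup p S) {n : ℕ} {Qs : Fin (n + 1) → Subgroup Ω}
    (h0 : Qs 0 = ⊥) (hlast : Qs (Fin.last n) = Q) (hQ : F.StronglyClosed Q)
    (hsc : ∀ i : Fin n, F.StronglyClosed (Qs i.succ))
    (hRQ : R ≤ Q) (hRn : S ≤ normalizerIn S R)
    (hcomm : ∀ i : Fin n, ⁅R, Qs i.succ⁆ ≤ Qs (Fin.castSucc i))
    (hc : F.IsCentric P) (hr : F.IsRadical p P) : R ≤ P := by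
  have hP := hc.1
  have hall : ∀ j : Fin (n + 1), F.StronglyClosed (Qs j) :=
    Fin.cases (h0 ▸ stronglyClosed_bot) hsc
  have hinv : ∀ j : Fin (n + 1), ∀ a ∈ F.autGroup P, ∀ x ∈ P ⊓ Qs j, autFun a x ∈ P ⊓ Qs j :=
    fun j a ha x hx => autInvariant_of_stronglyClosed (hall j) hP ha hx
  have hinvP : ∀ a ∈ F.autGroup P, ∀ x ∈ P, autFun a x ∈ P := fun a _ x hx => autFun_mem a hx
  let K : Subgroup (F.autGroup P) :=
    (⨅ j : Fin n, relStab (F.autGroup P) (P ⊓ Qs j.succ) (P ⊓ Qs j.castSucc) (hinv _) inf_le_left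
      inf_le_left (hinv _)) ⊓
    relStab (F.autGroup P) P (P ⊓ Qs (Fin.last n)) (hinv _) le_rfl inf_le_left hinvP
  have hKn : K.Normal := @Subgroup.normal_inf_normal _ _ _ _
    (Subgroup.normal_iInf_normal fun j => relStab_normal) relStab_normal
  obtain ⟨m, hm⟩ := IsPGroup.iff_card.1 hS
  have hKp : IsPGroup p K := by
    intro a
    have ha1 := fun j => Subgroup.mem_iInf.1 (Subgroup.mem_inf.1 a.2).1 j
    have ha2 := (Subgroup.mem_inf.1 a.2).2
    have key : ∀ j : Fin (n + 1), ∃ k : ℕ, ∀ x ∈ P ⊓ Qs j,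
        autFun (((a : F.autGroup P) : MulAut P) ^ p ^ k) x = x := by
      intro j
      induction j using Fin.induction with
      | zero =>
        refine ⟨0, fun x hx => ?_⟩
        have : x = 1 := Subgroup.mem_bot.1 (h0 ▸ hx.2)
        subst this
        exact autFun_map_one _
      | succ j ih =>
        obtain ⟨k, hk⟩ := ih
        refine ⟨k + m, fun x hx => ?_⟩
        rw [pow_add, pow_mul]
        refine pow_fix_step hP hm inf_le_left inf_le_left hk (fun y hy => ?_) x hx
        have h1 := mem_relStab.1 (pow_mem (ha1 j) (p ^ k)) y hy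
        rwa [Subgroup.coe_pow] at h1
    obtain ⟨k, hk⟩ := key (Fin.last n)
    refine ⟨k + m, Subtype.ext (Subtype.ext ?_)⟩
    simp only [Subgroup.coe_pow, Subgroup.coe_one]
    refine autFun_ext fun x hx => ?_
    rw [autFun_one hx, pow_add, pow_mul]
    refine pow_fix_step hP hm le_rfl inf_le_left hk (fun y hy => ?_) x hx
    have h1 := mem_relStab.1 (pow_mem ha2 (p ^ k)) y hy
    rwa [Subgroup.coe_pow] at h1
  refine le_of_conjAut_mem_pCore hS (hRQ.trans hQ.1) hRn hc hr
    fun q hqN hqQ hm' => CfsgLib.Coprime.le_pCore (hN := hKn) hKp ?_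
  refine Subgroup.mem_inf.2 ⟨Subgroup.mem_iInf.2 fun j x hx => ?_, fun x hx => ?_⟩
  · show x⁻¹ * autFun (conjAut q hqN) x ∈ P ⊓ Qs j.castSucc
    rw [autFun_conjAut hqN hx.1]
    refine Subgroup.mem_inf.2 ⟨mul_mem (inv_mem hx.1)
      ((Subgroup.mem_normalizer_iff.1 hqN x).1 hx.1), ?_⟩
    rw [show x⁻¹ * (q * x * q⁻¹) = ⁅q, x⁻¹⁆⁻¹ by simp [commutatorElement_def, mul_assoc]]
    exact inv_mem (hcomm j (Subgroup.commutator_mem_commutator hqQ (inv_mem hx.2)))
  · show x⁻¹ * autFun (conjAut q hqN) x ∈ P ⊓ Qs (Fin.last n)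
    rw [autFun_conjAut hqN hx, hlast]
    refine Subgroup.mem_inf.2 ⟨mul_mem (inv_mem hx)
      ((Subgroup.mem_normalizer_iff.1 hqN x).1 hx), ?_⟩
    have hxN := (le_normalizerIn_of_stronglyClosed hQ (hP hx)).2
    have h1 := (Subgroup.mem_normalizer_iff''.1 hxN q).1 (hRQ hqQ)
    have := mul_mem h1 (inv_mem (hRQ hqQ))
    simpa [mul_assoc] using this

theorem img_eq_of_weaklyClosed (h : F.WeaklyClosed Q) {f : Ω → Ω} (hf : IsMap F R f)
    (hQR : Q ≤ R) : img Q f = Q := by
  obtain ⟨φ, hφ, hφf⟩ := hf.mono hQR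
  rw [← (hf.mono hQR).img_eq_range hφf]
  exact h.2 φ hφ

theorem le_normalizerIn_of_weaklyClosed (h : F.WeaklyClosed Q) : S ≤ normalizerIn S Q :=
  fun s hs => ⟨hs, conjBy_eq_iff.1 (by
    rw [← img_conj]
    exact img_eq_of_weaklyClosed h (isMap_conj h.1 hs) le_rfl)⟩

/-- A strongly closed subgroup with a central series of weakly closed subgroups is normal. -/
theorem isNormal_of_weaklyClosed_series (hS : IsPGroup p S) (hF : F.IsSaturated p)
    (hQ : F.StronglyClosed Q) {n : ℕ} {C : Fin (n + 1) → Subgroup Ω} (h0 : C 0 = ⊥)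
    (hlast : C (Fin.last n) = Q) (hmono : Monotone C)
    (hcomm : ∀ i : Fin n, ⁅C i.succ, Q⁆ ≤ C i.castSucc)
    (hwc : ∀ i : Fin n, F.WeaklyClosed (C i.castSucc)) : F.IsNormal Q := by
  have key : ∀ i : Fin (n + 1), ∀ j, j ≤ i → F.StronglyClosed (C j) := by
    intro i
    induction i using Fin.induction with
    | zero =>
        intro j hj
        rw [Fin.le_zero_iff.1 hj, h0]
        exact stronglyClosed_bot
    | succ i ih =>
        intro j hj
        rcases hj.lt_or_eq with hlt | rfl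
        · exact ih j (Fin.le_castSucc_iff.2 hlt)
        rcases Fin.eq_castSucc_or_eq_last i.succ with ⟨k, hk⟩ | hk
        swap
        · rw [hk, hlast]; exact hQ
        rw [hk]
        have hW := hwc k
        refine stronglyClosed_of_isNormal (isNormal_of_invariant hS hF hW.1 fun P hP => ?_)
        have hPS : P ≤ S := hP.elim (fun e => e.le) (fun e => e.1.1)
        have hle : C k.castSucc ≤ P := by
          rcases hP with rfl | hP
          · exact hW.1
          obtain ⟨hc, hr⟩ := isEssential_centric_radical hS hP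
          rw [← hk]
          refine le_of_relative_series hS (Q := Q)
            (Qs := Fin.snoc (fun j : Fin (i.val + 1) => C ⟨j, by omega⟩) Q) ?_ (Fin.snoc_last _ _)
            hQ (fun j => ?_) (hlast ▸ hmono (Fin.le_last _))
            (hk ▸ le_normalizerIn_of_weaklyClosed hW) (fun j => ?_) hc hr
          · rw [← Fin.castSucc_zero, Fin.snoc_castSucc]
            exact h0
          · rcases Fin.eq_castSucc_or_eq_last j.succ with ⟨l, hl⟩ | hl
            · rw [hl, Fin.snoc_castSucc]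
              exact ih _ (Fin.le_def.2 (by simpa using Nat.lt_succ_iff.1 l.isLt))
            · rw [hl, Fin.snoc_last]
              exact hQ
          · rw [Fin.snoc_castSucc]
            rcases Fin.eq_castSucc_or_eq_last j.succ with ⟨l, hl⟩ | hl
            · rw [hl, Fin.snoc_castSucc, Subgroup.commutator_comm]
              have hlv : l.val = j.val + 1 := by simpa using (congrArg Fin.val hl).symm
              refine (Subgroup.commutator_mono le_rfl (hlast ▸ hmono (Fin.le_last i.succ))).trans ?_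
              have hjn : j.val < n := by omega
              convert hcomm ⟨j, hjn⟩ using 2
              all_goals first | exact Fin.ext rfl | exact Fin.ext (by simpa using hlv) | exact congrArg C (Fin.ext (by simpa using hlv))
            · rw [hl, Fin.snoc_last]
              have hjv : j.val = i.val := by
                have h1 := congrArg Fin.val hl
                simp only [Fin.val_succ, Fin.val_last] at h1
                omega
              refine (hcomm i).trans_eq (congrArg C (Fin.ext ?_))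
              simp [hjv]
        exact ⟨hle, fun α hα => img_eq_of_weaklyClosed hW ((mem_autGroup_iff hPS).1 hα) hle⟩
  exact isNormal_of_series hS hF h0 hlast hmono (fun i => key _ _ le_rfl)
    fun i => (Subgroup.commutator_comm _ _).trans_le (hcomm i)

theorem weaklyClosed_of_stronglyClosed (h : F.StronglyClosed Q) : F.WeaklyClosed Q := by
  refine ⟨h.1, fun φ hφ => ?_⟩
  have hm := isMap_toFun hφ
  rw [← img_toFun]
  exact img_eq_of_map_le h.1 hm le_rfl fun x hx => (stronglyClosed_iff.1 h).2 Q _ le_rfl hm x hx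

theorem isNormal_iff_weaklyClosed_series (hS : IsPGroup p S) (hF : F.IsSaturated p) :
    F.IsNormal Q ↔ F.StronglyClosed Q ∧ ∃ (n : ℕ) (C : Fin (n + 1) → Subgroup Ω),
      C 0 = ⊥ ∧ C (Fin.last n) = Q ∧ Monotone C ∧ (∀ i : Fin n, ⁅C i.succ, Q⁆ ≤ C i.castSucc) ∧
      ∀ i : Fin n, F.WeaklyClosed (C i.castSucc) := by
  refine ⟨fun h => ⟨stronglyClosed_of_isNormal h, ?_⟩, fun ⟨hQ, n, C, h0, hl, hm, hc, hw⟩ =>
    isNormal_of_weaklyClosed_series hS hF hQ h0 hl hm hc hw⟩
  obtain ⟨n, Qs, h0, hlast, hmono, hi⟩ :=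
    exists_series_of_autExtends hS h.1 (autExtends_of_isNormal h)
  refine ⟨n, Qs, h0, hlast, hmono, fun i => (Subgroup.commutator_comm _ _).trans_le (hi i).2,
    fun i => weaklyClosed_of_stronglyClosed ?_⟩
  exact (Fin.cases (h0 ▸ stronglyClosed_bot) (fun j => (hi j).1) : ∀ j, F.StronglyClosed (Qs j)) _

/-- Some `p`-power of an automorphism fixes an invariant subgroup when its restriction has
`p`-power order. -/
theorem exists_pow_fix_of_restrict {U : Subgroup Ω} (hP : P ≤ S) (hUP : U ≤ P) {a : MulAut P}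
    (ha : a ∈ F.autGroup P) (hU : ∀ x ∈ U, autFun a x ∈ U)
    (h : ∀ γ : MulAut U, γ ∈ F.autGroup U → (∀ x ∈ U, autFun γ x = autFun a x) →
      ∃ k : ℕ, γ ^ p ^ k = 1) : ∃ k : ℕ, ∀ x ∈ U, autFun (a ^ p ^ k) x = x := by
  have hm := ((mem_autGroup_iff hP).1 ha).mono hUP
  have himg : img U (autFun a) = U :=
    img_eq_of_map_le (hUP.trans hP) hm le_rfl hU
  obtain ⟨k, hk⟩ := h (autOf hm himg) (autOf_mem hm himg) fun x hx => autFun_autOf hm himg hx
  refine ⟨k, fun x hx => ?_⟩
  have h1 := autFun_pow_eq (α := autOf hm himg) (γ := a) hUP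
    (fun y hy => (autFun_autOf hm himg hy).symm) (p ^ k) x hx
  rw [h1, hk, autFun_one hx]

/-- A strongly closed abelian-by-normal subgroup is normal. -/
theorem isNormal_of_derived_le_normal (hS : IsPGroup p S) (hF : F.IsSaturated p)
    (hQ : F.StronglyClosed Q) {Q₁ : Subgroup Ω} (hQ₁Q : Q₁ ≤ Q) (hQ₁ : F.IsNormal Q₁)
    (hab : ⁅Q, Q⁆ ≤ Q₁) (hAut : IsPGroup p (F.autGroup Q₁)) : F.IsNormal Q := by
  refine isNormal_of_stronglyClosed_le hS hF hQ fun P hP => ?_
  obtain ⟨hc, hr⟩ := isEssential_centric_radical hS hP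
  have hPS := hc.1
  have h1P : Q₁ ≤ P := le_of_isNormal hS hQ₁ hc hr
  have hsc₁ := stronglyClosed_of_isNormal hQ₁
  have hinv1 : ∀ a ∈ F.autGroup P, ∀ x ∈ Q₁, autFun a x ∈ Q₁ := fun a ha x hx =>
    (autInvariant_of_stronglyClosed hsc₁ hPS ha ⟨h1P hx, hx⟩).2
  have hinv : ∀ a ∈ F.autGroup P, ∀ x ∈ P ⊓ Q, autFun a x ∈ P ⊓ Q := fun a ha x hx =>
    autInvariant_of_stronglyClosed hQ hPS ha hx
  have hinvP : ∀ a ∈ F.autGroup P, ∀ x ∈ P, autFun a x ∈ P := fun a _ x hx => autFun_mem a hx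
  let K : Subgroup (F.autGroup P) :=
    relStab (F.autGroup P) (P ⊓ Q) Q₁ hinv1 inf_le_left h1P hinv ⊓
      relStab (F.autGroup P) P (P ⊓ Q) hinv le_rfl inf_le_left hinvP
  have hKn : K.Normal := @Subgroup.normal_inf_normal _ _ _ _ relStab_normal relStab_normal
  obtain ⟨m, hm⟩ := IsPGroup.iff_card.1 hS
  have hKp : IsPGroup p K := by
    intro a
    have ha1 := (Subgroup.mem_inf.1 a.2).1
    have ha2 := (Subgroup.mem_inf.1 a.2).2
    obtain ⟨k, hk⟩ := exists_pow_fix_of_restrict (p := p) hPS h1P (a : F.autGroup P).2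
      (hinv1 _ (a : F.autGroup P).2) fun γ hγ _ => by
        obtain ⟨k, hk⟩ := hAut ⟨γ, hγ⟩
        exact ⟨k, congrArg Subtype.val hk⟩
    refine ⟨k + m + m, Subtype.ext (Subtype.ext ?_)⟩
    simp only [Subgroup.coe_pow, Subgroup.coe_one]
    refine autFun_ext fun x hx => ?_
    rw [autFun_one hx, pow_add, pow_mul]
    refine pow_fix_step hPS hm le_rfl inf_le_left (M := P ⊓ Q) (fun y hy => ?_) (fun y hy => ?_)
      x hx
    · rw [pow_add, pow_mul]
      refine pow_fix_step hPS hm inf_le_left h1P hk (fun z hz => ?_) y hy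
      have h1 := mem_relStab.1 (pow_mem ha1 (p ^ k)) z hz
      rwa [Subgroup.coe_pow] at h1
    · have h1 := mem_relStab.1 (pow_mem ha2 (p ^ (k + m))) y hy
      rwa [Subgroup.coe_pow] at h1
  refine le_of_conjAut_mem_pCore hS hQ.1 (le_normalizerIn_of_stronglyClosed hQ) hc hr
    fun q hqN hqQ hm' => CfsgLib.Coprime.le_pCore (hN := hKn) hKp ?_
  refine Subgroup.mem_inf.2 ⟨fun x hx => ?_, fun x hx => ?_⟩
  · show x⁻¹ * autFun (conjAut q hqN) x ∈ Q₁
    rw [autFun_conjAut hqN hx.1,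
      show x⁻¹ * (q * x * q⁻¹) = ⁅q, x⁻¹⁆⁻¹ ⁻¹ ⁻¹ by simp [commutatorElement_def, mul_assoc]]
    exact inv_mem (inv_mem (inv_mem (hab (Subgroup.commutator_mem_commutator hqQ (inv_mem hx.2)))))
  · show x⁻¹ * autFun (conjAut q hqN) x ∈ P ⊓ Q
    rw [autFun_conjAut hqN hx]
    refine Subgroup.mem_inf.2 ⟨mul_mem (inv_mem hx)
      ((Subgroup.mem_normalizer_iff.1 hqN x).1 hx), ?_⟩
    have hxN := (le_normalizerIn_of_stronglyClosed hQ (hPS hx)).2
    have := mul_mem ((Subgroup.mem_normalizer_iff''.1 hxN q).1 hqQ) (inv_mem hqQ)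
    simpa [mul_assoc] using this

/-- `Ω₁` of a normal subgroup is strongly closed. -/
theorem stronglyClosed_omegaOne (h : F.IsNormal Q) : F.StronglyClosed (Cfsg.omegaOne p Q) := by
  have hle : Cfsg.omegaOne p Q ≤ Q := (Subgroup.closure_le _).2 fun x hx => hx.1
  refine stronglyClosed_iff.2 ⟨hle.trans h.1, fun T f hT hf x hx => ?_⟩
  obtain ⟨α, -, hαf⟩ := autExtends_of_isNormal h T f (hT.trans hle) hf
  rw [← hαf x hx]
  have hx' : x ∈ Subgroup.closure {y : Ω | y ∈ Q ∧ y ^ p = 1} := hT hx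
  clear hαf hx
  induction hx' using Subgroup.closure_induction with
  | mem y hy =>
      refine Subgroup.subset_closure ⟨autFun_mem α hy.1, ?_⟩
      rw [autFun_apply α hy.1, ← Subgroup.coe_pow, ← map_pow]
      rw [show (⟨y, hy.1⟩ : Q) ^ p = 1 from Subtype.ext hy.2, map_one, Subgroup.coe_one]
  | one => rw [autFun_map_one]; exact one_mem _
  | mul a b ha hb iha ihb =>
      rw [autFun_map_mul α (hle ha) (hle hb)]
      exact mul_mem iha ihb
  | inv a ha iha =>
      rw [show a⁻¹ = a⁻¹ * 1 from (mul_one _).symm, autFun_inv_map (hle ha) (one_mem Q),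
        autFun_map_one, mul_one]
      exact inv_mem iha

theorem exists_pow_eq_one_of_fix_omega (hp : p ≠ 2) {U : Subgroup Ω} (hU : IsPGroup p U)
    [Finite U] (γ : MulAut U) (h : ∀ x : U, x ^ p = 1 → γ x = x) : ∃ k : ℕ, γ ^ p ^ k = 1 := by
  haveI := finite_mulAut (P := U)
  obtain ⟨e, m, hm, he⟩ := Nat.exists_eq_pow_mul_and_not_dvd (orderOf_pos γ).ne' p
    (Fact.out : p.Prime).ne_one
  refine ⟨e, CfsgLib.PGroup.mulAut_eq_one_of_fix_omega hp hU _ ?_ fun x hx => ?_⟩
  · refine Nat.Coprime.coprime_dvd_left (orderOf_dvd_of_pow_eq_one ?_)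
      (((Fact.out : p.Prime).coprime_iff_not_dvd.2 hm).symm)
    rw [← pow_mul, ← he, pow_orderOf_eq_one]
  · have key : ∀ j : ℕ, (γ ^ j) x = x := by
      intro j
      induction j with
      | zero => rfl
      | succ j ih =>
          rw [pow_succ', MulAut.mul_apply, ih]
          exact h x hx
    exact key _

/-- For odd `p`, normality of a strongly closed subgroup is seen on `Ω₁`. -/
theorem isNormal_iff_omega_series (hp : p ≠ 2) (hS : IsPGroup p S) (hF : F.IsSaturated p)
    (hQ : F.StronglyClosed Q) :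
    F.IsNormal Q ↔ ∃ (n : ℕ) (Qs : Fin (n + 1) → Subgroup Ω), Qs 0 = ⊥ ∧
      Qs (Fin.last n) = Cfsg.omegaOne p Q ∧ Monotone Qs ∧
      (∀ i : Fin (n + 1), F.StronglyClosed (Qs i)) ∧
      ∀ i : Fin n, ⁅Qs i.succ, Q⁆ ≤ Qs i.castSucc := by
  have hΩ : Cfsg.omegaOne p Q ≤ Q := (Subgroup.closure_le _).2 fun x hx => hx.1
  constructor
  · intro h
    have hΩsc := stronglyClosed_omegaOne (p := p) h
    obtain ⟨n, Qs, h0, hlast, hmono, hi⟩ :=
      exists_series_of_autExtends hS h.1 (autExtends_of_isNormal h)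
    have hall : ∀ j, F.StronglyClosed (Qs j) :=
      Fin.cases (h0 ▸ stronglyClosed_bot) fun j => (hi j).1
    refine ⟨n, fun j => Qs j ⊓ Cfsg.omegaOne p Q, ?_, ?_,
      fun i j hij => inf_le_inf_right _ (hmono hij), fun j => stronglyClosed_iff.2
        ⟨inf_le_left.trans (hall j).1, fun T f hT hf x hx =>
          ⟨(stronglyClosed_iff.1 (hall j)).2 T f (hT.trans inf_le_left) hf x hx,
            (stronglyClosed_iff.1 hΩsc).2 T f (hT.trans inf_le_right) hf x hx⟩⟩, fun i => ?_⟩
    · simp [h0]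
    · simp [hlast, hΩ]
    · refine le_inf ?_ ?_
      · exact ((Subgroup.commutator_mono inf_le_left le_rfl).trans
          ((Subgroup.commutator_comm _ _).trans_le (hi i).2))
      · refine (Subgroup.commutator_mono inf_le_right le_rfl).trans
          (Subgroup.commutator_le.2 fun a ha b hb => ?_)
        have hbN := (le_normalizerIn_of_stronglyClosed hΩsc (h.1 hb)).2
        rw [commutatorElement_def]
        simpa [mul_assoc] using mul_mem ha ((Subgroup.mem_normalizer_iff.1 hbN _).1 (inv_mem ha))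
  rintro ⟨n, Qs, h0, hlast, hmono, hall, hcomm⟩
  refine isNormal_of_stronglyClosed_le hS hF hQ fun P hP => ?_
  obtain ⟨hc, hr⟩ := isEssential_centric_radical hS hP
  have hPS := hc.1
  have hinv : ∀ j : Fin (n + 1), ∀ a ∈ F.autGroup P, ∀ x ∈ P ⊓ Qs j, autFun a x ∈ P ⊓ Qs j :=
    fun j a ha x hx => autInvariant_of_stronglyClosed (hall j) hPS ha hx
  have hinvQ : ∀ a ∈ F.autGroup P, ∀ x ∈ P ⊓ Q, autFun a x ∈ P ⊓ Q := fun a ha x hx =>
    autInvariant_of_stronglyClosed hQ hPS ha hx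
  have hinvP : ∀ a ∈ F.autGroup P, ∀ x ∈ P, autFun a x ∈ P := fun a _ x hx => autFun_mem a hx
  let K : Subgroup (F.autGroup P) :=
    (⨅ j : Fin n, relStab (F.autGroup P) (P ⊓ Qs j.succ) (P ⊓ Qs j.castSucc) (hinv _) inf_le_left
      inf_le_left (hinv _)) ⊓
    relStab (F.autGroup P) P (P ⊓ Q) hinvQ le_rfl inf_le_left hinvP
  have hKn : K.Normal := @Subgroup.normal_inf_normal _ _ _ _
    (Subgroup.normal_iInf_normal fun j => relStab_normal) relStab_normal
  obtain ⟨m, hm⟩ := IsPGroup.iff_card.1 hS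
  have hKp : IsPGroup p K := by
    intro a
    have ha1 := fun j => Subgroup.mem_iInf.1 (Subgroup.mem_inf.1 a.2).1 j
    have ha2 := (Subgroup.mem_inf.1 a.2).2
    have key : ∀ j : Fin (n + 1), ∃ k : ℕ, ∀ x ∈ P ⊓ Qs j,
        autFun (((a : F.autGroup P) : MulAut P) ^ p ^ k) x = x := by
      intro j
      induction j using Fin.induction with
      | zero =>
        refine ⟨0, fun x hx => ?_⟩
        have : x = 1 := Subgroup.mem_bot.1 (h0 ▸ hx.2)
        subst this
        exact autFun_map_one _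
      | succ j ih =>
        obtain ⟨k, hk⟩ := ih
        refine ⟨k + m, fun x hx => ?_⟩
        rw [pow_add, pow_mul]
        refine pow_fix_step hPS hm inf_le_left inf_le_left hk (fun y hy => ?_) x hx
        have h1 := mem_relStab.1 (pow_mem (ha1 j) (p ^ k)) y hy
        rwa [Subgroup.coe_pow] at h1
    obtain ⟨k, hk⟩ := key (Fin.last n)
    haveI : Finite (P ⊓ Q : Subgroup Ω) := finite_of_le (inf_le_left.trans hPS)
    obtain ⟨l, hl⟩ := exists_pow_fix_of_restrict (p := p) (U := P ⊓ Q) hPS inf_le_left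
      (pow_mem (a : F.autGroup P).2 (p ^ k)) (hinvQ _ (pow_mem (a : F.autGroup P).2 (p ^ k)))
      fun γ _ hγ => exists_pow_eq_one_of_fix_omega hp (hS.to_le (inf_le_left.trans hPS)) γ
        fun x hx => Subtype.ext (by
          rw [← autFun_coe, hγ x x.2, hk x ⟨x.2.1, hlast ▸ Subgroup.subset_closure
            ⟨x.2.2, congrArg Subtype.val hx⟩⟩])
    refine ⟨k + l + m, Subtype.ext (Subtype.ext ?_)⟩
    simp only [Subgroup.coe_pow, Subgroup.coe_one]
    refine autFun_ext fun x hx => ?_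
    rw [autFun_one hx, pow_add, pow_mul]
    refine pow_fix_step hPS hm le_rfl inf_le_left (M := P ⊓ Q) (fun y hy => ?_) (fun y hy => ?_)
      x hx
    · rw [pow_add, pow_mul]
      exact hl y hy
    · have h1 := mem_relStab.1 (pow_mem ha2 (p ^ (k + l))) y hy
      rwa [Subgroup.coe_pow] at h1
  refine le_of_conjAut_mem_pCore hS hQ.1 (le_normalizerIn_of_stronglyClosed hQ) hc hr
    fun q hqN hqQ hm' => CfsgLib.Coprime.le_pCore (hN := hKn) hKp ?_
  refine Subgroup.mem_inf.2 ⟨Subgroup.mem_iInf.2 fun j x hx => ?_, fun x hx => ?_⟩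
  · show x⁻¹ * autFun (conjAut q hqN) x ∈ P ⊓ Qs j.castSucc
    rw [autFun_conjAut hqN hx.1]
    refine Subgroup.mem_inf.2 ⟨mul_mem (inv_mem hx.1)
      ((Subgroup.mem_normalizer_iff.1 hqN x).1 hx.1), ?_⟩
    rw [show x⁻¹ * (q * x * q⁻¹) = ⁅x⁻¹, q⁆ by simp [commutatorElement_def, mul_assoc]]
    exact hcomm j (Subgroup.commutator_mem_commutator (inv_mem hx.2) hqQ)
  · show x⁻¹ * autFun (conjAut q hqN) x ∈ P ⊓ Q
    rw [autFun_conjAut hqN hx]
    refine Subgroup.mem_inf.2 ⟨mul_mem (inv_mem hx)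
      ((Subgroup.mem_normalizer_iff.1 hqN x).1 hx), ?_⟩
    have hxN := (le_normalizerIn_of_stronglyClosed hQ (hPS hx)).2
    have := mul_mem ((Subgroup.mem_normalizer_iff''.1 hxN q).1 hqQ) (inv_mem hqQ)
    simpa [mul_assoc] using this

end CfsgLib.Fusion
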