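import Cfsg.Agent.Lib.Fusion.AgemoCenter
import Cfsg.Agent.Lib.Fusion.System.Alperin
import Cfsg.Agent.Lib.Fusion.System.Constrained
import Cfsg.Agent.Lib.Coprime.Core
import Cfsg.Prelude.Def_PLocal

/-!
# In a system over a group of small class the powers of central elements form a normal subgroup
-/

set_option autoImplicit false
set_option linter.style.haveILetI false

open Subgroup
open scoped Classical

namespace CfsgLib.Fusion

open Cfsg (FusionSystem powerClosure)
open Cfsg.FusionSystem (normalizerIn centralizerIn)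

universe u

theorem lowerCentralSeries_mono_left {G : Type*} [Group G] {A B : Subgroup G} (h : A ≤ B) :
    ∀ k, A.lowerCentralSeries k ≤ B.lowerCentralSeries k
  | 0 => h
  | k + 1 => by
    rw [Subgroup.lowerCentralSeries_succ, Subgroup.lowerCentralSeries_succ]
    exact Subgroup.commutator_mono (lowerCentralSeries_mono_left h k) h

variable {Ω : Type u} [Group Ω] {S : Subgroup Ω} [Finite S] {F : FusionSystem S} {p : ℕ} [Fact p.Prime]

theorem agemoCenter_le (n : ℕ) :
    powerClosure p n (S ⊓ Subgroup.centralizer (S : Set Ω)) ≤ S ⊓ Subgroup.centralizer (S : Set Ω) :=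
  (Subgroup.closure_le _).2 fun y ⟨x, hx, hy⟩ => hy ▸ pow_mem hx _

theorem IsMap.map_pow' {P : Subgroup Ω} {f : Ω → Ω} (hf : IsMap F P f) {x : Ω} (hx : x ∈ P) :
    ∀ m : ℕ, f (x ^ m) = f x ^ m
  | 0 => by rw [pow_zero, pow_zero, hf.map_one]
  | m + 1 => by rw [pow_succ, pow_succ, hf.map_mul (pow_mem hx m) hx, IsMap.map_pow' hf hx m]

theorem agemoCenter_inv {f : Ω → Ω} (hf : IsMap F S f) {n : ℕ} :
    ∀ z ∈ powerClosure p n (S ⊓ Subgroup.centralizer (S : Set Ω)),
      f z ∈ powerClosure p n (S ⊓ Subgroup.centralizer (S : Set Ω)) := by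
  have himg : img S f = S := eq_of_le_of_card_le le_rfl hf.img_le hf.card_img.ge
  have hZ : ∀ x ∈ S ⊓ Subgroup.centralizer (S : Set Ω), f x ∈ S ⊓ Subgroup.centralizer (S : Set Ω) := by
    intro x hx
    have h := map_mem_centralizerIn hf le_rfl hx.1 hx.2
    rwa [himg] at h
  intro z hz
  induction hz using Subgroup.closure_induction'' with
  | one => rw [hf.map_one]; exact one_mem _
  | mem y hy =>
    obtain ⟨x, hx, rfl⟩ := hy
    rw [hf.map_pow' hx.1]
    exact Subgroup.subset_closure ⟨f x, hZ x hx, rfl⟩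
  | inv_mem y hy =>
    obtain ⟨x, hx, rfl⟩ := hy
    rw [hf.map_inv (pow_mem hx.1 _), hf.map_pow' hx.1]
    exact inv_mem (Subgroup.subset_closure ⟨f x, hZ x hx, rfl⟩)
  | mul a b ha hb iha ihb =>
    have hle := (agemoCenter_le (p := p) (S := S) n).trans inf_le_left
    rw [hf.map_mul (hle ha) (hle hb)]
    exact mul_mem iha ihb

theorem isNormal_agemoCenter (hS : IsPGroup p S) (hF : F.IsSaturated p) {n : ℕ}
    (hcl : S.lowerCentralSeries (n * (p - 1) + 1) = ⊥) :
    F.IsNormal (powerClosure p n (S ⊓ Subgroup.centralizer (S : Set Ω))) := by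
  set W := powerClosure p n (S ⊓ Subgroup.centralizer (S : Set Ω)) with hW
  have hWS : W ≤ S := (agemoCenter_le n).trans inf_le_left
  have hn : S ≤ normalizerIn S W := le_inf le_rfl fun s hs => by
    refine Subgroup.centralizer_le_normalizer _ (Subgroup.mem_centralizer_iff.2 fun w hw => ?_)
    exact (Subgroup.mem_centralizer_iff.1 (agemoCenter_le n hw).2 s hs).symm
  set E := nSystem F S W hn hWS with hE
  suffices key : ∀ R : Subgroup Ω, (R = S ∨ F.IsEssential p R) → F.autGroup R ≤ E.autGroup R by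
    refine isNormal_iff.2 ⟨hWS, fun P f hf => ?_⟩
    obtain ⟨-, -, h⟩ := isMap_nSystem_iff.1 (isMap_of_autGroup_le hS hF key hf)
    exact h
  intro R
  induction hk : Nat.card S - Nat.card R using Nat.strong_induction_on generalizing R with
  | _ k ih =>
  intro hR α hα
  have hRS : R ≤ S := hR.elim (fun h => h.le) fun h => h.2.1.1
  have hf := (mem_autGroup_iff hRS).1 hα
  rw [mem_autGroup_iff hRS, isMap_nSystem_iff]
  by_cases hRS' : R = S
  · subst hRS'
    refine ⟨le_rfl, fun x hx => hf.mem_S hx, autFun α, ?_, fun _ _ => rfl,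
      img_eq_of_map_le hWS hf hWS (agemoCenter_inv hf)⟩
    rwa [sup_eq_left.2 hWS]
  obtain ⟨hc, hfn, -⟩ := hR.resolve_left hRS'
  have hWR : W ≤ R := fun x hx => centralizerIn_le_of_isCentric hc ⟨hWS hx,
    Subgroup.centralizer_le hRS (agemoCenter_le n hx).2⟩
  refine ⟨hRS, fun x hx => hf.mem_S hx, autFun α, hf.mono (sup_le le_rfl hWR), fun _ _ => rfl,
    img_eq_of_map_le hWS hf hWR fun z hz => ?_⟩
  set N := normalizerIn S R with hN
  have hNS : N ≤ S := inf_le_left
  have hRN : R ≤ N := le_normalizerIn hRS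
  haveI : Finite N := finite_of_le hNS
  let EN := nSystem F N R le_rfl hRS
  obtain ⟨L, hL, ι, hm, -⟩ := exists_local_model hS hF hfn hc (E := EN) fun P => Set.ext fun φ => by
    rw [mem_normalizerHom_iff]
    exact Iff.rfl
  obtain ⟨hfin, hreal, ⟨T, hT⟩, hcore⟩ := hm
  haveI := hfin
  have hfN : IsMap EN R (autFun α) := isMap_nSystem_iff.2
    ⟨hRN, fun x hx => hRN (autFun_mem α hx), autFun α, hf.mono (sup_le le_rfl le_rfl),
      fun _ _ => rfl, img_autFun α⟩
  obtain ⟨-, -, -, g, hg⟩ := (isMap_realized_iff hreal).1 hfN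
  let O := Subgroup.closure {a : L | IsPGroup p (Subgroup.zpowers a)}
  haveI : O.Normal := by
    refine ⟨fun x hx c => ?_⟩
    induction hx using Subgroup.closure_induction with
    | one => simp
    | mem y hy =>
      refine Subgroup.subset_closure ?_
      show IsPGroup p (Subgroup.zpowers (c * y * c⁻¹))
      have e : Subgroup.zpowers (c * y * c⁻¹) = (Subgroup.zpowers y).map (MulAut.conj c).toMonoidHom := by
        rw [MonoidHom.map_zpowers]
        rfl
      rw [e]
      exact IsPGroup.map hy _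
    | mul a b _ _ ha hb => rw [← conj_mul]; exact mul_mem ha hb
    | inv a _ ha => rw [← conj_inv]; exact inv_mem ha
  have hTO : (T : Subgroup L) ≤ O := fun t ht =>
    Subgroup.subset_closure (isPGroup_zpowers_mem T.2 ht)
  obtain ⟨m, hm, o, ho, hgmo⟩ : ∃ m ∈ Subgroup.normalizer ((T : Subgroup L) : Set L), ∃ o ∈ O,
      m * o = g := by
    have h := T.normalizer_sup_eq_top' hTO
    exact Subgroup.mem_sup_of_normal_right.1 (h ▸ Subgroup.mem_top g)
  -- the elements of `O` fix `W`
  have hfix : ∀ w ∈ W, Commute o (ext1 ι w) := by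
    have hgen : ∀ x ∈ S ⊓ Subgroup.centralizer (S : Set Ω), Commute o (ext1 ι x ^ p ^ n) := by
      intro x hx
      have hxN : x ∈ N := ⟨hx.1, Subgroup.centralizer_le_normalizer _
        (Subgroup.centralizer_le hRS hx.2)⟩
      have hxT : ∀ t ∈ (T : Subgroup L), Commute t (ext1 ι x) := fun t ht => by
        obtain ⟨s, rfl⟩ := hT.le ht
        rw [← ext1_coe ι s]
        have h := Subgroup.mem_centralizer_iff.1 hx.2 s (hNS s.2)
        show _ * _ = _ * _
        rw [← ext1_mul ι s.2 hxN, h, ext1_mul ι hxN s.2]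
      haveI := CfsgLib.Coprime.pCore_normal' (G := L) p
      have hcl' : (T : Subgroup L).lowerCentralSeries (n * (p - 1) + 1) = ⊥ := by
        have h1 : (⊤ : Subgroup N).lowerCentralSeries (n * (p - 1) + 1) = ⊥ := by
          refine (Subgroup.map_eq_bot_iff_of_injective _ N.subtype_injective).1 (eq_bot_iff.2 ?_)
          rw [map_lowerCentralSeries', ← MonoidHom.range_eq_map, Subgroup.range_subtype, ← hcl]
          exact lowerCentralSeries_mono_left hNS _
        rw [hT, MonoidHom.range_eq_map, ← map_lowerCentralSeries', h1, Subgroup.map_bot]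
      let V := (Subgroup.center (Cfsg.pCore p L)).map (Cfsg.pCore p L).subtype
      haveI : V.Normal := inferInstance
      have hV : ∀ a ∈ V, ∀ b ∈ V, Commute a b := by
        rintro _ ⟨a, ha, rfl⟩ _ ⟨b, -, rfl⟩
        exact congrArg Subtype.val (Subgroup.mem_center_iff.1 ha b).symm
      have hxV : ext1 ι x ∈ V := by
        have hle : Cfsg.pCore p L ≤ (T : Subgroup L) := by
          obtain ⟨T', hT'⟩ := (CfsgLib.Coprime.pCore_isPGroup (G := L) p).exists_le_sylow
          obtain ⟨c, rfl⟩ := MulAction.exists_smul_eq L T' T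
          intro a ha
          exact ⟨c⁻¹ * a * c, hT' ((CfsgLib.Coprime.pCore_normal' p).conj_mem' a ha c),
            by simp [mul_assoc]⟩
        have hxQ : ext1 ι x ∈ Cfsg.pCore p L := hcore (Subgroup.mem_centralizer_iff.2
          fun a ha => (hxT a (hle ha)).eq)
        exact ⟨⟨_, hxQ⟩, Subgroup.mem_center_iff.2 fun a => Subtype.ext (hxT a (hle a.2)).eq, rfl⟩
      refine Subgroup.closure_induction (fun a ha => commute_pow_of_small_class T hcl'
        ((CfsgLib.Coprime.pCore_isPGroup p).to_le (Subgroup.map_subtype_le _)) hV hxV hxT ha)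
        (Commute.one_left _) (fun _ _ _ _ h1 h2 => h1.mul_left h2) (fun _ _ h => h.inv_left) ho
    intro w hw
    induction hw using Subgroup.closure_induction with
    | one =>
      have h1 : ext1 ι (1 : Ω) = 1 := (ext1_apply ι N.one_mem).trans (map_one ι)
      rw [h1]; exact Commute.one_right _
    | mem y hy =>
      obtain ⟨x, hx, rfl⟩ := hy
      have hxN : x ∈ N := ⟨hx.1, Subgroup.centralizer_le_normalizer _
        (Subgroup.centralizer_le hRS hx.2)⟩
      rw [show ext1 ι (x ^ p ^ n) = ext1 ι x ^ p ^ n by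
        rw [ext1_apply ι (pow_mem hxN _), ext1_apply ι hxN, ← map_pow]; rfl]
      exact hgen x hx
    | mul a b ha hb iha ihb =>
      rw [ext1_mul ι (hRN (hWR ha)) (hRN (hWR hb))]
      exact iha.mul_right ihb
    | inv a ha iha =>
      rw [ext1_inv ι (hRN (hWR ha))]
      exact iha.inv_right
  -- the map given by `m` preserves `W` by induction
  obtain ⟨f, hfm, hfe⟩ := exists_map_of_conj hreal (P := N) le_rfl (g := m) fun x hx => by
    have h := (Subgroup.mem_normalizer_iff.1 hm (ext1 ι x)).1 (hT.ge (ext1_mem_range ι x))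
    exact hT.le h
  have hlt : Nat.card R < Nat.card N := card_lt_of_lt hNS (lt_normalizerIn hS hRS hRS')
  have hle : Nat.card N ≤ Nat.card S := card_le_of_le' le_rfl hNS
  have hmE : IsMap E N f := isMap_of_autGroup_le_above hS hF (fun R' hR' h' =>
    ih _ (by omega) R' rfl h') (isMap_nSystem_iff.1 hfm).isMap
  obtain ⟨-, -, k', hk', hkf, hkW⟩ := isMap_nSystem_iff.1 hmE
  have hfW : f z ∈ W := by
    rw [← hkf z (hRN (hWR hz))]
    exact mem_of_img_eq hk' le_sup_right hkW hz
  have h2 : ext1 ι (autFun α z) = ext1 ι (f z) := by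
    rw [hg z (hWR hz), hfe z (hRN (hWR hz)), ← hgmo]
    calc m * o * ext1 ι z * (m * o)⁻¹ = m * (o * ext1 ι z * o⁻¹) * m⁻¹ := by group
      _ = _ := by rw [(hfix z hz).eq, mul_inv_cancel_right]
  rw [ext1_inj hreal.1 (hRN (autFun_mem α (hWR hz))) (hRN (hWR hfW)) h2]
  exact hfW

end CfsgLib.Fusion
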