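import Cfsg.Agent.Lib.Fusion.ThompsonQuadratic
import Cfsg.Agent.Lib.Fusion.System.AgemoNormal
import Cfsg.Agent.Lib.Fusion.System.Functor

/-!
# A saturated system is generated by the centralizer of `Z(S)^p` and the normalizer of `J(S)`
-/

set_option autoImplicit false
set_option linter.style.haveILetI false

open Subgroup
open scoped Classical

namespace CfsgLib.Fusion

open Cfsg (FusionSystem powerClosure thompsonSubgroupAOf)
open Cfsg.FusionSystem (normalizerIn centralizerIn)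

universe u

variable {Ω : Type u} [Group Ω]

/-- The `p`-th powers of the centre. -/
abbrev zPow (p : ℕ) (S : Subgroup Ω) : Subgroup Ω :=
  powerClosure p 1 (S ⊓ Subgroup.centralizer (S : Set Ω))

theorem thompsonA_eq_map_top (T : Subgroup Ω) [Finite T] :
    thompsonSubgroupAOf T = (thompsonSubgroupAOf (⊤ : Subgroup T)).map T.subtype := by
  rw [map_thompsonSubgroupAOf T.subtype T.subtype_injective, ← MonoidHom.range_eq_map,
    Subgroup.range_subtype]

theorem thompsonA_le_self (T : Subgroup Ω) [Finite T] : thompsonSubgroupAOf T ≤ T := by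
  rw [thompsonA_eq_map_top T]
  exact Subgroup.map_subtype_le _

theorem center_le_thompsonA (T : Subgroup Ω) [Finite T] :
    T ⊓ Subgroup.centralizer (T : Set Ω) ≤ thompsonSubgroupAOf T := by
  intro z hz
  rw [thompsonA_eq_map_top T]
  obtain ⟨A, hA⟩ := maxAb_nonempty (⊤ : Subgroup T)
  refine ⟨⟨z, hz.1⟩, ?_, rfl⟩
  rw [thompsonSubgroupAOf_eq]
  exact (le_sSup hA) (mem_of_commute_maxAb hA (Subgroup.mem_top _) fun a _ =>
    Subtype.ext (Subgroup.mem_centralizer_iff.1 hz.2 a a.2))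

variable {S : Subgroup Ω} [Finite S] {F : FusionSystem S} {p : ℕ} [Fact p.Prime]

theorem zPow_le : zPow p S ≤ S ⊓ Subgroup.centralizer (S : Set Ω) := agemoCenter_le 1

theorem zPow_mono {T : Subgroup Ω} (hT : T ≤ S) (hZ : S ⊓ Subgroup.centralizer (S : Set Ω) ≤ T) :
    zPow p S ≤ zPow p T :=
  Subgroup.closure_mono fun y ⟨x, hx, hy⟩ =>
    ⟨x, ⟨hZ hx, Subgroup.centralizer_le hT hx.2⟩, hy⟩

theorem normalizerIn_le_normalizerIn_thompsonA (hS : IsPGroup p S) {T : Subgroup Ω} (hT : T ≤ S) :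
    normalizerIn S T ≤ normalizerIn S (thompsonSubgroupAOf T) := by
  haveI := finite_of_le hT
  have h := normalizerIn_le_normalizerIn_wSub
    (fun (A : Type u) [Group A] => thompsonSubgroupAOf (⊤ : Subgroup A))
    (fun A B _ _ _ _ φ => by
      rw [map_thompsonSubgroupAOf φ.toMonoidHom φ.injective, ← MonoidHom.range_eq_map,
        MonoidHom.range_eq_top.2 φ.surjective]) hS hT
  rwa [wSub, ← thompsonA_eq_map_top T] at h

/-- A system realized by a group with self-centralizing core is generated by the two subsystems. -/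
theorem isMap_of_realized_gen {L : Type u} [Group L] [Finite L] {ι : S →* L} (hreal : F.IsRealizedBy ι)
    (T : Sylow p L) (hT : (T : Subgroup L) = ι.range)
    (hcore : Subgroup.centralizer ((Cfsg.pCore p L : Subgroup L) : Set L) ≤ Cfsg.pCore p L)
    {E : FusionSystem S}
    (hCE : ∀ (P : Subgroup Ω) (f g : Ω → Ω), IsMap F (P ⊔ zPow p S) g → (∀ x ∈ P, g x = f x) →
      (∀ x ∈ zPow p S, g x = x) → IsMap E P f)
    (hNE : ∀ (P : Subgroup Ω) (f g : Ω → Ω), IsMap F (P ⊔ thompsonSubgroupAOf S) g →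
      (∀ x ∈ P, g x = f x) → img (thompsonSubgroupAOf S) g = thompsonSubgroupAOf S → IsMap E P f)
    {P : Subgroup Ω} {f : Ω → Ω} (hf : IsMap F P f) : IsMap E P f := by
  have hJS : thompsonSubgroupAOf S ≤ S := thompsonA_le_self S
  have hZS : zPow p S ≤ S := zPow_le.trans inf_le_left
  have hJT : thompsonSubgroupAOf (T : Subgroup L) = imgι ι (thompsonSubgroupAOf S) := by
    rw [imgι, thompsonA_eq_map_top S, Subgroup.subgroupOf,
      Subgroup.comap_map_eq_self_of_injective S.subtype_injective,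
      map_thompsonSubgroupAOf ι hreal.1, ← MonoidHom.range_eq_map, hT]
  haveI hQn := CfsgLib.Coprime.pCore_normal' (G := L) p
  set Q := (Cfsg.pCore p L : Subgroup L) with hQ
  have hQp : IsPGroup p Q := CfsgLib.Coprime.pCore_isPGroup p
  have hQT : Q ≤ (T : Subgroup L) := hQp.le_sylow_of_normal T
  suffices key : ∀ M : Subgroup L, (T : Subgroup L) ≤ M → ∀ (P : Subgroup Ω) (f : Ω → Ω),
      IsMap F P f → ∀ g ∈ M, (∀ x ∈ P, ext1 ι (f x) = g * ext1 ι x * g⁻¹) → IsMap E P f by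
    obtain ⟨-, -, -, g, hg⟩ := (isMap_realized_iff hreal).1 hf
    exact key ⊤ le_top P f hf g (Subgroup.mem_top g) hg
  intro M
  induction hn : Nat.card M using Nat.strong_induction_on generalizing M with
  | _ n ih =>
  intro hTM P f hf g hgM hg
  set TM : Sylow p M := T.subtype hTM
  have hTMe : (TM : Subgroup M) = (T : Subgroup L).subgroupOf M := Sylow.coe_subtype ..
  by_cases hJ : M ≤ Subgroup.normalizer (thompsonSubgroupAOf (T : Subgroup L) : Set L)
  · have hgn : ∀ x ∈ P ⊔ thompsonSubgroupAOf S, g * ext1 ι x * g⁻¹ ∈ ι.range := by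
      intro x hx
      have h1 : P ⊔ thompsonSubgroupAOf S ≤
          ((conjBy g⁻¹ ι.range ⊓ ι.range).comap ι).map S.subtype := by
        refine sup_le (fun y hy => ⟨⟨y, hf.le hy⟩, ⟨mem_conjBy.2 ?_, ⟨_, rfl⟩⟩, rfl⟩)
          fun y hy => ⟨⟨y, hJS hy⟩, ⟨mem_conjBy.2 ?_, ⟨_, rfl⟩⟩, rfl⟩
        · rw [inv_inv, ← ext1_apply ι (hf.le hy), ← hg y hy]
          exact ext1_mem_range ι _
        · rw [inv_inv, ← ext1_apply ι (hJS hy)]
          have h2 : g * ext1 ι y * g⁻¹ ∈ imgι ι (thompsonSubgroupAOf S) :=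
            hJT.le ((Subgroup.mem_normalizer_iff.1 (hJ hgM) _).1 (hJT.ge (ext1_mem_imgι hJS hy)))
          exact imgι_le_range _ h2
      obtain ⟨s, ⟨hs, -⟩, hsx⟩ := h1 hx
      have h3 := mem_conjBy.1 hs
      rw [inv_inv, ← ext1_coe ι s] at h3
      rwa [show (s : Ω) = x from hsx] at h3
    obtain ⟨k, hk, hke⟩ := exists_map_of_conj hreal (sup_le hf.le hJS) hgn
    refine hNE P f k hk (fun x hx => ext1_inj hreal.1 (hk.mem_S (Subgroup.mem_sup_left hx))
      (hf.mem_S hx) (by rw [hke x (Subgroup.mem_sup_left hx), hg x hx])) ?_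
    refine img_eq_of_map_le hJS hk le_sup_right fun x hx => ?_
    refine mem_of_ext1_mem_imgι hreal.1 hJS (hk.mem_S (Subgroup.mem_sup_right hx)) ?_
    rw [hke x (Subgroup.mem_sup_right hx)]
    exact hJT.le ((Subgroup.mem_normalizer_iff.1 (hJ hgM) _).1 (hJT.ge (ext1_mem_imgι hJS hx)))
  -- a normal subgroup of `M` fixing the powers of the centre
  have hQM : Q ≤ M := hQT.trans hTM
  have hQle : Q.subgroupOf M ≤ Cfsg.pCore p M :=
    CfsgLib.Coprime.le_pCore (hQp.of_equiv (Subgroup.subgroupOfEquivOfLe hQM).symm)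
  have hcM : Subgroup.centralizer ((Cfsg.pCore p M : Subgroup M) : Set M) ≤ Cfsg.pCore p M :=
    fun y hy => hQle (show (y : L) ∈ Q from hcore (Subgroup.mem_centralizer_iff.2 fun z hz =>
      congrArg Subtype.val (Subgroup.mem_centralizer_iff.1 hy ⟨z, hQM hz⟩ (hQle hz))))
  have hJM : ¬ (thompsonSubgroupAOf (TM : Subgroup M)).Normal := by
    intro hN
    refine hJ fun y hy => conjBy_eq_iff.1 (conjBy_eq_of_le (conjBy_le_iff.2 fun x hx => ?_))
    have he : (thompsonSubgroupAOf (TM : Subgroup M)).map M.subtype = thompsonSubgroupAOf (T : Subgroup L) := by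
      rw [map_thompsonSubgroupAOf M.subtype M.subtype_injective, hTMe,
        Subgroup.map_subgroupOf_eq_of_le hTM]
    rw [← he] at hx ⊢
    obtain ⟨a, ha, rfl⟩ := hx
    exact ⟨_, hN.conj_mem a ha ⟨y, hy⟩, rfl⟩
  obtain ⟨K, hKn, hKQ, hKfix⟩ := exists_fix_subgroup TM hcM hJM
  set T₁ := (TM : Subgroup M) ⊓ K with hT₁
  have hT₁p : IsPGroup p T₁ := TM.2.to_le inf_le_left
  have hNlt : Subgroup.normalizer (T₁ : Set M) ≠ ⊤ := fun h => hKQ (by
    haveI : T₁.Normal := Subgroup.normalizer_eq_top_iff.1 h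
    exact CfsgLib.Coprime.le_pCore hT₁p)
  have hTN : (TM : Subgroup M) ≤ Subgroup.normalizer (T₁ : Set M) := fun t ht =>
    conjBy_eq_iff.1 (conjBy_eq_of_le (conjBy_le_iff.2 fun x hx =>
      ⟨(TM : Subgroup M).mul_mem ((TM : Subgroup M).mul_mem ht hx.1) ((TM : Subgroup M).inv_mem ht),
        hKn.conj_mem x hx.2 t⟩))
  -- the images of `P` before and after
  set P₁ := (imgι ι P).subgroupOf M with hP₁
  set P₂ := (conjBy g (imgι ι P)).subgroupOf M with hP₂
  have hP₁T : P₁ ≤ (TM : Subgroup M) := by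
    rw [hTMe]
    exact Subgroup.comap_mono ((imgι_le_range P).trans hT.ge)
  have hP₂T : P₂ ≤ (TM : Subgroup M) := by
    rw [hTMe]
    refine Subgroup.comap_mono (conjBy_le_iff.2 fun y hy => ?_)
    obtain ⟨x, hx, rfl⟩ := (mem_imgι hf.le).1 hy
    rw [← hg x hx, hT]
    exact ext1_mem_range ι _
  set γ : M := ⟨g, hgM⟩
  have hP₁₂ : conjBy γ P₁ = P₂ := by
    ext ⟨y, hy⟩
    rw [mem_conjBy, Subgroup.mem_subgroupOf, Subgroup.mem_subgroupOf, mem_conjBy]
    rfl
  set A := T₁ ⊔ P₁ with hA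
  set B := T₁ ⊔ P₂ with hB
  have hAT : A ≤ (TM : Subgroup M) := sup_le inf_le_left hP₁T
  have hBT : B ≤ (TM : Subgroup M) := sup_le inf_le_left hP₂T
  have hindex : ∀ Y : Subgroup M, Y ≤ (TM : Subgroup M) → T₁ ≤ Y → ¬ p ∣ Y.relIndex (K ⊔ Y) := by
    intro Y hY hY₁
    have he : Y ⊓ K = T₁ := le_antisymm (inf_le_inf_right _ hY) (le_inf hY₁ inf_le_right)
    have h1 := not_dvd_relIndex_inf_of_normal TM K
    rw [← hT₁, ← he, Subgroup.inf_relIndex_right] at h1
    have h2 := Subgroup.relIndex_mul_relIndex (K ⊓ Y) K (K ⊔ Y) inf_le_left le_sup_left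
    have h3 := Subgroup.relIndex_mul_relIndex (K ⊓ Y) Y (K ⊔ Y) inf_le_right le_sup_right
    rw [← h3, Subgroup.relIndex_sup_left, inf_comm K Y, Subgroup.inf_relIndex_right,
      inf_comm Y K, Subgroup.inf_relIndex_right] at h2
    have h4 : K.relIndex Y ≠ 0 := Subgroup.index_ne_zero_of_finite
    rwa [← Nat.eq_of_mul_eq_mul_left (Nat.pos_of_ne_zero h4) ((mul_comm _ _).trans h2)]
  have hAK : conjBy γ (K ⊔ A) = K ⊔ B := by
    have hK : conjBy γ K = K := conjBy_eq_iff.2 (by rw [Subgroup.normalizer_eq_top]; exact Subgroup.mem_top _)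
    have e1 : K ⊔ A = K ⊔ P₁ := by
      rw [hA, ← sup_assoc, sup_eq_left.2 (inf_le_right : T₁ ≤ K)]
    have e2 : K ⊔ B = K ⊔ P₂ := by
      rw [hB, ← sup_assoc, sup_eq_left.2 (inf_le_right : T₁ ≤ K)]
    rw [e1, e2, conjBy, Subgroup.map_sup, ← conjBy, ← conjBy, hK, hP₁₂]
  obtain ⟨h, hh, hhle⟩ := exists_conj_le_of_not_dvd_relIndex (TM.2.to_le hBT) le_sup_right
    (hindex B hBT le_sup_left) (isPGroup_conjBy γ (TM.2.to_le hAT))
    ((conjBy_mono le_sup_right).trans hAK.le)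
  obtain ⟨k, hk, b, hb, rfl⟩ := exists_mul_of_mem_sup_of_normalizer
    (fun y _ => by rw [Subgroup.normalizer_eq_top]; exact Subgroup.mem_top y) hh
  -- absorb the part from `B`
  set k' := b⁻¹ * k * b with hk'
  have hk'K : k' ∈ K := hKn.conj_mem' k hk b
  set ν := k' * γ with hν
  have hνA : conjBy ν A ≤ B := by
    have e : ν = b⁻¹ * (k * b * γ) := by rw [hν, hk']; group
    rw [e, ← conjBy_conjBy]
    refine conjBy_le_iff.2 fun y hy => mul_mem (mul_mem (inv_mem hb) (hhle ?_)) (inv_mem (inv_mem hb))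
    rwa [conjBy_conjBy]
  have hνN : ν ∈ Subgroup.normalizer (T₁ : Set M) := by
    refine conjBy_eq_iff.1 (conjBy_eq_of_le (conjBy_le_iff.2 fun x hx => ⟨hBT (hνA (conj_mem_conjBy
      ((le_sup_left : T₁ ≤ A) hx))), hKn.conj_mem x hx.2 ν⟩))
  -- the map given by `ν`
  have hνP : ∀ x ∈ P, (ν : L) * ext1 ι x * (ν : L)⁻¹ ∈ ι.range := by
    intro x hx
    have hxM : ext1 ι x ∈ M := hTM (hT.ge (ext1_mem_range ι x))
    have h2 := hBT (hνA (conj_mem_conjBy (g := ν) ((le_sup_right : P₁ ≤ A)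
      (show (⟨_, hxM⟩ : M) ∈ P₁ from ext1_mem_imgι hf.le hx))))
    rw [hTMe] at h2
    exact hT.le h2
  obtain ⟨f₁, hf₁, hf₁e⟩ := exists_map_of_conj hreal hf.le hνP
  have hf₁E : IsMap E P f₁ := by
    set M₁ := (Subgroup.normalizer (T₁ : Set M)).map M.subtype with hM₁
    have hlt : Nat.card M₁ < n := by
      rw [← hn, hM₁, Subgroup.card_map_of_injective M.subtype_injective]
      exact lt_of_le_of_ne (Subgroup.card_le_card_group _) fun he => hNlt (Subgroup.eq_top_of_card_eq _ he)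
    refine ih _ hlt M₁ rfl (fun t ht => ⟨⟨t, hTM ht⟩, hTN ?_, rfl⟩) P f₁ hf₁ ν ⟨ν, hνN, rfl⟩ hf₁e
    rw [hTMe]
    exact ht
  -- the correcting map fixes the powers
  have hfixZ : ∀ x ∈ zPow p S, Commute (k' : L) (ext1 ι x) := by
    intro x hx
    induction hx using Subgroup.closure_induction with
    | one =>
      have h1 : ext1 ι (1 : Ω) = 1 := (ext1_apply ι S.one_mem).trans (map_one ι)
      rw [h1]; exact Commute.one_right _
    | mem y hy =>
      obtain ⟨w, hw, rfl⟩ := hy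
      rw [pow_one, show ext1 ι (w ^ p) = ext1 ι w ^ p by
        rw [ext1_apply ι (pow_mem hw.1 _), ext1_apply ι hw.1, ← map_pow]; rfl]
      have hwM : ext1 ι w ∈ M := hTM (hT.ge (ext1_mem_range ι w))
      have h2 := hKfix k' hk'K ⟨_, hwM⟩ (by rw [hTMe]; exact hT.ge (ext1_mem_range ι w))
        (fun t ht => by
          rw [hTMe] at ht
          obtain ⟨s, hs⟩ := hT.le ht
          refine Subtype.ext ?_
          show (t : L) * ext1 ι w = ext1 ι w * (t : L)
          rw [show (t : L) = ext1 ι s from hs.symm.trans (ext1_coe ι s).symm, ← ext1_mul ι s.2 hw.1,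
            ← ext1_mul ι hw.1 s.2, Subgroup.mem_centralizer_iff.1 hw.2 s s.2])
      exact congrArg Subtype.val h2.eq
    | mul a b ha hb iha ihb =>
      rw [ext1_mul ι (hZS ha) (hZS hb)]
      exact iha.mul_right ihb
    | inv a ha iha =>
      rw [ext1_inv ι (hZS ha)]
      exact iha.inv_right
  set P' := img P f₁ with hP'
  have hgen : ∀ x ∈ P' ⊔ zPow p S, (k' : L)⁻¹ * ext1 ι x * ((k' : L)⁻¹)⁻¹ ∈ ι.range := by
    intro x hx
    have h1 : P' ⊔ zPow p S ≤ ((conjBy (k' : L) ι.range ⊓ ι.range).comap ι).map S.subtype := by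
      refine sup_le (fun y hy => ?_) fun y hy => ⟨⟨y, hZS hy⟩, ⟨mem_conjBy.2 ?_, ⟨_, rfl⟩⟩, rfl⟩
      · obtain ⟨x, hx, rfl⟩ := hf₁.mem_img.1 hy
        refine ⟨⟨_, hf₁.mem_S hx⟩, ⟨mem_conjBy.2 ?_, ⟨_, rfl⟩⟩, rfl⟩
        rw [← ext1_apply ι (hf₁.mem_S hx), hf₁e x hx, show ((ν : M) : L) = (k' : L) * g from rfl]
        rw [show (k' : L)⁻¹ * ((k' : L) * g * ext1 ι x * ((k' : L) * g)⁻¹) * (k' : L) =
          g * ext1 ι x * g⁻¹ by group, ← hg x hx]
        exact ext1_mem_range ι _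
      · rw [← ext1_apply ι (hZS hy), mul_assoc, (hfixZ y hy).symm.eq, inv_mul_cancel_left]
        exact ext1_mem_range ι _
    obtain ⟨s, ⟨hs, -⟩, hsx⟩ := h1 hx
    have h3 := mem_conjBy.1 hs
    rw [← ext1_coe ι s, show (s : Ω) = x from hsx] at h3
    rwa [inv_inv]
  obtain ⟨f₂, hf₂, hf₂e⟩ := exists_map_of_conj hreal (sup_le hf₁.img_le hZS) hgen
  have hf₂E : IsMap E P' f₂ := hCE P' f₂ f₂ hf₂ (fun _ _ => rfl) fun x hx => by
    refine ext1_inj hreal.1 (hf₂.mem_S (Subgroup.mem_sup_right hx)) (hZS hx) ?_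
    rw [hf₂e x (Subgroup.mem_sup_right hx), inv_inv, mul_assoc, (hfixZ x hx).symm.eq,
      inv_mul_cancel_left]
  refine (hf₁E.comp hf₂E fun x hx => hf₁.mem_img.2 ⟨x, hx, rfl⟩).congr fun x hx => ?_
  have hx' : f₁ x ∈ P' := hf₁.mem_img.2 ⟨x, hx, rfl⟩
  refine ext1_inj hreal.1 (hf.mem_S hx) (hf₂.mem_S (Subgroup.mem_sup_left hx')) ?_
  rw [Function.comp_apply, hf₂e _ (Subgroup.mem_sup_left hx'), hf₁e x hx, hg x hx,
    show ((ν : M) : L) = (k' : L) * g from rfl]
  group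

end CfsgLib.Fusion
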