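import Cfsg.Agent.Lib.Fusion.System.AbelianSimple
import Cfsg.Agent.Lib.Fusion.System.Group

/-!
# Simplicity of the fusion system of a finite group
-/

set_option autoImplicit false

open Subgroup
open scoped Classical Pointwise

namespace CfsgLib.Fusion

open Cfsg (groupFusionSystem autInducedBy)

variable {G : Type*} [Group G] {p : ℕ}

/-- Inner `p`-automizer at the top and no proper subgroup closed under fusion. -/
def HasSimpleData (S : Subgroup G) : Prop :=
  S ≠ ⊥ ∧ Subgroup.normalizer (S : Set G) ≤ S ⊔ Subgroup.centralizer (S : Set G) ∧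
    ∀ T : Subgroup G, T ≤ S → T ≠ ⊥ →
      (∀ x ∈ T, ∀ g : G, g * x * g⁻¹ ∈ S → g * x * g⁻¹ ∈ T) → S ≤ T

theorem HasSimpleData.map_conj {S : Subgroup G} (h : HasSimpleData S) (a : G) :
    HasSimpleData (conjBy a S) := by
  obtain ⟨h1, h2, h3⟩ := h
  refine ⟨fun hb => h1 ?_, fun g hg => ?_, fun T hT hne hcl => ?_⟩
  · rw [← conjBy_inv_conjBy a S, hb, Subgroup.eq_bot_iff_forall]
    intro x hx
    obtain ⟨y, hy, rfl⟩ := hx
    rw [Subgroup.mem_bot.1 hy, map_one]
  · have hg' : a⁻¹ * g * a ∈ Subgroup.normalizer (S : Set G) := by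
      rw [← conjBy_eq_iff] at hg ⊢
      rw [show a⁻¹ * g * a = a⁻¹ * (g * a) by group, ← conjBy_conjBy, ← conjBy_conjBy g a, hg,
        conjBy_inv_conjBy]
    have h4 : ∀ y ∈ S ⊔ Subgroup.centralizer (S : Set G),
        a * y * a⁻¹ ∈ conjBy a S ⊔ Subgroup.centralizer (conjBy a S : Set G) := by
      have : S ⊔ Subgroup.centralizer (S : Set G) ≤
          (conjBy a S ⊔ Subgroup.centralizer (conjBy a S : Set G)).comap
            (MulAut.conj a).toMonoidHom := by
        refine sup_le (fun y hy => mem_sup_left (conj_mem_conjBy hy)) fun y hy => mem_sup_right ?_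
        rw [Subgroup.mem_centralizer_iff]
        intro u hu
        obtain ⟨v, hv, rfl⟩ := hu
        simp only [MulEquiv.coe_toMonoidHom, MulAut.conj_apply]
        have := Subgroup.mem_centralizer_iff.1 hy v hv
        calc a * v * a⁻¹ * (a * y * a⁻¹) = a * (v * y) * a⁻¹ := by group
          _ = a * (y * v) * a⁻¹ := by rw [this]
          _ = a * y * a⁻¹ * (a * v * a⁻¹) := by group
      exact fun y hy => this hy
    have := h4 _ (h2 hg')
    rwa [show a * (a⁻¹ * g * a) * a⁻¹ = g by group] at this
  · have hS : S ≤ conjBy a⁻¹ T := by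
      refine h3 _ ?_ ?_ ?_
      · rw [← conjBy_inv_conjBy a S]; exact conjBy_mono hT
      · intro hb
        refine hne (Subgroup.eq_bot_iff_forall _ |>.2 fun x hx => ?_)
        have := conj_mem_conjBy (g := a⁻¹) hx
        rw [hb, Subgroup.mem_bot] at this
        calc x = a * (a⁻¹ * x * a⁻¹⁻¹) * a⁻¹ := by group
          _ = 1 := by rw [this]; group
      · intro x hx g hgx
        obtain ⟨y, hy, rfl⟩ := hx
        simp only [MulEquiv.coe_toMonoidHom, MulAut.conj_apply] at hgx ⊢
        have h5 := conj_mem_conjBy (g := a) hgx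
        have h6 := hcl y hy (a * g * a⁻¹) (by
          convert h5 using 1; group)
        have h7 := conj_mem_conjBy (g := a⁻¹) h6
        convert h7 using 1; group
    have := conjBy_mono (g := a) hS
    rwa [conjBy_conjBy, mul_inv_cancel, conjBy_one] at this

variable [Finite G] [Fact p.Prime]

/-- The criterion at one Sylow subgroup gives simplicity at every Sylow subgroup. -/
theorem isSimple_group_of_data (P : Sylow p G) (h : HasSimpleData (P : Subgroup G))
    (S : Sylow p G) : (groupFusionSystem (S : Subgroup G)).IsSimple p := by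
  obtain ⟨a, ha⟩ := MulAction.exists_smul_eq G P S
  have h' : HasSimpleData (S : Subgroup G) := by
    rw [← ha]
    exact h.map_conj a
  obtain ⟨h1, h2, h3⟩ := h'
  refine isSimple_of_no_stronglyClosed S.2 (isSaturated_group (S := S)) h1 ?_ fun T hT => ?_
  · rw [autGroup_group le_rfl, inn_eq_autInducedBy]
    refine le_antisymm (fun α hα => ?_) ?_
    · obtain ⟨g, -, hg⟩ := mem_autInducedBy_iff.1 hα
      have hgn : g ∈ Subgroup.normalizer ((S : Subgroup G) : Set G) := mem_normalizer_of_autFun hg
      have hcn : Subgroup.centralizer ((S : Subgroup G) : Set G) ≤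
          Subgroup.normalizer ((S : Subgroup G) : Set G) :=
        Subgroup.centralizer_le_normalizer _
      obtain ⟨s, hs, c, hc, rfl⟩ : ∃ s ∈ (S : Subgroup G),
          ∃ c ∈ Subgroup.centralizer ((S : Subgroup G) : Set G), g = s * c := by
        have hmem := h2 hgn
        rw [← SetLike.mem_coe, Subgroup.coe_mul_of_right_le_normalizer_left (S : Subgroup G)
          (Subgroup.centralizer ((S : Subgroup G) : Set G)) hcn] at hmem
        obtain ⟨s, hs, c, hc, e⟩ := Set.mem_mul.1 hmem
        exact ⟨s, hs, c, hc, e.symm⟩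
      refine mem_autInducedBy_iff.2 ⟨s, hs, fun x hx => ?_⟩
      rw [hg x hx]
      calc s * c * x * (s * c)⁻¹ = s * (c * x * c⁻¹) * s⁻¹ := by group
        _ = s * x * s⁻¹ := by rw [← Subgroup.mem_centralizer_iff.1 hc x hx, mul_inv_cancel_right]
    · intro α hα
      obtain ⟨g, -, hg⟩ := mem_autInducedBy_iff.1 hα
      exact mem_autInducedBy_iff.2 ⟨g, mem_top g, hg⟩
  · rw [or_iff_not_imp_left]
    intro hne
    obtain ⟨hTS, hcl⟩ := stronglyClosed_iff.1 hT
    refine le_antisymm hTS (h3 T hTS hne fun x hx g hgx => ?_)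
    refine hcl (Subgroup.zpowers x) (fun y => g * y * g⁻¹) (zpowers_le.2 hx) ?_ x (mem_zpowers x)
    refine isMap_group_conj (zpowers_le.2 (hTS hx)) (conjBy_le_iff.2 fun y hy => ?_)
    obtain ⟨k, rfl⟩ := mem_zpowers_iff.1 hy
    rw [← conj_zpow]
    exact zpow_mem hgx k

end CfsgLib.Fusion
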