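import Cfsg.Agent.Lib.Fusion.System.EssentialPlane
import Cfsg.Agent.Lib.Coprime.Core
import Cfsg.Agent.Lib.PGroup.Basic
import Mathlib.GroupTheory.Commutator.Basic
import Mathlib.RingTheory.IntegralDomain

/-!
# Operator groups with a plane as faithful quotient

A group of automorphisms of a `p`-group acting on an elementary abelian group of order `p²`,
faithfully on elements of order prime to `p`, whose `p`-core has index divisible by `p`: the
`p`-core acts trivially, and an element of the derived subgroup normalizing a given Sylow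
`p`-subgroup induces a diagonal matrix of determinant one and full order.
-/

set_option autoImplicit false
set_option linter.style.haveILetI false

open Subgroup
open scoped Classical

namespace CfsgLib.Fusion.RankTwo

/-- The diagonal matrix `diag(a, a⁻¹)`. -/
noncomputable def dia {k : Type*} [Field k] (a : k) (ha : a ≠ 0) :
    Matrix.SpecialLinearGroup (Fin 2) k :=
  ⟨!![a, 0; 0, a⁻¹], by rw [Matrix.det_fin_two]; simp [ha]⟩

@[simp] theorem dia_coe {k : Type*} [Field k] (a : k) (ha : a ≠ 0) :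
    (dia a ha : Matrix (Fin 2) (Fin 2) k) = !![a, 0; 0, a⁻¹] := rfl

theorem dia_mul_up {k : Type*} [Field k] (a c : k) (ha : a ≠ 0) :
    dia a ha * CfsgLib.Qd.up c * (dia a ha)⁻¹ = CfsgLib.Qd.up (a ^ 2 * c) := by
  rw [mul_inv_eq_iff_eq_mul]
  apply CfsgLib.Qd.ext2 <;>
    simp [CfsgLib.Qd.mul00, CfsgLib.Qd.mul01, CfsgLib.Qd.mul10, CfsgLib.Qd.mul11] <;>
    field_simp

theorem dia_mul_lo {k : Type*} [Field k] (a c : k) (ha : a ≠ 0) :
    dia a ha * CfsgLib.Qd.lo c * (dia a ha)⁻¹ = CfsgLib.Qd.lo ((a⁻¹) ^ 2 * c) := by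
  rw [mul_inv_eq_iff_eq_mul]
  apply CfsgLib.Qd.ext2 <;>
    simp [CfsgLib.Qd.mul00, CfsgLib.Qd.mul01, CfsgLib.Qd.mul10, CfsgLib.Qd.mul11] <;>
    field_simp

variable {p : ℕ} [Fact p.Prime]

/-- For `p ≥ 5` every element of `SL₂(p)` is a product of commutators. -/
theorem mem_commutator_sl {k : Type*} [Field k] [Fact p.Prime]
    (A : Matrix.SpecialLinearGroup (Fin 2) (ZMod p)) (lam : ZMod p) (h0 : lam ≠ 0)
    (h2 : lam ^ 2 ≠ 1) : A ∈ commutator (Matrix.SpecialLinearGroup (Fin 2) (ZMod p)) := by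
  have hi : (lam⁻¹) ^ 2 ≠ 1 := by rwa [inv_pow, ne_eq, inv_eq_one]
  have hd : ∀ c : ZMod p, c ≠ 1 → c - 1 ≠ 0 := fun c => sub_ne_zero.2
  have hu : CfsgLib.Qd.up (1 : ZMod p) ∈ commutator (Matrix.SpecialLinearGroup (Fin 2) (ZMod p)) := by
    have h := Subgroup.commutator_mem_commutator (Subgroup.mem_top (dia lam h0))
      (Subgroup.mem_top (CfsgLib.Qd.up ((lam ^ 2 - 1)⁻¹)))
    rw [commutatorElement_def, dia_mul_up, CfsgLib.Qd.up_inv, CfsgLib.Qd.up_mul,
      show lam ^ 2 * (lam ^ 2 - 1)⁻¹ + -(lam ^ 2 - 1)⁻¹ = (lam ^ 2 - 1) * (lam ^ 2 - 1)⁻¹ by ring,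
      mul_inv_cancel₀ (hd _ h2)] at h
    exact h
  have hl : CfsgLib.Qd.lo (1 : ZMod p) ∈ commutator (Matrix.SpecialLinearGroup (Fin 2) (ZMod p)) := by
    have h := Subgroup.commutator_mem_commutator (Subgroup.mem_top (dia lam h0))
      (Subgroup.mem_top (CfsgLib.Qd.lo (((lam⁻¹) ^ 2 - 1)⁻¹)))
    rw [commutatorElement_def, dia_mul_lo, CfsgLib.Qd.lo_inv, CfsgLib.Qd.lo_mul,
      show (lam⁻¹) ^ 2 * ((lam⁻¹) ^ 2 - 1)⁻¹ + -((lam⁻¹) ^ 2 - 1)⁻¹ =
        ((lam⁻¹) ^ 2 - 1) * ((lam⁻¹) ^ 2 - 1)⁻¹ by ring,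
      mul_inv_cancel₀ (hd _ hi)] at h
    exact h
  have := CfsgLib.Qd.closure_up_lo (p := p) (lam := 1) one_ne_zero
  exact (Subgroup.closure_le (commutator (Matrix.SpecialLinearGroup (Fin 2) (ZMod p)))).2
    (Set.insert_subset hu (Set.singleton_subset_iff.2 hl)) (this.ge (Subgroup.mem_top A))

section Plane

variable {M : Type*} [Group M] [Finite M]

/-- A `p`-group of automorphisms of a group of order `p²` and exponent `p` has order at most `p`. -/
theorem card_pGroup_aut_le (hcomm : ∀ a b : M, a * b = b * a) (hexp : ∀ a : M, a ^ p = 1)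
    (hcard : Nat.card M = p ^ 2) (Q : Subgroup (MulAut M)) (hQ : IsPGroup p Q) :
    Nat.card Q ≤ p := by
  have hp := (Fact.out : p.Prime)
  haveI : Finite (MulAut M) := Finite.of_injective (fun a : MulAut M => (a : M → M))
    DFunLike.coe_injective
  haveI : Fintype M := Fintype.ofFinite M
  obtain ⟨x, hx, hx1⟩ := hQ.exists_fixed_point_of_prime_dvd_card_of_fixed_point M
    (by rw [hcard]; exact dvd_pow_self p two_ne_zero) (a := (1 : M))
    (fun g => map_one (g : MulAut M))
  have hxo : orderOf x = p := orderOf_eq_prime (hexp x) (Ne.symm hx1)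
  obtain ⟨y, hy⟩ : ∃ y, y ∉ zpowers x := by
    by_contra! h
    have : Nat.card M ≤ p := by
      rw [← hxo, ← Nat.card_zpowers, ← Subgroup.card_top (G := M)]
      exact (congrArg (fun K : Subgroup M => Nat.card K) (eq_top_iff.2 fun z _ => h z)).ge
    rw [hcard] at this
    exact absurd this (not_le.2 (lt_self_pow₀ hp.one_lt one_lt_two))
  have hgen : Subgroup.closure ({x, y} : Set M) = ⊤ := by
    refine Subgroup.eq_top_of_card_eq _ (le_antisymm (Subgroup.card_le_card_group _) ?_)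
    have h1 : zpowers x ≤ closure {x, y} := zpowers_le.2 (subset_closure (Or.inl rfl))
    obtain ⟨i, hi, hie⟩ := (Nat.dvd_prime_pow hp).1 (hcard ▸ (closure ({x, y} : Set M)).card_subgroup_dvd_card)
    rcases (show i ≤ 1 ∨ i = 2 by omega) with hi1 | rfl
    · exfalso
      have he : zpowers x = closure {x, y} := Subgroup.eq_of_le_of_card_ge h1 (by
        rw [hie, Nat.card_zpowers, hxo]
        exact (Nat.pow_le_pow_right hp.pos hi1).trans_eq (pow_one p))
      exact hy (he.ge (subset_closure (Or.inr rfl)))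
    · rw [hie, hcard]
  -- the stabilizer of `y` is trivial
  have hstab : MulAction.stabilizer Q y = ⊥ := by
    refine (Subgroup.eq_bot_iff_forall _).2 fun g hg => Subtype.ext (MulEquiv.ext fun r => ?_)
    have hle : closure ({x, y} : Set M) ≤
        ((g : MulAut M).toMonoidHom.eqLocus (MonoidHom.id M)) := by
      rw [closure_le]
      rintro z (rfl | rfl)
      · exact hx g
      · exact hg
    exact hle (hgen.ge (Subgroup.mem_top r))
  obtain ⟨k, hk⟩ := hQ.exists_card_eq
  have horb : Nat.card (MulAction.orbit Q y) = Nat.card Q := by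
    rw [← Nat.card_congr (MulAction.orbitEquivQuotientStabilizer Q y).symm,
      ← Subgroup.index_eq_card, hstab, Subgroup.index_bot]
  have hlt : Nat.card (MulAction.orbit Q y) < p ^ 2 := by
    rw [← hcard]
    refine Finite.card_subtype_lt (x := (1 : M)) ?_
    rintro ⟨g, hg⟩
    refine hy ?_
    have h1 : (g : MulAut M) y = (g : MulAut M) 1 := hg.trans (map_one _).symm
    rw [(g : MulAut M).injective h1]
    exact one_mem _
  rw [horb, hk] at hlt
  rw [hk]
  exact (Nat.pow_le_pow_right hp.pos (Nat.lt_succ_iff.1 ((Nat.pow_lt_pow_iff_right hp.one_lt).1 hlt))).trans_eq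
    (pow_one p)

variable {E : Type*} [Group E] [Finite E]

/-- Structure of an operator group with a plane as faithful quotient. -/
theorem exists_diag (hp5 : 5 ≤ p) (hcomm : ∀ a b : M, a * b = b * a) (hexp : ∀ a : M, a ^ p = 1)
    (hcard : Nat.card M = p ^ 2) (X : Subgroup (MulAut E)) (ρ : X →* MulAut M)
    (hker : ∀ g : X, ρ g = 1 → (orderOf g).Coprime p → g = 1)
    (hidx : p ∣ (Cfsg.pCore p X).index) (P : Sylow p X) :
    (∀ g ∈ Cfsg.pCore p X, ρ g = 1) ∧
    ∃ (x y : M) (lam : ZMod p) (h : X), x ≠ 1 ∧ y ∉ zpowers x ∧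
      (∀ g ∈ (P : Subgroup X), ρ g x = x ∧ y⁻¹ * ρ g y ∈ zpowers x) ∧
      lam ≠ 0 ∧ lam ^ 2 ≠ 1 ∧ lam ^ 3 ≠ 1 ∧
      h ∈ commutator X ∧ h ^ (p - 1) = 1 ∧ (∀ g ∈ (P : Subgroup X), h * g * h⁻¹ ∈ (P : Subgroup X)) ∧
      ρ h x = x ^ lam.val ∧ ρ h y = y ^ (lam⁻¹).val ∧
      ∀ r : M, ρ (h ^ ((p - 1) / 2)) r = r⁻¹ := by
  have hp := (Fact.out : p.Prime)
  haveI : Finite (MulAut E) := Finite.of_injective (fun a : MulAut E => (a : E → E))
    DFunLike.coe_injective
  haveI : Finite (MulAut M) := Finite.of_injective (fun a : MulAut M => (a : M → M))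
    DFunLike.coe_injective
  set R := Cfsg.pCore p X with hR
  have hRp : IsPGroup p R := CfsgLib.PGroup.isPGroup_pCore p X
  haveI hRn : R.Normal := (CfsgLib.Coprime.pCore_normal' p)
  have hK : IsPGroup p ρ.ker := by
    rintro ⟨g, hg⟩
    obtain ⟨k, m, hm, he⟩ := Nat.exists_eq_pow_mul_and_not_dvd (orderOf_pos g).ne' p hp.ne_one
    refine ⟨k, Subtype.ext ?_⟩
    rw [SubmonoidClass.coe_pow, OneMemClass.coe_one]
    refine hker _ (by rw [map_pow, show ρ g = 1 from hg, one_pow]) ?_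
    rw [orderOf_pow' _ (pow_ne_zero _ hp.ne_zero), he, Nat.gcd_eq_right (dvd_mul_right _ _),
      Nat.mul_div_cancel_left _ (pow_pos hp.pos k)]
    exact (hp.coprime_iff_not_dvd.2 hm).symm
  have hKR : ρ.ker ≤ R := CfsgLib.Coprime.le_pCore hK
  have hPR : ¬ ((P : Subgroup X) ≤ R) := fun h =>
    P.not_dvd_index (dvd_trans hidx (Subgroup.index_dvd_of_le h))
  have hRP : R ≤ (P : Subgroup X) := CfsgLib.PGroup.pCore_le_sylow P
  set Q := (P : Subgroup X).map ρ with hQ
  have hQp : IsPGroup p Q := P.isPGroup'.map ρ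
  have hQc : Nat.card Q ≤ p := card_pGroup_aut_le hcomm hexp hcard Q hQp
  have hQ1 : Q ≠ ⊥ := fun h => hPR (le_trans ((Subgroup.map_eq_bot_iff _).1 h) hKR)
  have hQcard : Nat.card Q = p := by
    obtain ⟨k, hk⟩ := hQp.exists_card_eq
    rcases k with _ | k
    · exact absurd (Subgroup.card_eq_one.1 (by simpa using hk)) hQ1
    · refine le_antisymm hQc ?_
      rw [hk]
      exact Nat.le_self_pow (Nat.succ_ne_zero k) p
  have hR1 : ∀ g ∈ R, ρ g = 1 := by
    intro g hg
    by_contra hne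
    have hRQ : R.map ρ = Q := by
      haveI : Fact (Nat.card Q).Prime := ⟨hQcard ▸ hp⟩
      rcases Subgroup.eq_bot_or_eq_top_of_prime_card ((R.map ρ).subgroupOf Q) with h | h
      · refine absurd ?_ hne
        have h1 : (⟨ρ g, Subgroup.mem_map_of_mem ρ (hRP hg)⟩ : Q) ∈ (R.map ρ).subgroupOf Q :=
          Subgroup.mem_map_of_mem ρ hg
        rw [h, Subgroup.mem_bot] at h1
        exact congrArg Subtype.val h1
      · exact le_antisymm (Subgroup.map_mono hRP) (Subgroup.subgroupOf_eq_top.1 h)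
    refine hPR fun z hz => ?_
    obtain ⟨r, hr, he⟩ : ρ z ∈ R.map ρ := hRQ ▸ Subgroup.mem_map_of_mem ρ hz
    have h1 : r⁻¹ * z ∈ R := hKR (by rw [MonoidHom.mem_ker, map_mul, map_inv, he, inv_mul_cancel])
    simpa using mul_mem hr h1
  refine ⟨hR1, ?_⟩
  -- the image has trivial core
  set Y := ρ.range
  have hcore : Cfsg.pCore p Y = ⊥ := by
    refine (Subgroup.eq_bot_iff_forall _).2 ?_
    rintro ⟨_, g, rfl⟩ hg
    let ρ' := ρ.rangeRestrict
    have hB : IsPGroup p ((Cfsg.pCore p Y).comap ρ') := by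
      refine IsPGroup.comap_of_ker_isPGroup (CfsgLib.PGroup.isPGroup_pCore p Y) ρ' ?_
      rw [MonoidHom.ker_rangeRestrict]
      exact hK
    haveI : ((Cfsg.pCore p Y).comap ρ').Normal := ((CfsgLib.Coprime.pCore_normal' p)).comap ρ'
    exact Subtype.ext (hR1 g (CfsgLib.Coprime.le_pCore hB hg))
  -- a transvection from the Sylow subgroup
  obtain ⟨s, hs, hsQ⟩ : ∃ s ∈ (P : Subgroup X), ρ s ≠ 1 := by
    by_contra! h
    exact hQ1 ((Subgroup.map_eq_bot_iff _).2 fun z hz => h z hz)
  have hso : orderOf (⟨ρ s, s, rfl⟩ : Y) = p := by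
    rw [← Subgroup.orderOf_coe]
    refine orderOf_eq_prime ?_ hsQ
    have h1 := pow_card_eq_one' (G := Q) (x := ⟨ρ s, Subgroup.mem_map_of_mem ρ hs⟩)
    rw [hQcard] at h1
    exact congrArg Subtype.val h1
  obtain ⟨x, y, L, hLinj, hLY, hx1, hy, hsx, hsy, hL⟩ :=
    EssentialPlane.exists_sl_two_hom hcomm hexp hcard Y hcore _ hso
  have hQs : Q = zpowers (ρ s) := (Subgroup.eq_of_le_of_card_ge
    (zpowers_le.2 (Subgroup.mem_map_of_mem ρ hs)) (by
      rw [Nat.card_zpowers, hQcard, ← hso, ← Subgroup.orderOf_coe])).symm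
  -- a generator of the units
  obtain ⟨lam, hlam⟩ : ∃ lam : (ZMod p)ˣ, orderOf lam = p - 1 := by
    obtain ⟨g, hg⟩ := IsCyclic.exists_ofOrder_eq_natCard (α := (ZMod p)ˣ)
    exact ⟨g, by rw [hg, Nat.card_eq_fintype_card, ZMod.card_units]⟩
  have hne : ∀ i : ℕ, i ≠ 0 → i < p - 1 → (lam : ZMod p) ^ i ≠ 1 := fun i hi hlt h => by
    have h1 : lam ^ i = 1 := Units.ext (by rw [Units.val_pow_eq_pow_val, h, Units.val_one])
    exact absurd (Nat.le_of_dvd (Nat.pos_of_ne_zero hi) (hlam ▸ orderOf_dvd_of_pow_eq_one h1))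
      (not_le.2 hlt)
  have hl0 : (lam : ZMod p) ≠ 0 := lam.ne_zero
  have hpow1 : (lam : ZMod p) ^ (p - 1) = 1 := by
    rw [← Units.val_pow_eq_pow_val, ← hlam, pow_orderOf_eq_one, Units.val_one]
  have hm2 : (p - 1) / 2 * 2 = p - 1 := by
    obtain ⟨t, ht⟩ := hp.odd_of_ne_two (by omega)
    omega
  have hneg : (lam : ZMod p) ^ ((p - 1) / 2) = -1 := by
    refine (sq_eq_one_iff.1 (show ((lam : ZMod p) ^ ((p - 1) / 2)) ^ 2 = 1 by
      rw [← pow_mul, hm2, hpow1])).resolve_left (hne _ (by omega) (by omega))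
  set D := dia (lam : ZMod p) hl0 with hD
  obtain ⟨g₀, hg₀c, hg₀⟩ : ∃ g₀ ∈ commutator X, ρ g₀ = L D := by
    have h1 : L D ∈ (commutator (Matrix.SpecialLinearGroup (Fin 2) (ZMod p))).map L :=
      Subgroup.mem_map_of_mem L (mem_commutator_sl (k := ZMod p) D _ hl0 (hne 2 two_ne_zero (by omega)))
    have h2 : (commutator (Matrix.SpecialLinearGroup (Fin 2) (ZMod p))).map L ≤
        (commutator X).map ρ := by
      rw [_root_.commutator_def, _root_.commutator_def, Subgroup.map_commutator,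
        Subgroup.map_commutator, ← MonoidHom.range_eq_map, ← MonoidHom.range_eq_map]
      exact Subgroup.commutator_mono hLY hLY
    exact h2 h1
  have hvec : ∀ (n : ℕ) (r : M), ∃ c : Fin 2 → ZMod p,
      r = x ^ (c 0).val * y ^ (c 1).val ∧
        (ρ g₀ ^ n) r = x ^ ((lam : ZMod p) ^ n * c 0).val * y ^ (((lam : ZMod p) ^ n)⁻¹ * c 1).val := by
    intro n r
    obtain ⟨c, hc⟩ : ∃ c : Fin 2 → ZMod p, r = x ^ (c 0).val * y ^ (c 1).val := by
      let e : (Fin 2 → ZMod p) → M := fun c => x ^ (c 0).val * y ^ (c 1).val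
      suffices Function.Surjective e from (this r).imp fun c hc => hc.symm
      refine ((Nat.bijective_iff_injective_and_card e).2 ⟨fun c d hcd => ?_, by
        rw [hcard, Nat.card_pi]; simp⟩).2
      have key : ∀ i j : ZMod p, x ^ i.val * y ^ j.val = 1 → i = 0 ∧ j = 0 := by
        intro i j h
        have hj : j = 0 := by
          by_contra hj
          refine hy ?_
          have hyo : orderOf y = p := orderOf_eq_prime (hexp y) (fun h => hy (h ▸ one_mem _))
          have hmem : y ^ j.val ∈ zpowers x := by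
            rw [eq_inv_of_mul_eq_one_right h]
            exact inv_mem (pow_mem (mem_zpowers x) _)
          have hj' : y ^ j.val ≠ 1 := fun h1 => hj ((ZMod.val_eq_zero j).1
            (Nat.eq_zero_of_dvd_of_lt (by have h' := orderOf_dvd_of_pow_eq_one h1; rwa [hyo] at h')
              (ZMod.val_lt j)))
          have he : zpowers (y ^ j.val) = zpowers y := Subgroup.eq_of_le_of_card_ge
            (zpowers_le.2 (pow_mem (mem_zpowers y) _)) (by
              rw [Nat.card_zpowers, Nat.card_zpowers, orderOf_eq_prime (hexp _) hj', hyo])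
          exact zpowers_le.2 hmem (he.ge (mem_zpowers y))
        rw [hj, ZMod.val_zero, pow_zero, mul_one] at h
        exact ⟨(ZMod.val_eq_zero i).1 (Nat.eq_zero_of_dvd_of_lt
          (by have h' := orderOf_dvd_of_pow_eq_one h; rwa [orderOf_eq_prime (hexp x) hx1] at h')
          (ZMod.val_lt i)), hj⟩
      have hpv : ∀ (z : M) (i j : ZMod p), z ^ (i + j).val = z ^ i.val * z ^ j.val := fun z i j =>
        EssentialPlane.pow_val_mul (hexp z) i j
      have h1 : x ^ (c 0 - d 0).val * y ^ (c 1 - d 1).val = 1 := by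
        refine mul_right_cancel (b := x ^ (d 0).val * y ^ (d 1).val) ?_
        rw [one_mul]
        calc x ^ (c 0 - d 0).val * y ^ (c 1 - d 1).val * (x ^ (d 0).val * y ^ (d 1).val)
            = x ^ (c 0 - d 0).val * (y ^ (c 1 - d 1).val * x ^ (d 0).val) * y ^ (d 1).val := by group
          _ = x ^ (c 0 - d 0).val * x ^ (d 0).val * (y ^ (c 1 - d 1).val * y ^ (d 1).val) := by
              rw [hcomm (y ^ _) (x ^ _)]; group
          _ = e c := by rw [← hpv, ← hpv, sub_add_cancel, sub_add_cancel]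
          _ = e d := hcd
      obtain ⟨h0, h1⟩ := key _ _ h1
      funext i
      fin_cases i
      · exact sub_eq_zero.1 h0
      · exact sub_eq_zero.1 h1
    refine ⟨c, hc, ?_⟩
    induction n with
    | zero => simpa using hc
    | succ n ih =>
      rw [pow_succ', MulAut.mul_apply, ih, hg₀]
      have := hL D ![(lam : ZMod p) ^ n * c 0, ((lam : ZMod p) ^ n)⁻¹ * c 1]
      simp only [Matrix.cons_val_zero, Matrix.cons_val_one] at this
      rw [this]
      congr 3 <;>
        simp only [hD, dia_coe, Matrix.mulVec, dotProduct, Fin.sum_univ_two, Matrix.of_apply,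
          Matrix.cons_val', Matrix.cons_val_zero, Matrix.cons_val_one, Matrix.cons_val_fin_one,
          zero_mul, add_zero, zero_add, pow_succ', mul_inv, mul_assoc]
  have hone : ∀ r : M, (ρ g₀ ^ (p - 1)) r = r := fun r => by
    obtain ⟨c, hc, he⟩ := hvec (p - 1) r
    rw [he, hpow1, inv_one, one_mul, one_mul, ← hc]
  have hg1 : ρ g₀ ^ (p - 1) = 1 := MulEquiv.ext hone
  obtain ⟨k, m, hm, hmk⟩ := Nat.exists_eq_pow_mul_and_not_dvd (orderOf_pos g₀).ne' p hp.ne_one
  set h := g₀ ^ (p ^ k) ^ (p - 1) with hh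
  have hρh : ρ h = ρ g₀ := by
    rw [hh, map_pow]
    conv_rhs => rw [← pow_one (ρ g₀)]
    refine pow_eq_pow_iff_modEq.2 (Nat.ModEq.of_dvd (orderOf_dvd_of_pow_eq_one hg1) ?_)
    rw [← ZMod.natCast_eq_natCast_iff]
    have e : (p : ZMod (p - 1)) = 1 := by
      have e' : (((p - 1) + 1 : ℕ) : ZMod (p - 1)) = 1 := by
        rw [Nat.cast_add, ZMod.natCast_self, Nat.cast_one, zero_add]
      rwa [Nat.sub_add_cancel hp.one_le] at e' 
    push_cast
    rw [e, one_pow, one_pow]
  have hcop : (orderOf h).Coprime p := by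
    refine Nat.Coprime.coprime_dvd_left (orderOf_dvd_of_pow_eq_one (n := m) ?_)
      (hp.coprime_iff_not_dvd.2 hm).symm
    rw [hh, ← pow_mul]
    refine orderOf_dvd_iff_pow_eq_one.1 (hmk ▸ Nat.mul_dvd_mul_right ?_ m)
    exact dvd_pow_self _ (by omega)
  have hnorm : ∀ g ∈ (P : Subgroup X), h * g * h⁻¹ ∈ (P : Subgroup X) := by
    have hcomap : Q.comap ρ = (P : Subgroup X) := by
      refine le_antisymm (fun z hz => ?_) (Subgroup.le_comap_map ρ _)
      obtain ⟨w, hw, he⟩ := hz
      have h1 : w⁻¹ * z ∈ (P : Subgroup X) := hRP (hKR (by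
        rw [MonoidHom.mem_ker, map_mul, map_inv, he, inv_mul_cancel]))
      simpa using mul_mem hw h1
    have hs' : ρ s = L (CfsgLib.Qd.up 1) := by
      refine MulEquiv.ext fun r => ?_
      obtain ⟨c, hc, -⟩ := hvec 0 r
      rw [hc, hL, map_mul, map_pow, map_pow,
        show (ρ s) x = x from hsx, show (ρ s) y = y * x from hsy]
      simp only [CfsgLib.Qd.up_coe, Matrix.mulVec, dotProduct, Fin.sum_univ_two, Matrix.of_apply,
        Matrix.cons_val', Matrix.cons_val_zero, Matrix.cons_val_one, Matrix.cons_val_fin_one,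
        one_mul, zero_mul, zero_add]
      rw [EssentialPlane.pow_val_mul (hexp x), (show Commute y x from hcomm y x).mul_pow, mul_assoc,
        hcomm (x ^ (c 1).val)]
    intro g hg
    rw [← hcomap, Subgroup.mem_comap, map_mul, map_mul, map_inv, hρh, hg₀]
    obtain ⟨i, hi⟩ := Subgroup.mem_zpowers_iff.1 (hQs.le (Subgroup.mem_map_of_mem ρ hg))
    rw [← hi, ← conj_zpow, hs', ← map_inv, ← map_mul, ← map_mul, dia_mul_up, mul_one]
    refine zpow_mem (hQs.ge ?_) i
    rw [show (lam : ZMod p) ^ 2 = (((lam : ZMod p) ^ 2).val : ZMod p) * 1 by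
      rw [mul_one, ZMod.natCast_zmod_val], ← CfsgLib.Qd.up_pow, map_pow, hs']
    exact pow_mem (mem_zpowers _) _
  refine ⟨x, y, lam, h, hx1, hy, fun g hg => ?_, hl0, hne 2 two_ne_zero (by omega),
    hne 3 three_ne_zero (by omega), pow_mem hg₀c _,
    hker _ (by rw [map_pow, hρh, hg1]) (hcop.coprime_dvd_left (orderOf_pow_dvd _)), hnorm,
    ?_, ?_, fun r => ?_⟩
  · obtain ⟨i, hi⟩ := Subgroup.mem_zpowers_iff.1 (hQs.le (Subgroup.mem_map_of_mem ρ hg))
    let S' : Subgroup (MulAut M) :=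
      { carrier := {f | f x = x ∧ y⁻¹ * f y ∈ zpowers x}
        one_mem' := ⟨rfl, by rw [MulAut.one_apply, inv_mul_cancel]; exact one_mem _⟩
        mul_mem' := fun {f f'} hf hf' => ⟨by rw [MulAut.mul_apply, hf'.1, hf.1], by
          obtain ⟨j, hj⟩ := Subgroup.mem_zpowers_iff.1 hf'.2
          rw [MulAut.mul_apply, show f' y = y * x ^ j by rw [hj, mul_inv_cancel_left], map_mul,
            map_zpow, hf.1, ← mul_assoc]
          exact mul_mem hf.2 (zpow_mem (mem_zpowers x) j)⟩
        inv_mem' := fun {f} hf => ⟨by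
          conv_lhs => rw [← hf.1]
          exact MulEquiv.symm_apply_apply _ _, by
          obtain ⟨j, hj⟩ := Subgroup.mem_zpowers_iff.1 hf.2
          have h1 : f y = y * x ^ j := by rw [hj, mul_inv_cancel_left]
          have h2 : f⁻¹ y = y * x ^ (-j) := f.injective (by
            rw [show f (f⁻¹ y) = y from MulEquiv.apply_symm_apply f y, map_mul, map_zpow, hf.1, h1,
              mul_assoc, ← zpow_add, add_neg_cancel, zpow_zero, mul_one])
          rw [h2, inv_mul_cancel_left]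
          exact zpow_mem (mem_zpowers x) _⟩ }
    rw [← hi]
    have hsS : ρ s ∈ S' := ⟨hsx, by
      rw [show (ρ s) y = y * x from hsy, inv_mul_cancel_left]; exact mem_zpowers x⟩
    exact zpow_mem hsS i
  · have := hL D ![1, 0]
    simp only [hD, dia_coe, Matrix.mulVec, dotProduct, Fin.sum_univ_two, Matrix.of_apply, Matrix.cons_val',
      Matrix.cons_val_zero, Matrix.cons_val_one, Matrix.cons_val_fin_one, mul_one, mul_zero,
      add_zero, zero_add, zero_mul, ZMod.val_one, ZMod.val_zero, pow_zero, pow_one, one_mul] at this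
    rw [hρh, hg₀]
    exact this
  · have := hL D ![0, 1]
    simp only [hD, dia_coe, Matrix.mulVec, dotProduct, Fin.sum_univ_two, Matrix.of_apply, Matrix.cons_val',
      Matrix.cons_val_zero, Matrix.cons_val_one, Matrix.cons_val_fin_one, mul_one, mul_zero,
      add_zero, zero_add, zero_mul, ZMod.val_one, ZMod.val_zero, pow_zero, pow_one, one_mul] at this
    rw [hρh, hg₀]
    exact this
  · obtain ⟨c, hc, he⟩ := hvec ((p - 1) / 2) r
    rw [map_pow, hρh, he, hneg, show ((-1 : ZMod p))⁻¹ = -1 by rw [inv_neg, inv_one], neg_one_mul,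
      neg_one_mul]
    refine eq_inv_of_mul_eq_one_left ?_
    rw [hc]
    calc x ^ (-c 0).val * y ^ (-c 1).val * (x ^ (c 0).val * y ^ (c 1).val)
        = x ^ (-c 0).val * (y ^ (-c 1).val * x ^ (c 0).val) * y ^ (c 1).val := by group
      _ = x ^ (-c 0).val * x ^ (c 0).val * (y ^ (-c 1).val * y ^ (c 1).val) := by
          rw [hcomm (y ^ _) (x ^ _)]; group
      _ = 1 := by
          rw [← EssentialPlane.pow_val_mul (hexp x), ← EssentialPlane.pow_val_mul (hexp y),
            neg_add_cancel, neg_add_cancel, ZMod.val_zero, pow_zero, pow_zero, mul_one]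

end Plane

end CfsgLib.Fusion.RankTwo
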