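import Cfsg.Agent.Lib.PGroup.MetacyclicTwoAut
import Cfsg.Agent.S4398
import Cfsg.Agent.Lib.Fusion.System.RankTwoAction
import Cfsg.Agent.Lib.Fusion.System.Normal
import Cfsg.Agent.Lib.Fusion.System.Alperin
import Cfsg.Agent.Lib.Fusion.System.Centric

/-!
# Strongly closed metacyclic 2-subgroups
-/

set_option autoImplicit false
set_option linter.style.haveILetI false

/-- Three nontrivial elements exhaust the four group. -/
theorem CfsgLib.Fusion.MetaTwo.four_cover :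
    ∀ (a b w : Multiplicative (ZMod 2) × Multiplicative (ZMod 2)),
      (a ≠ 1 ∧ b ≠ 1 ∧ a * b ≠ 1) → (w = 1 ∨ w * a = 1 ∨ w * b = 1 ∨ w * (a * b) = 1) := by
  decide

open Subgroup
open scoped Classical commutatorElement Pointwise

namespace CfsgLib.Fusion.MetaTwo

open Cfsg (FusionSystem autInducedBy)
open Cfsg.FusionSystem (normalizerIn centralizerIn)

universe u

theorem involution_unique {G : Type*} [Group G] [Finite G] [IsCyclic G] {a b : G} (ha : a ^ 2 = 1)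
    (hb : b ^ 2 = 1) (ha1 : a ≠ 1) (hb1 : b ≠ 1) : a = b := by
  haveI : Fintype G := Fintype.ofFinite G
  by_contra hne
  have h1 := IsCyclic.card_pow_eq_one_le (α := G) (n := 2) two_pos
  have h2 : ({1, a, b} : Finset G) ⊆ Finset.univ.filter fun x => x ^ 2 = 1 := by
    intro x hx
    simp only [Finset.mem_insert, Finset.mem_singleton] at hx
    simp only [Finset.mem_filter, Finset.mem_univ, true_and]
    rcases hx with rfl | rfl | rfl
    · exact one_pow 2
    · exact ha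
    · exact hb
  have h3 := (Finset.card_le_card h2).trans h1
  rw [Finset.card_insert_of_notMem, Finset.card_pair hne] at h3
  · omega
  · simp only [Finset.mem_insert, Finset.mem_singleton, not_or]
    exact ⟨ha1.symm, hb1.symm⟩

/-- Facts about homocyclic groups of rank two. -/
theorem plane_facts {R : Type*} [Group R] {n : ℕ} (hn : 1 ≤ n)
    (φ : R ≃* Multiplicative (ZMod (2 ^ n)) × Multiplicative (ZMod (2 ^ n))) :
    (∀ a b : R, a * b = b * a) ∧ (∀ x : R, x ^ 2 ^ n = 1) ∧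
      (∀ x : R, x ^ 2 ^ (n - 1) = 1 → ∃ y, x = y ^ 2) ∧
      ∀ e l : R, (¬ ∃ y, e = y ^ 2) → (¬ ∃ y, l = y ^ 2) → (¬ ∃ y, e * l = y ^ 2) →
        ∀ x : R, (∃ y, x = y ^ 2) ∨ (∃ y, x * e = y ^ 2) ∨ (∃ y, x * l = y ^ 2) ∨
          ∃ y, x * (e * l) = y ^ 2 := by
  obtain ⟨m, rfl⟩ : ∃ m, n = m + 1 := ⟨n - 1, by omega⟩
  haveI : NeZero (2 ^ (m + 1) : ℕ) := ⟨pow_ne_zero _ two_ne_zero⟩
  let c := ZMod.castHom (show 2 ∣ 2 ^ (m + 1) from dvd_pow_self 2 (Nat.succ_ne_zero m)) (ZMod 2)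
  let ψ : R →* Multiplicative (ZMod 2) × Multiplicative (ZMod 2) :=
    (MonoidHom.prodMap c.toAddMonoidHom.toMultiplicative c.toAddMonoidHom.toMultiplicative).comp
      φ.toMonoidHom
  have hcz : ∀ z : Multiplicative (ZMod (2 ^ (m + 1))), c (Multiplicative.toAdd z) = 0 ↔
      ∃ w, z = w ^ 2 := fun z => by
    constructor
    · intro hz
      rw [← ZMod.natCast_zmod_val (Multiplicative.toAdd z), map_natCast,
        ZMod.natCast_eq_zero_iff] at hz
      obtain ⟨k, hk⟩ := hz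
      refine ⟨Multiplicative.ofAdd (k : ZMod (2 ^ (m + 1))), Multiplicative.toAdd.injective ?_⟩
      rw [toAdd_pow, toAdd_ofAdd, ← ZMod.natCast_zmod_val (Multiplicative.toAdd z), hk,
        nsmul_eq_mul, Nat.cast_mul]
    · rintro ⟨w, rfl⟩
      rw [toAdd_pow, map_nsmul]
      exact (two_nsmul _).trans (CharTwo.add_self_eq_zero _)
  have hψ : ∀ x : R, ψ x = 1 ↔ ∃ y, x = y ^ 2 := fun x => by
    constructor
    · intro hx
      obtain ⟨w1, h1⟩ := (hcz _).1 (congrArg Multiplicative.toAdd (congrArg Prod.fst hx))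
      obtain ⟨w2, h2⟩ := (hcz _).1 (congrArg Multiplicative.toAdd (congrArg Prod.snd hx))
      exact ⟨φ.symm (w1, w2), φ.injective (by
        rw [map_pow, φ.apply_symm_apply]
        exact Prod.ext h1 h2)⟩
    · rintro ⟨y, rfl⟩
      refine Prod.ext ?_ ?_ <;> apply Multiplicative.toAdd.injective
      · exact (hcz _).2 ⟨(φ y).1, by rw [show φ.toMonoidHom (y ^ 2) = φ y ^ 2 from map_pow φ y 2]; rfl⟩
      · exact (hcz _).2 ⟨(φ y).2, by rw [show φ.toMonoidHom (y ^ 2) = φ y ^ 2 from map_pow φ y 2]; rfl⟩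
  refine ⟨fun a b => φ.injective (by rw [map_mul, map_mul, mul_comm]), fun x => φ.injective ?_,
    fun x hx => (hψ x).1 ?_, fun e l he hl hel x => ?_⟩
  · rw [map_pow, map_one]
    refine Prod.ext ?_ ?_ <;> apply Multiplicative.toAdd.injective <;>
      simp [toAdd_pow, nsmul_eq_mul, ZMod.natCast_self]
  · have key : ∀ z : Multiplicative (ZMod (2 ^ (m + 1))), z ^ 2 ^ m = 1 →
        c (Multiplicative.toAdd z) = 0 := by
      intro z hz
      have h0 : ((2 ^ m * (Multiplicative.toAdd z).val : ℕ) : ZMod (2 ^ (m + 1))) = 0 := by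
        rw [Nat.cast_mul, ZMod.natCast_zmod_val, ← nsmul_eq_mul, ← toAdd_pow, hz, toAdd_one]
      rw [ZMod.natCast_eq_zero_iff] at h0
      have h1 : 2 ∣ (Multiplicative.toAdd z).val :=
        Nat.dvd_of_mul_dvd_mul_left (pow_pos two_pos m) (pow_succ 2 m ▸ h0)
      rw [← ZMod.natCast_zmod_val (Multiplicative.toAdd z), map_natCast, ZMod.natCast_eq_zero_iff]
      exact h1
    have h2 : φ x ^ 2 ^ m = 1 := by rw [← map_pow]; simpa using congrArg φ hx
    refine Prod.ext ?_ ?_ <;> apply Multiplicative.toAdd.injective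
    · exact key _ (congrArg Prod.fst h2)
    · exact key _ (congrArg Prod.snd h2)
  · simp only [← hψ] at he hl hel ⊢
    rw [map_mul] at hel
    rw [map_mul, map_mul, map_mul, map_mul]
    exact four_cover _ _ _ ⟨he, hl, hel⟩

/-- An element of a metacyclic 2-group normalizing a homocyclic subgroup of rank two and
exponent at least four and squaring into it centralizes it modulo squares. -/
theorem commutator_square {T : Type*} [Group T] [Finite T] (N : Subgroup T) [N.Normal] [IsCyclic N]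
    (hq : IsCyclic (T ⧸ N)) (R : Subgroup T) {n : ℕ} (hn : 2 ≤ n)
    (φ : R ≃* Multiplicative (ZMod (2 ^ n)) × Multiplicative (ZMod (2 ^ n))) (s : T)
    (hs : ∀ r ∈ R, s * r * s⁻¹ ∈ R) (hs2 : s * s ∈ R) :
    ∀ r ∈ R, ∃ y ∈ R, s * r * s⁻¹ * r⁻¹ = y ^ 2 := by
  obtain ⟨hcomm', hexp', hsq', hcover⟩ := plane_facts (by omega : 1 ≤ n) φ
  have hcomm : ∀ a ∈ R, ∀ b ∈ R, a * b = b * a := fun a ha b hb =>
    congrArg Subtype.val (hcomm' ⟨a, ha⟩ ⟨b, hb⟩)
  have hN : ∀ a b : T, a * b * a⁻¹ * b⁻¹ ∈ N := fun a b => by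
    rw [← commutatorElement_def, ← QuotientGroup.eq_one_iff, ← QuotientGroup.mk'_apply,
      map_commutatorElement, commutatorElement_eq_one_iff_mul_comm]
    exact (IsCyclic.isMulCommutative (α := T ⧸ N)).is_comm.comm _ _
  let Sq : T → Prop := fun x => ∃ y ∈ R, x = y ^ 2
  have hnon : ∀ x ∈ R, ¬ Sq x → x ^ 2 ^ (n - 1) ≠ 1 := fun x hx hxs hx1 => by
    obtain ⟨y, hy⟩ := hsq' ⟨x, hx⟩ (Subtype.ext (by simpa using hx1))
    exact hxs ⟨y, y.2, by simpa using congrArg Subtype.val hy⟩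
  have hsqinv : ∀ x ∈ R, Sq x⁻¹ → Sq x := fun x _ ⟨y, hy, h⟩ =>
    ⟨y⁻¹, inv_mem hy, by rw [inv_pow, ← h, inv_inv]⟩
  let E : T → T := fun r => s * r * s⁻¹ * r⁻¹
  have hEm : ∀ r ∈ R, E r ∈ R := fun r hr => mul_mem (hs r hr) (inv_mem hr)
  have hEmul : ∀ a ∈ R, ∀ b ∈ R, E (a * b) = E a * E b := fun a ha b hb => by
    show s * (a * b) * s⁻¹ * (a * b)⁻¹ = s * a * s⁻¹ * a⁻¹ * (s * b * s⁻¹ * b⁻¹)
    have h1 := hcomm a⁻¹ (inv_mem ha) _ (hEm b hb)
    calc s * (a * b) * s⁻¹ * (a * b)⁻¹ = s * a * s⁻¹ * ((s * b * s⁻¹ * b⁻¹) * a⁻¹) := by group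
      _ = s * a * s⁻¹ * (a⁻¹ * (s * b * s⁻¹ * b⁻¹)) := by rw [← h1]
      _ = _ := by simp only [mul_assoc]
  have hEsq : ∀ y ∈ R, Sq (E (y ^ 2)) := fun y hy =>
    ⟨E y, hEm y hy, by rw [sq, sq, hEmul y hy y hy]⟩
  intro r hr
  by_contra hl
  set l := E r with hldef
  have hlR : l ∈ R := hEm r hr
  have hnl : ¬ Sq l := hl
  have hlN : l ∈ N := hN s r
  have hsl : s * l * s⁻¹ = l⁻¹ := by
    have h1 : s * s * r * (s * s)⁻¹ = r := by
      rw [hcomm _ hs2 r hr, mul_inv_cancel_right]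
    calc s * l * s⁻¹ = (s * s * r * (s * s)⁻¹) * (s * r * s⁻¹)⁻¹ := by
          rw [hldef]; show s * (s * r * s⁻¹ * r⁻¹) * s⁻¹ = _; group
      _ = r * (s * r * s⁻¹)⁻¹ := by rw [h1]
      _ = l⁻¹ := by rw [hldef]; show _ = (s * r * s⁻¹ * r⁻¹)⁻¹; group
  have hEl : E l = l⁻¹ * l⁻¹ := by show s * l * s⁻¹ * l⁻¹ = _; rw [hsl]
  have hne : ¬ Sq r := fun ⟨y, hy, h⟩ => hnl (by rw [hldef, h]; exact hEsq y hy)
  have hnel : ¬ Sq (r * l) := fun ⟨y, hy, h⟩ => hnl (hsqinv l hlR (by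
    have h1 : E (r * l) = l⁻¹ := by
      rw [hEmul r hr l hlR, hEl, ← hldef, ← mul_assoc, mul_inv_cancel, one_mul]
    rw [← h1, h]
    exact hEsq y hy))
  obtain ⟨x, rfl⟩ : ∃ x, n = x + 2 := ⟨n - 2, by omega⟩
  rw [show x + 2 - 1 = x + 1 from rfl] at hnon
  have hexp : ∀ z ∈ R, (z ^ 2 ^ (x + 1)) ^ 2 = 1 := fun z hz => by
    rw [← pow_mul, ← pow_succ]
    simpa using congrArg Subtype.val (hexp' ⟨z, hz⟩)
  set uu := r ^ 2 ^ (x + 1) with huu
  have huN : uu ∉ N := by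
    intro h
    have h1 : (⟨uu, h⟩ : N) = ⟨l ^ 2 ^ (x + 1), pow_mem hlN _⟩ :=
      involution_unique (Subtype.ext (hexp r hr)) (Subtype.ext (hexp l hlR))
        (fun e => hnon r hr hne (congrArg Subtype.val e))
        (fun e => hnon l hlR hnl (congrArg Subtype.val e))
    refine hnon _ (mul_mem hr hlR) hnel ?_
    rw [(show Commute r l from hcomm r hr l hlR).mul_pow, show r ^ 2 ^ (x + 1) = l ^ 2 ^ (x + 1)
      from congrArg Subtype.val h1, ← sq, hexp l hlR]
  -- a representative of the square of `s`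
  set t := s * s with ht
  have hEt : E t = 1 := by show s * (s * s) * s⁻¹ * (s * s)⁻¹ = 1; group
  obtain ⟨y, hy, hyN⟩ : ∃ y ∈ R, t * (y⁻¹ * y⁻¹) ∈ N := by
    have hlift : ∀ w : R, (∃ y : R, w = y ^ 2) → Sq (w : T) := fun w ⟨y, h⟩ =>
      ⟨y, y.2, by simpa using congrArg Subtype.val h⟩
    have hn1 : ∀ (w : T) (hw : w ∈ R), ¬ Sq w → ¬ ∃ y : R, (⟨w, hw⟩ : R) = y ^ 2 :=
      fun w hw h hh => h (hlift _ hh)
    rcases hcover ⟨r, hr⟩ ⟨l, hlR⟩ (hn1 r hr hne) (hn1 l hlR hnl)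
        (hn1 (r * l) (mul_mem hr hlR) hnel) ⟨t, hs2⟩ with h | h | h | h
    · obtain ⟨y, hy, h⟩ := hlift _ h
      refine ⟨y, hy, ?_⟩
      change t = y ^ 2 at h
      rw [h, sq, ← mul_assoc, mul_inv_cancel_right, mul_inv_cancel]
      exact one_mem N
    · exfalso
      obtain ⟨y, hy, h⟩ := hlift _ h
      change t * r = y ^ 2 at h
      have h1 := hEsq y hy
      rw [← h, hEmul t hs2 r hr, hEt, one_mul] at h1
      exact hnl h1
    · obtain ⟨y, hy, h⟩ := hlift _ h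
      change t * l = y ^ 2 at h
      refine ⟨y, hy, ?_⟩
      rw [show t = y ^ 2 * l⁻¹ by rw [← h, mul_inv_cancel_right], sq,
        hcomm _ (mul_mem hy hy) _ (inv_mem hlR), mul_assoc, ← mul_assoc (y * y),
        mul_inv_cancel_right, mul_inv_cancel, mul_one]
      exact inv_mem hlN
    · exfalso
      obtain ⟨y, hy, h⟩ := hlift _ h
      change t * (r * l) = y ^ 2 at h
      have h1 := hEsq y hy
      rw [← h, hEmul t hs2 _ (mul_mem hr hlR), hEt, one_mul, hEmul r hr l hlR, hEl, ← hldef,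
        ← mul_assoc, mul_inv_cancel, one_mul] at h1
      exact hnl (hsqinv l hlR h1)
  set z := y⁻¹ * s with hz
  have hzl : ∀ w ∈ R, z * w * z⁻¹ = s * w * s⁻¹ := fun w hw => by
    rw [show z * w * z⁻¹ = y⁻¹ * (s * w * s⁻¹) * y by rw [hz]; group,
      hcomm _ (inv_mem hy) _ (hs w hw), inv_mul_cancel_right]
  have hlsq : l ≠ l⁻¹ := fun h => hnon l hlR hnl (by
    rw [pow_succ', pow_mul, sq]
    nth_rw 2 [h]
    rw [mul_inv_cancel, one_pow])
  have hfalse : ∀ w : T, (∀ v ∈ R, w * v * w⁻¹ = s * v * s⁻¹) → w ∉ N := fun w hw hwN => by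
    have h1 : (⟨w, hwN⟩ : N) * ⟨l, hlN⟩ = ⟨l, hlN⟩ * ⟨w, hwN⟩ :=
      (IsCyclic.isMulCommutative (α := N)).is_comm.comm _ _
    have h2 : w * l = l * w := congrArg Subtype.val h1
    refine hlsq ?_
    rw [← hsl, ← hw l hlR, h2, mul_inv_cancel_right]
  have hzN : z ∉ N := hfalse z hzl
  have hz2 : z ^ 2 ∈ N := by
    have h1 : z ^ 2 = y⁻¹ * (s * y⁻¹ * s⁻¹ * y⁻¹⁻¹) * y⁻¹ * t := by rw [sq, hz, ht]; group
    rw [h1]
    have h2 : E y⁻¹ ∈ N := hN s y⁻¹
    have h3 : y⁻¹ * E y⁻¹ * y⁻¹ * t = E y⁻¹ * (t * (y⁻¹ * y⁻¹)) := by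
      rw [hcomm _ (inv_mem hy) _ (hEm _ (inv_mem hy)), mul_assoc (E y⁻¹), mul_assoc (E y⁻¹),
        hcomm t hs2 _ (mul_mem (inv_mem hy) (inv_mem hy))]
    exact h3 ▸ mul_mem h2 hyN
  haveI := hq
  have h4 : (z : T ⧸ N) = uu := involution_unique
    (by rw [← QuotientGroup.mk_pow, QuotientGroup.eq_one_iff]; exact hz2)
    (by rw [← QuotientGroup.mk_pow, huu, hexp r hr, QuotientGroup.mk_one])
    (fun e => hzN ((QuotientGroup.eq_one_iff z).1 e))
    (fun e => huN ((QuotientGroup.eq_one_iff uu).1 e))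
  refine hfalse (z * uu⁻¹) (fun v hv => ?_) ?_
  · have hu : uu ∈ R := pow_mem hr _
    rw [show z * uu⁻¹ * v * (z * uu⁻¹)⁻¹ = z * (uu⁻¹ * v * uu) * z⁻¹ by group,
      hcomm _ (inv_mem hu) v hv, inv_mul_cancel_right, hzl v hv]
  · rw [← QuotientGroup.eq_one_iff, QuotientGroup.mk_mul, QuotientGroup.mk_inv, h4, mul_inv_cancel]

/-- A nonabelian group of order eight. -/
theorem dihedral_or_quaternion_eight {H : Type u} [Group H] [Finite H] (h8 : Nat.card H = 8)
    (hna : ¬ IsMulCommutative H) :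
    Nonempty (H ≃* DihedralGroup 4) ∨ Nonempty (H ≃* QuaternionGroup 2) := by
  have h1 : commutator H ≠ ⊥ := fun h => hna (isMulCommutative_iff.2 fun x y =>
    commutatorElement_eq_one_iff_mul_comm.1 (Subgroup.mem_bot.1 (h ▸
      Subgroup.commutator_mem_commutator (Subgroup.mem_top x) (Subgroup.mem_top y))))
  have h2 := (Subgroup.one_lt_card_iff_ne_bot _).2 h1
  obtain ⟨k, r, e, a, b, ht, F⟩ := CfsgLib.Invol.exists_std_frame
    (IsPGroup.of_card (p := 2) (n := 3) (h8.trans (by norm_num))) hna (by omega)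
  have hk : k = 2 := by
    have := F.card
    rw [h8] at this
    exact Nat.pow_right_injective (le_refl 2) (show 2 ^ k = 2 ^ 2 by omega)
  subst hk
  rcases CfsgLib.Invol.cases_of_std ht F with h | h | ⟨j, hj, hc, -⟩
  · exact Or.inl h
  · exact Or.inr h
  · rw [h8] at hc
    have : (2 : ℕ) ^ 4 ≤ 2 ^ (j + 1) := Nat.pow_le_pow_right two_pos (by omega)
    omega

theorem no_small_nonabelian {P : Type u} [Group P] [Finite P] (hP : IsPGroup 2 P)
    (hm : Cfsg.IsMetacyclic P) (hd : ¬ ∃ m : ℕ, Nonempty (P ≃* DihedralGroup m))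
    (hq : ¬ ∃ m : ℕ, Nonempty (P ≃* QuaternionGroup m)) (hsd : ¬ Cfsg.IsQuasiDihedral P)
    (H : Subgroup P) (h8 : Nat.card H = 8) (hna : ¬ IsMulCommutative H) : False := by
  rcases Cfsg.Agent.S4398.result hP (CfsgLib.PGroup.MetaTwo.sectionalPRank_two hm)
      ⟨H, dihedral_or_quaternion_eight h8 hna⟩ with ⟨k, hk⟩ | ⟨k, hc, a, b, ha, hb, hab⟩ | ⟨k, hk⟩
  · exact hd ⟨_, hk⟩
  · exact hsd ⟨k + 3, by omega, hc, a, b, ha, hb, by
      rwa [show k + 3 - 1 = k + 2 by omega]⟩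
  · exact hq ⟨_, hk⟩

section Normal

variable {Ω : Type u} [Group Ω] {S : Subgroup Ω} [Finite S] {F : FusionSystem S}
variable {E R : Subgroup Ω}

/-- Restriction to an invariant subgroup. -/
noncomputable def resAut [Finite R] (hRE : R ≤ E) (X : Subgroup (MulAut E))
    (hinv : ∀ a ∈ X, ∀ x ∈ R, autFun a x ∈ R) : X →* MulAut R :=
  MonoidHom.mk' (fun a => MulEquiv.ofBijective
      ({ toFun := fun x => ⟨autFun (a : MulAut E) x, hinv a a.2 x x.2⟩
         map_one' := Subtype.ext (autFun_map_one _)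
         map_mul' := fun x y => Subtype.ext (autFun_map_mul _ (hRE x.2) (hRE y.2)) } : R →* R)
      (Finite.injective_iff_bijective.1 fun x y h => by
        have h1 : ((a : MulAut E) ⟨x, hRE x.2⟩ : Ω) = (a : MulAut E) ⟨y, hRE y.2⟩ := by
          rw [← autFun_apply _ (hRE x.2), ← autFun_apply _ (hRE y.2)]
          exact congrArg Subtype.val h
        exact Subtype.ext (congrArg Subtype.val ((a : MulAut E).injective (Subtype.ext h1)) :)))
    fun a b => MulEquiv.ext fun x => Subtype.ext (autFun_mul _ _ (hRE x.2))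

theorem resAut_apply [Finite R] (hRE : R ≤ E) (X : Subgroup (MulAut E))
    (hinv : ∀ a ∈ X, ∀ x ∈ R, autFun a x ∈ R) (a : X) (x : R) :
    ((resAut hRE X hinv a x : R) : Ω) = autFun (a : MulAut E) x := rfl

theorem isNormal_metacyclic_two (hS : IsPGroup 2 S) (hF : F.IsSaturated 2) {P : Subgroup Ω}
    (hP : F.StronglyClosed P) (hm : Cfsg.IsMetacyclic P)
    (hd : ¬ ∃ m : ℕ, Nonempty (P ≃* DihedralGroup m))
    (hq : ¬ ∃ m : ℕ, Nonempty (P ≃* QuaternionGroup m)) (hsd : ¬ Cfsg.IsQuasiDihedral P) :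
    F.IsNormal P := by
  haveI : Fact (Nat.Prime 2) := ⟨Nat.prime_two⟩
  have hPS := hP.1
  haveI := finite_of_le hPS
  have hPp : IsPGroup 2 P := hS.to_le hPS
  have hPn := le_normalizerIn_of_stronglyClosed hP
  refine isNormal_of_stronglyClosed_le hS hF hP fun E hE => ?_
  obtain ⟨hc, hr⟩ := isEssential_centric_radical hS hE
  have hES := hc.1
  haveI := finite_of_le hES
  haveI := finite_mulAut (P := E)
  set X := F.autGroup E with hX
  set R := E ⊓ P with hR
  have hRE : R ≤ E := inf_le_left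
  haveI : Finite R := finite_of_le (hRE.trans hES)
  have hinv : ∀ a ∈ X, ∀ x ∈ R, autFun a x ∈ R := fun a ha x hx =>
    autInvariant_of_stronglyClosed hP hES ha hx
  set ρ := resAut hRE X hinv with hρ
  set M := relStab X E R hinv le_rfl hRE (fun a _ x hx => autFun_mem a hx) with hMdef
  obtain ⟨e0, he0⟩ := IsPGroup.iff_card.1 hS
  have hMp : ∀ a : X, a ∈ M → (∃ j, ρ a ^ 2 ^ j = 1) → ∃ k, a ^ 2 ^ k = 1 := by
    rintro a ha ⟨j, hj⟩
    refine ⟨j + e0, Subtype.ext (autFun_ext fun x hx => ?_)⟩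
    simp only [Subgroup.coe_pow, Subgroup.coe_one]
    rw [autFun_one hx, pow_add, pow_mul]
    refine pow_fix_step hES he0 le_rfl hRE (fun z hz => ?_) (fun z hz => ?_) x hx
    · have h1 := congrArg (fun f : MulAut R => ((f ⟨z, hz⟩ : R) : Ω)) hj
      simp only [← map_pow] at h1
      rw [resAut_apply, Subgroup.coe_pow] at h1
      exact h1
    · have h1 := mem_relStab.1 (pow_mem ha (2 ^ j)) z hz
      rwa [Subgroup.coe_pow] at h1
  refine le_of_conjAut_mem_pCore hS hPS hPn hc hr fun s hsN hsP hm' => ?_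
  set cs : X := ⟨conjAut s hsN, hm'⟩ with hcs
  have hsM : cs ∈ M := fun x hx => by
    rw [autFun_conjAut hsN hx]
    refine Subgroup.mem_inf.2 ⟨mul_mem (inv_mem hx) ((Subgroup.mem_normalizer_iff.1 hsN x).1 hx), ?_⟩
    have := mul_mem ((Subgroup.mem_normalizer_iff''.1 (hPn (hES hx)).2 s).1 hsP) (inv_mem hsP)
    simpa [mul_assoc] using this
  by_cases hA : IsPGroup 2 (MulAut R)
  · haveI hMn : M.Normal := relStab_normal
    refine CfsgLib.Coprime.le_pCore (hN := hMn) (fun a => ?_) hsM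
    obtain ⟨k, hk⟩ := hMp a a.2 (hA (ρ a))
    exact ⟨k, Subtype.ext (by simpa using hk)⟩
  set K := M ⊓ (CfsgLib.PGroup.MetaTwo.frAut.comp ρ).ker with hKdef
  haveI hMn : M.Normal := relStab_normal
  haveI hKn : K.Normal := Subgroup.normal_inf_normal _ _
  have hRp : IsPGroup 2 R := hS.to_le (hRE.trans hES)
  have hKp : IsPGroup 2 K := fun a => by
    obtain ⟨ha1, ha2⟩ := Subgroup.mem_inf.1 a.2
    obtain ⟨j, hj⟩ := CfsgLib.PGroup.MetaTwo.isPGroup_ker_frAut hRp
      (⟨ρ a, ha2⟩ : (CfsgLib.PGroup.MetaTwo.frAut (R := R)).ker)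
    obtain ⟨k, hk⟩ := hMp a ha1 ⟨j, by simpa using congrArg Subtype.val hj⟩
    exact ⟨k, Subtype.ext (by simpa using hk)⟩
  have hKle : K ≤ Cfsg.pCore 2 X := CfsgLib.Coprime.le_pCore (hN := hKn) hKp
  set τ := CfsgLib.PGroup.MetaTwo.frAut (ρ cs) with hτ
  by_cases hτ1 : τ = 1
  · exact hKle ⟨hsM, hτ1⟩
  by_cases hsE : s ∈ E
  · have h1 : conjAut s hsN ∈ Cfsg.Inn E := by
      rw [inn_eq_autInducedBy]
      exact conjAut_mem hsE hsN
    rw [← hr.2] at h1
    obtain ⟨c, hc', hce⟩ := h1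
    rwa [show c = cs from Subtype.ext hce] at hc'
  exfalso
  -- `R` is homocyclic
  have hRmeta : Cfsg.IsMetacyclic R := by
    obtain ⟨N, hN, hNc, hNq⟩ := hm
    have e := Subgroup.subgroupOfEquivOfLe (inf_le_right : R ≤ P)
    obtain ⟨N', hN', h1, h2⟩ := CfsgLib.CFun.MetaAct.metacyclic_subgroup ⟨N, hN, hNc, hNq⟩ (R.subgroupOf P)
    haveI := hN'
    haveI := h1
    haveI := h2
    haveI : (N'.map e.toMonoidHom).Normal := Normal.map hN' _ e.surjective
    exact ⟨N'.map e.toMonoidHom, inferInstance, isCyclic_of_surjective _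
      (e.toMonoidHom.subgroupMap_surjective N'), isCyclic_of_surjective
      (QuotientGroup.congr N' (N'.map e.toMonoidHom) e rfl) (MulEquiv.surjective _)⟩
  have hsmall := no_small_nonabelian hPp hm hd hq hsd
  set R' := R.subgroupOf P with hR'
  have eR : R' ≃* R := Subgroup.subgroupOfEquivOfLe inf_le_right
  rcases CfsgLib.PGroup.MetaTwo.homocyclic_or_quaternion hRp hRmeta hA with ⟨⟨e⟩⟩ | ⟨n, hn, ⟨φ⟩⟩
  · refine hsmall R' ?_ fun h => ?_
    · rw [Nat.card_congr (eR.trans e).toEquiv, Nat.card_eq_fintype_card, QuaternionGroup.card]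
    · have h' := h.is_comm.comm ((eR.trans e).symm (QuaternionGroup.a 1))
        ((eR.trans e).symm (QuaternionGroup.xa 0))
      rw [← map_mul, ← map_mul, (eR.trans e).symm.injective.eq_iff] at h'
      revert h'
      decide
  obtain ⟨q, σ, hq', hq2, hσ⟩ := CfsgLib.PGroup.MetaTwo.exists_odd_aut hA
  have hidx := (CfsgLib.PGroup.MetaTwo.index_frattini_eq_and_moves hRp hRmeta hq' hq2 hσ).1
  obtain ⟨hRcomm, -, -, -⟩ := plane_facts hn φ
  have hRs : ∀ w ∈ R, s * w * s⁻¹ ∈ R := fun w hw => by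
    have := hinv _ hm' w hw
    rwa [autFun_conjAut hsN (hRE hw)] at this
  have hτsq : τ ^ 2 = 1 := by
    have hVexp : ∀ v : R ⧸ frattini R, v ^ 2 = 1 := fun v => by
      obtain ⟨x, rfl⟩ := QuotientGroup.mk_surjective v
      rw [← QuotientGroup.mk_pow, QuotientGroup.eq_one_iff]
      exact CfsgLib.Coprime.pow_mem_frattini hRp x
    have hτp : IsPGroup 2 (zpowers τ) := by
      obtain ⟨k, hk⟩ := (isPGroup_autInducedBy hS (P := E))
        ⟨conjAut s hsN, conjAut_mem (hPS hsP) hsN⟩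
      obtain ⟨l, -, hl⟩ := (Nat.dvd_prime_pow Nat.prime_two).1 (orderOf_dvd_of_pow_eq_one
        (show τ ^ 2 ^ k = 1 by
          rw [hτ, ← map_pow, ← map_pow, show cs ^ 2 ^ k = 1 from
            Subtype.ext (congrArg Subtype.val hk :), map_one, map_one]))
      exact IsPGroup.of_card (n := l) (by rw [Nat.card_zpowers, hl])
    have h1 := CfsgLib.Fusion.RankTwo.card_pGroup_aut_le
      (fun a b => by
        obtain ⟨x, rfl⟩ := QuotientGroup.mk_surjective a
        obtain ⟨y, rfl⟩ := QuotientGroup.mk_surjective b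
        rw [← QuotientGroup.mk_mul, hRcomm, QuotientGroup.mk_mul])
      hVexp (by rw [← Subgroup.index_eq_card, hidx]; norm_num) _ hτp
    rw [Nat.card_zpowers] at h1
    have h2 : orderOf τ ∣ 2 := by
      have := orderOf_pos τ
      interval_cases hh : orderOf τ
      · exact one_dvd 2
      · exact dvd_rfl
    exact orderOf_dvd_iff_pow_eq_one.1 h2
  have hssR : s * s ∈ R := by
    refine ⟨?_, mul_mem hsP hsP⟩
    have h1 : cs ^ 2 ∈ Cfsg.pCore 2 X := hKle (Subgroup.mem_inf.2 ⟨pow_mem hsM 2,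
      MonoidHom.mem_ker.2 (by rw [map_pow]; exact hτsq)⟩)
    have h2 : ((cs ^ 2 : X) : MulAut E) ∈ Cfsg.Inn E := hr.2 ▸ ⟨_, h1, rfl⟩
    refine mem_of_conjAut_mem_inn (mul_mem (hPS hsP) (hPS hsP)) (mul_mem hsN hsN) hES
      (centralizerIn_le_of_isCentric hc) ?_
    have h3 : conjAut (P := E) (s * s) (mul_mem hsN hsN) = ((cs ^ 2 : X) : MulAut E) := by
      rw [Subgroup.coe_pow, sq]
      exact map_mul E.normalizerMonoidHom ⟨s, hsN⟩ ⟨s, hsN⟩
    rwa [h3]
  have hmove : ¬ ∀ r ∈ R, ∃ y ∈ R, s * r * s⁻¹ * r⁻¹ = y ^ 2 := fun h => hτ1 (MulEquiv.ext fun v => by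
    obtain ⟨x, rfl⟩ := QuotientGroup.mk_surjective v
    show ((ρ cs x : R) : R ⧸ frattini R) = x
    obtain ⟨y, hy, hye⟩ := h x x.2
    refine (QuotientGroup.eq.2 ?_).symm
    have h1 : x⁻¹ * ρ cs x = (⟨y, hy⟩ : R) ^ 2 := Subtype.ext (by
      rw [hRcomm x⁻¹]
      simp only [Subgroup.coe_mul, Subgroup.coe_inv, Subgroup.coe_pow, hρ, resAut_apply]
      rw [autFun_conjAut hsN (hRE x.2), hye])
    rw [h1]
    exact CfsgLib.Coprime.pow_mem_frattini hRp _)
  have hs' : ∀ r ∈ R', (⟨s, hsP⟩ : P) * r * (⟨s, hsP⟩ : P)⁻¹ ∈ R' := fun r hr => hRs r hr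
  rcases (show n = 1 ∨ 2 ≤ n by omega) with rfl | hn2
  · -- a subgroup of order eight
    set s' : P := ⟨s, hsP⟩ with hs'def
    set H := R' ⊔ zpowers s' with hH
    have hnorm : zpowers s' ≤ normalizer (R' : Set P) := zpowers_le.2
      (mem_normalizer_iff.2 fun r => ⟨fun hr => hs' r hr, fun hr => by
        have h1 := hs' _ hr
        have h2 : (s' * s') ∈ R' := hssR
        have h3 := R'.mul_mem (R'.mul_mem (R'.inv_mem h2) h1) h2
        convert h3 using 1
        group⟩)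
    have hR'n : (R'.subgroupOf H).Normal := (Subgroup.normal_subgroupOf_iff_le_normalizer le_sup_left).2
      (sup_le le_normalizer hnorm)
    have hR'card : Nat.card R' = 4 := by
      rw [Nat.card_congr (eR.trans φ).toEquiv]
      simp [Nat.card_prod]
    have hidx2 : (R'.subgroupOf H).index = 2 := by
      rw [Subgroup.index_eq_card]
      have hs1 : ((⟨s', mem_sup_right (mem_zpowers s')⟩ : H) : H ⧸ R'.subgroupOf H) ≠ 1 := fun e =>
        hsE (show s' ∈ R' from mem_subgroupOf.1 ((QuotientGroup.eq_one_iff _).1 e)).1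
      refine le_antisymm ?_ (Finite.one_lt_card_iff_nontrivial.2 ⟨_, _, hs1⟩)
      have hz : ∀ y : H ⧸ R'.subgroupOf H,
          y ∈ zpowers ((⟨s', mem_sup_right (mem_zpowers s')⟩ : H) : H ⧸ R'.subgroupOf H) := by
        intro y
        obtain ⟨⟨w, hw⟩, rfl⟩ := QuotientGroup.mk_surjective y
        have hw' : w ∈ ((R' : Set P) * (zpowers s' : Set P)) := by
          rw [← Subgroup.coe_mul_of_right_le_normalizer_left R' (zpowers s') hnorm]
          exact hw
        obtain ⟨r, hr, c, hc, rfl⟩ := Set.mem_mul.1 hw'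
        obtain ⟨i, rfl⟩ := mem_zpowers_iff.1 hc
        refine mem_zpowers_iff.2 ⟨i, ?_⟩
        rw [← QuotientGroup.mk_zpow, QuotientGroup.eq, mem_subgroupOf]
        simp only [Subgroup.coe_mul, Subgroup.coe_inv, Subgroup.coe_zpow]
        have := (mem_normalizer_iff''.1 (hnorm (zpow_mem (mem_zpowers s') i)) r).1 hr
        simpa [mul_assoc] using this
      rw [← Subgroup.card_top, ← eq_top_iff.2 (fun y _ => hz y), Nat.card_zpowers]
      refine Nat.le_of_dvd two_pos (orderOf_dvd_of_pow_eq_one ?_)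
      rw [← QuotientGroup.mk_pow, QuotientGroup.eq_one_iff, mem_subgroupOf, Subgroup.coe_pow, sq]
      exact hssR
    refine hsmall H ?_ fun hab => hmove fun r hr => ⟨1, one_mem _, ?_⟩
    · rw [← (R'.subgroupOf H).card_mul_index, hidx2,
        Nat.card_congr (Subgroup.subgroupOfEquivOfLe (le_sup_left : R' ≤ H)).toEquiv, hR'card]
    · have hrP : r ∈ P := hr.2
      have h1 := hab.is_comm.comm (⟨s', mem_sup_right (mem_zpowers s')⟩ : H)
        ⟨⟨r, hrP⟩, mem_sup_left hr⟩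
      have h2 : s * r = r * s := congrArg (fun w : H => ((w : P) : Ω)) h1
      rw [h2, mul_inv_cancel_right, mul_inv_cancel, one_pow]
  · obtain ⟨N, hN, hNc, hNq⟩ := hm
    haveI := hN
    haveI := hNc
    refine hmove fun r hr => ?_
    obtain ⟨y, hy, he⟩ := commutator_square N hNq R' hn2 (eR.trans φ) ⟨s, hsP⟩ hs' hssR
      ⟨r, hr.2⟩ hr
    exact ⟨y, hy, by simpa using congrArg Subtype.val he⟩

end Normal

end CfsgLib.Fusion.MetaTwo
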