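import Cfsg.Agent.Lib.Fusion.System.SimpleGroupCriterion
import Cfsg.Agent.Lib.Invol.QDFusion
import Cfsg.Agent.S1202
import Cfsg.Agent.S3116
import Cfsg.Agent.Lib.CFun.IndexP

/-!
# Simple fusion systems over quasidihedral and wreathed 2-groups
-/

set_option autoImplicit false
set_option linter.style.haveILetI false

open Subgroup

namespace CfsgLib.Fusion

variable {G : Type*} [Group G] [Finite G]

theorem isPGroup_mulAut_wreathed {W : Type*} [Group W] [Finite W] (h : Cfsg.IsWreathed W) :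
    IsPGroup 2 (MulAut W) := by
  obtain ⟨n, hn, hcard, hrest⟩ := id h
  have hW : Cfsg.IsWreathed W := h
  have key : IsPGroup 2 (MulAut (⊤ : Subgroup W)) := by
    by_contra hA
    have h1 := (Cfsg.Agent.S1202.result hW n hcard ⊤ le_top hA).1
    rw [top_le_iff.1 (Subgroup.le_normalizer (H := (⊤ : Subgroup W))),
      Subgroup.relIndex_self] at h1
    omega
  exact key.of_equiv (MulAut.congr Subgroup.topEquiv)

/-- A 2-subgroup with a 2-group of automorphisms is normalized only by itself and its centralizer. -/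
theorem normalizer_le_of_isPGroup_mulAut (S : Sylow 2 G)
    (hA : IsPGroup 2 (MulAut (S : Subgroup G))) :
    Subgroup.normalizer ((S : Subgroup G) : Set G) ≤
      (S : Subgroup G) ⊔ Subgroup.centralizer ((S : Subgroup G) : Set G) := by
  haveI : Fact (Nat.Prime 2) := ⟨Nat.prime_two⟩
  intro g hg
  obtain ⟨a, b, rfl, ha, hb, ⟨r, har⟩, hbo⟩ := CfsgLib.CFun.exists_parts (p := 2) g
  refine mul_mem (mem_sup_left ?_) (mem_sup_right ?_)
  · have h1 : Subgroup.zpowers a ⊓ Subgroup.normalizer ((S : Subgroup G) : Set G) =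
        Subgroup.zpowers a ⊓ (S : Subgroup G) :=
      (isPGroup_zpowers_of_pow har).inf_normalizer_sylow S
    have h2 : a ∈ Subgroup.zpowers a ⊓ Subgroup.normalizer ((S : Subgroup G) : Set G) :=
      Subgroup.mem_inf.2 ⟨mem_zpowers a, zpowers_le.2 hg ha⟩
    rw [h1] at h2
    exact h2.2
  · have hb' := zpowers_le.2 hg hb
    set φ := (S : Subgroup G).normalizerMonoidHom ⟨b, hb'⟩ with hφ
    obtain ⟨k, hk⟩ := hA φ
    have hd1 : orderOf φ ∣ 2 ^ k := orderOf_dvd_of_pow_eq_one hk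
    have hd2 : orderOf φ ∣ orderOf b :=
      (orderOf_map_dvd _ _).trans (dvd_of_eq (Subgroup.orderOf_mk b hb'))
    have h1 : orderOf φ = 1 :=
      Nat.eq_one_of_dvd_coprimes (Nat.Coprime.pow_right k hbo) hd2 hd1
    rw [orderOf_eq_one_iff] at h1
    rw [Subgroup.mem_centralizer_iff]
    intro x hx
    have h3 := DFunLike.congr_fun h1 (⟨x, hx⟩ : (S : Subgroup G))
    have h2 : b * x * b⁻¹ = x := congrArg Subtype.val h3
    calc x * b = b * x * b⁻¹ * b := by rw [h2]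
      _ = b * x := by group

/-- A subgroup closed under fusion with all involutions fused contains all of them. -/
theorem invol_mem_of_closed {S T : Subgroup G} (hS : IsPGroup 2 S) (hTS : T ≤ S) (hne : T ≠ ⊥)
    (hcl : ∀ x ∈ T, ∀ g : G, g * x * g⁻¹ ∈ S → g * x * g⁻¹ ∈ T)
    (hinv : ∀ x y : G, x ∈ S → y ∈ S → orderOf x = 2 → orderOf y = 2 → ∃ g, g * x * g⁻¹ = y)
    {y : G} (hy : y ∈ S) (hy2 : orderOf y = 2) : y ∈ T := by
  haveI : Fact (Nat.Prime 2) := ⟨Nat.prime_two⟩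
  haveI : Nontrivial T := (Subgroup.nontrivial_iff_ne_bot T).2 hne
  obtain ⟨k, hk, hc⟩ := (hS.to_le hTS).nontrivial_iff_card.1 ‹_›
  obtain ⟨⟨t, ht⟩, hto⟩ := exists_prime_orderOf_dvd_card' (G := T) 2 (hc ▸ dvd_pow_self 2 hk.ne')
  rw [Subgroup.orderOf_mk] at hto
  obtain ⟨g, hg⟩ := hinv t y (hTS ht) hy hto hy2
  exact hg ▸ hcl t ht g (hg.symm ▸ hy)

/-- Quasidihedral Sylow subgroup, one class of involutions and one of elements of order four. -/
theorem hasSimpleData_quasiDihedral (S : Sylow 2 G)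
    (hq : Cfsg.IsQuasiDihedral (S : Subgroup G))
    (hinv : ∀ x y : G, x ∈ (S : Subgroup G) → y ∈ (S : Subgroup G) → orderOf x = 2 → orderOf y = 2 →
      ∃ g, g * x * g⁻¹ = y)
    (hfour : ∀ x y : G, x ∈ (S : Subgroup G) → y ∈ (S : Subgroup G) → orderOf x = 4 → orderOf y = 4 →
      ∃ g, g * x * g⁻¹ = y) :
    HasSimpleData (S : Subgroup G) := by
  obtain ⟨k, a, b, hk, hc, Q⟩ := CfsgLib.Invol.exists_qdFrame hq
  refine ⟨fun hb => ?_, normalizer_le_of_isPGroup_mulAut S (Cfsg.Agent.S3116.result S.2 (Or.inr hq)),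
    fun T hTS hne hcl => ?_⟩
  · rw [hb, Subgroup.card_bot] at hc
    exact absurd hc (Nat.one_lt_two_pow (by omega)).ne
  set h : ℤ := 2 ^ (k - 2)
  have h2 : ∀ i : ℤ, 2 ∣ i → CfsgLib.Invol.refG a b i ∈ T := fun i hi =>
    invol_mem_of_closed S.2 hTS hne hcl hinv (CfsgLib.Invol.refG_mem a b i)
      (Q.orderOf_refG_even hi)
  have hb0 := h2 0 (dvd_zero 2)
  have ha2 : CfsgLib.Invol.rotG a 2 ∈ T := by
    have := mul_mem (h2 2 dvd_rfl) (inv_mem hb0)
    have e := CfsgLib.Invol.refG_eq a b 2 0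
    rw [add_zero] at e
    rwa [e, mul_inv_cancel_right] at this
  have hquart : CfsgLib.Invol.rotG a h ∈ T := by
    obtain ⟨u, hu⟩ := Q.even
    have e : CfsgLib.Invol.rotG a h = CfsgLib.Invol.rotG a 2 ^ u := by
      simp only [CfsgLib.Invol.rotG]
      rw [← Subgroup.coe_zpow, ← zpow_mul, hu]
    rw [e]
    exact zpow_mem ha2 u
  have h4 : CfsgLib.Invol.refG a b 1 ∈ T := by
    obtain ⟨g, hg⟩ := hfour _ _ (hTS hquart) (CfsgLib.Invol.refG_mem a b 1) Q.orderOf_quarterG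
      (Q.orderOf_refG_odd (by norm_num))
    exact hg ▸ hcl _ hquart g (hg.symm ▸ CfsgLib.Invol.refG_mem a b 1)
  have ha : CfsgLib.Invol.rotG a 1 ∈ T := by
    have := mul_mem h4 (inv_mem hb0)
    have e := CfsgLib.Invol.refG_eq a b 1 0
    rw [add_zero] at e
    rwa [e, mul_inv_cancel_right] at this
  intro x hx
  obtain ⟨i, hi | hi⟩ := Q.exists_eq ⟨x, hx⟩
  · rw [show x = (CfsgLib.Invol.rotG a 1) ^ i by
      simp only [CfsgLib.Invol.rotG, zpow_one]
      rw [← Subgroup.coe_zpow, ← hi]]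
    exact zpow_mem ha i
  · rw [show x = (CfsgLib.Invol.rotG a 1) ^ i * CfsgLib.Invol.refG a b 0 by
      simp only [CfsgLib.Invol.rotG, CfsgLib.Invol.refG, zpow_one, zpow_zero, one_mul]
      rw [← Subgroup.coe_zpow, ← Subgroup.coe_mul, ← hi]]
    exact mul_mem (zpow_mem ha i) hb0

/-- Wreathed Sylow subgroup generated by `x, z` with `x` fused to `x (z x z⁻¹)⁻¹`. -/
theorem hasSimpleData_wreathed (S : Sylow 2 G) (hw : Cfsg.IsWreathed (S : Subgroup G))
    (hinv : ∀ x y : G, x ∈ (S : Subgroup G) → y ∈ (S : Subgroup G) → orderOf x = 2 → orderOf y = 2 →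
      ∃ g, g * x * g⁻¹ = y)
    {x z : G} (hx : x ∈ (S : Subgroup G)) (hz : z ∈ (S : Subgroup G)) (hz2 : orderOf z = 2)
    (hgen : (S : Subgroup G) ≤ Subgroup.closure {x, z}) (hfus : ∃ g, g * (x * (z * x * z⁻¹)⁻¹) * g⁻¹ = x) :
    HasSimpleData (S : Subgroup G) := by
  refine ⟨fun hb => ?_, normalizer_le_of_isPGroup_mulAut S (isPGroup_mulAut_wreathed hw),
    fun T hTS hne hcl => ?_⟩
  · rw [hb, Subgroup.mem_bot] at hz
    rw [hz, orderOf_one] at hz2
    omega
  have hzT := invol_mem_of_closed S.2 hTS hne hcl hinv hz hz2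
  have hzi : z⁻¹ = z := inv_eq_of_mul_eq_one_left (by rw [← pow_two, ← hz2, pow_orderOf_eq_one])
  have h1 : x * z * x⁻¹ ∈ T :=
    hcl z hzT x (mul_mem (mul_mem hx hz) (inv_mem hx))
  have h2 : x * (z * x * z⁻¹)⁻¹ ∈ T := by
    have := mul_mem h1 (inv_mem hzT)
    convert this using 1
    simp [mul_assoc]
  obtain ⟨g, hg⟩ := hfus
  have hxT : x ∈ T := hg ▸ hcl _ h2 g (hg.symm ▸ hx)
  refine hgen.trans ((Subgroup.closure_le T).2 ?_)
  rintro u (rfl | rfl)
  · exact hxT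
  · exact hzT

end CfsgLib.Fusion
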