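import Cfsg.Agent.Lib.Fusion.System.QdFreeMain

/-!
# The rows on systems without sections `Qd(p)`, from `FourFreeNormal`
-/

set_option autoImplicit false

open Subgroup

namespace CfsgLib.Fusion

open Cfsg (FusionSystem)

universe u

variable {Ω : Type u} [Group Ω] {S : Subgroup Ω} [Finite S] {F : FusionSystem S}

/-- A nontrivial characteristic subgroup of `S` is normal in a `Qd(p)`-free system. -/
theorem qdFree_characteristic_normal (h : FourFreeNormal.{u}) (p : ℕ) [Fact p.Prime]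
    (hS : IsPGroup p S) (hS1 : S ≠ ⊥) (hF : F.IsSaturated p)
    (hfree : ∀ Q : Subgroup Ω, F.IsCentric Q → F.IsFullyNormalized Q →
      ∀ E : FusionSystem (FusionSystem.normalizerIn S Q), F.IsNormalizerSystem Q E →
        ∀ (G : Type u) (_ : Group G) (ι : ↥(FusionSystem.normalizerIn S Q) →* G),
          E.IsModel p G ι → ¬ Cfsg.Involves ↥(Cfsg.qd p) G) :
    ∃ W : Subgroup Ω, W ≤ S ∧ W ≠ ⊥ ∧ (W.subgroupOf S).Characteristic ∧ F.IsNormal W := by
  obtain ⟨W, hW⟩ := exists_qdFunctor p h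
  obtain ⟨V, h1, h2, h3, h4⟩ := exists_characteristic_normal hW hS hS1
  exact ⟨V, h1, h2, h3, h4 F hF (noQd_of_radical_models hS hF
    fun Q hn hc _ N hN L _ ι hm => hfree Q hc hn N hN L _ ι hm)⟩

/-- A characteristic subgroup controls all `S₄`-free systems. -/
theorem fourFree_characteristic_normal (h : FourFreeNormal.{u}) (hS : IsPGroup 2 S) (hS1 : S ≠ ⊥) :
    ∃ W : Subgroup Ω, W ≤ S ∧ W ≠ ⊥ ∧ (W.subgroupOf S).Characteristic ∧
      ∀ F : FusionSystem S, F.IsSaturated 2 → F.IsSectionFree 2 (Equiv.Perm (Fin 4)) →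
        F.IsNormal W := by
  obtain ⟨V, h1, h2, h3, h4⟩ :=
    exists_characteristic_normal (qdFunctor_fourFreeFun h) hS hS1
  exact ⟨V, h1, h2, h3, fun F hF hfree =>
    h4 F hF (noQd_of_isSectionFree hS hF (isSectionFree_qd_two_of_perm hfree))⟩

/-- A `Qd(p)`-free system is realizable and solvable. -/
theorem qdFree_realizable_solvable (h : FourFreeNormal.{u}) (p : ℕ) [Fact p.Prime]
    (hS : IsPGroup p S) (hF : F.IsSaturated p) (hfree : F.IsSectionFree p ↥(Cfsg.qd p)) :
    F.IsRealizable p ∧ F.IsSolvableSystem := by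
  obtain ⟨W, hW⟩ := exists_qdFunctor p h
  have hn := noQd_of_isSectionFree hS hF hfree
  exact ⟨isRealizable_of_functor hW hS hF hn, isSolvableSystem_of_functor hW hS hF hn⟩

/-- An `S₃`-free `2`-system is constrained. -/
theorem permThree_free_constrained (h : FourFreeNormal.{u}) (hS : IsPGroup 2 S)
    (hF : F.IsSaturated 2)
    (h3 : ∀ U : Subgroup Ω, U ≤ S → ¬ Cfsg.Involves (Equiv.Perm (Fin 3)) ↥(F.autGroup U)) :
    F.IsConstrained 2 :=
  isConstrained_of_functor_of_noQd (qdFunctor_fourFreeFun h) hS hF (noQd_two_of_perm_three h3)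

end CfsgLib.Fusion
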