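import Cfsg.Agent.Lib.Fusion.System.EssentialRankTwo
import Cfsg.Agent.Lib.PGroup.GenExtraspecialSplit
import Cfsg.Agent.Lib.Coprime.UniqueOrderP

/-!
Essential subgroups of order `p³`: the automizer acts on the quotient by the centre without an invariant line,
so a nonabelian one has exponent `p` for odd `p` and a single involution for `p = 2`.
-/

set_option autoImplicit false

namespace CfsgLib.Fusion.EssentialCube

open scoped commutatorElement

section Abstract

variable {H : Type*} [Group H] [Finite H] {p : ℕ} [Fact p.Prime]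

theorem center_data (hcard : Nat.card H = p ^ 3) {a b : H} (hab : a * b ≠ b * a) :
    Nat.card (Subgroup.center H) = p ∧ commutator H = Subgroup.center H ∧
      ∀ x : H, x ^ p ∈ Subgroup.center H := by
  have hp := (Fact.out : p.Prime)
  have hG : IsPGroup p H := IsPGroup.of_card hcard
  have hle := CfsgLib.MetacyclicOmega.commutator_le_center_of_card hG hcard
  have hcne : commutator H ≠ ⊥ := fun h => hab <| by
    rw [← commutatorElement_eq_one_iff_mul_comm, ← Subgroup.mem_bot, ← h, commutator_def]
    exact Subgroup.commutator_mem_commutator (Subgroup.mem_top a) (Subgroup.mem_top b)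
  have hnc : ¬ IsCyclic (H ⧸ Subgroup.center H) := fun h =>
    hab (commutative_of_cyclic_center_quotient (QuotientGroup.mk' (Subgroup.center H))
      (QuotientGroup.ker_mk' (Subgroup.center H)).le a b)
  obtain ⟨k, hk⟩ := (hG.to_subgroup (Subgroup.center H)).exists_card_eq
  obtain ⟨j, hj⟩ := (hG.to_quotient (Subgroup.center H)).exists_card_eq
  have hk0 : k ≠ 0 := by
    rintro rfl
    exact hcne (eq_bot_iff.2 (hle.trans (Subgroup.eq_bot_of_card_eq _ (by rw [hk, pow_zero])).le))
  have hj2 : 2 ≤ j := by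
    by_contra hcon
    rcases (show j = 0 ∨ j = 1 by omega) with rfl | rfl
    · haveI : Subsingleton (H ⧸ Subgroup.center H) := (Nat.card_eq_one_iff_unique.1 (by rw [hj, pow_zero])).1
      exact hnc inferInstance
    · exact hnc (isCyclic_of_prime_card (p := p) (by rw [hj, pow_one]))
  have h1 := Subgroup.card_eq_card_quotient_mul_card_subgroup (Subgroup.center H)
  rw [hcard, hk, hj, ← pow_add] at h1
  have h2 := Nat.pow_right_injective hp.two_le h1
  obtain rfl : k = 1 := by omega
  obtain rfl : j = 2 := by omega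
  rw [pow_one] at hk
  refine ⟨hk, Subgroup.eq_of_le_of_card_ge hle ?_, fun x => ?_⟩
  · obtain ⟨i, hi⟩ := (hG.to_subgroup (commutator H)).exists_card_eq
    rw [hk, hi]
    exact Nat.le_self_pow (fun h => hcne (Subgroup.eq_bot_of_card_eq _ (by rw [hi, h, pow_zero]))) p
  · rw [← QuotientGroup.eq_one_iff]
    have h3 : orderOf (x : H ⧸ Subgroup.center H) ∣ p ^ 2 := hj ▸ orderOf_dvd_natCard _
    obtain ⟨i, hi, hie⟩ := (Nat.dvd_prime_pow hp).1 h3
    rw [QuotientGroup.mk_pow]
    refine orderOf_dvd_iff_pow_eq_one.1 ?_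
    rcases (show i ≤ 1 ∨ i = 2 by omega) with h | rfl
    · rw [hie]; exact (pow_dvd_pow p h).trans (pow_one p).dvd
    · exact absurd (isCyclic_of_orderOf_eq_card _ (by rw [hie, hj])) hnc

/-- the automorphisms `X` fix no subgroup strictly between the centre and `H` -/
theorem no_line (hcard : Nat.card H = p ^ 3) {a b : H} (hab : a * b ≠ b * a) (X : Subgroup (MulAut H))
    (hcore : Cfsg.pCore p X = (Cfsg.Inn H).subgroupOf X) (hdvd : p ∣ ((Cfsg.Inn H).subgroupOf X).index)
    {P : Subgroup H} (hle : Subgroup.center H ≤ P) (hinv : ∀ g ∈ X, ∀ x ∈ P, g x ∈ P) :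
    P = Subgroup.center H ∨ P = ⊤ := by
  classical
  have hp := (Fact.out : p.Prime)
  obtain ⟨hZ, hcom, hpow⟩ := center_data hcard hab
  set Z := Subgroup.center H with hZdef
  haveI : Finite (MulAut H) := Finite.of_injective (fun a : MulAut H => (a : H → H)) DFunLike.coe_injective
  let _ : CommGroup (H ⧸ Z) :=
    { (inferInstance : Group (H ⧸ Z)) with
      mul_comm := fun u v => by
        obtain ⟨u, rfl⟩ := QuotientGroup.mk_surjective u
        obtain ⟨v, rfl⟩ := QuotientGroup.mk_surjective v
        rw [← QuotientGroup.mk_mul, ← QuotientGroup.mk_mul, QuotientGroup.eq]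
        rw [show (u * v)⁻¹ * (v * u) = ⁅v⁻¹, u⁻¹⁆ by simp [commutatorElement_def]; group, ← hcom, commutator_def]
        exact Subgroup.commutator_mem_commutator (Subgroup.mem_top _) (Subgroup.mem_top _) }
  let toQ : X →* MulAut (H ⧸ Z) :=
    { toFun := fun σ => QuotientGroup.congr Z Z (σ : MulAut H)
        (Subgroup.characteristic_iff_map_eq.1 inferInstance (σ : MulAut H))
      map_one' := MulEquiv.ext fun q => Quotient.inductionOn' q fun w => rfl
      map_mul' := fun σ τ => MulEquiv.ext fun q => Quotient.inductionOn' q fun w => rfl }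
  have htoQ : ∀ (σ : X) (r : H), toQ σ (r : H ⧸ Z) = (((σ : MulAut H) r : H) : H ⧸ Z) := fun σ r => rfl
  have hker : ∀ {σ : X}, σ ∈ toQ.ker → ∀ r : H, r⁻¹ * (σ : MulAut H) r ∈ Z := fun {σ} hσ r => by
    have h := DFunLike.congr_fun (MonoidHom.mem_ker.1 hσ) (r : H ⧸ Z)
    rw [htoQ, MulAut.one_apply] at h
    exact QuotientGroup.eq.1 h.symm
  have hcomeq : ∀ r s z w : H, z ∈ Z → w ∈ Z → ⁅r * z, s * w⁆ = ⁅r, s⁆ := fun r s z w hz hw => by
    have hz' : ∀ y, y * z = z * y := fun y => Subgroup.mem_center_iff.1 hz y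
    have hw' : ∀ y, y * w = w * y := fun y => Subgroup.mem_center_iff.1 hw y
    simp only [commutatorElement_def, mul_inv_rev]
    calc r * z * (s * w) * (z⁻¹ * r⁻¹) * (w⁻¹ * s⁻¹) = r * (z * (s * w)) * z⁻¹ * r⁻¹ * w⁻¹ * s⁻¹ := by group
      _ = r * s * (w * r⁻¹) * w⁻¹ * s⁻¹ := by rw [← hz' (s * w)]; group
      _ = r * s * r⁻¹ * s⁻¹ := by rw [← hw' r⁻¹]; group
  have hfixZ : ∀ {σ : X}, σ ∈ toQ.ker → ∀ z ∈ Z, (σ : MulAut H) z = z := fun {σ} hσ z hz => by
    have hle' : commutator H ≤ MonoidHom.eqLocus (σ : MulAut H).toMonoidHom (MonoidHom.id H) := by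
      rw [commutator_def, Subgroup.commutator_le]
      intro r _ s _
      show (σ : MulAut H) ⁅r, s⁆ = ⁅r, s⁆
      rw [map_commutatorElement]
      conv_lhs => rw [← mul_inv_cancel_left r ((σ : MulAut H) r), ← mul_inv_cancel_left s ((σ : MulAut H) s)]
      exact hcomeq r s _ _ (hker hσ r) (hker hσ s)
    exact hle' (hcom ▸ hz)
  have hkp : IsPGroup p toQ.ker := fun σ => by
    refine ⟨1, Subtype.ext (Subtype.ext (MulEquiv.ext fun r => ?_))⟩
    have hj : ∀ j : ℕ, (((σ : X) : MulAut H) ^ j) r = r * (r⁻¹ * ((σ : X) : MulAut H) r) ^ j := by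
      intro j
      induction j with
      | zero => simp
      | succ j ih =>
        rw [pow_succ', MulAut.mul_apply, ih, map_mul, map_pow, hfixZ σ.2 _ (hker σ.2 r), pow_succ', ← mul_assoc,
          mul_inv_cancel_left]
    show (((σ : X) : MulAut H) ^ p ^ 1) r = r
    rw [pow_one, hj]
    have h := pow_card_eq_one' (x := (⟨_, hker σ.2 r⟩ : Z))
    rw [hZ] at h
    rw [show (r⁻¹ * ((σ : X) : MulAut H) r) ^ p = 1 from congrArg Subtype.val h, mul_one]
  have hI : toQ.ker = (Cfsg.Inn H).subgroupOf X := by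
    refine le_antisymm (hcore ▸ CfsgLib.Coprime.le_pCore hkp) fun σ hσ => ?_
    obtain ⟨c, hc⟩ := hσ
    rw [MonoidHom.mem_ker]
    refine MulEquiv.ext fun q => ?_
    obtain ⟨q, rfl⟩ := QuotientGroup.mk_surjective q
    rw [htoQ, MulAut.one_apply]
    have h2 : (σ : MulAut H) q = c * q * c⁻¹ := (DFunLike.congr_fun hc q).symm
    rw [h2, QuotientGroup.mk_mul, QuotientGroup.mk_mul, QuotientGroup.mk_inv, mul_comm (c : H ⧸ Z),
      mul_inv_cancel_right]
  -- the automizer data of the quotient
  have hquot : Nat.card (H ⧸ Z) = p ^ 2 := by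
    have h1 := Subgroup.card_eq_card_quotient_mul_card_subgroup Z
    rw [hcard, hZ, pow_succ p 2] at h1
    exact (Nat.eq_of_mul_eq_mul_right hp.pos h1).symm
  have hexp : ∀ q : H ⧸ Z, q ^ p = 1 := fun q => by
    obtain ⟨q, rfl⟩ := QuotientGroup.mk_surjective q
    rw [← QuotientGroup.mk_pow, QuotientGroup.eq_one_iff]
    exact hpow q
  have D : CfsgLib.Fusion.EssentialRankTwo.AutData (H := H ⧸ Z) p toQ.range := by
    refine ⟨IsPGroup.of_card (n := 2) hquot, ?_, ?_⟩
    · rw [← Subgroup.index_ker, hI]; exact hdvd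
    · haveI := CfsgLib.Coprime.pCore_normal' (G := toQ.range) p
      set N := (Cfsg.pCore p toQ.range).comap toQ.rangeRestrict with hN
      have hNp : IsPGroup p N := (CfsgLib.Coprime.pCore_isPGroup p).comap_of_ker_isPGroup toQ.rangeRestrict
        (by rw [toQ.ker_rangeRestrict]; exact hkp)
      have hNle : N ≤ toQ.rangeRestrict.ker := by
        rw [toQ.ker_rangeRestrict, hI, ← hcore]
        exact CfsgLib.Coprime.le_pCore hNp
      refine (Subgroup.eq_bot_iff_forall _).2 fun y hy => ?_
      obtain ⟨x, rfl⟩ := toQ.rangeRestrict_surjective y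
      exact MonoidHom.mem_ker.1 (hNle hy)
  have hbot : CfsgLib.Fusion.EssentialRankTwo.powLayer p (H ⧸ Z) 1 = ⊥ := by
    refine (Subgroup.eq_bot_iff_forall _).2 fun q ⟨w, hw⟩ => ?_
    rw [← hw]; show w ^ p ^ 1 = 1
    rw [pow_one, hexp]
  have hres := D.no_line (by rw [hbot, Subgroup.index_bot, hquot]) (P := P.map (QuotientGroup.mk' Z))
    (hbot.le.trans bot_le) (fun g hg y hy => by
      obtain ⟨σ, rfl⟩ := hg
      obtain ⟨x, hx, rfl⟩ := hy
      exact ⟨(σ : MulAut H) x, hinv _ σ.2 x hx, rfl⟩)
  have hback : (P.map (QuotientGroup.mk' Z)).comap (QuotientGroup.mk' Z) = P := by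
    rw [Subgroup.comap_map_eq, QuotientGroup.ker_mk', sup_eq_left.2 hle]
  rcases hres with h | h
  · left
    rw [← hback, h, hbot, MonoidHom.comap_bot, QuotientGroup.ker_mk']
  · right
    rw [← hback, h, Subgroup.comap_top]

/-- a nonabelian group of order `p³` with such automorphisms -/
theorem classify (hcard : Nat.card H = p ^ 3) {a b : H} (hab : a * b ≠ b * a) (X : Subgroup (MulAut H))
    (hcore : Cfsg.pCore p X = (Cfsg.Inn H).subgroupOf X) (hdvd : p ∣ ((Cfsg.Inn H).subgroupOf X).index) :
    (Odd p ∧ Cfsg.IsExtraspecial p H ∧ ∀ x : H, x ^ p = 1) ∨ (p = 2 ∧ Nonempty (H ≃* QuaternionGroup 2)) := by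
  classical
  have hp := (Fact.out : p.Prime)
  obtain ⟨hZ, hcom, hpow⟩ := center_data hcard hab
  rcases hp.eq_two_or_odd' with rfl | hodd
  · refine Or.inr ⟨rfl, ?_⟩
    have hZ2 : ∀ z ∈ Subgroup.center H, z ^ 2 = 1 := fun z hz => by
      have h := pow_card_eq_one' (x := (⟨z, hz⟩ : Subgroup.center H))
      rw [hZ] at h
      exact congrArg Subtype.val h
    -- no involution outside the centre
    have hinvol : ∀ x : H, x ^ 2 = 1 → x ∈ Subgroup.center H := by
      intro x hx
      by_contra hxZ
      obtain ⟨r, hr⟩ : ∃ r : H, r ^ 2 ≠ 1 := by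
        by_contra hcon
        push Not at hcon
        have hi : ∀ y : H, y⁻¹ = y := fun y => inv_eq_of_mul_eq_one_right (by rw [← sq, hcon])
        exact hab (by rw [← hi (a * b), mul_inv_rev, hi, hi])
      set P := Subgroup.closure {r : H | r ^ 2 ≠ 1}
      have hrP : r ∈ P := Subgroup.subset_closure hr
      have hZP : Subgroup.center H ≤ P := fun z hz => by
        have h := CfsgLib.GenExtraspecial.mem_zpowers_of_card hZ (hpow r) hr hz
        exact Subgroup.zpowers_le.2 (pow_mem hrP 2) h
      have hPinv : ∀ g ∈ X, ∀ y ∈ P, g y ∈ P := fun g _ y hy => by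
        have hle : P ≤ P.comap g.toMonoidHom := (Subgroup.closure_le _).2 fun s hs =>
          Subgroup.subset_closure (show (g s) ^ 2 ≠ 1 by
            rw [← map_pow, Ne, map_eq_one_iff g g.injective]; exact hs)
        exact hle hy
      rcases no_line hcard hab X hcore hdvd hZP hPinv with h | h
      · exact hr (hZ2 r (h ▸ hrP))
      have hr4 : r ^ 4 = 1 := by
        rw [show (4 : ℕ) = 2 * 2 by rfl, pow_mul]; exact hZ2 _ (hpow r)
      have hor : orderOf r = 4 := orderOf_eq_prime_pow (p := 2) (n := 1) (by rwa [pow_one]) hr4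
      have hidx : (Subgroup.zpowers r).index = 2 := by
        have h1 := (Subgroup.zpowers r).card_mul_index
        rw [Nat.card_zpowers, hor, hcard] at h1
        omega
      have hxr : x ∉ Subgroup.zpowers r := fun hmem => by
        obtain ⟨i, hi⟩ := mem_powers_iff_mem_zpowers.2 hmem
        change r ^ i = x at hi
        rw [pow_eq_pow_mod i hr4] at hi
        have h4 : i % 4 < 4 := Nat.mod_lt _ (by norm_num)
        rcases (show i % 4 = 0 ∨ i % 4 = 1 ∨ i % 4 = 2 ∨ i % 4 = 3 by omega) with e | e | e | e <;> rw [e] at hi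
        · exact hxZ (by rw [← hi, pow_zero]; exact one_mem _)
        · exact hr (by rw [← hi, pow_one] at hx; exact hx)
        · exact hxZ (hi ▸ hpow r)
        · refine hr ?_
          rw [← hi, ← pow_mul, pow_eq_pow_mod _ hr4] at hx
          exact hx
      have hxi : x⁻¹ = x := inv_eq_of_mul_eq_one_right (by rw [← sq, hx])
      haveI := Subgroup.normal_of_index_eq_two hidx
      obtain ⟨i, hi⟩ := mem_powers_iff_mem_zpowers.2
        ((inferInstance : (Subgroup.zpowers r).Normal).conj_mem r (Subgroup.mem_zpowers r) x)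
      change r ^ i = x * r * x⁻¹ at hi
      rw [pow_eq_pow_mod i hr4] at hi
      have hsq : (x * r * x⁻¹) ^ 2 = r ^ 2 := by
        rw [conj_pow, Subgroup.mem_center_iff.1 (hpow r) x, mul_inv_cancel_right]
      have hconj : x * r * x⁻¹ = r ^ 3 := by
        have h4 : i % 4 < 4 := Nat.mod_lt _ (by norm_num)
        rcases (show i % 4 = 0 ∨ i % 4 = 1 ∨ i % 4 = 2 ∨ i % 4 = 3 by omega) with e | e | e | e <;> rw [e] at hi
        · rw [← hi, pow_zero, one_pow] at hsq; exact absurd hsq.symm hr
        · exfalso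
          have hxc : x * r = r * x := by
            rw [pow_one] at hi
            calc x * r = x * r * x⁻¹ * x := by group
              _ = r * x := by rw [← hi]
          have htop : Subgroup.closure ({r, x} : Set H) = ⊤ := by
            refine Subgroup.index_eq_one.1 ?_
            have hlt : Subgroup.zpowers r < Subgroup.closure ({r, x} : Set H) :=
              lt_of_le_of_ne (Subgroup.zpowers_le.2 (Subgroup.subset_closure (Set.mem_insert _ _))) fun he =>
                hxr (he ▸ Subgroup.subset_closure (Set.mem_insert_of_mem _ rfl))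
            have h1 := Subgroup.relIndex_mul_index hlt.le
            rw [hidx] at h1
            rcases (Nat.dvd_prime Nat.prime_two).1 (Dvd.intro _ h1) with e2 | e2
            · exact absurd (Subgroup.relIndex_eq_one.1 e2) hlt.not_ge
            · rw [e2] at h1; omega
          have hle : Subgroup.closure ({r, x} : Set H) ≤ Subgroup.centralizer {r} := (Subgroup.closure_le _).2 (by
            rintro u (rfl | rfl) <;> rw [SetLike.mem_coe, Subgroup.mem_centralizer_singleton_iff]
            first | exact hxc | exact hxc.symm)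
          refine hr (hZ2 r (Subgroup.mem_center_iff.2 fun g => ?_))
          have h2 := Subgroup.mem_centralizer_singleton_iff.1 (hle (htop ▸ Subgroup.mem_top g))
          first | exact h2 | exact h2.symm
        · rw [← hi, ← pow_mul, hr4] at hsq; exact absurd hsq.symm hr
        · exact hi.symm
      have hPle : P ≤ Subgroup.zpowers r := (Subgroup.closure_le _).2 fun s hs => by
        by_contra hs'
        refine hs ?_
        have hmem : s * x ∈ Subgroup.zpowers r := by
          rw [Subgroup.mul_mem_iff_of_index_two hidx]; exact iff_of_false hs' hxr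
        obtain ⟨j, hj⟩ := mem_powers_iff_mem_zpowers.2 hmem
        change r ^ j = s * x at hj
        have hs2 : s = r ^ j * x := by rw [hj, mul_assoc, ← sq, hx, mul_one]
        have hcp : x * r ^ j * x⁻¹ = (r ^ 3) ^ j := by rw [← hconj, conj_pow]
        rw [hxi] at hcp
        rw [hs2, sq, mul_assoc (r ^ j), ← mul_assoc x, hcp, ← pow_mul, ← pow_add,
          show j + 3 * j = 4 * j by ring, pow_mul, hr4, one_pow]
      exact hxr (hPle (h ▸ Subgroup.mem_top x))
    have hu : CfsgLib.Coprime.UniqueOrderP 2 H := fun x y hx hy hx1 =>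
      CfsgLib.GenExtraspecial.mem_zpowers_of_card hZ (hinvol x hx) hx1 (hinvol y hy)
    rcases CfsgLib.Coprime.cyclic_or_quaternion_of_unique (IsPGroup.of_card hcard) hu with h | ⟨-, n, ⟨e⟩⟩
    · haveI := h; exact absurd (IsMulCommutative.is_comm.comm a b) hab
    · have hn : (2 : ℕ) ^ n = 2 := by
        have hc := Nat.card_congr e.toEquiv
        rw [hcard, Nat.card_eq_fintype_card, QuaternionGroup.card] at hc
        omega
      exact ⟨hn ▸ e⟩
  · refine Or.inl ⟨hodd, ?_⟩
    have hp2 : p ≠ 2 := fun h => by rw [h] at hodd; exact absurd hodd (by decide)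
    have hmul : ∀ x y : H, (x * y) ^ p = x ^ p * y ^ p := fun x y => by
      have hc : ⁅y, x⁆ ∈ Subgroup.center H := hcom ▸ by
        rw [commutator_def]; exact Subgroup.commutator_mem_commutator (Subgroup.mem_top _) (Subgroup.mem_top _)
      refine CfsgLib.Fusion.mul_pow_eq_of_central_commutator hp hp2 (c := ⁅y, x⁆)
        (by simp only [commutatorElement_def]; group) ((Subgroup.mem_center_iff.1 hc x).symm)
        ((Subgroup.mem_center_iff.1 hc y).symm) ?_
      have h := pow_card_eq_one' (x := (⟨_, hc⟩ : Subgroup.center H))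
      rw [hZ] at h
      exact congrArg Subtype.val h
    let f : H →* Subgroup.center H := MonoidHom.mk' (fun x => ⟨x ^ p, hpow x⟩) fun x y => Subtype.ext (hmul x y)
    have hZf : Subgroup.center H ≤ f.ker := fun z hz => by
      have h := pow_card_eq_one' (x := (⟨z, hz⟩ : Subgroup.center H))
      rw [hZ] at h
      exact Subtype.ext (congrArg Subtype.val h)
    have hfinv : ∀ g ∈ X, ∀ x ∈ f.ker, g x ∈ f.ker := fun g _ x hx => by
      have h : x ^ p = 1 := congrArg Subtype.val (MonoidHom.mem_ker.1 hx)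
      exact Subtype.ext (show (g x) ^ p = 1 by rw [← map_pow, h, map_one])
    have hexp : ∀ x : H, x ^ p = 1 := by
      rcases no_line hcard hab X hcore hdvd hZf hfinv with h | h
      · exfalso
        have h1 := f.ker.card_mul_index
        rw [Subgroup.index_ker, h, hZ, hcard] at h1
        have h2 : Nat.card f.range ≤ p := hZ ▸ Subgroup.card_le_card_group f.range
        have h3 : p ^ 3 ≤ p * p := h1 ▸ Nat.mul_le_mul_left p h2
        rw [← sq] at h3
        exact absurd h3 (not_le.2 (Nat.pow_lt_pow_right hp.one_lt (by norm_num)))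
      · intro x
        have h' : f x = 1 := MonoidHom.mem_ker.1 (h ▸ Subgroup.mem_top x : x ∈ f.ker)
        exact congrArg Subtype.val h'
    exact ⟨CfsgLib.GenExtraspecial.isExtraspecial_of_cube hcard hab hexp, hexp⟩

end Abstract

variable {Ω : Type*} [Group Ω] {S : Subgroup Ω} [Finite S] {F : Cfsg.FusionSystem S} {p : ℕ} [Fact p.Prime]
  {H : Subgroup Ω}

/-- the `p`-core and index data of an essential subgroup -/
theorem autGroup_data (hS : IsPGroup p S) (hH : F.IsEssential p H) :
    Cfsg.pCore p (F.autGroup H) = (Cfsg.Inn H).subgroupOf (F.autGroup H) ∧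
      p ∣ ((Cfsg.Inn H).subgroupOf (F.autGroup H)).index := by
  have h := (CfsgLib.Fusion.isRadical_of_isEssential hS hH).2
  obtain ⟨-, -, hn, E, hE⟩ := hH
  haveI := hn
  refine ⟨?_, hE.1.trans ?_⟩
  · rw [← h, Subgroup.subgroupOf, Subgroup.comap_map_eq_self_of_injective (Subgroup.subtype_injective _)]
  · rw [Subgroup.index_eq_card]

end CfsgLib.Fusion.EssentialCube
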