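import Cfsg.Agent.Lib.Fusion.System.EssentialPlane
import Cfsg.Agent.Lib.PGroup.FrattiniLe
import Cfsg.Agent.Lib.PGroup.MetacyclicRecog
import Cfsg.Agent.Lib.Coprime.PGroupFrattini

/-!
An abelian essential subgroup of rank two is elementary of order `p²` or, for `p ≤ 3`, homocyclic: its automizer
has trivial `p`-core, so it stabilises no line of the Frattini quotient and the layers of `p^i`-th powers are all
of order `p²`; for `p ≥ 5` an element of order `p` would act trivially on the Frattini quotient.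
-/

set_option autoImplicit false

namespace CfsgLib.Fusion.EssentialRankTwo

open Finset

variable {H : Type*} [CommGroup H] {p : ℕ}

/-- the `p ^ i`-th powers -/
def powLayer (p : ℕ) (H : Type*) [CommGroup H] (i : ℕ) : Subgroup H :=
  (powMonoidHom (p ^ i) : H →* H).range

theorem mem_powLayer {i : ℕ} {x : H} : x ∈ powLayer p H i ↔ ∃ w : H, w ^ p ^ i = x := Iff.rfl

theorem powLayer_pow {i j : ℕ} {x : H} (hx : x ∈ powLayer p H i) : x ^ p ^ j ∈ powLayer p H (i + j) := by
  obtain ⟨w, rfl⟩ := mem_powLayer.1 hx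
  exact mem_powLayer.2 ⟨w, by rw [pow_add, pow_mul]⟩

theorem powLayer_succ_le (i : ℕ) : powLayer p H (i + 1) ≤ powLayer p H i := by
  rintro _ ⟨w, rfl⟩
  exact mem_powLayer.2 ⟨w ^ p, by show _ = w ^ p ^ (i + 1); rw [← pow_mul, pow_succ']⟩

theorem powLayer_anti {i j : ℕ} (h : i ≤ j) : powLayer p H j ≤ powLayer p H i := by
  induction h with
  | refl => exact le_rfl
  | step _ ih => exact (powLayer_succ_le _).trans ih

theorem powLayer_invariant (g : MulAut H) {i : ℕ} {x : H} (hx : x ∈ powLayer p H i) :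
    g x ∈ powLayer p H i := by
  obtain ⟨w, rfl⟩ := mem_powLayer.1 hx
  exact mem_powLayer.2 ⟨g w, (map_pow g w _).symm⟩

/-- `r ↦ r⁻¹ (g r)` -/
def delta (g : MulAut H) : H →* H := MonoidHom.mk' (fun r => r⁻¹ * g r) fun a b => by
  rw [map_mul, mul_inv, mul_mul_mul_comm]

theorem delta_apply (g : MulAut H) (r : H) : delta g r = r⁻¹ * g r := rfl

theorem apply_eq_mul_delta (g : MulAut H) (r : H) : g r = r * delta g r := by
  rw [delta_apply, mul_inv_cancel_left]

/-- the `p`-th power of a map which is trivial on two successive sections -/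
theorem delta_pow_mem {g : MulAut H} {T R : Subgroup H} (hR : ∀ x ∈ R, g x ∈ R)
    (h1 : ∀ r, delta g r ∈ T) (h2 : ∀ x ∈ T, delta g x ∈ R) (hp : ∀ x ∈ T, x ^ p ∈ R) (r : H) :
    delta (g ^ p) r ∈ R := by
  set y := delta g r with hy
  have key : ∀ j : ℕ, (g ^ j) r * (r * y ^ j)⁻¹ ∈ R := by
    intro j
    induction j with
    | zero => simp [R.one_mem]
    | succ j ih =>
      have e : (g ^ (j + 1)) r * (r * y ^ (j + 1))⁻¹ =
          g ((g ^ j) r * (r * y ^ j)⁻¹) * delta g (y ^ j) := by
        rw [pow_succ', MulAut.mul_apply, map_mul, map_inv, map_mul g r, apply_eq_mul_delta g r,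
          apply_eq_mul_delta g (y ^ j), ← hy]
        generalize g ((g ^ j) r) = A
        generalize delta g (y ^ j) = B
        rw [pow_succ]
        simp [mul_comm, mul_left_comm, mul_assoc]
        rw [mul_left_comm B, mul_inv_cancel_left]
      rw [e]
      exact R.mul_mem (hR _ ih) (h2 _ (T.pow_mem (h1 r) j))
  have h3 := R.mul_mem (key p) (hp y (h1 r))
  rw [delta_apply]
  have e : (g ^ p) r * (r * y ^ p)⁻¹ * y ^ p = r⁻¹ * (g ^ p) r := by
    rw [mul_inv, mul_comm r⁻¹ (y ^ p)⁻¹, ← mul_assoc, mul_assoc _ r⁻¹ (y ^ p), mul_comm r⁻¹ (y ^ p), ← mul_assoc,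
      inv_mul_cancel_right, mul_comm]
  rwa [e] at h3

variable [Fact p.Prime]

/-- automorphisms trivial modulo the `p`-th powers have `p`-power order -/
theorem pow_eq_one_of_trivial {n : ℕ} (hn : powLayer p H (n + 1) = ⊥) {g : MulAut H}
    (h : ∀ r, delta g r ∈ powLayer p H 1) : g ^ p ^ n = 1 := by
  have key : ∀ i r, delta (g ^ p ^ i) r ∈ powLayer p H (i + 1) := by
    intro i
    induction i with
    | zero => simpa using h
    | succ i ih =>
      rw [pow_succ, pow_mul]
      refine delta_pow_mem (T := powLayer p H (i + 1)) (fun x hx => powLayer_invariant _ hx) ih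
        (fun x hx => ?_) (fun x hx => ?_)
      · obtain ⟨w, rfl⟩ := mem_powLayer.1 hx
        rw [map_pow]
        have := powLayer_pow (j := i + 1) (ih w)
        exact powLayer_anti (by omega) this
      · simpa using powLayer_pow (j := 1) hx
  refine MulEquiv.ext fun r => ?_
  have h2 := key n r
  rw [hn, Subgroup.mem_bot, delta_apply, inv_mul_eq_one] at h2
  exact h2.symm

/-- an automorphism of order dividing `p` is trivial on an invariant section of order `p` -/
theorem delta_mem_of_prime_section {u : MulAut H} (hu : u ^ p = 1) {T R : Subgroup H} (hRT : R ≤ T)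
    (hidx : R.relIndex T = p) (hT : ∀ x ∈ T, u x ∈ T) (hR : ∀ x ∈ R, u x ∈ R) {r : H} (hr : r ∈ T) :
    delta u r ∈ R := by
  classical
  by_cases hrR : r ∈ R
  · exact R.mul_mem (R.inv_mem hrR) (hR r hrR)
  let π := QuotientGroup.mk' R
  have hcardT : Nat.card (T.map π) = p := by
    rw [← hidx, ← Subgroup.relIndex_ker (f := π) T, QuotientGroup.ker_mk']
  haveI : Fact (Nat.card (T.map π)).Prime := ⟨hcardT.symm ▸ (Fact.out : p.Prime)⟩
  have hgen : Subgroup.zpowers (⟨π r, Subgroup.mem_map_of_mem π hr⟩ : T.map π) = ⊤ :=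
    zpowers_eq_top_of_prime_card hcardT (fun h => hrR ((QuotientGroup.eq_one_iff r).1 (congrArg Subtype.val h)))
  have hmemU : (⟨π (u r), Subgroup.mem_map_of_mem π (hT r hr)⟩ : T.map π) ∈
      Subgroup.zpowers (⟨π r, Subgroup.mem_map_of_mem π hr⟩ : T.map π) := hgen ▸ Subgroup.mem_top _
  haveI : Finite (T.map π) := Nat.finite_of_card_ne_zero (hcardT.symm ▸ (Fact.out : p.Prime).ne_zero)
  obtain ⟨c, hc⟩ := mem_powers_iff_mem_zpowers.2 hmemU
  replace hc : u r * (r ^ c)⁻¹ ∈ R := by
    have h := congrArg Subtype.val hc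
    simp only [SubmonoidClass.coe_pow] at h
    rw [← map_pow] at h
    rw [mul_comm]
    exact QuotientGroup.eq.1 h
  have hrp : r ^ p ∈ R := by
    have h := pow_card_eq_one' (x := (⟨π r, Subgroup.mem_map_of_mem π hr⟩ : T.map π))
    rw [hcardT] at h
    have h' := congrArg Subtype.val h
    simp only [SubmonoidClass.coe_pow, OneMemClass.coe_one] at h'
    rw [← map_pow] at h'
    exact (QuotientGroup.eq_one_iff _).1 h'
  have key : ∀ j : ℕ, (u ^ j) r * (r ^ c ^ j)⁻¹ ∈ R := by
    intro j
    induction j with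
    | zero => simp [R.one_mem]
    | succ j ih =>
      have h1 := R.mul_mem (hR _ ih) (R.pow_mem hc (c ^ j))
      rw [map_mul, map_inv, map_pow, mul_pow, inv_pow, ← pow_mul, ← pow_succ', mul_assoc,
        inv_mul_cancel_left, ← MulAut.mul_apply, ← pow_succ'] at h1
      exact h1
  have h1 := key p
  rw [hu, MulAut.one_apply] at h1
  have h2 : c ^ p % p = c % p := by
    have h : ((c ^ p : ℕ) : ZMod p) = (c : ZMod p) := by rw [Nat.cast_pow, ZMod.pow_card]
    exact (ZMod.natCast_eq_natCast_iff' _ _ _).1 h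
  have hmod : ∀ e : ℕ, r ^ e * (r ^ (e % p))⁻¹ ∈ R := fun e => by
    rw [show r ^ e * (r ^ (e % p))⁻¹ = (r ^ p) ^ (e / p) from
      mul_inv_eq_iff_eq_mul.2 (by rw [← pow_mul, ← pow_add, Nat.div_add_mod])]
    exact R.pow_mem hrp _
  have h3 := R.mul_mem (R.mul_mem h1 (hmod (c ^ p))) (R.inv_mem (hmod c))
  rw [h2, mul_inv, inv_inv, mul_assoc r, inv_mul_cancel_left, mul_assoc, ← mul_assoc (r ^ (c % p))⁻¹,
    mul_comm (r ^ (c % p))⁻¹ (r ^ c)⁻¹, inv_mul_cancel_right] at h3
  have h4 := R.mul_mem (R.inv_mem h3) hc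
  rw [mul_inv, inv_inv, mul_assoc, mul_comm (u r), ← mul_assoc (r ^ c), mul_inv_cancel, one_mul] at h4
  exact h4

variable [Finite H]

theorem exists_powLayer_bot (hH : IsPGroup p H) : ∃ n, powLayer p H n = ⊥ := by
  obtain ⟨n, hn⟩ := IsPGroup.iff_card.1 hH
  exact ⟨n, (Subgroup.eq_bot_iff_forall _).2 fun x ⟨w, hw⟩ => by
    rw [← hw]; show w ^ p ^ n = 1; rw [← hn]; exact pow_card_eq_one'⟩

/-- automorphisms of an abelian `p`-group, with trivial `p`-core and order divisible by `p` -/
structure AutData (p : ℕ) (X : Subgroup (MulAut H)) : Prop where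
  pgroup : IsPGroup p H
  dvd : p ∣ Nat.card X
  core : Cfsg.pCore p X = ⊥

variable {X : Subgroup (MulAut H)}

theorem AutData.eq_one_of_trivial (D : AutData p X) {g : X}
    (h : ∀ r, delta (g : MulAut H) r ∈ powLayer p H 1) : g = 1 := by
  obtain ⟨n, hn⟩ := exists_powLayer_bot D.pgroup
  have hn' : powLayer p H (n + 1) = ⊥ := le_bot_iff.1 ((powLayer_succ_le n).trans hn.le)
  let Q : Subgroup X :=
    { carrier := {k | ∀ r, delta (k : MulAut H) r ∈ powLayer p H 1}
      one_mem' := fun r => by rw [delta_apply, Subgroup.coe_one, MulAut.one_apply, inv_mul_cancel]; exact one_mem _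
      mul_mem' := fun {a b} ha hb r => by
        have h := mul_mem (hb r) (ha ((b : MulAut H) r))
        rw [delta_apply, delta_apply, mul_assoc, mul_inv_cancel_left] at h
        exact h
      inv_mem' := fun {a} ha r => by
        have h := inv_mem (ha (((a⁻¹ : X) : MulAut H) r))
        have e : (a : MulAut H) (((a⁻¹ : X) : MulAut H) r) = r := by
          rw [Subgroup.coe_inv]; exact MulEquiv.apply_symm_apply (a : MulAut H) r
        rw [delta_apply, e, mul_inv_rev, inv_inv] at h
        exact h }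
  haveI : Q.Normal := ⟨fun a ha k r => by
    have e : (k : MulAut H) (((k⁻¹ : X) : MulAut H) r) = r := by
      rw [Subgroup.coe_inv]; exact MulEquiv.apply_symm_apply (k : MulAut H) r
    have h := powLayer_invariant (k : MulAut H) (ha (((k⁻¹ : X) : MulAut H) r))
    rw [delta_apply, map_mul, map_inv, e] at h
    exact h⟩
  have hQ : IsPGroup p Q := fun k => ⟨n, Subtype.ext (Subtype.ext (pow_eq_one_of_trivial hn' k.2))⟩
  exact Subgroup.mem_bot.1 (D.core ▸ CfsgLib.Coprime.le_pCore hQ (show g ∈ Q from h))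

theorem AutData.exists_order_p (D : AutData p X) : ∃ u : X, u ≠ 1 ∧ (u : MulAut H) ^ p = 1 := by
  haveI : Finite (MulAut H) := Finite.of_injective (fun a : MulAut H => (a : H → H)) DFunLike.coe_injective
  obtain ⟨u, hu⟩ := exists_prime_orderOf_dvd_card' (G := X) p D.dvd
  refine ⟨u, fun h => (Fact.out : p.Prime).ne_one ?_, by
    rw [← Subgroup.coe_pow, ← hu, pow_orderOf_eq_one, Subgroup.coe_one]⟩
  rw [← hu, h, orderOf_one]

theorem pow_mem_powLayer_one (x : H) : x ^ p ∈ powLayer p H 1 :=
  mem_powLayer.2 ⟨x, by rw [pow_one]⟩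

theorem relIndex_of_between {A P : Subgroup H} (hA : A.index = p ^ 2) (hle : A ≤ P) (hne : P ≠ A)
    (htop : P ≠ ⊤) : A.relIndex P = p ∧ P.index = p := by
  have hp := (Fact.out : p.Prime)
  have h := Subgroup.relIndex_mul_index hle
  rw [hA] at h
  obtain ⟨i, hi, hie⟩ := (Nat.dvd_prime_pow hp).1 (Dvd.intro _ h)
  rcases (show i = 0 ∨ i = 1 ∨ i = 2 by omega) with rfl | rfl | rfl
  · exact absurd (le_antisymm (Subgroup.relIndex_eq_one.1 (by rw [hie, pow_zero])) hle) hne
  · rw [pow_one] at hie
    rw [hie, sq] at h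
    exact ⟨hie, Nat.eq_of_mul_eq_mul_left hp.pos h⟩
  · rw [hie] at h
    exact absurd (Subgroup.index_eq_one.1 (by
      exact Nat.eq_of_mul_eq_mul_left (pow_pos hp.pos 2) (by rw [h, mul_one]))) htop

/-- no line of the Frattini quotient is invariant -/
theorem AutData.no_line (D : AutData p X) (hidx : (powLayer p H 1).index = p ^ 2) {P : Subgroup H}
    (hle : powLayer p H 1 ≤ P) (hinv : ∀ g ∈ X, ∀ x ∈ P, g x ∈ P) : P = powLayer p H 1 ∨ P = ⊤ := by
  by_contra hcon
  push Not at hcon
  obtain ⟨hA, hP⟩ := relIndex_of_between hidx hle hcon.1 hcon.2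
  obtain ⟨n, hn⟩ := exists_powLayer_bot D.pgroup
  have hn' : powLayer p H (n + 1) = ⊥ := le_bot_iff.1 ((powLayer_succ_le n).trans hn.le)
  let Q : Subgroup X :=
    { carrier := {k | (∀ r, delta (k : MulAut H) r ∈ P) ∧ ∀ r ∈ P, delta (k : MulAut H) r ∈ powLayer p H 1}
      one_mem' := by
        constructor <;> intro r <;> intros <;>
          rw [delta_apply, Subgroup.coe_one, MulAut.one_apply, inv_mul_cancel] <;> exact one_mem _
      mul_mem' := fun {a b} ha hb => by
        refine ⟨fun r => ?_, fun r hr => ?_⟩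
        · have h := mul_mem (hb.1 r) (ha.1 ((b : MulAut H) r))
          rw [delta_apply, delta_apply, mul_assoc, mul_inv_cancel_left] at h
          exact h
        · have h := mul_mem (hb.2 r hr) (ha.2 _ (hinv _ b.2 r hr))
          rw [delta_apply, delta_apply, mul_assoc, mul_inv_cancel_left] at h
          exact h
      inv_mem' := fun {a} ha => by
        have e : ∀ r, (a : MulAut H) (((a⁻¹ : X) : MulAut H) r) = r := fun r => by
          rw [Subgroup.coe_inv]; exact MulEquiv.apply_symm_apply (a : MulAut H) r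
        refine ⟨fun r => ?_, fun r hr => ?_⟩
        · have h := inv_mem (ha.1 (((a⁻¹ : X) : MulAut H) r))
          rw [delta_apply, e, mul_inv_rev, inv_inv] at h
          exact h
        · have h := inv_mem (ha.2 _ (hinv _ (a⁻¹).2 r hr))
          rw [delta_apply, e, mul_inv_rev, inv_inv] at h
          exact h }
  haveI : Q.Normal := ⟨fun a ha k => by
    have e : ∀ r, (k : MulAut H) (((k⁻¹ : X) : MulAut H) r) = r := fun r => by
      rw [Subgroup.coe_inv]; exact MulEquiv.apply_symm_apply (k : MulAut H) r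
    refine ⟨fun r => ?_, fun r hr => ?_⟩
    · have h := hinv _ k.2 _ (ha.1 (((k⁻¹ : X) : MulAut H) r))
      rw [delta_apply, map_mul, map_inv, e] at h
      exact h
    · have h := powLayer_invariant (k : MulAut H) (ha.2 _ (hinv _ (k⁻¹).2 r hr))
      rw [delta_apply, map_mul, map_inv, e] at h
      exact h⟩
  have hQ : IsPGroup p Q := fun k => by
    refine ⟨n + 1, Subtype.ext (Subtype.ext ?_)⟩
    show ((k : X) : MulAut H) ^ p ^ (n + 1) = 1
    rw [pow_succ', pow_mul]
    exact pow_eq_one_of_trivial hn' (delta_pow_mem (T := P) (fun x hx => powLayer_invariant _ hx) k.2.1 k.2.2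
      fun x _ => pow_mem_powLayer_one x)
  obtain ⟨u, hu1, hu⟩ := D.exists_order_p
  have huQ : u ∈ Q := ⟨fun r => delta_mem_of_prime_section hu le_top (by rw [Subgroup.relIndex_top_right, hP])
      (fun x _ => Subgroup.mem_top _) (hinv _ u.2) (Subgroup.mem_top r),
    fun r hr => delta_mem_of_prime_section hu hle hA (hinv _ u.2) (fun x hx => powLayer_invariant _ hx) hr⟩
  exact hu1 (Subgroup.mem_bot.1 (D.core ▸ CfsgLib.Coprime.le_pCore hQ huQ))

/-- the binomial expansion of a power of an automorphism of an abelian group -/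
theorem pow_apply_binomial (g : MulAut H) (n : ℕ) (r : H) :
    (g ^ n) r = ∏ j ∈ range (n + 1), ((delta g)^[j] r) ^ n.choose j := by
  induction n with
  | zero => simp
  | succ n ih =>
    rw [pow_succ', MulAut.mul_apply, ih, map_prod]
    simp only [map_pow, apply_eq_mul_delta g ((delta g)^[_] r), mul_pow, Finset.prod_mul_distrib,
      ← Function.iterate_succ_apply' (delta g)]
    rw [Finset.prod_range_succ' _ (n + 1)]
    rw [Finset.prod_range_succ' (fun j => ((delta g)^[j] r) ^ n.choose j) n]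
    simp only [Nat.choose_succ_succ', pow_add, Finset.prod_mul_distrib, Nat.choose_zero_right]
    rw [Finset.prod_range_succ (fun j => ((delta g)^[j + 1] r) ^ n.choose (j + 1)) n, Nat.choose_succ_self,
      pow_zero, mul_one]
    simp [mul_comm, mul_left_comm, mul_assoc]

/-- for `p ≥ 5` an automorphism of order `p` of a homocyclic group is trivial on the Frattini quotient -/
theorem delta_mem_of_five_le (hp5 : 5 ≤ p) (hidx : (powLayer p H 1).index = p ^ 2)
    (hroot : ∀ y : H, y ^ p ∈ powLayer p H 2 → y ∈ powLayer p H 1) {u : MulAut H} (hu : u ^ p = 1) (r : H) :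
    delta u r ∈ powLayer p H 1 := by
  have hp := (Fact.out : p.Prime)
  set A := powLayer p H 1 with hA
  have hexp : ∀ s : H, (∏ j ∈ range p, ((delta u)^[j] s) ^ p.choose j) * ((delta u)^[p] s) = s := fun s => by
    have h := pow_apply_binomial u p s
    rw [hu, MulAut.one_apply, Finset.prod_range_succ, Nat.choose_self, pow_one] at h
    exact h.symm
  have hmid : ∀ s : H, ∀ j ∈ range p, 1 ≤ j → ∀ i, (delta u)^[j] s ∈ powLayer p H i →
      ((delta u)^[j] s) ^ p.choose j ∈ powLayer p H (i + 1) := fun s j hj h1 i hi => by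
    obtain ⟨c, hc⟩ := hp.dvd_choose_self (by omega) (Finset.mem_range.1 hj)
    rw [hc, pow_mul]
    exact Subgroup.pow_mem _ (by simpa using powLayer_pow (j := 1) hi) c
  have htop : ∀ x : H, x ∈ powLayer p H 0 := fun x => mem_powLayer.2 ⟨x, by rw [pow_zero, pow_one]⟩
  have hnil : ∀ s, (delta u)^[p] s ∈ A := fun s => by
    obtain ⟨l, hl⟩ : ∃ l, p = l + 1 := ⟨p - 1, by omega⟩
    have h := hexp s
    rw [show range p = range (l + 1) by rw [hl], Finset.prod_range_succ', Function.iterate_zero, id_eq,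
      Nat.choose_zero_right, pow_one, mul_comm _ s, mul_assoc] at h
    have h' := mul_eq_left.1 h
    rw [eq_inv_of_mul_eq_one_right h']
    refine A.inv_mem (A.prod_mem fun j hj => ?_)
    exact hmid s (j + 1) (by rw [Finset.mem_range] at hj ⊢; omega) (by omega) 0 (htop _)
  have hAinv : ∀ x ∈ A, delta u x ∈ A := fun x hx => A.mul_mem (A.inv_mem hx) (powLayer_invariant u hx)
  set T := (delta u).range ⊔ A with hT
  have hTinv : ∀ x ∈ T, u x ∈ T := fun x hx => by
    rw [apply_eq_mul_delta u x]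
    exact T.mul_mem hx (Subgroup.mem_sup_left ⟨x, rfl⟩)
  by_cases hTA : T = A
  · exact hTA ▸ Subgroup.mem_sup_left ⟨r, rfl⟩
  have hTtop : T ≠ ⊤ := by
    intro h
    have hsurj : ∀ j : ℕ, ∀ x, ∃ s, x * ((delta u)^[j] s)⁻¹ ∈ A := by
      intro j
      induction j with
      | zero => exact fun x => ⟨x, by simp [A.one_mem]⟩
      | succ j ih =>
        intro x
        obtain ⟨y, hy, a, ha, hxy⟩ := Subgroup.mem_sup.1 (h ▸ Subgroup.mem_top x : x ∈ T)
        obtain ⟨z, rfl⟩ := hy
        obtain ⟨s, hs⟩ := ih z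
        refine ⟨s, ?_⟩
        have h1 := A.mul_mem ha (hAinv _ hs)
        rw [map_mul, map_inv, ← mul_assoc, mul_comm a, hxy, ← Function.iterate_succ_apply' (delta u)] at h1
        exact h1
    have hA' : A = ⊤ := eq_top_iff.2 fun x _ => by
      obtain ⟨s, hs⟩ := hsurj p x
      simpa using A.mul_mem hs (hnil s)
    rw [hA', Subgroup.index_top] at hidx
    exact absurd hidx.symm (Nat.one_lt_pow two_ne_zero hp.one_lt).ne'
  obtain ⟨hrel, hTi⟩ := relIndex_of_between hidx le_sup_right hTA hTtop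
  have h2 : ∀ s, ∀ j, 2 ≤ j → (delta u)^[j] s ∈ A := fun s j hj => by
    obtain ⟨i, rfl⟩ : ∃ i, j = i + 2 := ⟨j - 2, by omega⟩
    rw [show i + 2 = 2 + i by ring, Function.iterate_add_apply]
    exact delta_mem_of_prime_section hu le_sup_right hrel hTinv (fun x hx => powLayer_invariant u hx)
      (Subgroup.mem_sup_left ⟨_, rfl⟩)
  refine hroot _ ?_
  obtain ⟨l, hl⟩ : ∃ l, p = l + 2 := ⟨p - 2, by omega⟩
  have h := hexp r
  rw [show range p = range (l + 1 + 1) by rw [hl], Finset.prod_range_succ', Finset.prod_range_succ',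
    Function.iterate_zero, id_eq, Nat.choose_zero_right, pow_one, zero_add, Function.iterate_one,
    Nat.choose_one_right, mul_assoc, mul_comm r, ← mul_assoc, mul_eq_right] at h
  have h4 : (delta u)^[p] r ∈ powLayer p H 2 := by
    obtain ⟨i, hi⟩ : ∃ i, p = 2 + (2 + i) := ⟨p - 4, by omega⟩
    obtain ⟨w, hw⟩ := mem_powLayer.1 (h2 r (2 + i) (by omega))
    rw [show (delta u)^[p] r = (delta u)^[2 + (2 + i)] r by rw [← hi], Function.iterate_add_apply, ← hw]
    show delta u (delta u (w ^ p ^ 1)) ∈ _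
    rw [map_pow, map_pow]
    exact powLayer_pow (j := 1) (h2 w 2 le_rfl)
  have h5 : ∏ j ∈ range l, ((delta u)^[j + 1 + 1] r) ^ p.choose (j + 1 + 1) ∈ powLayer p H 2 :=
    Subgroup.prod_mem _ fun j hj => hmid r _ (by rw [Finset.mem_range] at hj ⊢; omega) (by omega) 1
      (h2 r _ (by omega))
  rw [mul_comm _ (delta u r ^ p), mul_assoc] at h
  rw [eq_inv_of_mul_eq_one_left h]
  exact Subgroup.inv_mem _ (Subgroup.mul_mem _ h5 h4)

/-- the structure -/
theorem AutData.rank_two (D : AutData p X) (hidx : (powLayer p H 1).index = p ^ 2) :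
    (Nat.card H = p ^ 2 ∧ ∀ x : H, x ^ p = 1) ∨
      (p ≤ 3 ∧ ∃ k : ℕ, Nonempty (H ≃* Multiplicative (ZMod (p ^ k) × ZMod (p ^ k)))) := by
  classical
  have hp := (Fact.out : p.Prime)
  obtain ⟨k, hk, hmin⟩ : ∃ k, powLayer p H k = ⊥ ∧ ∀ i < k, powLayer p H i ≠ ⊥ :=
    ⟨Nat.find (exists_powLayer_bot D.pgroup), Nat.find_spec (exists_powLayer_bot D.pgroup),
      fun i hi => Nat.find_min _ hi⟩
  have htop : powLayer p H 0 = ⊤ := eq_top_iff.2 fun x _ => mem_powLayer.2 ⟨x, by rw [pow_zero, pow_one]⟩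
  have hstrict : ∀ i < k, powLayer p H (i + 1) ≠ powLayer p H i := by
    intro i hi h
    have hstab : ∀ j, i ≤ j → powLayer p H j = powLayer p H i := by
      intro j hj
      induction j, hj using Nat.le_induction with
      | base => rfl
      | succ j hj ih =>
        refine le_antisymm ((powLayer_succ_le j).trans ih.le) ?_
        rw [← h]
        intro x hx
        obtain ⟨w, rfl⟩ := mem_powLayer.1 hx
        obtain ⟨v, hv⟩ := mem_powLayer.1 (ih.ge (mem_powLayer.2 ⟨w, rfl⟩ : w ^ p ^ i ∈ powLayer p H i))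
        exact mem_powLayer.2 ⟨v, by rw [pow_succ, pow_mul, hv, ← pow_mul, ← pow_succ]⟩
    exact hmin i hi (by rw [← hstab k hi.le, hk])
  have hlayer : ∀ i < k, (powLayer p H (i + 1)).relIndex (powLayer p H i) = p ^ 2 := by
    intro i hi
    set P := (powLayer p H (i + 1)).comap (powMonoidHom (p ^ i) : H →* H)
    have hPidx : P.index = (powLayer p H (i + 1)).relIndex (powLayer p H i) := Subgroup.index_comap _ _
    have hleP : powLayer p H 1 ≤ P := fun x hx => by
      show x ^ p ^ i ∈ powLayer p H (i + 1)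
      rw [add_comm i 1]; exact powLayer_pow hx
    have hinv : ∀ g ∈ X, ∀ x ∈ P, g x ∈ P := fun g _ x hx => by
      show (g x) ^ p ^ i ∈ powLayer p H (i + 1)
      rw [← map_pow]; exact powLayer_invariant g hx
    rcases D.no_line hidx hleP hinv with h | h
    · rw [← hPidx, h, hidx]
    · refine absurd (le_antisymm (powLayer_succ_le i) ?_) (hstrict i hi)
      rw [h, Subgroup.index_top] at hPidx
      exact Subgroup.relIndex_eq_one.1 hPidx.symm
  have hk1 : 1 ≤ k := by
    rcases Nat.eq_zero_or_pos k with h | h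
    · exfalso
      rw [h, htop] at hk
      haveI : Subsingleton H := Subgroup.subsingleton_iff.1 ⟨fun a b => by
        have : ∀ c : Subgroup H, c = ⊥ := fun c => eq_bot_iff.2 (le_top.trans hk.le)
        rw [this a, this b]⟩
      rw [Subgroup.index_eq_one.2 (Subsingleton.elim _ _)] at hidx
      exact absurd hidx.symm (Nat.one_lt_pow two_ne_zero hp.one_lt).ne'
    · exact h
  have hcardL : ∀ i ≤ k, Nat.card (powLayer p H (k - i)) = p ^ (2 * i) := by
    intro i hi
    induction i with
    | zero => rw [Nat.sub_zero, hk, Subgroup.card_bot, mul_zero, pow_zero]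
    | succ i ih =>
      have h1 := hlayer (k - (i + 1)) (by omega)
      rw [show k - (i + 1) + 1 = k - i by omega] at h1
      have h2 : powLayer p H (k - i) ≤ powLayer p H (k - (i + 1)) := powLayer_anti (by omega)
      have e := Subgroup.relIndex_mul_relIndex ⊥ _ _ bot_le h2
      rw [Subgroup.relIndex_bot_left, Subgroup.relIndex_bot_left, h1, ih (by omega)] at e
      rw [← e, ← pow_add, Nat.mul_succ]
  have hcard : Nat.card H = p ^ (2 * k) := by
    have := hcardL k le_rfl
    rwa [Nat.sub_self, htop, Subgroup.card_top] at this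
  have hexp : ∀ x : H, x ^ p ^ k = 1 := fun x =>
    Subgroup.mem_bot.1 (hk ▸ mem_powLayer.2 ⟨x, rfl⟩)
  rcases Nat.lt_or_ge k 2 with hk2 | hk2
  · obtain rfl : k = 1 := by omega
    exact Or.inl ⟨by rw [hcard], fun x => by simpa using hexp x⟩
  refine Or.inr ⟨?_, k, ?_⟩
  · by_contra hp3
    have hp5 : 5 ≤ p := by
      by_contra h5
      have h4 : p = 4 := by omega
      rw [h4] at hp; exact absurd hp (by decide)
    have hroot : ∀ y : H, y ^ p ∈ powLayer p H 2 → y ∈ powLayer p H 1 := by
      intro y hy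
      obtain ⟨w, hw⟩ := mem_powLayer.1 hy
      have hker : (powMonoidHom p : H →* H).ker = powLayer p H (k - 1) := by
        refine (Subgroup.eq_of_le_of_card_ge (fun x hx => ?_) ?_).symm
        · obtain ⟨v, rfl⟩ := mem_powLayer.1 hx
          show (v ^ p ^ (k - 1)) ^ p = 1
          rw [← pow_mul, ← pow_succ, show k - 1 + 1 = k by omega, hexp]
        · have h1 := (powMonoidHom p : H →* H).ker.card_mul_index
          rw [Subgroup.index_ker, show (powMonoidHom p : H →* H).range = powLayer p H 1 by rw [powLayer, pow_one],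
            hcard] at h1
          have h2 := hcardL (k - 1) (by omega)
          rw [show k - (k - 1) = 1 by omega] at h2
          rw [h2, show 2 * k = 2 + 2 * (k - 1) by omega, pow_add] at h1
          rw [Nat.eq_of_mul_eq_mul_right (pow_pos hp.pos _) h1, hcardL 1 hk1]
      have h3 : y * (w ^ p)⁻¹ ∈ powLayer p H (k - 1) := hker ▸ (by
        show (y * (w ^ p)⁻¹) ^ p = 1
        rw [mul_pow, inv_pow, ← pow_mul w p p, ← sq, hw, mul_inv_cancel])
      have h4 := (powLayer p H 1).mul_mem (powLayer_anti (by omega : 1 ≤ k - 1) h3) (pow_mem_powLayer_one w)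
      rwa [inv_mul_cancel_right] at h4
    obtain ⟨u, hu1, hu⟩ := D.exists_order_p
    exact hu1 (D.eq_one_of_trivial fun r => delta_mem_of_five_le hp5 hidx hroot hu r)
  · obtain ⟨a, ha⟩ : ∃ a, a ∉ powLayer p H 1 := by
      by_contra hcon
      push Not at hcon
      rw [show powLayer p H 1 = ⊤ from eq_top_iff.2 fun x _ => hcon x, Subgroup.index_top] at hidx
      exact absurd hidx.symm (Nat.one_lt_pow two_ne_zero hp.one_lt).ne'
    set Pa := Subgroup.zpowers a ⊔ powLayer p H 1
    obtain ⟨b, hb⟩ : ∃ b, b ∉ Pa := by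
      by_contra hcon
      push Not at hcon
      -- the quotient would be cyclic of exponent `p`
      have htop' : Pa = ⊤ := eq_top_iff.2 fun x _ => hcon x
      have h1 : powLayer p H 1 ≤ (powMonoidHom 1 : H →* H).range := fun x _ => ⟨x, pow_one x⟩
      have hgen : ∀ x : H ⧸ powLayer p H 1, x ∈ Subgroup.zpowers (QuotientGroup.mk' (powLayer p H 1) a) := by
        intro x
        obtain ⟨x, rfl⟩ := QuotientGroup.mk'_surjective _ x
        have h2 : x ∈ (Subgroup.zpowers (QuotientGroup.mk' (powLayer p H 1) a)).comap (QuotientGroup.mk' _) := by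
          refine (sup_le (Subgroup.zpowers_le.2 ?_) fun z hz => ?_ : Pa ≤ _) (hcon x)
          · exact Subgroup.mem_zpowers _
          · rw [Subgroup.mem_comap, QuotientGroup.mk'_apply, QuotientGroup.mk'_apply, (QuotientGroup.eq_one_iff z).2 hz]; exact one_mem _
        exact h2
      have hc := orderOf_eq_card_of_forall_mem_zpowers hgen
      rw [← Subgroup.index_eq_card, hidx] at hc
      have hd : orderOf (QuotientGroup.mk' (powLayer p H 1) a) ∣ p := orderOf_dvd_of_pow_eq_one (by
        rw [← map_pow]; exact (QuotientGroup.eq_one_iff _).2 (pow_mem_powLayer_one a))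
      rw [hc] at hd
      exact absurd (Nat.le_of_dvd hp.pos hd) (not_le.2 (lt_self_pow₀ hp.one_lt one_lt_two))
    have hgen : Subgroup.closure ({a, b} : Set H) ⊔ powLayer p H 1 = ⊤ := by
      set W := Subgroup.closure ({a, b} : Set H) ⊔ powLayer p H 1
      have hPW : Pa ≤ W := sup_le (Subgroup.zpowers_le.2
        (Subgroup.mem_sup_left (Subgroup.subset_closure (Set.mem_insert _ _)))) le_sup_right
      have hbW : b ∈ W := Subgroup.mem_sup_left (Subgroup.subset_closure (Set.mem_insert_of_mem _ rfl))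
      by_contra hW
      have hWA : W ≠ powLayer p H 1 := fun h => ha (h ▸ hPW (Subgroup.mem_sup_left (Subgroup.mem_zpowers a)))
      obtain ⟨r1, -⟩ := relIndex_of_between hidx le_sup_right hWA hW
      have hPa : Pa ≠ powLayer p H 1 := fun h => ha (h ▸ Subgroup.mem_sup_left (Subgroup.mem_zpowers a))
      obtain ⟨r2, -⟩ := relIndex_of_between hidx le_sup_right hPa (fun h => hb (h.ge (Subgroup.mem_top b)))
      have e := Subgroup.relIndex_mul_relIndex (powLayer p H 1) Pa W le_sup_right hPW
      rw [r1, r2] at e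
      exact hb (Subgroup.relIndex_eq_one.1 ((Nat.mul_eq_left hp.ne_zero).1 e) hbW)
    have hfr : powLayer p H 1 ≤ frattini H := fun x hx => by
      obtain ⟨w, rfl⟩ := mem_powLayer.1 hx
      rw [pow_one]; exact CfsgLib.Coprime.pow_mem_frattini D.pgroup w
    have hclos : Subgroup.closure ({a, b} : Set H) = ⊤ :=
      frattini_nongenerating (eq_top_iff.2 (hgen ▸ sup_le_sup_left hfr _))
    have hk0 : 1 < p ^ k := Nat.one_lt_pow (by omega) hp.one_lt
    haveI : NeZero (p ^ k) := ⟨by omega⟩
    haveI : Fact (1 < p ^ k) := ⟨hk0⟩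
    have hval : ∀ (x : H) (s t : ZMod (p ^ k)), x ^ (s + t).val = x ^ s.val * x ^ t.val := fun x s t => by
      rw [← pow_add, ZMod.val_add, ← pow_eq_pow_mod _ (hexp x)]
    let Ψ : Multiplicative (ZMod (p ^ k) × ZMod (p ^ k)) →* H :=
      MonoidHom.mk' (fun z => a ^ (z.toAdd.1).val * b ^ (z.toAdd.2).val) fun z w => by
        simp only [toAdd_mul, Prod.fst_add, Prod.snd_add, hval]
        exact mul_mul_mul_comm _ _ _ _
    have hsurj : Function.Surjective Ψ := by
      rw [← MonoidHom.range_eq_top, eq_top_iff, ← hclos, Subgroup.closure_le]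
      rintro x (rfl | rfl)
      · exact ⟨Multiplicative.ofAdd (1, 0), by simp [Ψ, ZMod.val_one]⟩
      · exact ⟨Multiplicative.ofAdd (0, 1), by simp [Ψ, ZMod.val_one]⟩
    have hbij := (Nat.bijective_iff_surjective_and_card Ψ).2 ⟨hsurj, by
      rw [hcard, Nat.card_congr Multiplicative.toAdd, Nat.card_prod, Nat.card_zmod, ← pow_add, two_mul]⟩
    exact ⟨(MulEquiv.ofBijective Ψ hbij).symm⟩

theorem AutData.not_isCyclic (D : AutData p X) : ¬ IsCyclic H := by
  intro hc
  obtain ⟨b, hb1, hb⟩ := D.exists_order_p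
  have hcm : ∀ g k : X, g * k = k * g := fun g k =>
    Subtype.ext (CfsgLib.Fusion.EssentialPlane.isCyclic_mulAut_comm (g : MulAut H) k)
  haveI : (Subgroup.zpowers b).Normal := ⟨fun g hg k => by rwa [hcm k g, mul_inv_cancel_right]⟩
  have hbp : IsPGroup p (Subgroup.zpowers b) := by
    have hb' : b ^ p = 1 := Subtype.ext (by rw [Subgroup.coe_pow, hb, Subgroup.coe_one])
    exact IsPGroup.of_card (n := 1) (by rw [Nat.card_zpowers, orderOf_eq_prime hb' hb1, pow_one])
  exact hb1 (Subgroup.mem_bot.1 (D.core ▸ CfsgLib.Coprime.le_pCore hbp (Subgroup.mem_zpowers b)))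

/-- the `p`-th powers form the Frattini subgroup -/
theorem frattini_eq_powLayer_one (hH : IsPGroup p H) : frattini H = powLayer p H 1 := by
  refine le_antisymm (CfsgLib.FrattiniLe.frattini_le_of_pow_of_commutator pow_mem_powLayer_one ?_) fun x hx => ?_
  · rw [commutator_def, Subgroup.commutator_le]
    intro a _ b _
    rw [commutatorElement_eq_one_iff_mul_comm.2 (mul_comm a b)]
    exact one_mem _
  · obtain ⟨w, rfl⟩ := mem_powLayer.1 hx
    rw [pow_one]; exact CfsgLib.Coprime.pow_mem_frattini hH w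

/-- the Frattini quotient has order `p ^ 2` -/
theorem AutData.index_powLayer_one (D : AutData p X) (h : (frattini H).index ≤ p ^ 2) :
    (powLayer p H 1).index = p ^ 2 := by
  have hp := (Fact.out : p.Prime)
  rw [frattini_eq_powLayer_one D.pgroup] at h
  obtain ⟨i, hi⟩ := D.pgroup.index (powLayer p H 1)
  rw [hi] at h ⊢
  have h2 : i ≤ 2 := (Nat.pow_le_pow_iff_right hp.one_lt).1 h
  rcases (show i ≤ 1 ∨ i = 2 by omega) with h1 | rfl
  · refine absurd (CfsgLib.RankTwoOmega.isCyclic_of_index_frattini D.pgroup ?_) D.not_isCyclic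
    rw [frattini_eq_powLayer_one D.pgroup, hi]
    exact (Nat.pow_le_pow_right hp.pos h1).trans (pow_one p).le
  · rfl

end CfsgLib.Fusion.EssentialRankTwo
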