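import Cfsg.Agent.Lib.Fusion.System.Model
import Cfsg.Prelude.Def_FusionComponents

/-!
# Images of saturated systems, and factor systems by normal subgroups
-/

set_option autoImplicit false
set_option linter.style.haveILetI false

open Subgroup
open scoped Classical

namespace CfsgLib.Fusion

open Cfsg (FusionSystem autInducedBy)
open Cfsg.FusionSystem (normalizerIn centralizerIn preimageAlong imageAlong InducedAlong)

variable {Ω Ω' : Type*} [Group Ω] [Group Ω'] {S : Subgroup Ω} {S' : Subgroup Ω'}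
  {F : FusionSystem S} {F' : FusionSystem S'} {α : S →* Ω'} {P Q R : Subgroup Ω}
  {P' : Subgroup Ω'} {f : Ω → Ω} {f' : Ω' → Ω'} {p : ℕ}

theorem mem_preimageAlong {x : Ω} :
    x ∈ preimageAlong α P' ↔ x ∈ S ∧ ext1 α x ∈ P' := by
  constructor
  · rintro ⟨s, hs, rfl⟩
    exact ⟨s.2, by rw [Subgroup.coe_subtype, ext1_coe]; exact hs⟩
  · rintro ⟨hx, h⟩
    rw [ext1_apply α hx] at h
    exact ⟨⟨x, hx⟩, h, rfl⟩

theorem preimageAlong_le (α : S →* Ω') (P' : Subgroup Ω') : preimageAlong α P' ≤ S :=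
  Subgroup.map_subtype_le _

theorem preimageAlong_mono {P'' : Subgroup Ω'} (h : P' ≤ P'') :
    preimageAlong α P' ≤ preimageAlong α P'' :=
  Subgroup.map_mono (Subgroup.comap_mono h)

theorem ext1_one' : ext1 α 1 = 1 := by
  rw [ext1_apply α S.one_mem]; exact map_one α

theorem imgι_preimageAlong (h : P' ≤ α.range) : imgι α (preimageAlong α P') = P' := by
  ext y
  rw [mem_imgι (preimageAlong_le α P')]
  constructor
  · rintro ⟨x, hx, rfl⟩
    exact (mem_preimageAlong.1 hx).2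
  · intro hy
    obtain ⟨x, rfl⟩ := h hy
    exact ⟨x, mem_preimageAlong.2 ⟨x.2, by rwa [ext1_coe]⟩, ext1_coe α x⟩

theorem preimageAlong_imgι (hP : P ≤ S) (hk : preimageAlong α ⊥ ≤ P) :
    preimageAlong α (imgι α P) = P := by
  ext x
  rw [mem_preimageAlong]
  constructor
  · rintro ⟨hx, h⟩
    obtain ⟨y, hy, hyx⟩ := (mem_imgι hP).1 h
    have h1 : y⁻¹ * x ∈ preimageAlong α ⊥ := mem_preimageAlong.2
      ⟨S.mul_mem (S.inv_mem (hP hy)) hx, by
        rw [ext1_mul α (S.inv_mem (hP hy)) hx, ext1_inv α (hP hy), hyx, inv_mul_cancel]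
        exact one_mem _⟩
    have h2 := mul_mem hy (hk h1)
    rwa [mul_inv_cancel_left] at h2
  · exact fun hx => ⟨hP hx, ext1_mem_imgι hP hx⟩

section Morphism

variable (hα : F.IsSurjectiveMorphism F' α)
include hα

theorem exists_image_map (hf : IsMap F P f) :
    ∃ f', IsMap F' (imgι α P) f' ∧ ∀ x ∈ P, f' (ext1 α x) = ext1 α (f x) := by
  obtain ⟨φ, hφ, hφf⟩ := hf
  obtain ⟨φ', hφ', hP, hv, hP', he⟩ := hα.1.2 P φ hφ
  refine ⟨toFun φ', isMap_toFun hφ', fun x hx => ?_⟩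
  have hv' : f x ∈ S := hφf ⟨x, hx⟩ ▸ hv ⟨x, hx⟩
  have h2 : ext1 α (f x) = α ⟨φ ⟨x, hx⟩, hv ⟨x, hx⟩⟩ := by
    rw [ext1_apply α hv']
    exact congrArg α (Subtype.ext (hφf ⟨x, hx⟩).symm)
  have h1 : α ⟨x, hP hx⟩ ∈ imageAlong α P := ⟨⟨x, hP hx⟩, hx, rfl⟩
  rw [h2, ← he ⟨x, hx⟩, ext1_apply α (hP hx)]
  exact toFun_apply φ' h1

theorem exists_lift_map (hf : IsMap F' P' f') :
    ∃ f, IsMap F (preimageAlong α P') f ∧
      ∀ x ∈ preimageAlong α P', ext1 α (f x) = f' (ext1 α x) := by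
  obtain ⟨φ', hφ', hφ'f⟩ := hf
  obtain ⟨φ, hφ, hP, hv, hP', he⟩ := hα.2.2 P' (F'.le_of_mem hφ').1 φ' hφ'
  refine ⟨toFun φ, isMap_toFun hφ, fun x hx => ?_⟩
  have := he ⟨x, hx⟩
  rw [toFun_apply φ hx, ext1_apply α (hv ⟨x, hx⟩), ← this, hφ'f]
  exact congrArg f' (ext1_apply α (hP hx)).symm

theorem kernel_invariant (hf : IsMap F P f) (hk : preimageAlong α ⊥ ≤ P) [Finite S] :
    img (preimageAlong α ⊥) f = preimageAlong α ⊥ := by
  refine img_eq_of_map_le (preimageAlong_le α ⊥) hf hk fun x hx => ?_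
  obtain ⟨f', hf', he⟩ := exists_image_map hα hf
  refine mem_preimageAlong.2 ⟨hf.mem_S (hk hx), ?_⟩
  rw [← he x (hk hx), Subgroup.mem_bot.1 (mem_preimageAlong.1 hx).2]
  exact Subgroup.mem_bot.2 hf'.map_one

theorem kernel_le_img (hf : IsMap F P f) (hk : preimageAlong α ⊥ ≤ P) [Finite S] :
    preimageAlong α ⊥ ≤ img P f :=
  (kernel_invariant hα hf hk).ge.trans (hf.img_mono hk)

variable [Finite S] [Fact p.Prime]

/-- The image of a saturated system under a surjective morphism is saturated. -/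
theorem isSaturated_of_surjectiveMorphism (hS : IsPGroup p S) (hF : F.IsSaturated p) :
    F'.IsSaturated p := by
  have hr : α.range = S' := hα.2.1
  haveI : Finite S' := by
    rw [← hr]; exact Finite.of_surjective _ α.rangeRestrict_surjective
  have hS'p : IsPGroup p S' := by
    rw [← hr]; exact hS.of_surjective _ α.rangeRestrict_surjective
  intro P' hP'S
  set P := preimageAlong α P' with hP
  have hPS : P ≤ S := preimageAlong_le α P'
  obtain ⟨Ps, hPPs, hPsn⟩ := exists_fullyNormalized (F := F) hPS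
  obtain ⟨θ, hθ, rfl⟩ := isConj_iff.1 hPPs
  set Ps := img P θ
  have hPsS : Ps ≤ S := hθ.img_le
  have hKP : preimageAlong α ⊥ ≤ P := preimageAlong_mono bot_le
  have hKPs : preimageAlong α ⊥ ≤ Ps := kernel_le_img hα hθ hKP
  set Q' := imgι α Ps with hQ'
  have hQ'S : Q' ≤ S' := (imgι_le_range Ps).trans hr.le
  haveI := finite_of_le hPsS
  haveI := finite_mulAut (P := Ps)
  haveI := finite_of_le hQ'S
  haveI := finite_mulAut (P := Q')
  obtain ⟨θ', hθ', hθ'e⟩ := exists_image_map hα hθ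
  have hPimg : imgι α P = P' := imgι_preimageAlong (hP'S.trans hr.ge)
  rw [hPimg] at hθ'
  have hθ'img : img P' θ' = Q' := by
    ext y
    rw [hθ'.mem_img, hQ', mem_imgι hPsS]
    constructor
    · rintro ⟨z, hz, rfl⟩
      obtain ⟨x, hx, rfl⟩ := (mem_imgι hPS).1 (hPimg.ge hz)
      exact ⟨θ x, hθ.mem_img.2 ⟨x, hx, rfl⟩, (hθ'e x hx).symm⟩
    · rintro ⟨_, hu, rfl⟩
      obtain ⟨x, hx, rfl⟩ := hθ.mem_img.1 hu
      exact ⟨ext1 α x, hPimg.le (ext1_mem_imgι hPS hx), hθ'e x hx⟩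
  -- the induced automorphisms
  have hind : ∀ a ∈ F.autGroup Ps, ∃ b : MulAut Q', b ∈ F'.autGroup Q' ∧
      ∀ x ∈ Ps, autFun b (ext1 α x) = ext1 α (autFun a x) := by
    intro a ha
    obtain ⟨g, hg, hge⟩ := exists_image_map hα ((mem_autGroup_iff hPsS).1 ha)
    have himg : img Q' g = Q' := img_eq_of_map_le hQ'S hg le_rfl fun y hy => by
      obtain ⟨x, hx, rfl⟩ := (mem_imgι hPsS).1 hy
      rw [hge x hx]
      exact ext1_mem_imgι hPsS (autFun_mem a hx)
    exact ⟨autOf hg himg, autOf_mem hg himg, fun x hx => by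
      rw [autFun_autOf hg himg (ext1_mem_imgι hPsS hx), hge x hx]⟩
  choose ρ₀ hρ₀ hρe using hind
  have hρuniq : ∀ b c : MulAut Q', (∀ x ∈ Ps, autFun b (ext1 α x) = autFun c (ext1 α x)) → b = c :=
    fun b c h => autFun_ext fun y hy => by
      obtain ⟨x, hx, rfl⟩ := (mem_imgι hPsS).1 hy
      exact h x hx
  let ρ : F.autGroup Ps →* MulAut Q' := MonoidHom.mk' (fun a => ρ₀ a a.2) fun a b => by
    refine hρuniq _ _ fun x hx => ?_
    rw [hρe _ _ x hx, autFun_mul _ _ (ext1_mem_imgι hPsS hx), hρe _ _ x hx,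
      hρe _ _ _ (autFun_mem (b : MulAut Ps) hx)]
    exact congrArg _ (autFun_mul _ _ hx)
  have hρ : ∀ (a : F.autGroup Ps), ∀ x ∈ Ps,
      autFun (ρ a) (ext1 α x) = ext1 α (autFun (a : MulAut Ps) x) := fun a => hρe a a.2
  have hρr : ρ.range = F'.autGroup Q' := by
    refine le_antisymm (by rintro _ ⟨a, rfl⟩; exact hρ₀ a a.2) fun b hb => ?_
    obtain ⟨g, hg, hge⟩ := exists_lift_map hα ((mem_autGroup_iff hQ'S).1 hb)
    rw [preimageAlong_imgι hPsS hKPs] at hg hge
    have himg : img Ps g = Ps := img_eq_of_map_le hPsS hg le_rfl fun x hx => by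
      rw [← preimageAlong_imgι hPsS hKPs]
      exact mem_preimageAlong.2 ⟨hg.mem_S hx, hge x hx ▸ autFun_mem b (ext1_mem_imgι hPsS hx)⟩
    refine ⟨⟨_, autOf_mem hg himg⟩, hρuniq _ _ fun x hx => ?_⟩
    rw [hρ _ x hx]
    show ext1 α (autFun (autOf hg himg) x) = _
    rw [autFun_autOf hg himg hx, hge x hx]
  set A := (autInducedBy S Ps).subgroupOf (F.autGroup Ps) with hA
  have hAmap : A.map ρ ≤ autInducedBy S' Q' := by
    rintro _ ⟨a, ha, rfl⟩
    obtain ⟨s, hs, hse⟩ := mem_autInducedBy_iff.1 ha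
    refine mem_autInducedBy_iff.2 ⟨ext1 α s, hr.le (ext1_mem_range α s), fun y hy => ?_⟩
    obtain ⟨x, hx, rfl⟩ := (mem_imgι hPsS).1 hy
    rw [hρ a x hx, show autFun (a : MulAut Ps) x = s * x * s⁻¹ from hse x hx, ext1_conj α hs (hPsS hx)]
  obtain ⟨hPsA, hPsR⟩ := IsSaturated.automized_receptive hS hF hPsn
  obtain ⟨-, hi⟩ := (isFullyAutomized_iff hS).1 hPsA
  refine ⟨Q', isConj_iff.2 ⟨θ', hθ', hθ'img⟩, ?_, ?_⟩
  · refine (isFullyAutomized_iff hS'p).2 ⟨hQ'S, fun hd => ?_⟩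
    have h1 : ¬ p ∣ (A.map ρ).relIndex ρ.range := by
      rw [MonoidHom.range_eq_map, Subgroup.relIndex_map_map, top_sup_eq]
      intro h
      refine hi (h.trans ?_)
      rw [show (autInducedBy S Ps).relIndex (F.autGroup Ps) = A.relIndex ⊤ from
        (Subgroup.relIndex_top_right _).symm]
      exact Subgroup.relIndex_dvd_of_le_left _ le_sup_left
    rw [hρr] at h1
    exact h1 (hd.trans (Dvd.intro_left _ (Subgroup.relIndex_mul_relIndex _ _ _ hAmap
      (autInducedBy_le_autGroup hQ'S))))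
  · refine isReceptive_iff.2 ⟨hQ'S, fun R' g' hg' hg'img => ?_⟩
    have hR'r : R' ≤ α.range := hg'.le.trans hr.ge
    obtain ⟨g, hg, hge⟩ := exists_lift_map hα hg'
    set R := preimageAlong α R' with hR
    have hRS : R ≤ S := preimageAlong_le α R'
    have hKR : preimageAlong α ⊥ ≤ R := preimageAlong_mono bot_le
    have hgimg : img R g = Ps := by
      rw [← preimageAlong_imgι hg.img_le (kernel_le_img hα hg hKR), ← preimageAlong_imgι hPsS hKPs]
      congr 1
      rw [← hQ', ← hg'img]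
      ext y
      rw [mem_imgι hg.img_le, hg'.mem_img]
      constructor
      · rintro ⟨_, hu, rfl⟩
        obtain ⟨x, hx, rfl⟩ := hg.mem_img.1 hu
        exact ⟨ext1 α x, (mem_preimageAlong.1 hx).2, (hge x hx).symm⟩
      · rintro ⟨z, hz, rfl⟩
        obtain ⟨x, rfl⟩ := hR'r hz
        have hx : (x : Ω) ∈ R := mem_preimageAlong.2 ⟨x.2, by rwa [ext1_coe]⟩
        exact ⟨g x, hg.mem_img.2 ⟨x, hx, rfl⟩, by rw [hge _ hx, ext1_coe]⟩
    have hgm : ∀ x ∈ R, g x ∈ Ps := fun x hx => hgimg.le (hg.mem_img.2 ⟨x, hx, rfl⟩)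
    set N' := extSub S' R' g' with hN'
    set N := preimageAlong α N' with hN
    have hNR : ∀ n ∈ N, n ∈ normalizerIn S R := by
      intro n hn
      obtain ⟨hnS, hn'⟩ := mem_preimageAlong.1 hn
      refine ⟨hnS, Subgroup.mem_normalizer_iff.2 fun x => ?_⟩
      have h := Subgroup.mem_normalizer_iff.1 (extSub_le hn').2
      rw [hR, mem_preimageAlong, mem_preimageAlong]
      constructor
      · rintro ⟨hx, hx'⟩
        exact ⟨S.mul_mem (S.mul_mem hnS hx) (S.inv_mem hnS),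
          by rw [ext1_conj α hnS hx]; exact (h _).1 hx'⟩
      · rintro ⟨hx, hx'⟩
        have hxS : x ∈ S := by
          simpa [mul_assoc] using S.mul_mem (S.mul_mem (S.inv_mem hnS) hx) hnS
        rw [ext1_conj α hnS hxS] at hx'
        exact ⟨hxS, (h _).2 hx'⟩
    have hconjR : ∀ n ∈ N, ∀ x ∈ R, n * x * n⁻¹ ∈ R := fun n hn x hx =>
      (Subgroup.mem_normalizer_iff.1 (hNR n hn).2 x).1 hx
    have huniq : ∀ a b : F.autGroup Ps, (∀ x ∈ R, autFun (a : MulAut Ps) (g x) =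
        autFun (b : MulAut Ps) (g x)) → a = b := fun a b h =>
      Subtype.ext (autFun_ext fun y hy => by
        obtain ⟨x, hx, rfl⟩ := hg.mem_img.1 (hgimg.ge hy)
        exact h x hx)
    set D : Subgroup (F.autGroup Ps) :=
      { carrier := {a | ∃ n ∈ N, ∀ x ∈ R, autFun (a : MulAut Ps) (g x) = g (n * x * n⁻¹)}
        one_mem' := ⟨1, one_mem N, fun x hx => by
          rw [show ((1 : F.autGroup Ps) : MulAut Ps) = 1 from rfl, autFun_one (hgm x hx)]; simp⟩
        mul_mem' := fun {a b} ⟨n, hn, ha⟩ ⟨m, hm, hb⟩ => ⟨n * m, mul_mem hn hm, fun x hx => by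
          rw [show ((a * b : F.autGroup Ps) : MulAut Ps) = a * b from rfl,
            autFun_mul _ _ (hgm x hx), hb x hx, ha _ (hconjR m hm x hx)]
          congr 1; group⟩
        inv_mem' := fun {a} ⟨n, hn, ha⟩ => ⟨n⁻¹, inv_mem hn, fun x hx => by
          have hx' := hconjR _ (inv_mem hn) x hx
          have h2 := ha _ hx'
          rw [show n * (n⁻¹ * x * n⁻¹⁻¹) * n⁻¹ = x by group] at h2
          rw [← h2, show ((a⁻¹ : F.autGroup Ps) : MulAut Ps) = (a : MulAut Ps)⁻¹ from rfl,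
            ← autFun_mul _ _ (hgm _ hx'), inv_mul_cancel, autFun_one (hgm _ hx')]⟩ }
    have hDp : IsPGroup p D := by
      rintro ⟨a, n, hn, ha⟩
      obtain ⟨k, hk⟩ := hS ⟨n, (mem_preimageAlong.1 hn).1⟩
      refine ⟨k, Subtype.ext (huniq _ _ fun x hx => ?_)⟩
      have hpow : ∀ i : ℕ, ∀ x ∈ R, autFun ((a ^ i : F.autGroup Ps) : MulAut Ps) (g x) =
          g (n ^ i * x * (n ^ i)⁻¹) := by
        intro i
        induction i with
        | zero =>
          intro x hx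
          rw [pow_zero, show ((1 : F.autGroup Ps) : MulAut Ps) = 1 from rfl, autFun_one (hgm x hx)]
          simp
        | succ i ih =>
          intro x hx
          rw [pow_succ, show ((a ^ i * a : F.autGroup Ps) : MulAut Ps) =
              (a ^ i : F.autGroup Ps) * (a : MulAut Ps) from rfl,
            autFun_mul _ _ (hgm x hx), ha x hx, ih _ (hconjR n hn x hx)]
          congr 1; group
      rw [show (((⟨a, n, hn, ha⟩ : D) ^ p ^ k : D) : F.autGroup Ps) = a ^ p ^ k from rfl, hpow _ x hx,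
        show n ^ p ^ k = 1 from congrArg Subtype.val hk,
        show (((1 : D) : F.autGroup Ps) : MulAut Ps) = 1 from rfl, autFun_one (hgm x hx)]
      simp
    have hDM : D ≤ A ⊔ ρ.ker := by
      rintro a ⟨n, hn, ha⟩
      obtain ⟨hnS, hn'⟩ := mem_preimageAlong.1 hn
      obtain ⟨hn'N, h, hhS, hhe⟩ := mem_extSub.1 hn'
      -- a representative of `h` normalizing `Ps`
      obtain ⟨h₀, rfl⟩ := hr.ge hhS
      have hh₀ : (h₀ : Ω) ∈ Subgroup.normalizer (Ps : Set Ω) := by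
        have hQn := hg'img ▸ mem_normalizer_img hg' hn'N.2 hhe
        refine conjBy_eq_iff.1 (eq_of_le_of_card_le hPsS (conjBy_le_iff.2 fun x hx => ?_)
          (isConj_card (isConj_iff.2 ⟨_, isMap_conj (F := F) hPsS h₀.2, img_conj _ _⟩)).ge)
        rw [← preimageAlong_imgι hPsS hKPs]
        refine mem_preimageAlong.2 ⟨S.mul_mem (S.mul_mem h₀.2 (hPsS hx)) (S.inv_mem h₀.2), ?_⟩
        rw [ext1_conj α h₀.2 (hPsS hx), ext1_coe]
        exact (Subgroup.mem_normalizer_iff.1 hQn _).1 (ext1_mem_imgι hPsS hx)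
      let c : F.autGroup Ps :=
        ⟨conjAut (h₀ : Ω) hh₀, autInducedBy_le_autGroup hPsS (conjAut_mem h₀.2 hh₀)⟩
      have hcA : c ∈ A := conjAut_mem h₀.2 hh₀
      have hker : c⁻¹ * a ∈ ρ.ker := by
        rw [MonoidHom.mem_ker, map_mul, map_inv, inv_mul_eq_one]
        refine hρuniq _ _ fun y hy => ?_
        obtain ⟨x, hx, rfl⟩ := hg.mem_img.1 (hgimg.ge hy)
        have hx' := (mem_preimageAlong.1 hx).2
        rw [hρ _ _ hy, hρ _ _ hy, ha x hx, hge _ (hconjR n hn x hx), ext1_conj α hnS (hRS hx),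
          hhe _ hx', ← hge x hx]
        show ext1 α (autFun (conjAut (h₀ : Ω) hh₀) (g x)) = _
        rw [autFun_conjAut hh₀ hy, ext1_conj α h₀.2 (hPsS hy), ext1_coe]
      rw [show a = c * (c⁻¹ * a) by rw [mul_inv_cancel_left]]
      exact mul_mem (Subgroup.mem_sup_left hcA) (Subgroup.mem_sup_right hker)
    have hAi : ¬ p ∣ A.relIndex (A ⊔ ρ.ker) := fun h => hi (by
      rw [show (autInducedBy S Ps).relIndex (F.autGroup Ps) = A.relIndex ⊤ from
        (Subgroup.relIndex_top_right _).symm]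
      exact h.trans (Dvd.intro _ (Subgroup.relIndex_mul_relIndex A _ ⊤ le_sup_left le_top)))
    obtain ⟨β, hβ, hβD⟩ := exists_conj_le_of_not_dvd_relIndex ((isPGroup_autInducedBy hS).of_equiv
      (Subgroup.subgroupOfEquivOfLe (autInducedBy_le_autGroup hPsS)).symm) le_sup_left hAi hDp hDM
    obtain ⟨a₀, ha₀, k, hk, rfl⟩ := Subgroup.mem_sup_of_normal_right.1 hβ
    set g₁ := autFun (k : MulAut Ps) ∘ g with hg₁
    have hg₁m : IsMap F R g₁ := hg.comp ((mem_autGroup_iff hPsS).1 k.2) hgm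
    have hg₁img : img R g₁ = Ps := by rw [hg₁, ← img_img hg, hgimg, img_autFun]
    have hg₁e : ∀ x ∈ R, ext1 α (g₁ x) = g' (ext1 α x) := fun x hx => by
      show ext1 α (autFun (k : MulAut Ps) (g x)) = _
      rw [← hρ k _ (hgm x hx), show ρ k = 1 from hk, autFun_one (ext1_mem_imgι hPsS (hgm x hx)),
        hge x hx]
    obtain ⟨ψ, hψ, hψe⟩ := (isReceptive_iff.1 hPsR).2 R g₁ hg₁m hg₁img
    have hNle : N ≤ extSub S R g₁ := by
      intro n hn
      let hnn := hNR n hn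
      -- the transported automorphism
      obtain ⟨gi, hgi, hgi1, hgi2⟩ := hg.exists_inv
      rw [hgimg] at hgi hgi2
      have hm : IsMap F Ps (g ∘ (fun y => n * y * n⁻¹) ∘ gi) :=
        (hgi.comp (isMap_conj hRS hnn.1) fun y hy => (hgi2 y hy).1).comp hg
          fun y hy => hconjR n hn _ (hgi2 y hy).1
      have hmimg : img Ps (g ∘ (fun y => n * y * n⁻¹) ∘ gi) = Ps :=
        img_eq_of_map_le hPsS hm le_rfl fun y hy => hgm _ (hconjR n hn _ (hgi2 y hy).1)
      let a : F.autGroup Ps := ⟨autOf hm hmimg, autOf_mem hm hmimg⟩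
      have hae : ∀ x ∈ R, autFun (a : MulAut Ps) (g x) = g (n * x * n⁻¹) := fun x hx => by
        rw [show (a : MulAut Ps) = autOf hm hmimg from rfl, autFun_autOf hm hmimg (hgm x hx)]
        show g (n * gi (g x) * n⁻¹) = _
        rw [hgi1 x hx]
      have h1 : (a₀ * k) * a * (a₀ * k)⁻¹ ∈ A :=
        hβD (conj_mem_conjBy (show a ∈ D from ⟨n, hn, hae⟩))
      have h2 : k * a * k⁻¹ ∈ A := by
        rw [show k * a * k⁻¹ = a₀⁻¹ * ((a₀ * k) * a * (a₀ * k)⁻¹) * a₀ by group]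
        exact mul_mem (mul_mem (inv_mem ha₀) h1) ha₀
      obtain ⟨s, hs, hse⟩ := mem_autInducedBy_iff.1 h2
      refine mem_extSub.2 ⟨hnn, s, hs, fun x hx => ?_⟩
      show autFun (k : MulAut Ps) (g (n * x * n⁻¹)) = s * autFun (k : MulAut Ps) (g x) * s⁻¹
      rw [← hse _ (autFun_mem _ (hgm x hx)), ← hae x hx, ← autFun_mul _ _ (hgm x hx),
        ← autFun_mul _ _ (hgm x hx)]
      congr 1
      show ((k * a : F.autGroup Ps) : MulAut Ps) = ((k * a * k⁻¹ * k : F.autGroup Ps) : MulAut Ps)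
      rw [inv_mul_cancel_right]
    obtain ⟨ψ', hψ', hψ'e⟩ := exists_image_map hα (hψ.mono hNle)
    rw [hN, imgι_preimageAlong ((extSub_le.trans inf_le_left).trans hr.ge)] at hψ'
    refine ⟨ψ', hψ', fun z hz => ?_⟩
    obtain ⟨x, rfl⟩ := hR'r hz
    have hx : (x : Ω) ∈ R := mem_preimageAlong.2 ⟨x.2, by rwa [ext1_coe]⟩
    have hxN : (x : Ω) ∈ N := mem_preimageAlong.2 ⟨x.2, by
      rw [ext1_coe]; exact le_extSub hg' hz⟩
    rw [← ext1_coe α x, hψ'e _ hxN, hψe _ hx, hg₁e _ hx]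

end Morphism

end CfsgLib.Fusion
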