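import Cfsg.Agent.Lib.Fusion.System.AbelianSimple
import Cfsg.Agent.Lib.Fusion.System.Group

/-!
# Simplicity of the fusion system of a group: the automizer of the Sylow subgroup
-/

set_option autoImplicit false
set_option linter.style.haveILetI false
set_option linter.unusedSectionVars false

open Subgroup
open scoped Classical

namespace CfsgLib.Fusion

open Cfsg (FusionSystem groupFusionSystem autInducedBy)
open Cfsg.FusionSystem (normalizerIn centralizerIn)

section Abstract

variable {Ω : Type*} [Group Ω] {S : Subgroup Ω} [Finite S] {F E : FusionSystem S} {p : ℕ}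
  [Fact p.Prime] {R T : Subgroup Ω}

/-- Conjugation by `g` lies in a saturated subsystem on `T` once it does so on a centric subgroup
of `T`. -/
theorem conj_isMap_of_centric_le (hS : IsPGroup p S) (hF : F.IsSaturated p)
    (hsub : E.IsSubsystemOf F) (hE : E.IsSaturated p) {g : Ω}
    (hg : IsMap F T (fun y => g * y * g⁻¹)) (hgT : ∀ y ∈ T, g * y * g⁻¹ ∈ T)
    (hc : F.IsCentric R) (hRT : R ≤ T) (hgR : ∀ y ∈ R, g * y * g⁻¹ ∈ R)
    (hm : IsMap E R (fun y => g * y * g⁻¹)) :
    IsMap E T (fun y => g * y * g⁻¹) := by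
  induction hk : Nat.card S - Nat.card R using Nat.strong_induction_on generalizing R with
  | _ k ih =>
  by_cases hRT' : R = T
  · exact hRT' ▸ hm
  have hTS : T ≤ S := hg.le
  set N := normalizerIn T R with hN
  have hNT : N ≤ T := inf_le_left
  have hRN : R ≤ N := le_inf hRT Subgroup.le_normalizer
  have himg : img R (fun y => g * y * g⁻¹) = R := img_eq_of_map_le hc.1 hm le_rfl hgR
  have hgN : ∀ n ∈ N, g * n * g⁻¹ ∈ N := fun n hn => by
    refine ⟨hgT n hn.1, ?_⟩
    have := map_mem_normalizerIn hg hRT hn.1 hn.2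
    rw [himg] at this
    exact this.2
  have hcE : E.IsCentric R := by
    refine ⟨hc.1, fun U hU => ?_⟩
    obtain ⟨f, hf, rfl⟩ := isConj_iff.1 hU
    exact centralizerIn_img_le hc (isMap_of_subsystem hsub hf) le_rfl
  obtain ⟨e, he, hee⟩ := (isReceptive_iff.1 (IsSaturated.isReceptive hS hE
    (isFullyCentralized_of_isCentric hcE))).2 R _ hm himg
  have hext : N ≤ extSub S R (fun y => g * y * g⁻¹) := fun n hn =>
    ⟨⟨hTS hn.1, hn.2⟩, g * n * g⁻¹, hTS (hgN n hn).1, fun y _ => by group⟩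
  obtain ⟨z, hz, -, hzy⟩ := exists_eq_conj_of_agree hS hF hRN hc
    (isMap_of_subsystem hsub (he.mono hext)) (hg.mono hNT) hee
  have hconj : ∀ y ∈ N, z * y * z⁻¹ ∈ N := fun y hy =>
    mul_mem (mul_mem (hRN hz) hy) (inv_mem (hRN hz))
  have hmN : IsMap E N (fun y => g * y * g⁻¹) :=
    ((isMap_conj (hNT.trans hTS) (hc.1 hz)).comp (he.mono hext) hconj).congr fun y hy => hzy y hy
  refine ih _ ?_ (isCentric_mono hc hRN (hNT.trans hTS)) hNT hgN hmN rfl
  haveI := finite_of_le hTS
  haveI : Group.IsNilpotent T := (hS.to_le hTS).isNilpotent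
  have h1 := card_lt_of_lt (hNT.trans hTS) (lt_inf_normalizer hRT hRT')
  have h2 : Nat.card N ≤ Nat.card S := card_le_of_le' le_rfl (hNT.trans hTS)
  have h3 : Nat.card ↥(T ⊓ Subgroup.normalizer (R : Set Ω)) = Nat.card N := rfl
  omega

end Abstract

variable {G : Type*} [Group G] {p : ℕ}

/-- The elements of `N(P)` whose conjugation lies in `E`. -/
noncomputable def autSub {S : Subgroup G} (E : FusionSystem S) (P : Subgroup G) : Subgroup G :=
  ((E.autGroup P).comap P.normalizerMonoidHom).map (Subgroup.normalizer (P : Set G)).subtype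

theorem mem_autSub {S : Subgroup G} {E : FusionSystem S} {P : Subgroup G} (hP : P ≤ S) {g : G} :
    g ∈ autSub E P ↔
      g ∈ Subgroup.normalizer (P : Set G) ∧ IsMap E P (fun y => g * y * g⁻¹) := by
  constructor
  · rintro ⟨⟨a, ha⟩, ham, rfl⟩
    exact ⟨ha, ((mem_autGroup_iff hP).1 ham).congr fun y hy => (autFun_conjAut ha hy).symm⟩
  · rintro ⟨hg, hm⟩
    exact ⟨⟨g, hg⟩, (mem_autGroup_iff hP).2 (hm.congr fun y hy => autFun_conjAut hg hy), rfl⟩

theorem conj_le_of_subset {P : Subgroup G} [Finite G] {g : G}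
    (h : ∀ x ∈ P, g * x * g⁻¹ ∈ P) : g ∈ Subgroup.normalizer (P : Set G) := by
  rw [← conjBy_eq_iff]
  exact Subgroup.eq_of_le_of_card_ge (conjBy_le_iff.2 h) (le_of_eq (card_conjBy g P).symm)

variable [Finite G] [Fact p.Prime]

theorem autSub_of_mem {S : Subgroup G} {E : FusionSystem S} {P : Subgroup G} (hP : P ≤ S) {g : G}
    (hg : g ∈ S) (h : g ∈ Subgroup.normalizer (P : Set G)) : g ∈ autSub E P :=
  (mem_autSub hP).2 ⟨h, isMap_conj hP hg⟩

theorem conj_mem_autSub {S : Subgroup G} {E : FusionSystem S}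
    (hE : E.IsInvariantIn (groupFusionSystem S)) {P : Subgroup G} (hP : P ≤ S) {g a : G}
    (hg : g ∈ Subgroup.normalizer (P : Set G)) (ha : a ∈ autSub E P) :
    g * a * g⁻¹ ∈ autSub E P := by
  obtain ⟨⟨a, haN⟩, ham, rfl⟩ := ha
  have hgm : conjAut g hg ∈ (groupFusionSystem S).autGroup P := by
    rw [autGroup_group hP]
    exact conjAut_mem (Subgroup.mem_top g) hg
  refine ⟨⟨g, hg⟩ * ⟨a, haN⟩ * ⟨g, hg⟩⁻¹, ?_, rfl⟩
  rw [SetLike.mem_coe, Subgroup.mem_comap, map_mul, map_mul, map_inv]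
  exact conj_mem_autGroup_of_invariant hE hP hgm ham

theorem autSub_of_centric {S : Subgroup G} {E : FusionSystem S} (hS : IsPGroup p S)
    (hF : (groupFusionSystem S).IsSaturated p)
    (hsub : E.IsSubsystemOf (groupFusionSystem S)) (hE : E.IsSaturated p) {R T : Subgroup G}
    (hc : Subgroup.centralizer (R : Set G) ≤ R) (hRT : R ≤ T) (hT : T ≤ S) {g : G}
    (hgT : g ∈ Subgroup.normalizer (T : Set G)) (hg : g ∈ autSub E R) : g ∈ autSub E T := by
  obtain ⟨hgR, hm⟩ := (mem_autSub (hRT.trans hT)).1 hg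
  refine (mem_autSub hT).2 ⟨hgT, ?_⟩
  refine conj_isMap_of_centric_le hS hF hsub hE
    (isMap_group_conj hT ((conjBy_eq_iff.2 hgT).le.trans hT))
    (fun y hy => (Subgroup.mem_normalizer_iff.1 hgT y).1 hy)
    ⟨hRT.trans hT, fun Q hQ => ?_⟩ hRT
    (fun y hy => (Subgroup.mem_normalizer_iff.1 hgR y).1 hy) hm
  obtain ⟨-, -, a, rfl⟩ := isConj_group_iff.1 hQ
  refine inf_le_right.trans ?_
  rw [← conjBy_centralizer]
  exact conjBy_mono hc

/-- No proper closed subgroup and every element of the normalizer of `S` induces a map of each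
invariant saturated subsystem over `S`: the system is simple. -/
theorem isSimple_group_of_closed_automizer (P : Sylow p G) (hne : (P : Subgroup G) ≠ ⊥)
    (hcl : ∀ T : Subgroup G, T ≤ (P : Subgroup G) → T ≠ ⊥ →
      (∀ x ∈ T, ∀ g : G, g * x * g⁻¹ ∈ (P : Subgroup G) → g * x * g⁻¹ ∈ T) → (P : Subgroup G) ≤ T)
    (haut : ∀ E : FusionSystem (P : Subgroup G), E.IsSaturated p →
      E.IsInvariantIn (groupFusionSystem (P : Subgroup G)) →
      Subgroup.normalizer ((P : Subgroup G) : Set G) ≤ autSub E P) :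
    (groupFusionSystem (P : Subgroup G)).IsSimple p := by
  refine ⟨isSaturated_group P, hne, fun T E hE => ?_⟩
  obtain ⟨hEsat, -, hinv⟩ := hE.1
  by_cases hT : T = ⊥
  · exact Or.inl hT
  obtain ⟨hTS, hclT⟩ := stronglyClosed_iff.1 hinv.2.1
  obtain rfl : T = (P : Subgroup G) := le_antisymm hTS (hcl T hTS hT fun x hx g hgx => by
    refine hclT (Subgroup.zpowers x) (fun y => g * y * g⁻¹) (zpowers_le.2 hx) ?_ x (mem_zpowers x)
    refine isMap_group_conj (zpowers_le.2 (hTS hx)) (conjBy_le_iff.2 fun y hy => ?_)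
    obtain ⟨k, rfl⟩ := mem_zpowers_iff.1 hy
    rw [← conj_zpow]
    exact zpow_mem hgx k)
  refine Or.inr ⟨rfl, fun Q => Set.Subset.antisymm (hinv.1 Q) fun φ hφ => ?_⟩
  refine mem_hom_iff.2 (le_of_invariant P.2 (isSaturated_group P) hinv (fun α hα => ?_)
    (mem_hom_iff.1 hφ))
  obtain ⟨-, g, hg⟩ := isMap_group_iff.1 ((mem_autGroup_iff le_rfl).1 hα)
  have hg' : ∀ x ∈ (P : Subgroup G), autFun α x = g * x * g⁻¹ := fun x hx => (hg x hx).2
  obtain ⟨-, hm⟩ := (mem_autSub le_rfl).1 (haut E hEsat hinv (mem_normalizer_of_autFun hg'))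
  exact (mem_autGroup_iff le_rfl).2 (hm.congr hg')

end CfsgLib.Fusion
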