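import Cfsg.Agent.Lib.Fusion.System.Inner

/-!
# Inner systems of normal subgroups
-/

set_option autoImplicit false

open Subgroup
open scoped Classical

namespace CfsgLib.Fusion

open Cfsg (FusionSystem autInducedBy)
open Cfsg.FusionSystem (normalizerIn centralizerIn)

variable {Ω : Type*} [Group Ω] {S : Subgroup Ω} [Finite S] {F : FusionSystem S} {p : ℕ}
  [Fact p.Prime] {Q : Subgroup Ω}

/-- The inner system of a `p`-group is saturated. -/
theorem isSaturated_inner {T : Subgroup Ω} [Finite T] (hT : IsPGroup p T) :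
    (Cfsg.innerFusionSystem T).IsSaturated p := by
  refine isSaturated_of_top hT ?_ fun P hP => ?_
  · refine (isFullyAutomized_iff hT).2 ⟨le_rfl, ?_⟩
    have hle : (Cfsg.innerFusionSystem T).autGroup T ≤ autInducedBy T T := fun α hα => by
      obtain ⟨-, s, hs, he⟩ := isMap_inner_iff.1 ((mem_autGroup_iff le_rfl).1 hα)
      exact mem_autInducedBy_iff.2 ⟨s, hs, he⟩
    rw [Subgroup.relIndex_eq_one.2 hle]
    exact (Fact.out : p.Prime).not_dvd_one
  · refine isReceptive_iff.2 ⟨hP.1, fun R f hf _ => ?_⟩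
    obtain ⟨hR, s, hs, he⟩ := isMap_inner_iff.1 hf
    exact ⟨fun x => s * x * s⁻¹, isMap_conj (extSub_le.trans inf_le_left) hs,
      fun x hx => (he x hx).symm⟩

omit [Fact p.Prime] [Finite S] in
theorem inner_isSubsystemOf (hQ : Q ≤ S) : (Cfsg.innerFusionSystem Q).IsSubsystemOf F := by
  rintro P φ ⟨hP, g, hg, he⟩
  rw [show φ = Cfsg.conjHom P g from MonoidHom.ext fun x => he x]
  exact F.conj_mem (hP.trans hQ) (hQ hg)

omit [Fact p.Prime] in
/-- The inner system of a subgroup all whose maps extend is invariant. -/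
theorem inner_isInvariantIn (hQ : Q ≤ S) (h : AutExtends F Q) :
    (Cfsg.innerFusionSystem Q).IsInvariantIn F := by
  refine ⟨inner_isSubsystemOf hQ, stronglyClosed_of_autExtends hQ h, ?_, fun P hP φ hφ => ?_⟩
  · rintro P hPQ φ ⟨-, g, hg, he⟩ α -
    refine ⟨Cfsg.conjHom _ (α ⟨g, hg⟩ : Ω), (Cfsg.innerFusionSystem Q).conj_mem ?_
      (SetLike.coe_mem _), fun x hφx hαx => ?_⟩
    · rintro _ ⟨y, -, rfl⟩
      exact SetLike.coe_mem _
    · show (α ⟨g, hg⟩ : Ω) * (α ⟨(x : Ω), hPQ x.2⟩ : Ω) * ((α ⟨g, hg⟩ : Q) : Ω)⁻¹ = _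
      rw [← Subgroup.coe_mul, ← Subgroup.coe_inv, ← Subgroup.coe_mul, ← map_mul, ← map_inv,
        ← map_mul]
      exact congrArg (fun z => ((α z : Q) : Ω)) (Subtype.ext (he x).symm)
  · obtain ⟨α, hα, he⟩ := h P _ hP (isMap_toFun hφ)
    refine ⟨α, hα, Cfsg.conjHom P 1, (Cfsg.innerFusionSystem Q).conj_mem hP (one_mem Q),
      fun x hx => ?_⟩
    have h1 := he x x.2
    rw [toFun_coe, autFun_apply α (hP x.2)] at h1
    rw [← h1]
    exact congrArg (fun z => ((α z : Q) : Ω)) (Subtype.ext (by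
      show (x : Ω) = 1 * (x : Ω) * (1 : Ω)⁻¹
      simp))

omit [Fact p.Prime] in
theorem autExtends_of_inner_invariant (hQ : Q ≤ S)
    (h : (Cfsg.innerFusionSystem Q).IsInvariantIn F) : AutExtends F Q := by
  intro P f hP hf
  obtain ⟨φ, hφ, hφf⟩ := hf
  obtain ⟨α, hα, φ₀, ⟨-, g, hg, he⟩, hφα⟩ := h.2.2.2 P hP φ hφ
  have hgn : g ∈ Subgroup.normalizer (Q : Set Ω) := Subgroup.le_normalizer hg
  refine ⟨α * conjAut g hgn, mul_mem hα (autInducedBy_le_autGroup hQ (conjAut_mem (hQ hg) _)),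
    fun x hx => ?_⟩
  have hgx : g * x * g⁻¹ ∈ Q := mul_mem (mul_mem hg (hP hx)) (inv_mem hg)
  rw [autFun_mul _ _ (hP hx), autFun_conjAut hgn (hP hx), autFun_apply α hgx, ← hφf ⟨x, hx⟩]
  have h1 := hφα ⟨x, hx⟩ (by rw [he]; exact hgx)
  rw [h1]
  exact congrArg (fun z => ((α z : Q) : Ω)) (Subtype.ext (he ⟨x, hx⟩).symm)

/-- `Q` is normal exactly when its inner system is weakly normal. -/
theorem isNormal_iff_inner_weaklyNormal (hS : IsPGroup p S) (hF : F.IsSaturated p) (hQ : Q ≤ S) :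
    F.IsNormal Q ↔ (Cfsg.innerFusionSystem Q).IsWeaklyNormalIn F p := by
  haveI := finite_of_le hQ
  rw [isNormal_iff_autExtends hS hF hQ]
  exact ⟨fun h => ⟨isSaturated_inner (hS.to_le hQ), hF, inner_isInvariantIn hQ h⟩,
    fun h => autExtends_of_inner_invariant hQ h.2.2⟩

end CfsgLib.Fusion
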