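import Cfsg.Agent.Lib.Fusion.System.Functor

/-!
# Invariant subsystems over the whole group
-/

set_option autoImplicit false
set_option linter.style.haveILetI false

open Subgroup
open scoped Classical

namespace CfsgLib.Fusion

open Cfsg (FusionSystem autInducedBy)
open Cfsg.FusionSystem (normalizerIn centralizerIn)

variable {Ω : Type*} [Group Ω] {S : Subgroup Ω} {F E : FusionSystem S} {P R : Subgroup Ω}
  {f : Ω → Ω} {p : ℕ}

theorem isMap_of_subsystem (h : E.IsSubsystemOf F) (hf : IsMap E P f) : IsMap F P f := by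
  obtain ⟨φ, hφ, hφf⟩ := hf
  exact ⟨φ, h P hφ, hφf⟩

theorem autGroup_mono (h : E.IsSubsystemOf F) (hP : P ≤ S) : E.autGroup P ≤ F.autGroup P :=
  fun α hα => (mem_autGroup_iff hP).2 (isMap_of_subsystem h ((mem_autGroup_iff hP).1 hα))

/-- Automizers of an invariant subsystem are normal. -/
theorem conj_mem_autGroup_of_invariant (h : E.IsInvariantIn F) (hR : R ≤ S) {x β : MulAut R}
    (hx : x ∈ F.autGroup R) (hβ : β ∈ E.autGroup R) : x * β * x⁻¹ ∈ E.autGroup R := by
  obtain ⟨hsub, -, hinv, hfrat⟩ := h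
  have hxm := (mem_autGroup_iff hR).1 hx
  have hβm := (mem_autGroup_iff hR).1 hβ
  obtain ⟨φ, hφ, hφx⟩ := id hxm
  obtain ⟨α, hα, φ₀, hφ₀, hφα⟩ := hfrat R hR φ hφ
  set f₀ := toFun φ₀ with hf₀
  have hf₀m : IsMap E R f₀ := isMap_toFun hφ₀
  have hxv : ∀ y ∈ R, autFun x y = autFun α (f₀ y) := by
    intro y hy
    have h1 := hφα ⟨y, hy⟩ ((E.le_of_mem hφ₀).2 _)
    rw [hφx ⟨y, hy⟩] at h1
    rw [h1, hf₀, toFun_apply φ₀ hy, autFun_apply α ((E.le_of_mem hφ₀).2 _)]
  obtain ⟨f₀', hf₀', h01, h02⟩ := hf₀m.exists_inv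
  set R₁ := img R f₀ with hR₁
  have hR₁S : R₁ ≤ S := hf₀m.img_le
  have hf₁ : IsMap E R₁ (f₀ ∘ autFun β ∘ f₀') :=
    (hf₀'.comp hβm fun y hy => (h02 y hy).1).comp hf₀m
      fun y hy => autFun_mem β (h02 y hy).1
  obtain ⟨φ₁, hφ₁, hφ₁f⟩ := hf₁
  obtain ⟨χ, hχ, hχe⟩ := hinv R₁ hR₁S φ₁ hφ₁ α hα
  have himg : (R₁.subgroupOf S).map (S.subtype.comp α.toMonoidHom) = R := by
    rw [map_subgroupOf_eq_img hR₁S]
    show img R₁ (autFun α) = R
    rw [hR₁, img_img hf₀m]
    exact (IsMap.img_congr (f := autFun α ∘ f₀) (g := autFun x) fun y hy => (hxv y hy).symm).trans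
      (img_autFun x)
  have hχm : IsMap E R (toFun χ) := himg ▸ isMap_toFun hχ
  refine (mem_autGroup_iff hR).2 (hχm.congr fun u hu => ?_)
  obtain ⟨v, hv, rfl⟩ : ∃ v ∈ R, autFun x v = u :=
    hxm.mem_img.1 ((img_autFun x).ge hu)
  rw [← autFun_mul _ _ hv, inv_mul_cancel_right, autFun_mul _ _ hv]
  have hv₁ : f₀ v ∈ R₁ := hf₀m.mem_img.2 ⟨v, hv, rfl⟩
  have hmem : ((α ⟨f₀ v, hR₁S hv₁⟩ : S) : Ω) ∈
      (R₁.subgroupOf S).map (S.subtype.comp α.toMonoidHom) := ⟨⟨f₀ v, hR₁S hv₁⟩, hv₁, rfl⟩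
  have h1 := hχe ⟨f₀ v, hv₁⟩ ((E.le_of_mem hφ₁).2 _) hmem
  have e : autFun x v = ((α ⟨f₀ v, hR₁S hv₁⟩ : S) : Ω) := by
    rw [hxv v hv, autFun_apply α (hR₁S hv₁)]
  rw [e, toFun_apply χ hmem, h1, hxv _ (autFun_mem β hv), ← autFun_apply α ((E.le_of_mem hφ₁).2 _)]
  congr 1
  rw [hφ₁f ⟨f₀ v, hv₁⟩]
  show f₀ (autFun β v) = f₀ (autFun β (f₀' (f₀ v)))
  rw [h01 v hv]

variable [Finite S] [Fact p.Prime]

/-- A `p`-element of an automizer lies in an invariant subsystem over `S`. -/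
theorem pElement_mem_of_invariant (hS : IsPGroup p S) (hF : F.IsSaturated p)
    (h : E.IsInvariantIn F) (hR : F.IsFullyNormalized R) {a : MulAut R} (ha : a ∈ F.autGroup R)
    {k : ℕ} (hk : a ^ p ^ k = 1) : a ∈ E.autGroup R := by
  haveI := finite_of_le hR.1
  haveI := finite_mulAut (P := R)
  obtain ⟨-, hi⟩ := (isFullyAutomized_iff hS).1 (IsSaturated.automized_receptive hS hF hR).1
  obtain ⟨δ, hδ, hδA⟩ := exists_conj_le_of_not_dvd_relIndex (isPGroup_autInducedBy hS)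
    (autInducedBy_le_autGroup hR.1) hi (isPGroup_zpowers_of_pow hk) (Subgroup.zpowers_le.2 ha)
  have h1 : δ * a * δ⁻¹ ∈ E.autGroup R :=
    autInducedBy_le_autGroup hR.1 (hδA (conj_mem_conjBy (Subgroup.mem_zpowers a)))
  have h2 := conj_mem_autGroup_of_invariant h hR.1 (inv_mem hδ) h1
  rwa [show δ⁻¹ * (δ * a * δ⁻¹) * δ⁻¹⁻¹ = a by group] at h2

/-- A saturated invariant subsystem over `S` with the same automizer of `S` is everything. -/
theorem le_of_invariant (hS : IsPGroup p S) (hF : F.IsSaturated p) (h : E.IsInvariantIn F)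
    (htop : F.autGroup S ≤ E.autGroup S) (hf : IsMap F P f) : IsMap E P f := by
  refine isMap_of_autGroup_le hS hF (E := E) (fun R hR => ?_) hf
  induction hk : Nat.card S - Nat.card R using Nat.strong_induction_on generalizing R with
  | _ k ih =>
  by_cases hRS : R = S
  · subst hRS; exact htop
  have hRn : F.IsFullyNormalized R := (hR.resolve_left hRS).2.1
  have hR' := hRn.1
  haveI := finite_of_le hR'
  haveI := finite_mulAut (P := R)
  have big : ∀ {T : Subgroup Ω} {g : Ω → Ω}, IsMap F T g → Nat.card R < Nat.card T → IsMap E T g :=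
    fun {T g} hg hT => isMap_of_autGroup_le_above hS hF (fun R' hT' hR'' => ih _ (by
      have : Nat.card R' ≤ Nat.card S :=
        card_le_of_le' le_rfl (hR''.elim (fun e => e.le) fun e => e.1.1)
      omega) R' hR'' rfl) hg
  set X := F.autGroup R
  set A := autInducedBy S R
  set K := (E.autGroup R).subgroupOf X
  obtain ⟨-, hi⟩ := (isFullyAutomized_iff hS).1 (IsSaturated.automized_receptive hS hF hRn).1
  have hAE : A ≤ E.autGroup R := autInducedBy_le_autGroup hR'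
  have hAX : A ≤ X := autInducedBy_le_autGroup hR'
  have hiE : ¬ p ∣ A.relIndex (E.autGroup R) := fun hd => hi (hd.trans
    (Dvd.intro _ (Subgroup.relIndex_mul_relIndex A _ X hAE (autGroup_mono h.1 hR'))))
  intro x hx
  obtain ⟨κ, hκ, hκA⟩ := exists_conj_le_of_not_dvd_relIndex (isPGroup_autInducedBy hS) hAE hiE
    (isPGroup_conjBy x (isPGroup_autInducedBy hS))
    (conjBy_le_iff.2 fun a ha => conj_mem_autGroup_of_invariant h hR' hx (hAE ha))
  rw [conjBy_conjBy] at hκA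
  -- `y = κ x` normalizes `A`, so extends to `N_S(R)`
  set y := κ * x with hy
  have hyX : y ∈ X := mul_mem (autGroup_mono h.1 hR' hκ) hx
  have hym := (mem_autGroup_iff hR').1 hyX
  obtain ⟨g, hg, hgy⟩ := (isReceptive_iff.1 (IsSaturated.automized_receptive hS hF hRn).2).2 R _
    hym (img_autFun y)
  have hext : normalizerIn S R ≤ extSub S R (autFun y) := by
    intro n hn
    obtain ⟨m, hm, hme⟩ := mem_autInducedBy_iff.1 (hκA (conj_mem_conjBy (conjAut_mem hn.1 hn.2)))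
    refine ⟨hn, m, hm, fun z hz => ?_⟩
    rw [← autFun_conjAut hn.2 hz, ← hme _ (autFun_mem y hz), ← autFun_mul _ _ hz, ← autFun_mul _ _ hz,
      inv_mul_cancel_right]
  have hgE := big (hg.mono hext) (card_lt_of_lt inf_le_left (lt_normalizerIn hS hR' hRS))
  have hyE : y ∈ E.autGroup R :=
    (mem_autGroup_iff hR').2 ((hgE.mono (le_normalizerIn hR')).congr fun z hz => (hgy z hz).symm)
  rw [show x = κ⁻¹ * y by rw [hy, inv_mul_cancel_left]]
  exact mul_mem (inv_mem hκ) hyE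

/-- Conjugation by `g ∈ N(S)` lies in a saturated subsystem once it does so on a centric
subgroup. -/
theorem conj_isMap_of_centric (hS : IsPGroup p S) (hF : F.IsSaturated p) (hsub : E.IsSubsystemOf F)
    (hE : E.IsSaturated p) {g : Ω} (hg : IsMap F S (fun y => g * y * g⁻¹)) (hc : F.IsCentric R)
    (hgR : ∀ y ∈ R, g * y * g⁻¹ ∈ R) (hm : IsMap E R (fun y => g * y * g⁻¹)) :
    IsMap E S (fun y => g * y * g⁻¹) := by
  induction hk : Nat.card S - Nat.card R using Nat.strong_induction_on generalizing R with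
  | _ k ih =>
  by_cases hRS : R = S
  · exact hRS ▸ hm
  set N := normalizerIn S R with hN
  have hNS : N ≤ S := inf_le_left
  have hRN : R ≤ N := le_normalizerIn hc.1
  have himg : img R (fun y => g * y * g⁻¹) = R := img_eq_of_map_le hc.1 hm le_rfl hgR
  have hgN : ∀ n ∈ N, g * n * g⁻¹ ∈ N := fun n hn => by
    have := map_mem_normalizerIn hg hc.1 hn.1 hn.2
    rwa [himg] at this
  have hcE : E.IsCentric R := by
    refine ⟨hc.1, fun T hT => ?_⟩
    obtain ⟨f, hf, rfl⟩ := isConj_iff.1 hT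
    exact centralizerIn_img_le hc (isMap_of_subsystem hsub hf) le_rfl
  obtain ⟨e, he, hee⟩ := (isReceptive_iff.1 (IsSaturated.isReceptive hS hE
    (isFullyCentralized_of_isCentric hcE))).2 R _ hm himg
  have hext : N ≤ extSub S R (fun y => g * y * g⁻¹) := fun n hn =>
    ⟨hn, g * n * g⁻¹, (hgN n hn).1, fun y _ => by group⟩
  obtain ⟨z, hz, -, hzy⟩ := exists_eq_conj_of_agree hS hF hRN hc
    (isMap_of_subsystem hsub (he.mono hext)) (hg.mono hNS) hee
  have hconj : ∀ y ∈ N, z * y * z⁻¹ ∈ N := fun y hy =>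
    mul_mem (mul_mem (hRN hz) hy) (inv_mem (hRN hz))
  have hmN : IsMap E N (fun y => g * y * g⁻¹) :=
    ((isMap_conj hNS (hc.1 hz)).comp (he.mono hext) hconj).congr fun y hy => hzy y hy
  refine ih _ ?_ (isCentric_mono hc hRN hNS) hgN hmN rfl
  have h1 := card_lt_of_lt hNS (lt_normalizerIn hS hc.1 hRS)
  have h2 : Nat.card N ≤ Nat.card S := card_le_of_le' le_rfl hNS
  omega

end CfsgLib.Fusion
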