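import Cfsg.Agent.Lib.Fusion.System.TransferApps
import Cfsg.Agent.Lib.Fusion.System.InnerNormal
import Cfsg.Agent.Lib.Fusion.System.Invariant
import Cfsg.Prelude.Def_FusionComponents

/-!
# Systems over abelian groups, simple systems
-/

set_option autoImplicit false

open Subgroup
open scoped Classical commutatorElement

namespace CfsgLib.Fusion

open Cfsg (FusionSystem autInducedBy)
open Cfsg.FusionSystem (normalizerIn centralizerIn)

variable {Ω : Type*} [Group Ω] {S : Subgroup Ω} [Finite S] {F : FusionSystem S} {p : ℕ}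
  [Fact p.Prime]

omit [Fact p.Prime] in
theorem center_le_S : F.center ≤ S := sSup_le fun _ hQ => hQ.1

theorem abelian_isNormal_self (hS : IsPGroup p S) (hF : F.IsSaturated p)
    (hab : ∀ x ∈ S, ∀ y ∈ S, x * y = y * x) : F.IsNormal S :=
  isNormal_of_stronglyClosed_abelian hS hF
    (stronglyClosed_iff.2 ⟨le_rfl, fun _ _ _ hf _ hx => hf.mem_S hx⟩) hab

/-- The automizer of an abelian `S` has order prime to `p`. -/
theorem coprime_card_autGroup (hS : IsPGroup p S) (hF : F.IsSaturated p)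
    (hab : ∀ x ∈ S, ∀ y ∈ S, x * y = y * x) : Nat.Coprime (Nat.card (F.autGroup S)) p := by
  have hbot : autInducedBy S S = ⊥ := by
    rw [eq_bot_iff]
    intro α hα
    obtain ⟨g, hg, he⟩ := mem_autInducedBy_iff.1 hα
    refine Subgroup.mem_bot.2 (autFun_ext fun x hx => ?_)
    rw [autFun_one hx, he x hx, hab g hg x hx, mul_inv_cancel_right]
  have h := ((isFullyAutomized_iff hS).1
    (IsSaturated.automized_receptive hS hF isFullyNormalized_self).1).2
  rw [hbot, Subgroup.relIndex_bot_left] at h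
  exact ((Fact.out : p.Prime).coprime_iff_not_dvd.2 h).symm

/-- An abelian `S` is the product of the centre and the focal subgroup. -/
theorem center_sup_focal_eq (hS : IsPGroup p S) (hF : F.IsSaturated p)
    (hab : ∀ x ∈ S, ∀ y ∈ S, x * y = y * x) : F.center ⊔ F.focalSubgroup = S := by
  refine le_antisymm (sup_le center_le_S focal_le_S) fun x hx => ?_
  letI : CommGroup S :=
    { (inferInstance : Group S) with mul_comm := fun a b => Subtype.ext (hab a a.2 b b.2) }
  haveI := finite_mulAut (P := S)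
  haveI : Fintype (F.autGroup S) := Fintype.ofFinite _
  set z : S := ⟨x, hx⟩
  set c : S := ∏ α : F.autGroup S, (α : MulAut S) z with hc
  have hfix : ∀ β ∈ F.autGroup S, β c = c := by
    intro β hβ
    rw [hc, map_prod]
    exact Fintype.prod_equiv (Equiv.mulLeft ⟨β, hβ⟩) _ _ fun α => rfl
  have hcent : (c : Ω) ∈ F.center := by
    refine (le_sSup (a := Subgroup.zpowers (c : Ω)) ?_) (Subgroup.mem_zpowers _)
    refine (isCentral_iff).2 ⟨Subgroup.zpowers_le.2 c.2, fun P f hf => ?_⟩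
    obtain ⟨g, hg, hgf, hgS⟩ := (isNormal_iff.1 (abelian_isNormal_self hS hF hab)).2 P f hf
    have hgS' := hg.mono (le_sup_right : S ≤ P ⊔ S)
    refine ⟨g, hg.mono (sup_le_sup_left (Subgroup.zpowers_le.2 c.2) P), hgf, fun y hy => ?_⟩
    obtain ⟨k, rfl⟩ := Subgroup.mem_zpowers_iff.1 hy
    have hk : (c : Ω) ^ k ∈ S := zpow_mem c.2 k
    rw [← autFun_autOf hgS' hgS hk, ← Subgroup.coe_zpow, autFun_coe, map_zpow,
      hfix _ (autOf_mem hgS' hgS), Subgroup.coe_zpow]
  have hfoc : ∀ α : F.autGroup S, ((((α : MulAut S) z)⁻¹ * z : S) : Ω) ∈ F.focalSubgroup := by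
    intro α
    have h := inv_mem (map_mem_focal ((mem_autGroup_iff le_rfl).1 α.2) hx)
    rw [autFun_apply _ hx, mul_inv_rev, inv_inv] at h
    simpa using h
  set n := Fintype.card (F.autGroup S)
  have hprod : z ^ n = c * ∏ α : F.autGroup S, ((α : MulAut S) z)⁻¹ * z := by
    rw [hc, ← Finset.prod_mul_distrib]
    simp [n]
  have hmem : ((z ^ n : S) : Ω) ∈ F.center ⊔ F.focalSubgroup := by
    rw [hprod, Subgroup.coe_mul]
    refine Subgroup.mul_mem_sup hcent ?_
    rw [← Subgroup.mem_subgroupOf]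
    exact prod_mem fun α _ => Subgroup.mem_subgroupOf.2 (hfoc α)
  obtain ⟨k, hk⟩ := hS z
  have hcop : Nat.Coprime n (orderOf z) := by
    refine Nat.Coprime.coprime_dvd_right (orderOf_dvd_of_pow_eq_one hk) (Nat.Coprime.pow_right k ?_)
    rw [show n = Nat.card (F.autGroup S) from Nat.card_eq_fintype_card.symm]
    exact coprime_card_autGroup hS hF hab
  obtain ⟨m, hm⟩ := exists_pow_eq_self_of_coprime hcop
  have h2 := pow_mem hmem m
  rwa [← Subgroup.coe_pow, hm] at h2

theorem center_inf_focal_eq_bot (hS : IsPGroup p S) (hF : F.IsSaturated p)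
    (hab : ∀ x ∈ S, ∀ y ∈ S, x * y = y * x) : F.center ⊓ F.focalSubgroup = ⊥ := by
  rw [eq_bot_iff, inf_comm]
  refine (focal_inf_center_le hS hF).trans (Subgroup.commutator_le.2 fun a ha b hb => ?_)
  rw [Subgroup.mem_bot, commutatorElement_eq_one_iff_mul_comm]
  exact hab a ha b hb

/-- The inner system of a normal subgroup is a normal subsystem. -/
theorem inner_isNormalIn (hS : IsPGroup p S) (hF : F.IsSaturated p) {Q : Subgroup Ω}
    (hQ : F.IsNormal Q) : (Cfsg.innerFusionSystem Q).IsNormalIn F p := by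
  refine ⟨(isNormal_iff_inner_weaklyNormal hS hF hQ.1).1 hQ, fun α hα => ?_⟩
  obtain ⟨-, g, hg, he⟩ := isMap_inner_iff.1 ((mem_autGroup_iff le_rfl).1 hα)
  have hgn : g ∈ Subgroup.normalizer ((Q ⊔ centralizerIn S Q : Subgroup Ω) : Set Ω) :=
    Subgroup.le_normalizer (Subgroup.mem_sup_left hg)
  refine ⟨conjAut g hgn, autInducedBy_le_autGroup (sup_le hQ.1 inf_le_left)
    (conjAut_mem (hQ.1 hg) hgn), fun x => ?_, fun c hc => ?_⟩
  · rw [← autFun_coe, ← autFun_coe, Subgroup.coe_inclusion, he x x.2,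
      autFun_conjAut hgn (Subgroup.mem_sup_left x.2)]
  · rw [← autFun_coe, autFun_conjAut hgn c.2,
      Subgroup.mem_centralizer_iff.1 hc.2 g hg, mul_inv_cancel_right, inv_mul_cancel]
    exact one_mem _

/-- A simple system over an abelian group is inner, over a group of order `p`. -/
theorem simple_abelian (hS : IsPGroup p S) (hF : F.IsSaturated p)
    (hab : ∀ x ∈ S, ∀ y ∈ S, x * y = y * x) (h : F.IsSimple p) :
    Nat.card S = p ∧ ∀ P : Subgroup Ω, F.Hom P = (Cfsg.innerFusionSystem S).Hom P := by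
  obtain ⟨-, hne, hsimp⟩ := h
  have hinner : ∀ P, F.Hom P = (Cfsg.innerFusionSystem S).Hom P := by
    rcases hsimp S _ (inner_isNormalIn hS hF (abelian_isNormal_self hS hF hab)) with h1 | ⟨-, h1⟩
    · exact absurd h1 hne
    · exact fun P => (h1 P).symm
  refine ⟨?_, hinner⟩
  haveI : Nontrivial S := (Subgroup.nontrivial_iff_ne_bot S).2 hne
  obtain ⟨n, hn0, hn⟩ := hS.nontrivial_iff_card.1 ‹_›
  obtain ⟨⟨a, ha⟩, haord⟩ := exists_prime_orderOf_dvd_card' p (G := S)
    (hn ▸ dvd_pow_self p hn0.ne')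
  rw [Subgroup.orderOf_mk] at haord
  have hsc : F.StronglyClosed (Subgroup.zpowers a) := by
    refine stronglyClosed_iff.2 ⟨Subgroup.zpowers_le.2 ha, fun R f hR hf x hx => ?_⟩
    obtain ⟨s, hs, he⟩ := isInner_iff.2 hinner R f hf
    rw [he x hx, hab s hs x (Subgroup.zpowers_le.2 ha (hR hx)), mul_inv_cancel_right]
    exact hR hx
  have hnormal := isNormal_of_stronglyClosed_abelian hS hF hsc fun u hu v hv =>
    hab u (Subgroup.zpowers_le.2 ha hu) v (Subgroup.zpowers_le.2 ha hv)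
  rcases hsimp _ _ (inner_isNormalIn hS hF hnormal) with h1 | ⟨h1, -⟩
  · rw [Subgroup.zpowers_eq_bot] at h1
    rw [h1, orderOf_one] at haord
    exact absurd haord.symm (Fact.out : p.Prime).ne_one
  · rw [← h1, Nat.card_zpowers, haord]

/-- The inner system on a group of order `p` is simple. -/
theorem isSimple_of_card_prime (hF : F.IsSaturated p) (hcard : Nat.card S = p)
    (h : ∀ P : Subgroup Ω, F.Hom P = (Cfsg.innerFusionSystem S).Hom P) : F.IsSimple p := by
  refine ⟨hF, fun hb => ?_, fun T E hE => ?_⟩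
  · rw [hb, Subgroup.card_bot] at hcard
    exact (Fact.out : p.Prime).ne_one hcard.symm
  obtain ⟨-, -, hsub, hT, -⟩ := hE.1
  rcases (Nat.dvd_prime (Fact.out : p.Prime)).1 (hcard ▸ Subgroup.card_dvd_of_le hT.1) with h1 | h1
  · exact Or.inl (Subgroup.eq_bot_of_card_eq _ h1)
  · obtain rfl : T = S := eq_of_le_of_card_le le_rfl hT.1 (by rw [h1, hcard])
    refine Or.inr ⟨rfl, fun P => Set.Subset.antisymm (hsub P) fun φ hφ => ?_⟩
    rw [h P] at hφ
    obtain ⟨hP, g, hg, he⟩ := hφ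
    rw [show φ = Cfsg.conjHom P g from MonoidHom.ext fun x => he x]
    exact E.conj_mem hP hg

/-- Inner top automizer and no proper strongly closed subgroup: simple. -/
theorem isSimple_of_no_stronglyClosed (hS : IsPGroup p S) (hF : F.IsSaturated p) (hS1 : S ≠ ⊥)
    (htop : F.autGroup S = Cfsg.Inn S)
    (hsc : ∀ T : Subgroup Ω, F.StronglyClosed T → T = ⊥ ∨ T = S) : F.IsSimple p := by
  refine ⟨hF, hS1, fun T E hE => ?_⟩
  obtain ⟨-, -, hinv⟩ := hE.1
  rcases hsc T hinv.2.1 with h | rfl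
  · exact Or.inl h
  refine Or.inr ⟨rfl, fun P => Set.Subset.antisymm (hinv.1 P) fun φ hφ => ?_⟩
  exact mem_hom_iff.2 (le_of_invariant hS hF hinv
    (htop.le.trans (inn_le_autGroup le_rfl)) (isMap_toFun hφ))

theorem isSimple_of_transitive (hS : IsPGroup p S) (hF : F.IsSaturated p) (hS1 : S ≠ ⊥)
    (hgen : Subgroup.closure {x : Ω | x ∈ S ∧ orderOf x = p} = S)
    (htr : ∀ A B : Subgroup Ω, A ≤ S → B ≤ S → Nat.card A = p → Nat.card B = p → F.IsConj A B)
    (htop : F.autGroup S = Cfsg.Inn S) : F.IsSimple p := by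
  refine isSimple_of_no_stronglyClosed hS hF hS1 htop fun T hT => ?_
  by_cases hb : T = ⊥
  · exact Or.inl hb
  haveI := finite_of_le hT.1
  haveI : Nontrivial T := (Subgroup.nontrivial_iff_ne_bot T).2 hb
  obtain ⟨n, hn0, hn⟩ := (hS.to_le hT.1).nontrivial_iff_card.1 ‹_›
  obtain ⟨⟨a, ha⟩, haord⟩ := exists_prime_orderOf_dvd_card' p (G := T)
    (hn ▸ dvd_pow_self p hn0.ne')
  rw [Subgroup.orderOf_mk] at haord
  refine Or.inr (le_antisymm hT.1 ?_)
  rw [← hgen, Subgroup.closure_le]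
  rintro x ⟨hx, hxo⟩
  obtain ⟨f, hf, himg⟩ := isConj_iff.1 (htr (Subgroup.zpowers a) (Subgroup.zpowers x)
    (Subgroup.zpowers_le.2 (hT.1 ha)) (Subgroup.zpowers_le.2 hx)
    (by rw [Nat.card_zpowers, haord]) (by rw [Nat.card_zpowers, hxo]))
  obtain ⟨y, hy, hyx⟩ := hf.mem_img.1 (himg.ge (Subgroup.mem_zpowers x))
  rw [← hyx]
  exact (stronglyClosed_iff.1 hT).2 _ _ (Subgroup.zpowers_le.2 ha) hf y hy

end CfsgLib.Fusion
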