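import Cfsg.Agent.Lib.Fusion.System.Alperin
import Cfsg.Agent.Lib.Fusion.System.Normal
import Cfsg.Agent.Lib.Fusion.System.Group
import Cfsg.Agent.Lib.Fusion.Residual
import Cfsg.Agent.Lib.Fusion.PComplement

/-!
# The hyperfocal subgroup of a saturated system
-/

set_option autoImplicit false

open Subgroup
open scoped Classical commutatorElement

namespace CfsgLib.Fusion

open Cfsg (FusionSystem autInducedBy)
open Cfsg.FusionSystem (normalizerIn centralizerIn)

variable {Ω : Type*} [Group Ω] {S : Subgroup Ω} {F : FusionSystem S} {p : ℕ}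
variable {P Q K : Subgroup Ω} {f : Ω → Ω}

/-- `K` absorbs the automorphisms of order prime to `p`: it is a subgroup of `S` normalized by `S`
and containing every `x⁻¹ α x` with `α` of order prime to `p`. -/
structure Absorbs (F : FusionSystem S) (p : ℕ) (K : Subgroup Ω) : Prop where
  le : K ≤ S
  normal : S ≤ Subgroup.normalizer (K : Set Ω)
  mem : ∀ P, P ≤ S → ∀ α : F.autGroup P, Nat.Coprime (orderOf α) p → ∀ x ∈ P,
    x⁻¹ * autFun (α : MulAut P) x ∈ K

theorem autFun_inv_apply (α : MulAut P) {x : Ω} (hx : x ∈ P) :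
    autFun α (autFun α⁻¹ x) = x := by
  rw [← autFun_mul _ _ hx, mul_inv_cancel, autFun_one hx]

theorem mem_of_mem_pResidual_aut (h : ∀ α : F.autGroup P, Nat.Coprime (orderOf α) p → ∀ x ∈ P,
      x⁻¹ * autFun (α : MulAut P) x ∈ K)
    {α : F.autGroup P} (hα : α ∈ Cfsg.pResidual p (F.autGroup P)) {x : Ω} (hx : x ∈ P) :
    x⁻¹ * autFun (α : MulAut P) x ∈ K := by
  unfold Cfsg.pResidual at hα
  induction hα using Subgroup.closure_induction generalizing x with
  | mem a ha => exact h a ha x hx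
  | one =>
      show x⁻¹ * autFun (1 : MulAut P) x ∈ K
      rw [autFun_one hx, inv_mul_cancel]
      exact one_mem K
  | mul a b _ _ ha hb =>
      have hbx := autFun_mem (b : MulAut P) hx
      have := mul_mem (hb hx) (ha hbx)
      rw [show ((a * b : F.autGroup P) : MulAut P) = (a : MulAut P) * b from rfl, autFun_mul _ _ hx]
      simpa [mul_assoc] using this
  | inv a _ ha =>
      have hax := autFun_mem (a : MulAut P)⁻¹ hx
      have := inv_mem (ha hax)
      rw [autFun_inv_apply _ hx, mul_inv_rev, inv_inv] at this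
      exact this

theorem Absorbs.mem_residual (h : Absorbs F p K) (hP : P ≤ S) {α : F.autGroup P}
    (hα : α ∈ Cfsg.pResidual p (F.autGroup P)) {x : Ω} (hx : x ∈ P) :
    x⁻¹ * autFun (α : MulAut P) x ∈ K :=
  mem_of_mem_pResidual_aut (h.mem P hP) hα hx

theorem hyperfocal_le (h : Absorbs F p K) : F.hyperfocalSubgroup p ≤ K := by
  refine (Subgroup.closure_le _).2 ?_
  rintro y ⟨P, α, x, hP, hα, rfl⟩
  have := h.mem_residual hP hα x.2
  rwa [autFun_coe] at this

theorem mem_hyperfocal (hP : P ≤ S) {α : F.autGroup P}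
    (hα : α ∈ Cfsg.pResidual p (F.autGroup P)) {x : Ω} (hx : x ∈ P) :
    x⁻¹ * autFun (α : MulAut P) x ∈ F.hyperfocalSubgroup p := by
  refine Subgroup.subset_closure ⟨P, α, ⟨x, hx⟩, hP, hα, ?_⟩
  rw [autFun_apply _ hx]

theorem hyperfocal_le_S : F.hyperfocalSubgroup p ≤ S := by
  refine (Subgroup.closure_le _).2 ?_
  rintro y ⟨P, α, x, hP, -, rfl⟩
  exact mul_mem (inv_mem (hP x.2)) (hP (SetLike.coe_mem _))

theorem absorbs_hyperfocal : Absorbs F p (F.hyperfocalSubgroup p) where
  le := hyperfocal_le_S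
  mem P hP α hα x hx := mem_hyperfocal hP (mem_pResidual hα) hx
  normal := by
    have key : ∀ s ∈ S, ∀ y ∈ F.hyperfocalSubgroup p, s * y * s⁻¹ ∈ F.hyperfocalSubgroup p := by
      intro s hs y hy
      unfold FusionSystem.hyperfocalSubgroup at hy
      induction hy using Subgroup.closure_induction with
      | mem y hy =>
          obtain ⟨P, α, x, hP, hα, rfl⟩ := hy
          have hc := isMap_conj (F := F) hP hs
          have hcx : s * (x : Ω) * s⁻¹ ∈ img P (fun z => s * z * s⁻¹) :=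
            hc.mem_img.2 ⟨x, x.2, rfl⟩
          let e : F.autGroup P →* F.autGroup (img P fun z => s * z * s⁻¹) :=
            ((MulAut.congr (mapEquiv hc)).toMonoidHom.comp (F.autGroup P).subtype).codRestrict _
              fun a => (congr_mem_autGroup_iff hc (a : MulAut P)).2 a.2
          have hres : Cfsg.pResidual p (F.autGroup P) ≤ (Cfsg.pResidual p _).comap e :=
            (Subgroup.closure_le _).2 fun a ha =>
              mem_pResidual (Nat.Coprime.coprime_dvd_left (orderOf_map_dvd e a) ha)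
          have h1 := mem_hyperfocal hc.img_le (hres hα) hcx
          rw [show ((e α : F.autGroup _) : MulAut _) = MulAut.congr (mapEquiv hc) (α : MulAut P)
            from rfl, autFun_congr hc _ x.2, autFun_coe] at h1
          simpa [mul_assoc] using h1
      | one => simp
      | mul a b _ _ ha hb => simpa [mul_assoc] using mul_mem ha hb
      | inv a _ ha => simpa [mul_assoc] using inv_mem ha
    intro s hs
    rw [Subgroup.mem_normalizer_iff]
    exact fun y => ⟨key s hs y, fun h => by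
      simpa [mul_assoc] using key s⁻¹ (inv_mem hs) _ h⟩

/-- `f` is, modulo `K`, conjugation by an element of `S`. -/
def ConjMod (S K P : Subgroup Ω) (f : Ω → Ω) : Prop :=
  ∃ g ∈ S, ∀ x ∈ P, f x * (g * x * g⁻¹)⁻¹ ∈ K

theorem conj_mem_of_normalizes {s y : Ω} (hn : s ∈ Subgroup.normalizer (K : Set Ω)) (hy : y ∈ K) :
    s * y * s⁻¹ ∈ K :=
  (Subgroup.mem_normalizer_iff.1 hn y).1 hy

theorem ConjMod.comp {g : Ω → Ω} (hn : S ≤ Subgroup.normalizer (K : Set Ω))
    (hf : ConjMod S K P f) (hg : ConjMod S K Q g) (h : ∀ x ∈ P, f x ∈ Q) :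
    ConjMod S K P (g ∘ f) := by
  obtain ⟨a, ha, hfa⟩ := hf
  obtain ⟨b, hb, hgb⟩ := hg
  refine ⟨b * a, mul_mem hb ha, fun x hx => ?_⟩
  have h2 := mul_mem (hgb _ (h x hx)) (conj_mem_of_normalizes (hn hb) (hfa x hx))
  show g (f x) * (b * a * x * (b * a)⁻¹)⁻¹ ∈ K
  simpa [mul_assoc] using h2

/-- The maps of `F` that are conjugations modulo `K` form a fusion system. -/
noncomputable def conjModSystem (F : FusionSystem S) {K : Subgroup Ω}
    (hn : S ≤ Subgroup.normalizer (K : Set Ω)) : FusionSystem S :=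
  mkSystem F S (fun P f => IsMap F P f ∧ ConjMod S K P f)
    (fun _ _ h => ⟨h.1, h.1.le, fun _ hx => h.1.mem_S hx⟩)
    (fun P f g h he => ⟨h.1.congr he, by
      obtain ⟨a, ha, hfa⟩ := h.2
      exact ⟨a, ha, fun x hx => by rw [he x hx]; exact hfa x hx⟩⟩)
    (fun P t hP ht => ⟨isMap_conj hP ht, t, ht, fun x _ => by
      show t * x * t⁻¹ * _ ∈ K
      rw [mul_inv_cancel]; exact one_mem K⟩)
    (fun P Q f g hf hg h => ⟨hf.1.comp hg.1 h, hf.2.comp hn hg.2 h⟩)
    (fun P f f' hf hf' h => ⟨hf', by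
      obtain ⟨a, ha, hfa⟩ := hf.2
      refine ⟨a⁻¹, inv_mem ha, fun y hy => ?_⟩
      obtain ⟨x, hx, rfl⟩ := hf.1.mem_img.1 hy
      have h2 := conj_mem_of_normalizes (hn (inv_mem ha)) (inv_mem (hfa x hx))
      rw [h x hx]
      simpa [mul_assoc] using h2⟩)

theorem hyperfocal_le_focal : F.hyperfocalSubgroup p ≤ F.focalSubgroup := by
  refine (Subgroup.closure_le _).2 ?_
  rintro y ⟨P, α, x, hP, -, rfl⟩
  refine Subgroup.subset_closure ⟨P, P.subtype.comp (α : MulAut P).toMonoidHom, x, ?_, rfl⟩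
  exact mem_hom_iff.2 ((mem_autGroup_iff hP).1 α.2)

theorem derived_le_focal : ⁅(S : Subgroup Ω), (S : Subgroup Ω)⁆ ≤ F.focalSubgroup := by
  rw [Subgroup.commutator_le]
  intro a ha b hb
  have hc : Cfsg.conjHom S b ∈ F.Hom S := F.conj_mem le_rfl hb
  have : a⁻¹⁻¹ * (b * a⁻¹ * b⁻¹) ∈ F.focalSubgroup :=
    Subgroup.subset_closure ⟨S, _, ⟨a⁻¹, inv_mem ha⟩, hc, rfl⟩
  simpa [commutatorElement_def, mul_assoc] using this

variable [Finite S] [Fact p.Prime]

theorem exists_conj_mul_residual (hP : F.IsFullyAutomized p P)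
    (α : F.autGroup P) :
    ∃ g ∈ normalizerIn S P, ∃ β : F.autGroup P, β ∈ Cfsg.pResidual p (F.autGroup P) ∧
      ∀ x ∈ P, autFun (α : MulAut P) x = g * autFun (β : MulAut P) x * g⁻¹ := by
  obtain ⟨hPS, R, hR⟩ := hP
  have := finite_of_le hPS
  have := finite_mulAut (P := P)
  have := pResidual_normal (G := F.autGroup P) (p := p)
  have h := (pResidual_sup_sylow R).ge (Subgroup.mem_top α)
  rw [sup_comm] at h
  obtain ⟨r, hr, β, hβ, rfl⟩ := Subgroup.mem_sup_of_normal_right.1 h
  rw [hR, Subgroup.mem_subgroupOf, mem_autInducedBy_iff] at hr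
  obtain ⟨g, hg, hga⟩ := hr
  refine ⟨g, ⟨hg, mem_normalizer_of_autFun hga⟩, β, hβ, fun x hx => ?_⟩
  rw [show ((r * β : F.autGroup P) : MulAut P) = (r : MulAut P) * β from rfl, autFun_mul _ _ hx]
  exact hga _ (autFun_mem _ hx)

/-- Every map of a saturated system is a conjugation modulo `K`. -/
theorem Absorbs.conjMod (h : Absorbs F p K) (hS : IsPGroup p S) (hF : F.IsSaturated p)
    (hf : IsMap F P f) : ConjMod S K P f := by
  refine ((isMap_mkSystem_iff _).1 (isMap_of_autGroup_le (E := conjModSystem F h.normal) hS hF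
    (fun R hR => ?_) hf)).2
  have hRn : F.IsFullyNormalized R := by
    rcases hR with rfl | hR
    · exact isFullyNormalized_self
    · exact hR.2.1
  intro α hα
  obtain ⟨g, hg, β, hβ, he⟩ := exists_conj_mul_residual
    (IsSaturated.automized_receptive hS hF hRn).1 ⟨α, hα⟩
  refine (mem_autGroup_iff hRn.1).2 ((isMap_mkSystem_iff _).2
    ⟨(mem_autGroup_iff hRn.1).1 hα, g, hg.1, fun x hx => ?_⟩)
  rw [show autFun α x = _ from he x hx]
  have hgN := h.normal hg.1
  have h2 := conj_mem_of_normalizes (h.normal (hRn.1 hx)) (h.mem_residual hRn.1 hβ hx)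
  simpa [mul_assoc] using conj_mem_of_normalizes hgN h2

theorem Absorbs.stronglyClosed (h : Absorbs F p K) (hS : IsPGroup p S) (hF : F.IsSaturated p) :
    F.StronglyClosed K := by
  refine ⟨h.le, fun R hR φ hφ x => ?_⟩
  obtain ⟨g, hg, hx⟩ := h.conjMod hS hF (isMap_toFun hφ)
  have h2 := mul_mem (hx x x.2) (conj_mem_of_normalizes (h.normal hg) (hR x.2))
  rwa [inv_mul_cancel_right, toFun_coe] at h2

theorem Absorbs.focal_le (h : Absorbs F p K) (hS : IsPGroup p S) (hF : F.IsSaturated p) :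
    F.focalSubgroup ≤ K ⊔ ⁅(S : Subgroup Ω), (S : Subgroup Ω)⁆ := by
  refine (Subgroup.closure_le _).2 ?_
  rintro y ⟨P, φ, x, hφ, rfl⟩
  have hP := (F.le_of_mem hφ).1
  obtain ⟨g, hg, hx⟩ := h.conjMod hS hF (isMap_toFun hφ)
  have h1 := Subgroup.mem_sup_left (T := ⁅(S : Subgroup Ω), (S : Subgroup Ω)⁆)
    (conj_mem_of_normalizes (h.normal (inv_mem (hP x.2))) (hx x x.2))
  have h2 : (x : Ω)⁻¹ * g * x⁻¹⁻¹ * g⁻¹ ∈ ⁅(S : Subgroup Ω), (S : Subgroup Ω)⁆ := by
    have := Subgroup.commutator_mem_commutator (H₁ := S) (H₂ := S) (inv_mem (hP x.2)) hg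
    rwa [commutatorElement_def] at this
  have h3 := mul_mem h1 (Subgroup.mem_sup_right (S := K) h2)
  rw [toFun_coe] at h3
  simpa [mul_assoc] using h3

theorem focal_eq (hS : IsPGroup p S) (hF : F.IsSaturated p) :
    F.focalSubgroup = F.hyperfocalSubgroup p ⊔ ⁅(S : Subgroup Ω), (S : Subgroup Ω)⁆ :=
  le_antisymm (absorbs_hyperfocal.focal_le hS hF) (sup_le hyperfocal_le_focal derived_le_focal)

end CfsgLib.Fusion
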