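import Cfsg.Agent.Lib.Fusion.System.Puig
import Cfsg.Agent.Lib.Fusion.System.Hyperfocal

/-!
# Hyperfocal subgroups of factor systems
-/

set_option autoImplicit false

open Subgroup
open scoped Classical

namespace CfsgLib.Fusion

open Cfsg (FusionSystem)
open Cfsg.FusionSystem (normalizerIn centralizerIn preimageAlong)

variable {Ω Ω' : Type*} [Group Ω] [Group Ω'] {S : Subgroup Ω} {S' : Subgroup Ω'}
  {F : FusionSystem S} {F' : FusionSystem S'} {α : S →* Ω'} {p : ℕ}

variable [Finite S] [Fact p.Prime]

/-- A surjective morphism maps hyperfocal subgroup onto hyperfocal subgroup. -/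
theorem hyperfocal_of_surjectiveMorphism (hα : F.IsSurjectiveMorphism F' α) :
    F'.hyperfocalSubgroup p = ((F.hyperfocalSubgroup p).subgroupOf S).map α := by
  set K := F.hyperfocalSubgroup p with hKdef
  have hKS : K ≤ S := hyperfocal_le_S
  have hr : α.range = S' := hα.2.1
  show _ = imgι α K
  apply le_antisymm
  · refine hyperfocal_le ⟨(imgι_le_range K).trans hr.le, fun s hs => ?_,
      fun P' hP' β hβ y hy => ?_⟩
    · obtain ⟨u, rfl⟩ := hr.ge hs
      have key : ∀ v : S, ∀ z ∈ imgι α K, α v * z * (α v)⁻¹ ∈ imgι α K := by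
        intro v z hz
        obtain ⟨x, hx, rfl⟩ := (mem_imgι hKS).1 hz
        refine (mem_imgι hKS).2
          ⟨_, conj_mem_of_normalizes (absorbs_hyperfocal.normal v.2) hx, ?_⟩
        rw [ext1_conj α v.2 (hKS hx), ext1_coe]
      rw [Subgroup.mem_normalizer_iff]
      exact fun z => ⟨key u z, fun hz => by
        have h1 := key u⁻¹ _ hz
        rw [map_inv] at h1
        simpa [mul_assoc] using h1⟩
    · obtain ⟨f, hf, hfe⟩ := exists_lift_map hα ((mem_autGroup_iff hP').1 β.2)
      set P := preimageAlong α P' with hP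
      have hPS : P ≤ S := preimageAlong_le α P'
      haveI := finite_of_le hPS
      haveI := finite_mulAut (P := P)
      have himg : img P f = P := img_eq_of_map_le hPS hf le_rfl fun x hx =>
        mem_preimageAlong.2 ⟨hf.mem_S hx, by
          rw [hfe x hx]; exact autFun_mem _ (mem_preimageAlong.1 hx).2⟩
      set γ₀ : F.autGroup P := ⟨autOf hf himg, autOf_mem hf himg⟩
      have hres : ∀ (j : ℕ) (x : Ω), x ∈ P →
          ext1 α (autFun ((γ₀ ^ j : F.autGroup P) : MulAut P) x) =
            autFun ((β ^ j : F'.autGroup P') : MulAut P') (ext1 α x) := by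
        intro j
        induction j with
        | zero => intro x hx; simp [autFun_one hx, autFun_one (mem_preimageAlong.1 hx).2]
        | succ j ih =>
            intro x hx
            rw [pow_succ, pow_succ, Subgroup.coe_mul, Subgroup.coe_mul, autFun_mul _ _ hx,
              autFun_mul _ _ (mem_preimageAlong.1 hx).2, ih _ (autFun_mem _ hx),
              show autFun (γ₀ : MulAut P) x = f x from autFun_autOf hf himg hx, hfe x hx]
      set k := (orderOf γ₀).factorization p
      obtain ⟨m, hm⟩ := exists_pow_eq_self_of_coprime (x := β) (n := p ^ k)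
        (Nat.Coprime.pow_left k hβ.symm)
      set γ := (γ₀ ^ p ^ k) ^ m with hγdef
      have hγco : Nat.Coprime (orderOf γ) p := by
        refine Nat.Coprime.coprime_dvd_left (orderOf_pow_dvd m) ?_
        rw [orderOf_pow_of_dvd (pow_ne_zero _ (Fact.out : p.Prime).ne_zero) (Nat.ordProj_dvd _ _)]
        exact (Nat.coprime_ordCompl (Fact.out : p.Prime) (orderOf_pos γ₀).ne').symm
      obtain ⟨s, rfl⟩ := hr.ge (hP' hy)
      have hx : (s : Ω) ∈ P := mem_preimageAlong.2 ⟨s.2, by rwa [ext1_coe]⟩
      have h1 := hres (p ^ k * m) s hx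
      rw [pow_mul, pow_mul, hm, ← hγdef, ext1_coe] at h1
      refine (mem_imgι hKS).2 ⟨_, absorbs_hyperfocal.mem P hPS γ hγco s hx, ?_⟩
      rw [ext1_mul α (inv_mem s.2) (hPS (autFun_mem _ hx)), ext1_inv α s.2, h1, ext1_coe]
  · set L := preimageAlong α (F'.hyperfocalSubgroup p) with hL
    have hKL : K ≤ L := by
      refine hyperfocal_le ⟨preimageAlong_le α _, fun s hs => ?_, fun P hP a ha x hx => ?_⟩
      · have key : ∀ v ∈ S, ∀ z ∈ L, v * z * v⁻¹ ∈ L := by
          intro v hv z hz
          obtain ⟨hzS, hz'⟩ := mem_preimageAlong.1 hz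
          refine mem_preimageAlong.2 ⟨S.mul_mem (S.mul_mem hv hzS) (S.inv_mem hv), ?_⟩
          rw [ext1_conj α hv hzS]
          exact conj_mem_of_normalizes
            (absorbs_hyperfocal.normal (hr.le (ext1_mem_range α v))) hz'
        rw [Subgroup.mem_normalizer_iff]
        exact fun z => ⟨key s hs z, fun hz => by
          simpa [mul_assoc] using key s⁻¹ (inv_mem hs) _ hz⟩
      · obtain ⟨g, hg, hge⟩ := exists_image_map hα ((mem_autGroup_iff hP).1 a.2)
        set P' := imgι α P with hP'
        have hP'S : P' ≤ S' := (imgι_le_range P).trans hr.le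
        haveI : Finite α.range := Finite.of_surjective α.rangeRestrict α.rangeRestrict_surjective
        haveI : Finite S' := hr ▸ this
        have hinto : ∀ y ∈ P', g y ∈ P' := fun y hy => by
          obtain ⟨z, hz, rfl⟩ := (mem_imgι hP).1 hy
          rw [hge z hz]
          exact ext1_mem_imgι hP (autFun_mem _ hz)
        have himg : img P' g = P' := img_eq_of_map_le hP'S hg le_rfl hinto
        set b : F'.autGroup P' := ⟨autOf hg himg, autOf_mem hg himg⟩
        have hres : ∀ (j : ℕ) (z : Ω), z ∈ P →
            autFun ((b ^ j : F'.autGroup P') : MulAut P') (ext1 α z) =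
              ext1 α (autFun ((a ^ j : F.autGroup P) : MulAut P) z) := by
          intro j
          induction j with
          | zero => intro z hz; simp [autFun_one hz, autFun_one (ext1_mem_imgι hP hz)]
          | succ j ih =>
              intro z hz
              rw [pow_succ, pow_succ, Subgroup.coe_mul, Subgroup.coe_mul, autFun_mul _ _ hz,
                autFun_mul _ _ (ext1_mem_imgι hP hz),
                show autFun (b : MulAut P') (ext1 α z) = g (ext1 α z) from
                  autFun_autOf hg himg (ext1_mem_imgι hP hz), hge z hz, ih _ (autFun_mem _ hz)]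
        have hb : b ^ orderOf a = 1 := by
          refine Subtype.ext (autFun_ext fun y hy => ?_)
          obtain ⟨z, hz, rfl⟩ := (mem_imgι hP).1 hy
          rw [hres _ z hz, pow_orderOf_eq_one, OneMemClass.coe_one, OneMemClass.coe_one,
            autFun_one hz, autFun_one hy]
        have h1 := absorbs_hyperfocal.mem P' hP'S b
          (Nat.Coprime.coprime_dvd_left (orderOf_dvd_of_pow_eq_one hb) ha)
          (ext1 α x) (ext1_mem_imgι hP hx)
        refine mem_preimageAlong.2 ⟨S.mul_mem (S.inv_mem (hP hx)) (hP (autFun_mem _ hx)), ?_⟩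
        have h2 := hres 1 x hx
        rw [pow_one, pow_one] at h2
        rwa [ext1_mul α (S.inv_mem (hP hx)) (hP (autFun_mem _ hx)), ext1_inv α (hP hx), ← h2]
    intro y hy
    obtain ⟨x, hx, rfl⟩ := (mem_imgι hKS).1 hy
    exact (mem_preimageAlong.1 (hKL hx)).2

end CfsgLib.Fusion
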