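import Cfsg.Agent.Lib.Fusion.System.ThetaLoop
import Cfsg.Agent.Lib.Fusion.System.Inner

/-!
# Subsystems of `p`-power index

For `T` containing the hyperfocal subgroup the maps having a chain with value in `T` form the
saturated subsystem of `p`-power index over `T`; it is the only one, and it is normal when `T` is.
-/

set_option autoImplicit false
set_option maxHeartbeats 1000000
set_option linter.style.haveILetI false

open Subgroup
open scoped Classical

namespace CfsgLib.Fusion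

open Cfsg (FusionSystem autInducedBy)
open Cfsg.FusionSystem (normalizerIn centralizerIn)

universe u

variable {Ω : Type u} [Group Ω] {S T : Subgroup Ω} {F : FusionSystem S} {p : ℕ}
  {P Q : Subgroup Ω} {f : Ω → Ω} {g : Ω}

theorem chain_map_mem (hTS : T ≤ S) (hT : F.hyperfocalSubgroup p ≤ T) (h : Chain F p P f g)
    (hP : P ≤ T) (hg : ∀ x ∈ P, g * x * g⁻¹ ∈ T) {x : Ω} (hx : x ∈ P) : f x ∈ T := by
  have h1 := hTS
  have h2 := T.mul_mem (hT (h.mod absorbs_hyperfocal x hx)) (hg x hx)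
  rwa [inv_mul_cancel_right] at h2

/-- Maps with a chain whose value lies in `T`. -/
def PMap (F : FusionSystem S) (p : ℕ) (T P : Subgroup Ω) (f : Ω → Ω) : Prop :=
  P ≤ T ∧ ∃ g ∈ T, Chain F p P f g

theorem PMap.map_mem (hTS : T ≤ S) (hT : F.hyperfocalSubgroup p ≤ T) (h : PMap F p T P f)
    {x : Ω} (hx : x ∈ P) : f x ∈ T := by
  obtain ⟨hP, g, hg, hc⟩ := h
  exact chain_map_mem hTS hT hc hP (fun y hy => T.mul_mem (T.mul_mem hg (hP hy)) (T.inv_mem hg)) hx

/-- The subsystem of `p`-power index over `T`. -/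
noncomputable def pSystem (F : FusionSystem S) (p : ℕ) (T : Subgroup Ω) (hTS : T ≤ S)
    (hT : F.hyperfocalSubgroup p ≤ T) : FusionSystem T :=
  mkSystem F T (PMap F p T)
    (fun _ _ h => ⟨h.2.choose_spec.2.isMap, h.1, fun _ hx => h.map_mem hTS hT hx⟩)
    (fun _ _ _ ⟨hP, g, hg, hc⟩ he => ⟨hP, g, hg, hc.congr he⟩)
    (fun _ t hP ht => ⟨hP, t, ht, Chain.conj (hP.trans hTS) (hTS ht)⟩)
    (fun _ _ _ _ ⟨hP, g, hg, hc⟩ ⟨_, g', hg', hc'⟩ h => ⟨hP, g' * g, T.mul_mem hg' hg, hc.comp hc' h⟩)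
    (fun P f f' h _ he => by
      obtain ⟨hP, g, hg, hc⟩ := id h
      obtain ⟨k, hk, hkf⟩ := hc.inv
      refine ⟨hc.isMap.img_le_of_forall fun x hx => h.map_mem hTS hT hx, g⁻¹, T.inv_mem hg,
        hk.congr fun y hy => ?_⟩
      obtain ⟨x, hx, rfl⟩ := hc.isMap.mem_img.1 hy
      rw [he x hx, hkf x hx])

variable {hTS : T ≤ S} {hT : F.hyperfocalSubgroup p ≤ T}

theorem isMap_pSystem_iff : IsMap (pSystem F p T hTS hT) P f ↔ PMap F p T P f :=
  isMap_mkSystem_iff _

theorem pSystem_isSubsystemOf : (pSystem F p T hTS hT).IsSubsystemOf F := fun _ _ hφ =>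
  mem_hom_iff.2 (isMap_pSystem_iff.1 (isMap_toFun hφ)).2.choose_spec.2.isMap

theorem pSystem_hasPPowerIndex : (pSystem F p T hTS hT).HasPPowerIndexIn F p := by
  refine ⟨pSystem_isSubsystemOf, hT, fun P hP => ?_⟩
  rintro _ ⟨β, hβ, rfl⟩
  exact (mem_autGroup_iff hP).2
    (isMap_pSystem_iff.2 ⟨hP, 1, one_mem T, Chain.residual (hP.trans hTS) hβ⟩)

/-- Maps of a subsystem of `F` send the residual of the automizer into the residual. -/
theorem residual_of_subsystem {E : FusionSystem T} (hE : E.IsSubsystemOf F) (hTS : T ≤ S)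
    (hP : P ≤ T) {β : E.autGroup P} (hβ : β ∈ Cfsg.pResidual p (E.autGroup P)) :
    ∃ β' : F.autGroup P, β' ∈ Cfsg.pResidual p (F.autGroup P) ∧ (β' : MulAut P) = β := by
  let inc : E.autGroup P →* F.autGroup P := (E.autGroup P).subtype.codRestrict _ fun b => by
    obtain ⟨φ, hφ, hφe⟩ := (mem_autGroup_iff hP).1 b.2
    exact (mem_autGroup_iff (hP.trans hTS)).2 ⟨φ, hE P hφ, hφe⟩
  have hle : Cfsg.pResidual p (E.autGroup P) ≤ (Cfsg.pResidual p (F.autGroup P)).comap inc :=
    (Subgroup.closure_le _).2 fun b hb =>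
      mem_pResidual (Nat.Coprime.coprime_dvd_left (orderOf_map_dvd inc b) hb)
  exact ⟨inc β, hle hβ, rfl⟩

variable [Finite S] [Fact p.Prime]

theorem isFullyNormalized_conj (hQ : F.IsFullyNormalized Q) {s : Ω} (hs : s ∈ S) :
    F.IsFullyNormalized (img Q fun x => s * x * s⁻¹) := by
  have hc := isMap_conj (F := F) hQ.1 hs
  refine ⟨hc.img_le, fun R hR => le_trans
    (hQ.2 R (isConj_trans (isConj_iff.2 ⟨_, hc, rfl⟩) hR)) ?_⟩
  have hS' := isMap_conj (F := F) (le_refl S) hs
  have hN : normalizerIn S Q ≤ S := inf_le_left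
  rw [← (hS'.mono hN).card_img]
  refine card_le_of_le' inf_le_left fun y hy => ?_
  obtain ⟨n, hn, rfl⟩ := (hS'.mono hN).mem_img.1 hy
  exact map_mem_normalizerIn hS' hQ.1 hn.1 hn.2

/-- The subsystem of `p`-power index is saturated. -/
theorem isSaturated_pSystem (hS : IsPGroup p S) (hF : F.IsSaturated p) :
    (pSystem F p T hTS hT).IsSaturated p := by
  intro P hPT
  haveI : Finite T := finite_of_le hTS
  set E := pSystem F p T hTS hT with hE
  set K := F.hyperfocalSubgroup p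
  have hK : Absorbs F p K := absorbs_hyperfocal
  -- a fully normalized conjugate, reached with value `1`
  obtain ⟨R₀, hPR₀, hR₀⟩ := exists_fullyNormalized (F := F) (hPT.trans hTS)
  obtain ⟨f₀, hf₀, hf₀img⟩ := isConj_iff.1 hPR₀
  obtain ⟨e, he⟩ := exists_chain hS hF hf₀
  have hch : Chain F p P ((fun x => e⁻¹ * x * e⁻¹⁻¹) ∘ f₀) 1 := by
    have h1 := he.comp (Chain.conj (le_refl S) (S.inv_mem he.mem_S)) fun x hx => hf₀.mem_S hx
    rwa [inv_mul_cancel] at h1
  have hEm : IsMap E P ((fun x => e⁻¹ * x * e⁻¹⁻¹) ∘ f₀) :=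
    isMap_pSystem_iff.2 ⟨hPT, 1, one_mem T, hch⟩
  set R := img P ((fun x => e⁻¹ * x * e⁻¹⁻¹) ∘ f₀) with hRdef
  have hRn : F.IsFullyNormalized R := by
    rw [hRdef, ← img_img hf₀, hf₀img]
    exact isFullyNormalized_conj hR₀ (S.inv_mem he.mem_S)
  have hRT : R ≤ T := hEm.img_le
  have hRS : R ≤ S := hRn.1
  have hRc := IsSaturated.isFullyCentralized hS hF hRn
  obtain ⟨hauto, hrec⟩ := IsSaturated.automized_receptive hS hF hRn
  refine ⟨R, isConj_iff.2 ⟨_, hEm, rfl⟩, ?_, ?_⟩
  · -- fully automized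
    haveI := finite_of_le hRS
    haveI := finite_mulAut (P := R)
    set A := autInducedBy S R with hA
    set AT := autInducedBy T R with hAT
    set Y := E.autGroup R with hY
    have hATY : AT ≤ Y := autInducedBy_le_autGroup hRT
    have hYA : ∀ y ∈ Y, y ∈ A → y ∈ AT := by
      intro y hy hyA
      obtain ⟨n, hn, hne⟩ := mem_autInducedBy_iff.1 hyA
      have hnN : n ∈ normalizerIn S R := ⟨hn, mem_normalizer_of_autFun hne⟩
      obtain ⟨-, t, ht, hct⟩ := isMap_pSystem_iff.1 ((mem_autGroup_iff hRT).1 hy)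
      have hloop : Chain F p R ((fun x => n⁻¹ * x * n⁻¹⁻¹) ∘ autFun y) (n⁻¹ * t) :=
        hct.comp (Chain.conj hRS (S.inv_mem hn)) fun x hx => autFun_mem y hx
      have h1 := CentTheta.loop_mem_centK hK hS hF _ R rfl hRc _ _ hloop fun x hx => by
        show n⁻¹ * autFun y x * n⁻¹⁻¹ = x
        rw [hne x hx]; group
      obtain ⟨c, hc, k, hk, hck⟩ := CentTheta.exists_eq_mul_of_mem_centK hK h1
      have hnc : n * c = t * k⁻¹ := by
        calc n * c = n * (c * k) * k⁻¹ := by group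
          _ = n * (n⁻¹ * t) * k⁻¹ := by rw [hck]
          _ = t * k⁻¹ := by group
      have hncT : n * c ∈ T := hnc ▸ T.mul_mem ht (T.inv_mem (hT hk))
      refine mem_autInducedBy_iff.2 ⟨n * c, hncT, fun x hx => ?_⟩
      rw [hne x hx]
      calc n * x * n⁻¹ = n * (x * c) * c⁻¹ * n⁻¹ := by group
        _ = n * c * x * (n * c)⁻¹ := by
          rw [Subgroup.mem_centralizer_iff.1 hc.2 x hx]; group
    refine ⟨hRT, ?_⟩
    have hATp : IsPGroup p (AT.subgroupOf Y) :=
      ((isPGroup_autInducedBy (hS.to_le hTS)).of_equiv (Subgroup.subgroupOfEquivOfLe hATY).symm)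
    obtain ⟨Sy, hSy⟩ := hATp.exists_le_sylow
    refine ⟨Sy, ?_⟩
    set B := (Sy : Subgroup Y).map Y.subtype with hB
    have hBY : B ≤ Y := Subgroup.map_subtype_le _
    obtain ⟨x, hx, hxB⟩ := exists_conj_le_of_not_dvd_relIndex (isPGroup_autInducedBy hS)
      (autInducedBy_le_autGroup hRS) ((isFullyAutomized_iff hS).1 hauto).2 (Sy.2.map Y.subtype)
      (hBY.trans fun y hy => by
        obtain ⟨φ, hφ, hφe⟩ := (mem_autGroup_iff hRT).1 hy
        exact (mem_autGroup_iff hRS).2 ⟨φ, pSystem_isSubsystemOf R hφ, hφe⟩)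
    obtain ⟨n, hn, β, hβ, hxe⟩ := exists_conj_mul_residual hauto ⟨x, hx⟩
    set o : MulAut R := (β : MulAut R)
    set a : MulAut R := conjAut n hn.2
    have hxao : x = a * o := autFun_ext fun z hz => by
      rw [show autFun x z = _ from hxe z hz, autFun_mul _ _ hz,
        autFun_conjAut hn.2 (autFun_mem _ hz)]
    have hoY : o ∈ Y := pSystem_hasPPowerIndex.2.2 R hRT ⟨β, hβ, rfl⟩
    have haA : a ∈ A := conjAut_mem hn.1 hn.2
    have hsub : ∀ b ∈ B, o * b * o⁻¹ ∈ AT := fun b hb => by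
      refine hYA _ (mul_mem (mul_mem hoY (hBY hb)) (inv_mem hoY)) ?_
      have h1 := hxB (conj_mem_conjBy hb)
      have h2 := mul_mem (mul_mem (inv_mem haA) h1) haA
      rw [hxao] at h2
      simpa [mul_assoc] using h2
    have hcard : Nat.card (Sy : Subgroup Y) ≤ Nat.card (AT.subgroupOf Y) := by
      rw [show Nat.card (Sy : Subgroup Y) = Nat.card B from
          (Subgroup.card_map_of_injective Y.subtype_injective).symm,
        Nat.card_congr (Subgroup.subgroupOfEquivOfLe hATY).toEquiv, ← card_conjBy o B]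
      exact Subgroup.card_le_of_le fun y hy => by
        have h3 := hsub _ (mem_conjBy.1 hy)
        simpa [mul_assoc] using h3
    exact (Subgroup.eq_of_le_of_card_ge hSy hcard).symm
  · -- receptive
    refine isReceptive_iff.2 ⟨hRT, fun P' f hf himg => ?_⟩
    obtain ⟨hP'T, t, ht, hct⟩ := isMap_pSystem_iff.1 hf
    obtain ⟨k', hk', hkf⟩ := hct.inv
    obtain ⟨h, hh, hhe⟩ := (isReceptive_iff.1 hrec).2 P' f hct.isMap himg
    have hext : extSub T P' f ≤ extSub S P' f := fun n hn =>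
      ⟨⟨hTS hn.1.1, hn.1.2⟩, hn.2.choose, hTS hn.2.choose_spec.1, hn.2.choose_spec.2⟩
    have hhN := hh.mono hext
    obtain ⟨d, hd⟩ := exists_chain hS hF hhN
    have hP'N : P' ≤ extSub T P' f := le_extSub hf
    rw [himg] at hk'
    have hback : ∀ y ∈ R, k' y ∈ P' ∧ f (k' y) = y := fun y hy => by
      obtain ⟨x, hx, rfl⟩ := hct.isMap.mem_img.1 (himg.ge hy)
      rw [hkf x hx]; exact ⟨hx, rfl⟩
    have hloop : Chain F p R (h ∘ k') (d * t⁻¹) :=
      hk'.comp (hd.mono hP'N) fun y hy => (hback y hy).1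
    have h1 := CentTheta.loop_mem_centK hK hS hF _ R rfl hRc _ _ hloop fun y hy => by
      show h (k' y) = y
      rw [hhe _ (hback y hy).1, (hback y hy).2]
    obtain ⟨c, hc, k, hk, hck⟩ := CentTheta.exists_eq_mul_of_mem_centK hK h1
    have hval : c⁻¹ * d ∈ T := by
      rw [show c⁻¹ * d = c⁻¹ * (d * t⁻¹) * t by group, hck, inv_mul_cancel_left]
      exact T.mul_mem (hT hk) ht
    refine ⟨(fun x => c⁻¹ * x * c⁻¹⁻¹) ∘ h, isMap_pSystem_iff.2
      ⟨extSub_le.trans inf_le_left, c⁻¹ * d, hval,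
        hd.comp (Chain.conj (le_refl S) (S.inv_mem hc.1)) fun x hx => hhN.mem_S hx⟩,
      fun x hx => ?_⟩
    show c⁻¹ * h x * c⁻¹⁻¹ = f x
    have hfx : f x ∈ R := himg.le (hct.isMap.mem_img.2 ⟨x, hx, rfl⟩)
    rw [hhe x hx, inv_inv, mul_assoc, Subgroup.mem_centralizer_iff.1 hc.2 _ hfx,
      inv_mul_cancel_left]

/-- Two saturated subsystems of `p`-power index over the same subgroup are contained in each
other. -/
theorem le_of_pPowerIndex (hS : IsPGroup p S) (hTS : T ≤ S) {E₁ E₂ : FusionSystem T}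
    (h₁ : E₁.IsSaturated p) (hi₁ : E₁.HasPPowerIndexIn F p) (hi₂ : E₂.HasPPowerIndexIn F p) :
    E₁ ≤ E₂ := by
  haveI : Finite T := finite_of_le hTS
  refine le_of_autGroup_le (hS.to_le hTS) h₁ fun R hR α hα => ?_
  have hRn : E₁.IsFullyNormalized R := by
    rcases hR with rfl | hR
    · exact isFullyNormalized_self
    · exact hR.2.1
  obtain ⟨n, hn, β, hβ, he⟩ := exists_conj_mul_residual
    (IsSaturated.automized_receptive (hS.to_le hTS) h₁ hRn).1 ⟨α, hα⟩
  obtain ⟨β', hβ', hβe⟩ := residual_of_subsystem hi₁.1 hTS hRn.1 hβ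
  have h1 : (β : MulAut R) ∈ E₂.autGroup R := hi₂.2.2 R hRn.1 ⟨β', hβ', hβe⟩
  have h2 : conjAut n hn.2 ∈ E₂.autGroup R :=
    autInducedBy_le_autGroup hRn.1 (conjAut_mem hn.1 hn.2)
  rw [show α = conjAut n hn.2 * (β : MulAut R) from autFun_ext fun z hz => by
    rw [show autFun α z = _ from he z hz, autFun_mul _ _ hz,
      autFun_conjAut hn.2 (autFun_mem _ hz)]]
  exact mul_mem h2 h1

theorem exists_unique_pPowerIndex (hS : IsPGroup p S) (hF : F.IsSaturated p) (hTS : T ≤ S)
    (hT : F.hyperfocalSubgroup p ≤ T) :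
    ∃ E : FusionSystem T, (E.IsSaturated p ∧ E.HasPPowerIndexIn F p) ∧
      ∀ E' : FusionSystem T, E'.IsSaturated p → E'.HasPPowerIndexIn F p → E' = E := by
  have hs := isSaturated_pSystem (hTS := hTS) (hT := hT) hS hF
  exact ⟨pSystem F p T hTS hT, ⟨hs, pSystem_hasPPowerIndex⟩, fun E' h1 h2 => eq_of_hom fun P =>
    Set.Subset.antisymm (le_of_pPowerIndex hS hTS h1 h2 pSystem_hasPPowerIndex P)
      (le_of_pPowerIndex hS hTS hs pSystem_hasPPowerIndex h2 P)⟩

/-- The extension property of an automorphism of `T`. -/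
def ExtTrivial (F : FusionSystem S) (T : Subgroup Ω) (a : MulAut T) : Prop :=
  ∃ β ∈ F.autGroup (T ⊔ centralizerIn S T), (∀ x ∈ T, autFun β x = autFun a x) ∧
    ∀ c ∈ centralizerIn S T, c⁻¹ * autFun β c ∈ T ⊓ Subgroup.centralizer (T : Set Ω)

/-- The subsystem over a normal `T` is normal. -/
theorem pSystem_isNormalIn (hS : IsPGroup p S) (hF : F.IsSaturated p)
    (hTn : S ≤ Subgroup.normalizer (T : Set Ω)) : (pSystem F p T hTS hT).IsNormalIn F p := by
  haveI : Finite T := finite_of_le hTS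
  set E := pSystem F p T hTS hT with hE
  have hconj : ∀ s ∈ S, ∀ x ∈ T, s * x * s⁻¹ ∈ T := fun s hs x hx =>
    (Subgroup.mem_normalizer_iff.1 (hTn hs) x).1 hx
  have hmem : ∀ {P : Subgroup Ω} {f : Ω → Ω}, IsMap F P f → P ≤ T → ∀ x ∈ P, f x ∈ T := by
    intro P f hf hP x hx
    obtain ⟨g, hg⟩ := exists_chain hS hF hf
    exact chain_map_mem hTS hT hg hP (fun y hy => hconj g hg.mem_S y (hP hy)) hx
  have hTfn : F.IsFullyNormalized T := ⟨hTS, fun R _ => by
    rw [show normalizerIn S T = S from inf_eq_left.2 hTn]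
    exact card_le_of_le' le_rfl inf_le_left⟩
  refine ⟨⟨isSaturated_pSystem hS hF, hF, pSystem_isSubsystemOf,
    stronglyClosed_iff.2 ⟨hTS, fun R f hR hf x hx => hmem hf hR x hx⟩, ?_, ?_⟩, ?_⟩
  · intro P hPT φ hφ α hα
    obtain ⟨-, t, ht, hct⟩ := isMap_pSystem_iff.1 (isMap_toFun hφ)
    obtain ⟨a, ha⟩ := exists_chain hS hF ((mem_autGroup_iff hTS).1 hα)
    obtain ⟨k, hk, hka⟩ := ha.inv
    rw [img_autFun] at hk
    rw [map_subgroupOf_eq_img hPT]
    set P' := img P (autFun α) with hP'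
    have hαP := ((mem_autGroup_iff hTS).1 hα).mono hPT
    have hP'T : P' ≤ T := hαP.img_le_of_forall fun x hx => autFun_mem α (hPT hx)
    have hkP : ∀ y ∈ P', k y ∈ P := fun y hy => by
      obtain ⟨x, hx, rfl⟩ := hαP.mem_img.1 hy
      rwa [hka x (hPT hx)]
    have hch : Chain F p P' (autFun α ∘ (toFun φ ∘ k)) (a * (t * a⁻¹)) :=
      ((hk.mono hP'T).comp hct hkP).comp ha fun y hy => hmem hct.isMap hPT _ (hkP y hy)
    have hEm : IsMap E P' (autFun α ∘ (toFun φ ∘ k)) := isMap_pSystem_iff.2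
      ⟨hP'T, a * (t * a⁻¹), by rw [← mul_assoc]; exact hconj a ha.mem_S t ht, hch⟩
    obtain ⟨χ, hχ, hχe⟩ := hEm
    refine ⟨χ, hχ, fun x hφx hαx => ?_⟩
    refine (hχe ⟨_, hαx⟩).trans ?_
    show autFun α (toFun φ (k ((α ⟨x, hPT x.2⟩ : T) : Ω))) = _
    rw [← autFun_apply α (hPT x.2), hka _ (hPT x.2), toFun_coe, autFun_apply α hφx]
  · intro P hP φ hφ
    obtain ⟨e, he⟩ := exists_chain hS hF (isMap_toFun hφ)
    have heS := he.mem_S
    have hφT : ∀ x ∈ P, toFun φ x ∈ T := hmem (isMap_toFun hφ) hP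
    have hch : Chain F p P ((fun x => e⁻¹ * x * e⁻¹⁻¹) ∘ toFun φ) 1 := by
      have h1 := he.comp (Chain.conj (le_refl S) (S.inv_mem heS))
        fun x hx => (isMap_toFun hφ).mem_S hx
      rwa [inv_mul_cancel] at h1
    have hEm : IsMap E P ((fun x => e⁻¹ * x * e⁻¹⁻¹) ∘ toFun φ) :=
      isMap_pSystem_iff.2 ⟨hP, 1, one_mem T, hch⟩
    obtain ⟨φ₀, hφ₀, hφ₀e⟩ := hEm
    refine ⟨conjAut e (hTn heS), autInducedBy_le_autGroup hTS (conjAut_mem heS _), φ₀, hφ₀,
      fun x hx => ?_⟩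
    rw [← autFun_apply _ hx, autFun_conjAut (hTn heS) hx, hφ₀e]
    show φ x = e * (e⁻¹ * toFun φ x * e⁻¹⁻¹) * e⁻¹
    rw [toFun_coe]
    group
  -- the extension condition
  set U := T ⊔ centralizerIn S T with hU
  have hUS : U ≤ S := sup_le hTS inf_le_left
  have hTU : T ≤ U := le_sup_left
  have hCU : centralizerIn S T ≤ U := le_sup_right
  haveI := finite_of_le hUS
  have hmul : ∀ a b, ExtTrivial F T a → ExtTrivial F T b → ExtTrivial F T (a * b) := by
    rintro a b ⟨β, hβ, hβe, hβc⟩ ⟨γ, hγ, hγe, hγc⟩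
    refine ⟨β * γ, mul_mem hβ hγ, fun x hx => ?_, fun c hc => ?_⟩
    · rw [autFun_mul _ _ (hTU hx), hγe x hx, hβe _ (autFun_mem _ hx), autFun_mul _ _ hx]
    · have hz := hγc c hc
      have hzU : c⁻¹ * autFun γ c ∈ U := hTU hz.1
      rw [autFun_mul _ _ (hCU hc), show autFun γ c = c * (c⁻¹ * autFun γ c) by group,
        autFun_map_mul β (hCU hc) hzU, ← mul_assoc]
      refine mul_mem (hβc c hc) ?_
      rw [hβe _ hz.1]
      refine ⟨autFun_mem a hz.1, Subgroup.mem_centralizer_iff.2 fun x hx => ?_⟩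
      obtain ⟨y, hy, rfl⟩ : ∃ y ∈ T, autFun a y = x :=
        ⟨autFun a⁻¹ x, autFun_mem _ hx, autFun_inv_apply a hx⟩
      rw [← autFun_map_mul a hy hz.1, ← autFun_map_mul a hz.1 hy,
        Subgroup.mem_centralizer_iff.1 hz.2 y hy]
  have hone : ExtTrivial F T 1 := ⟨1, one_mem _, fun x hx => by
    rw [autFun_one hx, autFun_one (hTU hx)], fun c hc => by
    rw [autFun_one (hCU hc), inv_mul_cancel]; exact one_mem _⟩
  have hconjExt : ∀ g, ∀ hgn : g ∈ Subgroup.normalizer (T : Set Ω), g ∈ T →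
      ExtTrivial F T (conjAut g hgn) := by
    intro g hgn hg
    have hgU : g ∈ Subgroup.normalizer (U : Set Ω) := Subgroup.le_normalizer (hTU hg)
    refine ⟨conjAut g hgU, autInducedBy_le_autGroup hUS (conjAut_mem (hTS hg) hgU), fun x hx => ?_,
      fun c hc => ?_⟩
    · rw [autFun_conjAut hgU (hTU hx), autFun_conjAut hgn hx]
    · rw [autFun_conjAut hgU (hCU hc), Subgroup.mem_centralizer_iff.1 hc.2 g hg,
        mul_inv_cancel_right, inv_mul_cancel]
      exact one_mem _
  have hres : ∀ a : F.autGroup T, a ∈ Cfsg.pResidual p (F.autGroup T) →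
      ExtTrivial F T (a : MulAut T) := by
    intro a ha
    unfold Cfsg.pResidual at ha
    induction ha using Subgroup.closure_induction with
    | mem a ha =>
        obtain ⟨-, hrec⟩ := IsSaturated.automized_receptive hS hF hTfn
        have ham := (mem_autGroup_iff hTS).1 a.2
        obtain ⟨ψ, hψ, hψe⟩ := (isReceptive_iff.1 hrec).2 T _ ham (img_autFun _)
        have hψU := hψ.mono (show U ≤ extSub S T (autFun (a : MulAut T)) from
          sup_le (le_extSub ham) centralizerIn_le_extSub)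
        have hTimg : img T ψ = T := (IsMap.img_congr hψe).trans (img_autFun _)
        have himg : img U ψ = U := by
          refine eq_of_le_of_card_le hUS (hψU.img_le_of_forall fun x hx => ?_) hψU.card_img.ge
          refine hψU.map_mem_of_sup (fun y hy => ?_) (fun y hy => ?_) hx
          · exact hTU (hψe y hy ▸ autFun_mem _ hy)
          · have h1 := map_mem_centralizerIn hψU hTU (hCU hy) hy.2
            rw [hTimg] at h1
            exact hCU h1
        obtain ⟨γ, hγ, hγe⟩ := exists_coprime_ext hψU himg hTU ha hψe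
        refine ⟨γ, γ.2, hγe, fun c hc => ⟨hT (absorbs_hyperfocal.mem U hUS γ hγ c (hCU hc)), ?_⟩⟩
        have hm := (mem_autGroup_iff hUS).1 γ.2
        have h1 := map_mem_centralizerIn hm hTU (hCU hc) hc.2
        rw [show img T (autFun (γ : MulAut U)) = T from
          (IsMap.img_congr hγe).trans (img_autFun _)] at h1
        exact Subgroup.mul_mem _ (Subgroup.inv_mem _ hc.2) h1.2
    | one => exact hone
    | mul a b _ _ ha hb => exact hmul _ _ ha hb
    | inv a _ ha =>
        obtain ⟨β, hβ, hβe, hβc⟩ := ha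
        refine ⟨β⁻¹, inv_mem hβ, fun x hx => ?_, fun c hc => ?_⟩
        · rw [InvMemClass.coe_inv]
          set y := autFun (a : MulAut T)⁻¹ x with hy
          have hyT : y ∈ T := autFun_mem _ hx
          conv_lhs => rw [← autFun_inv_apply (a : MulAut T) hx, ← hy, ← hβe y hyT]
          rw [← autFun_mul _ _ (hTU hyT), inv_mul_cancel, autFun_one (hTU hyT)]
        · set c' := autFun β⁻¹ c with hc'
          have hm := (mem_autGroup_iff hUS).1 (inv_mem hβ)
          have hc'C : c' ∈ centralizerIn S T := by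
            have h1 := map_mem_centralizerIn hm hTU (hCU hc) hc.2
            rwa [show img T (autFun β⁻¹) = T from img_eq_of_map_le hTS hm hTU fun x hx => by
              have hy := autFun_mem (a : MulAut T)⁻¹ hx
              have e : autFun β⁻¹ x = autFun (a : MulAut T)⁻¹ x := by
                conv_lhs => rw [← autFun_inv_apply (a : MulAut T) hx, ← hβe _ hy]
                rw [← autFun_mul _ _ (hTU hy), inv_mul_cancel, autFun_one (hTU hy)]
              exact e ▸ hy] at h1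
          have h1 := inv_mem (hβc c' hc'C)
          rw [hc', autFun_inv_apply β (hCU hc)] at h1
          simpa using h1
  intro α hα
  obtain ⟨n, hn, β, hβ, he⟩ := exists_conj_mul_residual
    (IsSaturated.automized_receptive (hS.to_le hTS) (isSaturated_pSystem (hTS := hTS) (hT := hT) hS hF)
      isFullyNormalized_self).1 ⟨α, hα⟩
  obtain ⟨β', hβ', hβe⟩ := residual_of_subsystem pSystem_isSubsystemOf hTS le_rfl hβ
  have hext := hmul _ _ (hconjExt n hn.2 hn.1) (hres β' hβ')
  rw [show conjAut n hn.2 * (β' : MulAut T) = α from autFun_ext fun z hz => by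
    rw [show autFun α z = _ from he z hz, autFun_mul _ _ hz,
      autFun_conjAut hn.2 (autFun_mem _ hz), hβe]] at hext
  obtain ⟨γ, hγ, hγe, hγc⟩ := hext
  refine ⟨γ, hγ, fun x => ?_, fun c hc => ?_⟩
  · rw [← autFun_coe, ← autFun_coe, Subgroup.coe_inclusion, hγe x x.2]
  · rw [← autFun_coe]
    exact hγc c hc

theorem isNormalIn_of_pPowerIndex (hS : IsPGroup p S) (hF : F.IsSaturated p) (hTS : T ≤ S)
    (hTn : (T.subgroupOf S).Normal) (hT : F.hyperfocalSubgroup p ≤ T) {E : FusionSystem T}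
    (hEs : E.IsSaturated p) (hEi : E.HasPPowerIndexIn F p) : E.IsNormalIn F p := by
  obtain ⟨E₀, -, huniq⟩ := exists_unique_pPowerIndex hS hF hTS hT
  have h0 := huniq _ (isSaturated_pSystem (hTS := hTS) (hT := hT) hS hF) pSystem_hasPPowerIndex
  rw [huniq E hEs hEi, ← h0]
  exact pSystem_isNormalIn hS hF ((Subgroup.normal_subgroupOf_iff_le_normalizer hTS).1 hTn)

end CfsgLib.Fusion
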