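import Cfsg.Agent.Lib.Fusion.System.Centric
import Cfsg.Agent.Lib.Fusion.System.Normal
import Cfsg.Agent.Lib.Fusion.System.TopCriterion

/-!
# Maps determined on centric subgroups
-/

set_option autoImplicit false

open Subgroup
open scoped Classical

namespace CfsgLib.Fusion

open Cfsg (FusionSystem)
open Cfsg.FusionSystem (normalizerIn centralizerIn)

variable {Ω : Type*} [Group Ω] {S : Subgroup Ω} [Finite S] {F E : FusionSystem S} {p : ℕ}
  [Fact p.Prime] {Q R : Subgroup Ω} {f : Ω → Ω}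

/-- A map of `F` lies in a saturated subsystem as soon as it does on a centric subgroup. -/
theorem isMap_of_restrict_centric (hS : IsPGroup p S) (hF : F.IsSaturated p)
    (hE : E.IsSaturated p) (hle : E ≤ F) (hQR : Q ≤ R) (hQ : F.IsCentric Q) (hf : IsMap F R f)
    (hm : IsMap E Q f) : IsMap E R f := by
  have hsub : ∀ {T : Subgroup Ω} {g : Ω → Ω}, IsMap E T g → IsMap F T g :=
    fun ⟨φ, hφ, hφg⟩ => ⟨φ, hle _ hφ, hφg⟩
  induction hk : Nat.card S - Nat.card Q using Nat.strong_induction_on generalizing Q with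
  | _ k ih =>
  by_cases hne : Q = R
  · exact hne ▸ hm
  haveI := finite_of_le hf.le
  haveI : Group.IsNilpotent R := (hS.to_le hf.le).isNilpotent
  set N := normalizerIn R Q with hN
  have hlt : Q < N := lt_inf_normalizer hQR hne
  have hNR : N ≤ R := inf_le_left
  have hNS : N ≤ S := hNR.trans hf.le
  have hT : F.IsCentric (img Q f) :=
    isCentric_of_isConj hQ (isConj_iff.2 ⟨f, hf.mono hQR, rfl⟩)
  have hTE : E.IsCentric (img Q f) := by
    refine ⟨hT.1, fun U hU => ?_⟩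
    obtain ⟨g, hg, rfl⟩ := isConj_iff.1 hU
    exact centralizerIn_img_le hT (hsub hg) le_rfl
  obtain ⟨e, he, hee⟩ := (isReceptive_iff.1 (IsSaturated.isReceptive hS hE
    (isFullyCentralized_of_isCentric hTE))).2 Q f hm rfl
  have hext : N ≤ extSub S Q f := fun n hn =>
    ⟨⟨hNS hn, hn.2⟩, f n, hf.mem_S (hNR hn), fun x hx => hf.map_conj (hNR hn) (hQR hx)⟩
  obtain ⟨z, hz, -, hzy⟩ := exists_eq_conj_of_agree hS hF hlt.le hQ (hsub (he.mono hext))
    (hf.mono hNR) hee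
  have hzN := hlt.le hz
  have hconj : ∀ y ∈ N, z * y * z⁻¹ ∈ N := fun y hy =>
    mul_mem (mul_mem hzN hy) (inv_mem hzN)
  have hmN : IsMap E N f :=
    ((isMap_conj hNS (hQ.1 hz)).comp (he.mono hext) hconj).congr fun y hy => hzy y hy
  refine ih _ ?_ hNR (isCentric_mono hQ hlt.le hNS) hmN rfl
  have h1 := card_lt_of_lt hNS hlt
  have h2 : Nat.card N ≤ Nat.card S := card_le_of_le' le_rfl hNS
  omega

/-- Two out of three for composites of maps between centric subgroups. -/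
theorem two_out_of_three (hS : IsPGroup p S) (hF : F.IsSaturated p) (hE : E.IsSaturated p)
    (hle : E ≤ F) (hQ : F.IsCentric Q) (φ : ↥Q →* Ω) (hφ : φ ∈ F.Hom Q) (hφR : ∀ x : Q, φ x ∈ R)
    (ψ : ↥R →* Ω) (hψ : ψ ∈ F.Hom R) :
    (φ ∈ E.Hom Q → ψ ∈ E.Hom R → ψ.comp (φ.codRestrict R hφR) ∈ E.Hom Q) ∧
    (ψ ∈ E.Hom R → ψ.comp (φ.codRestrict R hφR) ∈ E.Hom Q → φ ∈ E.Hom Q) ∧
    (φ ∈ E.Hom Q → ψ.comp (φ.codRestrict R hφR) ∈ E.Hom Q → ψ ∈ E.Hom R) := by
  set f := toFun φ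
  set g := toFun ψ
  have hfR : ∀ x ∈ Q, f x ∈ R := fun x hx => by
    rw [show f x = φ ⟨x, hx⟩ from toFun_apply φ hx]; exact hφR _
  have hcomp : ∀ x ∈ Q, toFun (ψ.comp (φ.codRestrict R hφR)) x = g (f x) := fun x hx => by
    rw [toFun_apply _ hx, show g (f x) = ψ ⟨f x, hfR x hx⟩ from toFun_apply ψ (hfR x hx)]
    exact congrArg ψ (Subtype.ext (toFun_apply φ hx).symm)
  refine ⟨fun h1 h2 => E.comp_mem h1 h2 hφR, fun h1 h2 => ?_, fun h1 h2 => ?_⟩
  · obtain ⟨g', hg', hg'1, -⟩ := (isMap_toFun h1).exists_inv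
    have hc := isMap_toFun h2
    refine mem_hom_iff.2 (((hc.comp hg') fun x hx => ?_).congr fun x hx => ?_)
    · rw [hcomp x hx]
      exact (isMap_toFun h1).mem_img.2 ⟨_, hfR x hx, rfl⟩
    · show f x = g' (toFun (ψ.comp _) x)
      rw [hcomp x hx, hg'1 _ (hfR x hx)]
  · obtain ⟨f', hf', hf'1, hf'2⟩ := (isMap_toFun h1).exists_inv
    have hQ' : F.IsCentric (img Q f) :=
      isCentric_of_isConj hQ (isConj_iff.2 ⟨f, isMap_toFun hφ, rfl⟩)
    have hQ'R : img Q f ≤ R := (isMap_toFun hφ).img_le_of_forall hfR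
    have hm : IsMap E (img Q f) g := by
      refine ((hf'.comp (isMap_toFun h2)) fun y hy => (hf'2 y hy).1).congr fun y hy => ?_
      show g y = toFun (ψ.comp (φ.codRestrict R hφR)) (f' y)
      rw [hcomp _ (hf'2 y hy).1]
      exact congrArg g (hf'2 y hy).2.symm
    exact mem_hom_iff.2
      (isMap_of_restrict_centric hS hF hE hle hQ'R hQ' (isMap_toFun hψ) hm)

end CfsgLib.Fusion
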