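import Cfsg.Agent.Lib.Fusion.System.FamilySatCriterion
import Cfsg.Agent.Lib.Fusion.System.CentricMaps
import Cfsg.Agent.Lib.Fusion.System.Alperin
import Cfsg.Agent.Lib.Fusion.System.Invariant

/-!
# Subsystems of index prime to `p`

`EMap F p 𝒞` is the relation generated by conjugation in `S` and by the elements of `p`-power order
of the automizers of the members of `𝒞`. Every map of `F` is an automorphism of `S` times such a
map, and for a suitable group `H` of automorphisms of `S` the maps `α ∘ e`, `α ∈ H`, form a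
saturated subsystem.
-/

set_option autoImplicit false
set_option linter.style.haveILetI false
set_option linter.unusedSectionVars false

open Subgroup
open scoped Classical

namespace CfsgLib.Fusion.PPrime

open Cfsg (FusionSystem autInducedBy)
open Cfsg.FusionSystem (normalizerIn centralizerIn)

variable {Ω : Type*} [Group Ω] {S : Subgroup Ω} {F : FusionSystem S} {p : ℕ}
  {P Q R : Subgroup Ω} {f g : Ω → Ω} {𝒞 : Set (Subgroup Ω)}

/-- Composites of conjugations in `S` and of automorphisms of `p`-power order of members of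
`𝒞`. -/
inductive EMap (F : FusionSystem S) (p : ℕ) (𝒞 : Set (Subgroup Ω)) :
    Subgroup Ω → (Ω → Ω) → Prop
  | base {R P : Subgroup Ω} {β : MulAut R} {k : ℕ} : R ∈ 𝒞 → P ≤ R → R ≤ S →
      β ∈ F.autGroup R → β ^ p ^ k = 1 → EMap F p 𝒞 P (autFun β)
  | conj {P : Subgroup Ω} {s : Ω} : P ≤ S → s ∈ S → EMap F p 𝒞 P (fun x => s * x * s⁻¹)
  | comp {P R : Subgroup Ω} {f g : Ω → Ω} : EMap F p 𝒞 P f → EMap F p 𝒞 R g → (∀ x ∈ P, f x ∈ R) →
      EMap F p 𝒞 P (g ∘ f)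
  | congr {P : Subgroup Ω} {f g : Ω → Ω} : EMap F p 𝒞 P f → (∀ x ∈ P, g x = f x) → EMap F p 𝒞 P g

theorem EMap.isMap (h : EMap F p 𝒞 P f) : IsMap F P f := by
  induction h with
  | base _ hle hR hβ _ => exact ((mem_autGroup_iff hR).1 hβ).mono hle
  | conj hP hs => exact isMap_conj hP hs
  | comp _ _ hm h1 h2 => exact h1.comp h2 hm
  | congr _ he h1 => exact h1.congr he

theorem EMap.mono (h : EMap F p 𝒞 P f) : ∀ {Q : Subgroup Ω}, Q ≤ P → EMap F p 𝒞 Q f := by
  induction h with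
  | base hC hle hR hβ hk => exact fun hQ => .base hC (hQ.trans hle) hR hβ hk
  | conj hP hs => exact fun hQ => .conj (hQ.trans hP) hs
  | comp _ h2 hm ih1 _ => exact fun hQ => .comp (ih1 hQ) h2 fun x hx => hm x (hQ hx)
  | congr _ he ih => exact fun hQ => .congr (ih hQ) fun x hx => he x (hQ hx)

theorem EMap.id_map (hP : P ≤ S) : EMap F p 𝒞 P id :=
  (EMap.conj hP (one_mem S)).congr fun x _ => by simp

theorem EMap.inv (h : EMap F p 𝒞 P f) :
    ∀ f', IsMap F (img P f) f' → (∀ x ∈ P, f' (f x) = x) → EMap F p 𝒞 (img P f) f' := by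
  induction h with
  | @base R P β k hC hle hR hβ hk =>
    intro f' hf' he
    have hm := (mem_autGroup_iff hR).1 hβ
    refine (EMap.base hC ((hm.mono hle).img_le_of_forall fun x hx => autFun_mem β (hle hx)) hR
      (inv_mem hβ) (k := k) (by rw [inv_pow, hk, inv_one])).congr fun y hy => ?_
    obtain ⟨x, hx, rfl⟩ := (hm.mono hle).mem_img.1 hy
    rw [he x hx, ← autFun_mul _ _ (hle hx), inv_mul_cancel, autFun_one (hle hx)]
  | @conj P s hP hs =>
    intro f' hf' he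
    refine (EMap.conj (s := s⁻¹) hf'.le (S.inv_mem hs)).congr fun y hy => ?_
    obtain ⟨x, hx, rfl⟩ := (isMap_conj (F := F) hP hs).mem_img.1 hy
    rw [he x hx]
    group
  | @comp P R f g h1 h2 hm ih1 ih2 =>
    intro f' hf' he
    have hf := h1.isMap
    have hg := h2.isMap
    have hfR : img P f ≤ R := hf.img_le_of_forall hm
    obtain ⟨f₁, hf₁, hf₁1, -⟩ := hf.exists_inv
    obtain ⟨g₂, hg₂, hg₂1, -⟩ := hg.exists_inv
    have hle : img P (g ∘ f) ≤ img R g := by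
      rw [← img_img hf]; exact hg.img_mono hfR
    have k1 := (ih2 g₂ hg₂ hg₂1).mono hle
    have k2 := ih1 f₁ hf₁ hf₁1
    refine (k1.comp k2 fun y hy => ?_).congr fun y hy => ?_
    all_goals obtain ⟨x, hx, rfl⟩ := (hf.comp hg hm).mem_img.1 hy
    · show g₂ (g (f x)) ∈ img P f
      rw [hg₂1 _ (hm x hx)]
      exact hf.mem_img.2 ⟨x, hx, rfl⟩
    · show f' _ = f₁ (g₂ (g (f x)))
      rw [he x hx, hg₂1 _ (hm x hx), hf₁1 x hx]
  | @congr P f g _ he1 ih =>
    intro f' hf' he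
    have hi : img P g = img P f := IsMap.img_congr he1
    rw [hi] at hf' ⊢
    exact ih f' hf' fun x hx => by rw [← he1 x hx]; exact he x hx

theorem autFun_symm {α : MulAut P} {x : Ω} (hx : x ∈ P) : autFun α⁻¹ (autFun α x) = x := by
  rw [← autFun_mul _ _ hx, inv_mul_cancel, autFun_one hx]

theorem autFun_symm' {α : MulAut P} {x : Ω} (hx : x ∈ P) : autFun α (autFun α⁻¹ x) = x := by
  rw [← autFun_mul _ _ hx, mul_inv_cancel, autFun_one hx]

/-- The conjugate of an `EMap` by an automorphism of `S`. -/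
theorem EMap.conjAut (h𝒞 : ∀ R ∈ 𝒞, ∀ R', F.IsConj R R' → R' ∈ 𝒞) (h : EMap F p 𝒞 P f)
    {α : MulAut S} (hα : α ∈ F.autGroup S) :
    EMap F p 𝒞 (img P (autFun α)) (autFun α ∘ f ∘ autFun α⁻¹) := by
  have hm := (mem_autGroup_iff le_rfl).1 hα
  induction h with
  | @base R P β k hC hle hR hβ hk =>
    have hmR := hm.mono hR
    have hconj : F.IsConj R (img R (autFun α)) := isConj_iff.2 ⟨_, hmR, rfl⟩
    refine (EMap.base (k := k) (h𝒞 R hC _ hconj) (hmR.img_mono hle) hmR.img_le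
      ((congr_mem_autGroup_iff hmR β).2 hβ) (by rw [← map_pow, hk, map_one])).congr fun y hy => ?_
    obtain ⟨x, hx, rfl⟩ := (hmR.mono hle).mem_img.1 hy
    rw [autFun_congr hmR β (hle hx)]
    show autFun α (autFun β (autFun α⁻¹ (autFun α x))) = _
    rw [autFun_symm (hR (hle hx))]
  | @conj P s hP hs =>
    have hmP := hm.mono hP
    refine (EMap.conj hmP.img_le (hm.mem_S hs)).congr fun y hy => ?_
    obtain ⟨x, hx, rfl⟩ := hmP.mem_img.1 hy
    show autFun α (s * autFun α⁻¹ (autFun α x) * s⁻¹) = _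
    rw [autFun_symm (hP hx), hm.map_conj hs (hP hx)]
  | @comp P R f g h1 h2 hmem ih1 ih2 =>
    have hPS : P ≤ S := h1.isMap.le
    refine (ih1.comp ih2 fun y hy => ?_).congr fun y hy => ?_
    all_goals obtain ⟨x, hx, rfl⟩ := (hm.mono hPS).mem_img.1 hy
    · show autFun α (f (autFun α⁻¹ (autFun α x))) ∈ _
      rw [autFun_symm (hPS hx)]
      exact (hm.mono h2.isMap.le).mem_img.2 ⟨_, hmem x hx, rfl⟩
    · show autFun α (g (f (autFun α⁻¹ (autFun α x)))) =
        autFun α (g (autFun α⁻¹ (autFun α (f (autFun α⁻¹ (autFun α x))))))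
      rw [autFun_symm (hPS hx), autFun_symm (h1.isMap.mem_S hx)]
  | @congr P f g h1 he ih =>
    refine ih.congr fun y hy => ?_
    obtain ⟨x, hx, rfl⟩ := (hm.mono h1.isMap.le).mem_img.1 hy
    show autFun α (g (autFun α⁻¹ (autFun α x))) = autFun α (f (autFun α⁻¹ (autFun α x)))
    rw [autFun_symm (h1.isMap.le hx), he x hx]

/-- An automorphism in `H` times an `EMap`. -/
def HMap (F : FusionSystem S) (p : ℕ) (𝒞 : Set (Subgroup Ω)) (H : Subgroup (MulAut S))
    (P : Subgroup Ω) (f : Ω → Ω) : Prop :=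
  ∃ α ∈ H, ∃ e, EMap F p 𝒞 P e ∧ ∀ x ∈ P, f x = autFun α (e x)

variable {H : Subgroup (MulAut S)}

theorem HMap.isMap (hH : H ≤ F.autGroup S) (h : HMap F p 𝒞 H P f) : IsMap F P f := by
  obtain ⟨α, hα, e, he, hfe⟩ := h
  exact (he.isMap.comp ((mem_autGroup_iff le_rfl).1 (hH hα)) fun x hx => he.isMap.mem_S hx).congr
    hfe

theorem HMap.of_eMap (h : EMap F p 𝒞 P f) : HMap F p 𝒞 H P f :=
  ⟨1, one_mem H, f, h, fun x hx => (autFun_one (h.isMap.mem_S hx)).symm⟩

theorem HMap.of_aut {α : MulAut S} (hα : α ∈ H) (hP : P ≤ S) : HMap F p 𝒞 H P (autFun α) :=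
  ⟨α, hα, id, EMap.id_map hP, fun _ _ => rfl⟩

theorem HMap.mono (h : HMap F p 𝒞 H P f) (hQ : Q ≤ P) : HMap F p 𝒞 H Q f := by
  obtain ⟨α, hα, e, he, hfe⟩ := h
  exact ⟨α, hα, e, he.mono hQ, fun x hx => hfe x (hQ hx)⟩

variable (h𝒞 : ∀ R ∈ 𝒞, ∀ R', F.IsConj R R' → R' ∈ 𝒞) (hH : H ≤ F.autGroup S)
include h𝒞 hH

theorem HMap.comp (hf : HMap F p 𝒞 H P f) (hg : HMap F p 𝒞 H R g) (hm : ∀ x ∈ P, f x ∈ R) :
    HMap F p 𝒞 H P (g ∘ f) := by
  obtain ⟨α, hα, e₁, he₁, hfe⟩ := hf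
  obtain ⟨β, hβ, e₂, he₂, hge⟩ := hg
  have hαi := (mem_autGroup_iff le_rfl).1 (inv_mem (hH hα))
  have he₂' := he₂.conjAut h𝒞 (inv_mem (hH hα))
  refine ⟨β * α, mul_mem hβ hα, _, he₁.comp he₂' fun x hx => ?_, fun x hx => ?_⟩
  · refine (hαi.mono he₂.isMap.le).mem_img.2 ⟨f x, hm x hx, ?_⟩
    rw [hfe x hx, autFun_symm (he₁.isMap.mem_S hx)]
  · show g (f x) = autFun (β * α) (autFun α⁻¹ (e₂ (autFun α⁻¹⁻¹ (e₁ x))))
    rw [inv_inv, ← hfe x hx, autFun_mul _ _ (autFun_mem _ (he₂.isMap.mem_S (hm x hx))),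
      autFun_symm' (he₂.isMap.mem_S (hm x hx)), hge _ (hm x hx)]

theorem HMap.inv (hf : HMap F p 𝒞 H P f) {f' : Ω → Ω} (hf' : IsMap F (img P f) f')
    (he' : ∀ x ∈ P, f' (f x) = x) : HMap F p 𝒞 H (img P f) f' := by
  obtain ⟨α, hα, e, he, hfe⟩ := hf
  obtain ⟨e', he1, he2, -⟩ := he.isMap.exists_inv
  have hm := (mem_autGroup_iff le_rfl).1 (hH hα)
  have hfm : IsMap F P f := (he.isMap.comp hm fun x hx => he.isMap.mem_S hx).congr hfe
  have h1 : HMap F p 𝒞 H (img P f) (autFun α⁻¹) := HMap.of_aut (inv_mem hα) hfm.img_le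
  have h2 : HMap F p 𝒞 H (img P e) e' := HMap.of_eMap (he.inv e' he1 he2)
  have h3 := h1.comp h𝒞 hH h2 fun y hy => by
    obtain ⟨x, hx, rfl⟩ := hfm.mem_img.1 hy
    rw [hfe x hx, autFun_symm (he.isMap.mem_S hx)]
    exact he.isMap.mem_img.2 ⟨x, hx, rfl⟩
  obtain ⟨β, hβ, d, hd, hde⟩ := h3
  refine ⟨β, hβ, d, hd, fun y hy => ?_⟩
  rw [← hde y hy]
  obtain ⟨x, hx, rfl⟩ := hfm.mem_img.1 hy
  show f' (f x) = e' (autFun α⁻¹ (f x))
  rw [he' x hx, hfe x hx, autFun_symm (he.isMap.mem_S hx), he2 x hx]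

/-- The subsystem of the maps `α ∘ e` with `α ∈ H`. -/
noncomputable def hSystem : FusionSystem S :=
  mkSystem F S (HMap F p 𝒞 H)
    (fun _ _ h => ⟨h.isMap hH, (h.isMap hH).le, fun _ hx => (h.isMap hH).mem_S hx⟩)
    (fun _ _ _ ⟨α, hα, e, he, hfe⟩ hg => ⟨α, hα, e, he, fun x hx => (hg x hx).trans (hfe x hx)⟩)
    (fun _ _ hP ht => HMap.of_eMap (EMap.conj hP ht))
    (fun _ _ _ _ h1 h2 hm => h1.comp h𝒞 hH h2 hm)
    (fun _ _ _ h hf' he => h.inv h𝒞 hH hf' he)

theorem isMap_hSystem_iff : IsMap (hSystem (p := p) h𝒞 hH) P f ↔ HMap F p 𝒞 H P f :=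
  isMap_mkSystem_iff _

theorem hSystem_isSubsystemOf : (hSystem (p := p) h𝒞 hH).IsSubsystemOf F := fun _ _ hφ =>
  mem_hom_iff.2 (((isMap_hSystem_iff h𝒞 hH).1 (isMap_toFun hφ)).isMap hH)

omit hH
variable [Finite S] [Fact p.Prime]

/-- Every map is an automorphism of `S` times an `EMap`. -/
theorem frattini (hS : IsPGroup p S) (hF : F.IsSaturated p)
    (hess : ∀ R, F.IsEssential p R → R ∈ 𝒞) (hf : IsMap F P f) :
    HMap F p 𝒞 (F.autGroup S) P f := by
  refine (isMap_hSystem_iff h𝒞 le_rfl).1 (isMap_of_autGroup_le hS hF (fun R hR => ?_) hf)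
  induction hk : Nat.card S - Nat.card R using Nat.strong_induction_on generalizing R with
  | _ k ih =>
  by_cases hRS : R = S
  · subst hRS
    exact fun α hα => (mem_autGroup_iff le_rfl).2 ((isMap_hSystem_iff h𝒞 le_rfl).2
      (HMap.of_aut hα le_rfl))
  have hRe : F.IsEssential p R := hR.resolve_left hRS
  have hRS' : R ≤ S := hRe.1.1
  haveI := finite_of_le hRS'
  haveI := finite_mulAut (P := R)
  set X := F.autGroup R
  set E' := hSystem (p := p) h𝒞 (le_refl (F.autGroup S))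
  have big : ∀ {T : Subgroup Ω} {g : Ω → Ω}, IsMap F T g → Nat.card R < Nat.card T →
      IsMap E' T g := fun {T g} hg hT => isMap_of_autGroup_le_above hS hF (fun R' hT' hR'' =>
    ih _ (by
      have : Nat.card R' ≤ Nat.card S :=
        card_le_of_le' le_rfl (hR''.elim (fun e => e.le) fun e => e.1.1)
      omega) R' hR'' rfl) hg
  set Y := E'.autGroup R
  set K : Subgroup X := Subgroup.closure {a : X | ∃ k : ℕ, a ^ p ^ k = 1} with hK
  have hKY : K ≤ Y.subgroupOf X := (Subgroup.closure_le _).2 fun a ha => by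
    obtain ⟨k, hk⟩ := ha
    refine Subgroup.mem_subgroupOf.2 ((mem_autGroup_iff hRS').2 ((isMap_hSystem_iff h𝒞 le_rfl).2
      (HMap.of_eMap (EMap.base (hess R hRe) le_rfl hRS' a.2 (k := k) ?_))))
    rw [← Subgroup.coe_pow, hk, Subgroup.coe_one]
  haveI : K.Normal := ⟨fun a ha g => by
    have hle : K ≤ K.comap (MulAut.conj g).toMonoidHom := by
      refine (Subgroup.closure_le _).2 fun b ⟨k, hk⟩ => Subgroup.subset_closure ⟨k, ?_⟩
      show (MulAut.conj g b) ^ p ^ k = 1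
      rw [← map_pow, hk, map_one]
    exact hle ha⟩
  obtain ⟨-, hi⟩ := (isFullyAutomized_iff hS).1 (IsSaturated.automized_receptive hS hF hRe.2.1).1
  set A := (autInducedBy S R).subgroupOf X
  have hAp : IsPGroup p A := (isPGroup_autInducedBy hS).of_equiv
    (Subgroup.subgroupOfEquivOfLe (autInducedBy_le_autGroup hRS')).symm
  have hAK : A ≤ K := fun a ha => by
    obtain ⟨k, hk⟩ := hAp ⟨a, ha⟩
    exact Subgroup.subset_closure ⟨k, congrArg Subtype.val hk⟩
  intro x hx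
  obtain ⟨n, d, hnd, hd, hn, -⟩ :=
    FamilySat.exists_frattini (T := A) (D := K) hS hAp hi ⟨x, hx⟩
  rw [inf_eq_left.2 hAK] at hn
  rw [show x = (n : MulAut R) * (d : MulAut R) from congrArg Subtype.val hnd]
  refine mul_mem ?_ (Subgroup.mem_subgroupOf.1 (hKY hd))
  obtain ⟨g, hg, hgn⟩ := FamilySat.exists_ext
    (IsSaturated.automized_receptive hS hF hRe.2.1).2 n.2 (X := normalizerIn S R) le_rfl
    fun u hu => by
      have h1 := (Subgroup.mem_normalizer_iff.1 hn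
        ⟨_, autInducedBy_le_autGroup hRS' (conjAut_mem hu.1 hu.2)⟩).1
          (Subgroup.mem_subgroupOf.2 (conjAut_mem hu.1 hu.2))
      exact Subgroup.mem_subgroupOf.1 h1
  exact (mem_autGroup_iff hRS').2 (((big hg (card_lt_of_lt inf_le_left
    (lt_normalizerIn hS hRS' hRS))).mono (le_normalizerIn hRS')).congr fun y hy => (hgn y hy).symm)

/-- Every automorphism of `p`-power order of a subgroup of `S` is an `EMap`. -/
theorem eMap_of_pElement (hS : IsPGroup p S) (hF : F.IsSaturated p)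
    (hess : ∀ R, F.IsEssential p R → R ∈ 𝒞) (hR : R ≤ S) {a : MulAut R}
    (ha : a ∈ F.autGroup R) {k : ℕ} (hk : a ^ p ^ k = 1) : EMap F p 𝒞 R (autFun a) := by
  obtain ⟨θ, hθ, -, hθA⟩ := exists_conj_pAut hS hF hR (isPGroup_zpowers_of_pow hk)
    (Subgroup.zpowers_le.2 ha)
  obtain ⟨s, hs, hsx⟩ := hθA a (Subgroup.mem_zpowers a)
  obtain ⟨α, hα, e, he, hθe⟩ := frattini h𝒞 hS hF hess hθ
  have hm := (mem_autGroup_iff le_rfl).1 (inv_mem hα)
  obtain ⟨e', he', he'1, -⟩ := he.isMap.exists_inv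
  set u := autFun α⁻¹ s
  have hu : u ∈ S := hm.mem_S hs.1
  have key : ∀ x ∈ R, e (autFun a x) = u * e x * u⁻¹ := fun x hx => by
    have h1 := hsx x hx
    have hax := autFun_mem a hx
    rw [hθe _ hax, hθe x hx] at h1
    have h2 := congrArg (autFun α⁻¹) h1
    rwa [autFun_symm (he.isMap.mem_S hax), hm.map_conj hs.1 (autFun_mem _ (he.isMap.mem_S hx)),
      autFun_symm (he.isMap.mem_S hx)] at h2
  have himg : ∀ x ∈ R, u * e x * u⁻¹ ∈ img R e := fun x hx =>
    key x hx ▸ he.isMap.mem_img.2 ⟨_, autFun_mem a hx, rfl⟩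
  refine ((he.comp (EMap.conj (s := u) le_rfl hu) fun x hx => he.isMap.mem_S hx).comp
    (he.inv e' he' he'1) himg).congr fun x hx => ?_
  show autFun a x = e' (u * e x * u⁻¹)
  rw [← key x hx, he'1 _ (autFun_mem a hx)]

omit h𝒞 in
theorem isCentric_sub {E : FusionSystem S} (hE : E.IsSubsystemOf F) (h : F.IsCentric P) :
    E.IsCentric P := by
  refine ⟨h.1, fun Q hQ => h.2 Q ?_⟩
  obtain ⟨φ, hφ, hr⟩ := hQ
  exact ⟨φ, hE P hφ, hr⟩

/-- A subsystem with all maps `α ∘ e` detects centric subgroups. -/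
theorem isCentric_of_sub (hS : IsPGroup p S) (hF : F.IsSaturated p)
    (hess : ∀ R, F.IsEssential p R → R ∈ 𝒞) {E : FusionSystem S}
    (hE : ∀ P f, EMap F p 𝒞 P f → IsMap E P f) (h : E.IsCentric P) : F.IsCentric P := by
  refine ⟨h.1, fun Q hQ => ?_⟩
  obtain ⟨f, hf, rfl⟩ := isConj_iff.1 hQ
  obtain ⟨α, hα, e, he, hfe⟩ := frattini h𝒞 hS hF hess hf
  have hc := h.2 (img P e) (isConj_iff.2 ⟨e, hE P e he, rfl⟩)
  intro y hy
  have hm := (mem_autGroup_iff le_rfl).1 hα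
  obtain ⟨z, hz, rfl⟩ := hm.mem_img.1 ((img_autFun α).ge hy.1)
  have hzC : z ∈ centralizerIn S (img P e) := by
    refine ⟨hz, Subgroup.mem_centralizer_iff.2 fun v hv => ?_⟩
    obtain ⟨x, hx, rfl⟩ := he.isMap.mem_img.1 hv
    have hex := he.isMap.mem_S hx
    refine hm.inj (mul_mem hex hz) (mul_mem hz hex) ?_
    rw [hm.map_mul hex hz, hm.map_mul hz hex]
    exact Subgroup.mem_centralizer_iff.1 hy.2 _ (hf.mem_img.2 ⟨x, hx, hfe x hx⟩)
  obtain ⟨x, hx, hxz⟩ := he.isMap.mem_img.1 (hc hzC)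
  exact hf.mem_img.2 ⟨x, hx, by rw [hfe x hx, hxz]⟩

/-- A subsystem containing the `EMap`s has index prime to `p`. -/
theorem hasPrimeToPIndex (hS : IsPGroup p S) (hF : F.IsSaturated p)
    (hess : ∀ R, F.IsEssential p R → R ∈ 𝒞) {E : FusionSystem S} (hsub : E.IsSubsystemOf F)
    (hE : ∀ P f, EMap F p 𝒞 P f → IsMap E P f) : E.HasPrimeToPIndexIn F p := by
  refine ⟨hsub, fun P hP => Subgroup.map_le_iff_le_comap.2 ((Subgroup.closure_le _).2 ?_)⟩
  rintro a ⟨k, hk⟩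
  refine (mem_autGroup_iff hP).2 (hE P _ (eMap_of_pElement h𝒞 hS hF hess hP a.2 (k := k) ?_))
  have := congrArg Subtype.val (pow_orderOf_eq_one a)
  rwa [hk, Subgroup.coe_pow] at this

variable {ℋ : Set (Subgroup Ω)}

/-- The subsystem attached to `H` is saturated. -/
theorem isSaturated_hSystem (hS : IsPGroup p S) (hF : F.IsSaturated p)
    (hess : ∀ R, F.IsEssential p R → R ∈ 𝒞) (h𝒞ℋ : 𝒞 ⊆ ℋ) (hSℋ : S ∈ ℋ)
    (hℋ : ∀ R ∈ ℋ, ∀ R', F.IsConj R R' → R' ∈ ℋ) (hℋc : ∀ R ∈ ℋ, F.IsCentric R)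
    (hH : H ≤ F.autGroup S)
    (hθ : ∀ P ∈ ℋ, ∀ α ∈ F.autGroup S, EMap F p 𝒞 P (autFun α) → α ∈ H)
    (hstar : ∀ P, F.IsCentric P → P ∉ ℋ →
      ∃ Q, F.IsConj P Q ∧ ∃ n ∈ FamilySat.rSub F p Q, n ∉ Q) :
    (hSystem (p := p) h𝒞 hH).IsSaturated p := by
  set E := hSystem (p := p) h𝒞 hH with hE
  have hsub : E.IsSubsystemOf F := hSystem_isSubsystemOf h𝒞 hH
  have heE : ∀ P f, EMap F p 𝒞 P f → IsMap E P f := fun P f hf =>
    (isMap_hSystem_iff h𝒞 hH).2 (HMap.of_eMap hf)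
  have hsubC : ∀ {R R' : Subgroup Ω}, E.IsConj R R' → F.IsConj R R' := fun {R R'} h => by
    obtain ⟨φ, hφ, hr⟩ := h
    exact ⟨φ, hsub R hφ, hr⟩
  refine FamilySat.isSaturated_of_family hS (fun R hR R' hR' => hℋ R hR R' (hsubC hR')) ?_ ?_ ?_
  · intro R hR
    have hRS := (hℋc R hR).1
    obtain ⟨R₀, hR₀, hR₀n⟩ := exists_fullyNormalized (F := F) hRS
    obtain ⟨f, hf, rfl⟩ := isConj_iff.1 hR₀
    obtain ⟨α, hα, e, he, hfe⟩ := frattini h𝒞 hS hF hess hf
    have hm := (mem_autGroup_iff le_rfl).1 hα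
    have hm' := (mem_autGroup_iff le_rfl).1 (inv_mem hα)
    set Q := img R e
    have hQ : E.IsConj R Q := isConj_iff.2 ⟨e, heE R e he, rfl⟩
    have hQS : Q ≤ S := he.isMap.img_le
    have hQf : Q = img (img R f) (autFun α⁻¹) := by
      rw [img_img hf]
      exact IsMap.img_congr fun x hx => by
        show e x = autFun α⁻¹ (f x)
        rw [hfe x hx, autFun_symm (he.isMap.mem_S hx)]
    have hQn : F.IsFullyNormalized Q := by
      have hN := hm'.mono (inf_le_left : normalizerIn S (img R f) ≤ S)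
      rw [hQf]
      exact (FamilySat.img_rSub hS hR₀n hN).2.1
    obtain ⟨hQa, hQr⟩ := IsSaturated.automized_receptive hS hF hQn
    have hQℋ : Q ∈ ℋ := hℋ R hR Q (hsubC hQ)
    refine ⟨Q, hQ, (isFullyAutomized_iff hS).2 ⟨hQS, fun hd => ?_⟩, isReceptive_iff.2
      ⟨hQS, fun P g hg hgimg => ?_⟩⟩
    · have hle : E.autGroup Q ≤ F.autGroup Q := autGroup_mono hsub hQS
      exact ((isFullyAutomized_iff hS).1 hQa).2 (hd.trans (Dvd.intro _
        (Subgroup.relIndex_mul_relIndex _ _ _ (autInducedBy_le_autGroup hQS) hle)))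
    · have hgF : IsMap F P g := isMap_of_subsystem hsub hg
      obtain ⟨ψ, hψ, hψg⟩ := (isReceptive_iff.1 hQr).2 P g hgF hgimg
      obtain ⟨a, ha, d, hd, hgd⟩ := (isMap_hSystem_iff h𝒞 hH).1 hg
      obtain ⟨b, hb, c, hc, hψc⟩ := frattini h𝒞 hS hF hess hψ
      have hPX := le_extSub (S := S) hgF
      refine ⟨ψ, (isMap_hSystem_iff h𝒞 hH).2 ⟨b, ?_, c, hc, hψc⟩, hψg⟩
      -- compare the two decompositions on the centric subgroup `P`
      have hPℋ : P ∈ ℋ := hℋ Q hQℋ P (isConj_symm (isConj_iff.2 ⟨g, hgF, hgimg⟩))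
      have hP' : img P d ∈ ℋ := hℋ P hPℋ _ (isConj_iff.2 ⟨d, hd.isMap, rfl⟩)
      obtain ⟨d', hd', hd'1, hd'2⟩ := hd.isMap.exists_inv
      have hcd : EMap F p 𝒞 (img P d) (c ∘ d') :=
        (hd.inv d' hd' hd'1).comp (hc.mono hPX) fun y hy => (hd'2 y hy).1
      have hab : b⁻¹ * a ∈ H := by
        refine hθ _ hP' _ (mul_mem (inv_mem hb) (hH ha)) (hcd.congr fun y hy => ?_)
        obtain ⟨x, hx, rfl⟩ := hd.isMap.mem_img.1 hy
        show autFun (b⁻¹ * a) (d x) = c (d' (d x))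
        rw [hd'1 x hx, autFun_mul _ _ (hd.isMap.mem_S hx), ← hgd x hx, ← hψg x hx,
          hψc x (hPX hx), autFun_symm (hc.isMap.mem_S (hPX hx))]
      have h1 := mul_mem ha (inv_mem hab)
      rwa [mul_inv_rev, inv_inv, mul_inv_cancel_left] at h1
  · intro E' hE'
    have key : ∀ P f, EMap F p 𝒞 P f → IsMap E' P f := by
      intro P f hf
      induction hf with
      | @base R P β k hC hle hR hβ hk =>
        obtain ⟨φ, hφ, hφe⟩ := heE R (autFun β) (EMap.base hC le_rfl hR hβ hk)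
        exact (show IsMap E' R (autFun β) from ⟨φ, hE' R (h𝒞ℋ hC) hφ, hφe⟩).mono hle
      | conj hP hs => exact isMap_conj hP hs
      | comp _ _ hm h1 h2 => exact h1.comp h2 hm
      | congr _ he h1 => exact h1.congr he
    intro P φ hφ
    obtain ⟨α, hα, e, he, hfe⟩ := (isMap_hSystem_iff h𝒞 hH).1 (isMap_toFun hφ)
    obtain ⟨ψ, hψ, hψe⟩ := (isMap_hSystem_iff h𝒞 hH).2 (HMap.of_aut (𝒞 := 𝒞) hα (le_refl S))
    have hαE : IsMap E' S (autFun α) := ⟨ψ, hE' S hSℋ hψ, hψe⟩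
    exact mem_hom_iff.2 (((key P e he).comp hαE fun x hx => he.isMap.mem_S hx).congr hfe)
  · intro P hP hPℋ
    by_cases hc : F.IsCentric P
    · obtain ⟨Q, hQ, n, hn, hnQ⟩ := hstar P hc hPℋ
      obtain ⟨f, hf, rfl⟩ := isConj_iff.1 hQ
      obtain ⟨α, hα, e, he, hfe⟩ := frattini h𝒞 hS hF hess hf
      have hm := (mem_autGroup_iff le_rfl).1 (inv_mem hα)
      refine ⟨img P e, isConj_iff.2 ⟨e, heE P e he, rfl⟩, autFun α⁻¹ n, ?_, fun hmem => hnQ ?_⟩
      · have himg : img (img P f) (autFun α⁻¹) = img P e := by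
          rw [img_img hf]
          exact IsMap.img_congr fun x hx => by
            show autFun α⁻¹ (f x) = e x
            rw [hfe x hx, autFun_symm (he.isMap.mem_S hx)]
        have h1 := FamilySat.InO.map hm hf.img_le hn.1.1 hn.2
        have h2 := map_mem_normalizerIn hm hf.img_le hn.1.1 hn.1.2
        rw [himg] at h1 h2
        refine ⟨h2, ?_⟩
        obtain ⟨a, ha, hax⟩ := h1
        obtain ⟨b, hb, rfl⟩ := ha
        have hPe := he.isMap.img_le
        have hbE : (b : MulAut (img P e)) ∈ E.autGroup (img P e) :=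
          (mem_autGroup_iff hPe).2 ((isMap_conj (F := E) hPe h2.1).congr hax)
        haveI := finite_of_le hPe
        haveI := finite_mulAut (P := img P e)
        set inc := Subgroup.inclusion (autGroup_mono hsub hPe)
        haveI : ((Cfsg.pCore p (F.autGroup (img P e))).comap inc).Normal :=
          @Subgroup.Normal.comap _ _ _ _ _ (CfsgLib.Coprime.pCore_normal' p) _
        refine ⟨b, ⟨⟨b, hbE⟩, CfsgLib.Coprime.le_pCore
          ((CfsgLib.Coprime.pCore_isPGroup p).comap_of_injective inc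
            (Subgroup.inclusion_injective _))
          (show inc ⟨b, hbE⟩ ∈ Cfsg.pCore p (F.autGroup (img P e)) from hb), rfl⟩, hax⟩
      · obtain ⟨x, hx, hxe⟩ := he.isMap.mem_img.1 hmem
        refine hf.mem_img.2 ⟨x, hx, ?_⟩
        rw [hfe x hx, hxe, autFun_symm' hn.1.1]
    · have hEc : ¬ E.IsCentric P := fun h => hc (isCentric_of_sub h𝒞 hS hF hess heE h)
      obtain ⟨Q, hQ, hne⟩ : ∃ Q, E.IsConj P Q ∧ ¬ centralizerIn S Q ≤ Q := by
        by_contra hcon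
        push Not at hcon
        exact hEc ⟨hP, hcon⟩
      obtain ⟨c, hcC, hcQ⟩ := SetLike.not_le_iff_exists.1 hne
      refine ⟨Q, hQ, c, ⟨⟨hcC.1, Subgroup.centralizer_le_normalizer _ hcC.2⟩, 1, one_mem _,
        fun x hx => ?_⟩, hcQ⟩
      rw [autFun_one hx, ← Subgroup.mem_centralizer_iff.1 hcC.2 x hx]
      simp

end CfsgLib.Fusion.PPrime
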