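import Cfsg.Agent.Lib.Fusion.System.FactorExist
import Cfsg.Agent.Lib.Fusion.System.Group

/-!
# Maps modulo strongly closed subgroups
-/

set_option autoImplicit false

open Subgroup
open scoped Classical Pointwise

namespace CfsgLib.Fusion

open Cfsg (FusionSystem autInducedBy)
open Cfsg.FusionSystem (normalizerIn centralizerIn preimageAlong imageAlong InducedAlong)

variable {Ω : Type*} [Group Ω] {S : Subgroup Ω} [Finite S] {F : FusionSystem S} {p : ℕ}
  [Fact p.Prime] {T : Subgroup Ω}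

/-- Every map agrees modulo a strongly closed subgroup `T` with a map whose source contains `T`. -/
theorem exists_map_sup (hS : IsPGroup p S) (hF : F.IsSaturated p) (hT : F.StronglyClosed T)
    {P₀ : Subgroup Ω} {f₀ : Ω → Ω} (hf₀ : IsMap F P₀ f₀) :
    ∃ ψ, IsMap F (P₀ ⊔ T) ψ ∧ ∀ x ∈ P₀, (f₀ x)⁻¹ * ψ x ∈ T := by
  have hTn : ∀ s ∈ S, ∀ t ∈ T, s * t * s⁻¹ ∈ T := fun s hs t ht =>
    (Subgroup.mem_normalizer_iff.1 (le_normalizerIn_of_stronglyClosed hT hs).2 t).1 ht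
  have hTT : ∀ {R : Subgroup Ω} {g : Ω → Ω}, IsMap F R g → ∀ t ∈ T, t ∈ R → g t ∈ T :=
    fun {R g} hg t ht htR => (stronglyClosed_iff.1 hT).2 _ g (Subgroup.zpowers_le.2 ht)
      (hg.mono (Subgroup.zpowers_le.2 htR)) t (Subgroup.mem_zpowers t)
  have hTc : ∀ {a b : Ω}, a ∈ S → b ∈ S → a⁻¹ * b ∈ T → b⁻¹ * a ∈ T := fun {a b} _ _ h => by
    simpa using inv_mem h
  let M : Subgroup Ω → (Ω → Ω) → Prop := fun P f =>
    IsMap F P f ∧ ∃ ψ, IsMap F (P ⊔ T) ψ ∧ ∀ x ∈ P, (f x)⁻¹ * ψ x ∈ T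
  let E : FusionSystem S := mkSystem F S M
    (fun _ _ h => ⟨h.1, h.1.le, fun _ hx => h.1.mem_S hx⟩)
    (fun P f g h he => ⟨h.1.congr he, by
      obtain ⟨ψ, hψ, hψe⟩ := h.2
      exact ⟨ψ, hψ, fun x hx => by rw [he x hx]; exact hψe x hx⟩⟩)
    (fun P t hP ht => ⟨isMap_conj hP ht, _, isMap_conj (sup_le hP hT.1) ht,
      fun x _ => by rw [inv_mul_cancel]; exact one_mem T⟩)
    (fun P R f g hf hg h => ⟨hf.1.comp hg.1 h, by
      obtain ⟨ψ, hψ, hψe⟩ := hf.2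
      obtain ⟨θ, hθ, hθe⟩ := hg.2
      have hin : ∀ z ∈ P ⊔ T, ψ z ∈ R ⊔ T := fun z hz => hψ.map_mem_of_sup
        (fun x hx => by
          have h1 := mul_mem (Subgroup.mem_sup_left (T := T) (h x hx))
            (Subgroup.mem_sup_right (S := R) (hψe x hx))
          rwa [mul_inv_cancel_left] at h1)
        (fun x hx => Subgroup.mem_sup_right (hTT hψ x hx (Subgroup.mem_sup_right hx))) hz
      refine ⟨θ ∘ ψ, hψ.comp hθ hin, fun x hx => ?_⟩
      show (g (f x))⁻¹ * θ (ψ x) ∈ T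
      have hfx : f x ∈ R ⊔ T := Subgroup.mem_sup_left (h x hx)
      have e : θ (ψ x) = θ (f x) * θ ((f x)⁻¹ * ψ x) := by
        rw [← hθ.map_mul hfx (Subgroup.mem_sup_right (hψe x hx)), mul_inv_cancel_left]
      rw [e, ← mul_assoc]
      exact mul_mem (hθe _ (h x hx))
        (hTT hθ _ (hψe x hx) (Subgroup.mem_sup_right (hψe x hx)))⟩)
    (fun P f f' hf hf' h => ⟨hf', by
      obtain ⟨ψ, hψ, hψe⟩ := hf.2
      obtain ⟨ψ', hψ', hψ'1, -⟩ := hψ.exists_inv
      have hTimg : img T ψ = T :=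
        img_eq_of_map_le hT.1 hψ le_sup_right fun t ht => hTT hψ t ht (Subgroup.mem_sup_right ht)
      have hle : img P f ⊔ T ≤ img (P ⊔ T) ψ := by
        refine sup_le (hf.1.img_le_of_forall fun x hx => ?_)
          (hTimg.ge.trans (hψ.img_mono le_sup_right))
        have h1 := mul_mem (hψ.mem_img.2 ⟨x, Subgroup.mem_sup_left hx, rfl⟩)
          (inv_mem ((hTimg.ge.trans (hψ.img_mono le_sup_right)) (hψe x hx)))
        rwa [mul_inv_rev, inv_inv, mul_inv_cancel_left] at h1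
      refine ⟨ψ', hψ'.mono hle, fun y hy => ?_⟩
      obtain ⟨x, hx, rfl⟩ := hf.1.mem_img.1 hy
      rw [h x hx]
      have hψ'm := hψ'.mono hle
      have ht := inv_mem (hψe x hx)
      rw [mul_inv_rev, inv_inv] at ht
      have e : ψ' (f x) = ψ' (ψ x) * ψ' ((ψ x)⁻¹ * f x) := by
        rw [← hψ'.map_mul (hψ.mem_img.2 ⟨x, Subgroup.mem_sup_left hx, rfl⟩)
          (hle (Subgroup.mem_sup_right ht)), mul_inv_cancel_left]
      rw [e, hψ'1 x (Subgroup.mem_sup_left hx), inv_mul_cancel_left]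
      exact hTT hψ'm _ ht (Subgroup.mem_sup_right ht)⟩)
  refine ((isMap_mkSystem_iff _).1 (isMap_of_autGroup_le hS hF (E := E) (fun R hR => ?_) hf₀)).2
  induction hk : Nat.card S - Nat.card R using Nat.strong_induction_on generalizing R with
  | _ k ih =>
  intro α hα
  have hRS : R ≤ S := hR.elim (fun e => e.le) (fun e => e.1.1)
  have hm := (mem_autGroup_iff hRS).1 hα
  by_cases hTR : T ≤ R
  · refine (mem_autGroup_iff hRS).2 ((isMap_mkSystem_iff _).2
      ⟨hm, autFun α, by rwa [sup_eq_left.2 hTR], fun x _ => ?_⟩)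
    rw [inv_mul_cancel]; exact one_mem T
  have hRne : R ≠ S := fun he => hTR (he ▸ hT.1)
  have hRn : F.IsFullyNormalized R := (hR.resolve_left hRne).2.1
  haveI := finite_of_le hRS
  haveI := finite_mulAut (P := R)
  have big : ∀ {U : Subgroup Ω} {g : Ω → Ω}, IsMap F U g → Nat.card R < Nat.card U → IsMap E U g :=
    fun {U g} hg hU => isMap_of_autGroup_le_above hS hF (fun R' hT' hR'' => ih _ (by
      have : Nat.card R' ≤ Nat.card S :=
        card_le_of_le' le_rfl (hR''.elim (fun e => e.le) fun e => e.1.1)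
      omega) R' hR'' rfl) hg
  obtain ⟨hauto, hrec⟩ := IsSaturated.automized_receptive hS hF hRn
  obtain ⟨-, hi⟩ := (isFullyAutomized_iff hS).1 hauto
  set X := F.autGroup R with hX
  set A := autInducedBy S R with hA
  have hAX : A ≤ X := autInducedBy_le_autGroup hRS
  have hinvT : ∀ a ∈ X, ∀ x ∈ R ⊓ T, autFun a x ∈ R ⊓ T := fun a ha x hx =>
    ⟨autFun_mem a hx.1, hTT ((mem_autGroup_iff hRS).1 ha) x hx.2 hx.1⟩
  have hinvR : ∀ a ∈ X, ∀ x ∈ R, autFun a x ∈ R := fun a _ x hx => autFun_mem a hx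
  set K : Subgroup (MulAut R) :=
    (relStab X R (R ⊓ T) hinvT le_rfl inf_le_left hinvR).map X.subtype with hK
  have hKX : K ≤ X := Subgroup.map_subtype_le _
  have hKn : X ≤ Subgroup.normalizer (K : Set (MulAut R)) := by
    haveI hn : (relStab X R (R ⊓ T) hinvT le_rfl inf_le_left hinvR).Normal := relStab_normal
    refine (Subgroup.normal_subgroupOf_iff_le_normalizer hKX).1 ?_
    rw [hK, Subgroup.subgroupOf, Subgroup.comap_map_eq_self_of_injective X.subtype_injective]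
    exact hn
  have hKmem : ∀ κ ∈ K, ∀ x ∈ R, x⁻¹ * autFun κ x ∈ T := by
    rintro _ ⟨a, ha, rfl⟩ x hx
    exact (ha x hx).2
  have hDi := not_dvd_relIndex_inf_of_le_normalizer (isPGroup_autInducedBy hS) hAX hi hKX hKn
  obtain ⟨κ, hκ, hκD⟩ := exists_conj_le_of_not_dvd_relIndex
    ((isPGroup_autInducedBy hS).to_le (inf_le_left : A ⊓ K ≤ A)) (inf_le_right : A ⊓ K ≤ K) hDi
    (isPGroup_conjBy α ((isPGroup_autInducedBy hS).to_le (inf_le_left : A ⊓ K ≤ A)))
    (conjBy_le_iff.2 fun a ha => (Subgroup.mem_normalizer_iff.1 (hKn hα) a).1 ha.2)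
  rw [conjBy_conjBy] at hκD
  set β := κ * α with hβ
  have hβX : β ∈ X := mul_mem (hKX hκ) hα
  have hβm := (mem_autGroup_iff hRS).1 hβX
  obtain ⟨g, hg, hgβ⟩ := (isReceptive_iff.1 hrec).2 R _ hβm (img_autFun β)
  have hTS := hT.1
  set N := R ⊔ normalizerIn T R with hN
  have hext : N ≤ extSub S R (autFun β) := by
    refine sup_le (le_extSub hβm) fun n hn => ?_
    have hnA : conjAut n hn.2 ∈ A := conjAut_mem (hTS hn.1) hn.2
    have hnK : conjAut n hn.2 ∈ K := by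
      refine ⟨⟨_, hAX hnA⟩, fun x hx => ?_, rfl⟩
      show x⁻¹ * autFun (conjAut n hn.2) x ∈ R ⊓ T
      refine ⟨mul_mem (R.inv_mem hx) (autFun_mem _ hx), ?_⟩
      rw [autFun_conjAut hn.2 hx]
      have h1 := mul_mem (hTn x⁻¹ (S.inv_mem (hRS hx)) n hn.1) (inv_mem hn.1)
      simpa [mul_assoc] using h1
    obtain ⟨m, hm', hme⟩ := mem_autInducedBy_iff.1 (hκD (conj_mem_conjBy ⟨hnA, hnK⟩)).1
    refine ⟨⟨hTS hn.1, hn.2⟩, m, hm', fun z hz => ?_⟩
    rw [← autFun_conjAut hn.2 hz, ← hme _ (autFun_mem β hz), ← autFun_mul _ _ hz,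
      ← autFun_mul _ _ hz, inv_mul_cancel_right]
  have hlt : R < N := by
    refine lt_of_le_of_ne le_sup_left fun he => ?_
    have hsup : R ⊔ T ≤ S := sup_le hRS hTS
    haveI := finite_of_le hsup
    haveI : Group.IsNilpotent (R ⊔ T : Subgroup Ω) := (hS.to_le hsup).isNilpotent
    obtain ⟨m, ⟨hm', hmN⟩, hmR⟩ := SetLike.exists_of_lt
      (lt_inf_normalizer (le_sup_left : R ≤ R ⊔ T) fun he => hTR (sup_eq_left.1 he.symm))
    have hm2 : m ∈ ((R : Set Ω) * (T : Set Ω)) := by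
      rw [← Subgroup.coe_mul_of_left_le_normalizer_right R T
        (hRS.trans ((le_normalizerIn_of_stronglyClosed hT).trans inf_le_right))]
      exact hm'
    obtain ⟨a, ha, t, ht, rfl⟩ := Set.mem_mul.1 hm2
    have htN : t ∈ Subgroup.normalizer (R : Set Ω) := by
      simpa using mul_mem (inv_mem (Subgroup.le_normalizer (ha : a ∈ R))) hmN
    exact hmR (mul_mem ha (he.ge (Subgroup.mem_sup_right ⟨ht, htN⟩)))
  have hNS : N ≤ S := hext.trans (extSub_le.trans inf_le_left)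
  obtain ⟨-, ψ, hψ, hψe⟩ := (isMap_mkSystem_iff _).1 (big (hg.mono hext) (card_lt_of_lt hNS hlt))
  refine (mem_autGroup_iff hRS).2 ((isMap_mkSystem_iff _).2
    ⟨hm, ψ, hψ.mono (sup_le_sup_right hlt.le T), fun x hx => ?_⟩)
  have h1 := hψe x (hlt.le hx)
  rw [hgβ x hx, hβ, autFun_mul _ _ hx] at h1
  have h3 := mul_mem (hKmem κ hκ _ (autFun_mem α hx)) h1
  simpa [mul_assoc] using h3

/-- The factor map is a surjective morphism. -/
theorem isSurjectiveMorphism_factor (hS : IsPGroup p S) (hF : F.IsSaturated p)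
    (hT : F.StronglyClosed T) {Ω' : Type*} [Group Ω'] {S' : Subgroup Ω'} {θ : S →* Ω'}
    {E : FusionSystem S'} (hE : F.IsFactorSystem T θ E) : F.IsSurjectiveMorphism E θ := by
  obtain ⟨hTS, hker, hr, hhom⟩ := hE
  refine ⟨⟨fun s => hr.le ⟨s, rfl⟩, fun P φ hφ => ?_⟩, hr,
    fun P' hP' φ' hφ' => ((hhom P' φ').1 hφ').2⟩
  have hPS := (F.le_of_mem hφ).1
  obtain ⟨ψ, hψ, hψe⟩ := exists_map_sup hS hF hT (isMap_toFun hφ)
  have hn : S ≤ normalizerIn S T := le_normalizerIn_of_stronglyClosed hT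
  set N := nSystem F S T hn hTS with hN
  have hNR : N.IsNormal T := isNormal_iff.2 ⟨hTS, fun P f hf => by
    obtain ⟨h1, h2, g, hg, hgf, hgR⟩ := isMap_nSystem_iff.1 hf
    exact ⟨g, isMap_nSystem_iff.2 ⟨hg.le, fun x hx => hg.mem_S hx, g,
      hg.mono (sup_le le_rfl le_sup_right), fun _ _ => rfl, hgR⟩, hgf, hgR⟩⟩
  have hbot : preimageAlong θ ⊥ = T := by
    ext x
    rw [mem_preimageAlong]
    constructor
    · rintro ⟨hx, h⟩
      rw [Subgroup.mem_bot, ext1_apply θ hx] at h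
      exact (hker ⟨x, hx⟩).1 h
    · intro hx
      refine ⟨hTS hx, ?_⟩
      rw [Subgroup.mem_bot, ext1_apply θ (hTS hx)]
      exact (hker ⟨x, hTS hx⟩).2 hx
  have hK : N.IsNormal (preimageAlong θ ⊥) := hbot.symm ▸ hNR
  have hψN : IsMap N (P ⊔ T) ψ := isMap_nSystem_iff.2 ⟨hψ.le, fun x hx => hψ.mem_S hx, ψ,
    hψ.mono (sup_le le_rfl le_sup_right), fun _ _ => rfl,
    img_eq_of_map_le hTS hψ le_sup_right fun t ht =>
      (stronglyClosed_iff.1 hT).2 _ _ le_rfl (hψ.mono le_sup_right) t ht⟩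
  have hle : preimageAlong θ (imgι θ P) ≤ P ⊔ T :=
    (preimageAlong_imgι_le hPS).trans (sup_le_sup_left hbot.le _)
  obtain ⟨φ', hQ, he⟩ := exists_qMap hK (imgι_le_range P) (hψN.mono hle)
  obtain ⟨-, -, hsurj⟩ := quotientSystem_surjective hK
  have hP' : imgι θ P ≤ θ.range := imgι_le_range P
  obtain ⟨φ₁, hφ₁, hind⟩ := hsurj _ hP' φ' hQ
  refine ⟨φ', (hhom _ φ').2 ⟨hP'.trans hr.le, φ₁,
    mem_hom_iff.2 (isMap_nSystem_iff.1 (isMap_toFun hφ₁)).isMap, hind⟩,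
    hPS, fun x => (F.le_of_mem hφ).2 x, fun x => ⟨⟨x, hPS x.2⟩, x.2, rfl⟩, fun x => ?_⟩
  have hx : (x : Ω) ∈ preimageAlong θ (imgι θ P) :=
    mem_preimageAlong.2 ⟨hPS x.2, ext1_mem_imgι hPS x.2⟩
  have h := he x hx
  rw [toFun_apply φ' (ext1_mem_imgι hPS x.2),
    ← (ext1_eq_iff ((F.le_of_mem hφ).2 x) (hψ.mem_S (Subgroup.mem_sup_left x.2))).2
      (hbot.ge (toFun_coe φ x ▸ hψe x x.2))] at h
  simp only [ext1_apply θ (hPS x.2), ext1_apply θ ((F.le_of_mem hφ).2 x)] at h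
  exact h

/-- Products of strongly closed subgroups are strongly closed. -/
theorem stronglyClosed_sup (hS : IsPGroup p S) (hF : F.IsSaturated p) {T₁ T₂ : Subgroup Ω}
    (h₁ : F.StronglyClosed T₁) (h₂ : F.StronglyClosed T₂) : F.StronglyClosed (T₁ ⊔ T₂) := by
  refine stronglyClosed_iff.2 ⟨sup_le h₁.1 h₂.1, fun R f hR hf x hx => ?_⟩
  obtain ⟨ψ, hψ, hψe⟩ := exists_map_sup hS hF h₁ hf
  have hx2 : x ∈ ((T₁ : Set Ω) * (T₂ : Set Ω)) := by
    rw [← Subgroup.coe_mul_of_left_le_normalizer_right T₁ T₂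
      (h₁.1.trans ((le_normalizerIn_of_stronglyClosed h₂).trans inf_le_right))]
    exact hR hx
  obtain ⟨a, ha, b, hb, rfl⟩ := Set.mem_mul.1 hx2
  have haR : a ∈ R ⊔ T₁ := Subgroup.mem_sup_right ha
  have hbR : b ∈ R ⊔ T₁ := by
    simpa using mul_mem (inv_mem haR) (Subgroup.mem_sup_left (T := T₁) hx)
  have hcl : ∀ {U : Subgroup Ω}, F.StronglyClosed U → ∀ u ∈ U, u ∈ R ⊔ T₁ → ψ u ∈ U :=
    fun {U} hU u hu huR => (stronglyClosed_iff.1 hU).2 _ ψ (Subgroup.zpowers_le.2 hu)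
      (hψ.mono (Subgroup.zpowers_le.2 huR)) u (Subgroup.mem_zpowers u)
  have h3 : ψ (a * b) ∈ T₁ ⊔ T₂ := by
    rw [hψ.map_mul haR hbR]
    exact Subgroup.mul_mem_sup (hcl h₁ a ha haR) (hcl h₂ b hb hbR)
  have h4 := mul_mem h3 (inv_mem (Subgroup.mem_sup_left (T := T₂) (hψe _ hx)))
  rwa [mul_inv_rev, inv_inv, mul_inv_cancel_left] at h4

/-- `T C_S(T)` is strongly closed. -/
theorem stronglyClosed_sup_centralizer (hS : IsPGroup p S) (hF : F.IsSaturated p)
    (hT : F.StronglyClosed T) : F.StronglyClosed (T ⊔ centralizerIn S T) := by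
  refine stronglyClosed_iff.2 ⟨sup_le hT.1 inf_le_left, fun R f hR hf x hx => ?_⟩
  obtain ⟨ψ, hψ, hψe⟩ := exists_map_sup hS hF hT hf
  have hx2 : x ∈ ((centralizerIn S T : Set Ω) * (T : Set Ω)) := by
    rw [← Subgroup.coe_mul_of_left_le_normalizer_right (centralizerIn S T) T
      (inf_le_right.trans (Subgroup.centralizer_le_normalizer _))]
    rw [sup_comm] at hR
    exact hR hx
  obtain ⟨c, hc, t, ht, rfl⟩ := Set.mem_mul.1 hx2
  have htR : t ∈ R ⊔ T := Subgroup.mem_sup_right ht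
  have hcR : c ∈ R ⊔ T := by
    simpa using mul_mem (Subgroup.mem_sup_left (T := T) hx) (inv_mem htR)
  have htimg : img T ψ = T := img_eq_of_map_le hT.1 hψ le_sup_right fun u hu =>
    (stronglyClosed_iff.1 hT).2 _ ψ le_rfl (hψ.mono le_sup_right) u hu
  have h3 : ψ (c * t) ∈ T ⊔ centralizerIn S T := by
    rw [hψ.map_mul hcR htR]
    refine mul_mem (Subgroup.mem_sup_right ?_) (Subgroup.mem_sup_left
      (htimg.le ((hψ.mono le_sup_right).mem_img.2 ⟨t, ht, rfl⟩)))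
    have h5 := map_mem_centralizerIn hψ le_sup_right hcR hc.2
    rwa [htimg] at h5
  have h4 := mul_mem h3 (inv_mem (Subgroup.mem_sup_left (T := centralizerIn S T) (hψe _ hx)))
  rwa [mul_inv_rev, inv_inv, mul_inv_cancel_left] at h4

end CfsgLib.Fusion
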