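import Cfsg.Agent.Lib.Fusion.System.Invariant
import Cfsg.Agent.Lib.Fusion.System.TopCriterion
import Cfsg.Agent.Lib.Fusion.System.Group
import Cfsg.Agent.Lib.Fusion.System.Hyperfocal

/-!
# Strong invariance
-/

set_option autoImplicit false
set_option maxHeartbeats 1000000
set_option linter.style.haveILetI false

open Subgroup
open scoped Classical

namespace CfsgLib.Fusion

open Cfsg (FusionSystem autInducedBy)
open Cfsg.FusionSystem (normalizerIn centralizerIn)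

variable {Ω : Type*} [Group Ω] {S T : Subgroup Ω} {F : FusionSystem S} {E : FusionSystem T}
  {p : ℕ} {P Q : Subgroup Ω} {f g : Ω → Ω}

/-- Conjugation of maps of `E` by maps of `F` inside `T`. -/
def StrongInv (E : FusionSystem T) (F : FusionSystem S) : Prop :=
  ∀ (P Q : Subgroup Ω) (f g : Ω → Ω), P ≤ Q → Q ≤ T → IsMap E P f → (∀ x ∈ P, f x ∈ Q) →
    IsMap F Q g → ∃ h, IsMap E (img P g) h ∧ ∀ x ∈ P, h (g x) = g (f x)

theorem strongInv_iff : StrongInv E F ↔ ∀ (P Q : Subgroup Ω) (hPQ : P ≤ Q) (_ : Q ≤ T)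
    (φ : P →* Ω) (_ : φ ∈ E.Hom P) (hφQ : ∀ x : P, φ x ∈ Q) (ψ : Q →* Ω) (_ : ψ ∈ F.Hom Q),
    ∃ χ ∈ E.Hom ((P.subgroupOf Q).map ψ), ∀ (x : P)
      (hx : ψ (Subgroup.inclusion hPQ x) ∈ (P.subgroupOf Q).map ψ),
      χ ⟨ψ (Subgroup.inclusion hPQ x), hx⟩ = ψ ⟨φ x, hφQ x⟩ := by
  constructor
  · intro h P Q hPQ hQT φ hφ hφQ ψ hψ
    obtain ⟨k, ⟨χ, hχ, hχk⟩, hk⟩ := h P Q (toFun φ) (toFun ψ) hPQ hQT (isMap_toFun hφ)
      (fun x hx => by rw [toFun_apply φ hx]; exact hφQ _) (isMap_toFun hψ)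
    rw [map_subgroupOf_eq_img hPQ]
    refine ⟨χ, hχ, fun x hx => (hχk ⟨_, hx⟩).trans ?_⟩
    have h1 := hk x x.2
    rw [toFun_apply ψ (hPQ x.2), toFun_coe φ x] at h1
    exact h1.trans (toFun_apply ψ (hφQ x))
  · intro h P Q f g hPQ hQT hf hfQ hg
    obtain ⟨φ, hφ, hφf⟩ := hf
    obtain ⟨ψ, hψ, hψg⟩ := id hg
    obtain ⟨χ, hχ, hχe⟩ := h P Q hPQ hQT φ hφ (fun x => hφf x ▸ hfQ x x.2) ψ hψ
    have himg : img P g = (P.subgroupOf Q).map ψ := by
      rw [map_subgroupOf_eq_img hPQ]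
      exact IsMap.img_congr fun x hx => ((toFun_apply ψ (hPQ hx)).trans (hψg _)).symm
    refine ⟨toFun χ, by rw [himg]; exact isMap_toFun hχ, fun x hx => ?_⟩
    have hmem : ψ (Subgroup.inclusion hPQ ⟨x, hx⟩) ∈ (P.subgroupOf Q).map ψ :=
      ⟨Subgroup.inclusion hPQ ⟨x, hx⟩, hx, rfl⟩
    have e : g x = ψ (Subgroup.inclusion hPQ ⟨x, hx⟩) := (hψg (Subgroup.inclusion hPQ ⟨x, hx⟩)).symm
    rw [e, toFun_apply χ hmem, hχe ⟨x, hx⟩ hmem, hψg]
    exact congrArg g (hφf ⟨x, hx⟩)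

/-- `f` is an automorphism of `T` after a map of `E`. -/
def Decomp (F : FusionSystem S) (E : FusionSystem T) (P : Subgroup Ω) (f : Ω → Ω) : Prop :=
  ∃ α ∈ F.autGroup T, ∃ f₀, IsMap E P f₀ ∧ ∀ x ∈ P, f x = autFun α (f₀ x)

theorem isMap_autFun_of_mem (hTS : T ≤ S) {α : MulAut T} (hα : α ∈ F.autGroup T) :
    IsMap F T (autFun α) := (mem_autGroup_iff hTS).1 hα

theorem autFun_map_inv (α : MulAut T) {x : Ω} (hx : x ∈ T) :
    autFun α⁻¹ (autFun α x) = x := by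
  rw [← autFun_mul _ _ hx, inv_mul_cancel, autFun_one hx]

/-- Transport of a map of `E` by an automorphism of `T`. -/
theorem StrongInv.transport (h : StrongInv E F) (hTS : T ≤ S) {α : MulAut T}
    (hα : α ∈ F.autGroup T) (hf : IsMap E P f) :
    ∃ k, IsMap E (img P (autFun α)) k ∧ ∀ x ∈ P, k (autFun α x) = autFun α (f x) :=
  h P T f (autFun α) hf.le le_rfl hf (fun _ hx => hf.mem_S hx) (isMap_autFun_of_mem hTS hα)

theorem Decomp.of_map (hTS : T ≤ S) (hf : IsMap E P f) : Decomp F E P f :=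
  ⟨1, one_mem _, f, hf, fun x hx => (autFun_one (hf.mem_S hx)).symm⟩

theorem Decomp.comp (h : StrongInv E F) (hTS : T ≤ S) (hf : Decomp F E P f) (hg : Decomp F E Q g)
    (hm : ∀ x ∈ P, f x ∈ Q) : Decomp F E P (g ∘ f) := by
  obtain ⟨α, hα, f₀, hf₀, hfe⟩ := hf
  obtain ⟨β, hβ, g₀, hg₀, hge⟩ := hg
  have hαi := inv_mem hα
  obtain ⟨k, hk, hke⟩ := h.transport hTS hαi hg₀
  have hQm := (isMap_autFun_of_mem (F := F) hTS hαi).mono hg₀.le
  have hmem : ∀ x ∈ P, f₀ x ∈ img Q (autFun α⁻¹) := fun x hx =>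
    hQm.mem_img.2 ⟨f x, hm x hx, by rw [hfe x hx, autFun_map_inv α (hf₀.mem_S hx)]⟩
  refine ⟨β * α, mul_mem hβ hα, k ∘ f₀, hf₀.comp hk hmem, fun x hx => ?_⟩
  show g (f x) = autFun (β * α) (k (f₀ x))
  have e1 : k (f₀ x) = autFun α⁻¹ (g₀ (f x)) := by
    rw [← hke _ (hm x hx), hfe x hx, autFun_map_inv α (hf₀.mem_S hx)]
  have hgm := hg₀.mem_S (hm x hx)
  rw [e1, autFun_mul _ _ (autFun_mem _ hgm), autFun_inv_apply α hgm, hge _ (hm x hx)]

theorem Decomp.congr (hf : Decomp F E P f) (he : ∀ x ∈ P, g x = f x) : Decomp F E P g := by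
  obtain ⟨α, hα, f₀, hf₀, hfe⟩ := hf
  exact ⟨α, hα, f₀, hf₀, fun x hx => (he x hx).trans (hfe x hx)⟩

theorem Decomp.mono (hf : Decomp F E P f) (hQ : Q ≤ P) : Decomp F E Q f := by
  obtain ⟨α, hα, f₀, hf₀, hfe⟩ := hf
  exact ⟨α, hα, f₀, hf₀.mono hQ, fun x hx => hfe x (hQ hx)⟩

theorem Decomp.inverse (h : StrongInv E F) (hTS : T ≤ S) (hfm : IsMap F P f)
    (hf : Decomp F E P f) : ∃ f', Decomp F E (img P f) f' ∧ ∀ x ∈ P, f' (f x) = x := by
  obtain ⟨α, hα, f₀, hf₀, hfe⟩ := hf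
  obtain ⟨f₀', hf₀', hinv, -⟩ := hf₀.exists_inv
  obtain ⟨k, hk, hke⟩ := h.transport hTS hα hf₀'
  have himg : img P f = img (img P f₀) (autFun α) := by
    rw [img_img hf₀, IsMap.img_congr (f := f) (g := autFun α ∘ f₀) hfe]
  refine ⟨autFun α⁻¹ ∘ k, ⟨α⁻¹, inv_mem hα, k, himg ▸ hk, fun _ _ => rfl⟩, fun x hx => ?_⟩
  show autFun α⁻¹ (k (f x)) = x
  rw [hfe x hx, hke _ (hf₀.mem_img.2 ⟨x, hx, rfl⟩), hinv x hx, autFun_map_inv α (hf₀.le hx)]

variable [Finite S] [Fact p.Prime]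

/-- Strong invariance gives the Frattini condition. -/
theorem decomp_of_strongInv (hS : IsPGroup p S) (hF : F.IsSaturated p) (hT : F.StronglyClosed T)
    (hsub : E.IsSubsystemOf F) (h : StrongInv E F) (hf : IsMap F P f) (hP : P ≤ T) :
    Decomp F E P f := by
  have hTS := hT.1
  haveI := finite_of_le hTS
  have hcl : ∀ {R : Subgroup Ω} {k : Ω → Ω}, IsMap F R k → R ≤ T → ∀ x ∈ R, k x ∈ T :=
    fun hk hR x hx => (stronglyClosed_iff.1 hT).2 _ _ hR hk x hx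
  induction hk : Nat.card T - Nat.card P using Nat.strong_induction_on generalizing P f with
  | _ n ih =>
  by_cases hPT : P = T
  · subst hPT
    have himg : img P f = P := img_eq_of_map_le hTS hf le_rfl (hcl hf le_rfl)
    exact ⟨autOf hf himg, autOf_mem hf himg, id, isMap_id le_rfl,
      fun x hx => (autFun_autOf hf himg hx).symm⟩
  obtain ⟨U, hPU, hU⟩ := exists_fullyNormalized (F := F) hf.le
  obtain ⟨hauto, hrec⟩ := IsSaturated.automized_receptive hS hF hU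
  have hUT : U ≤ T := by
    obtain ⟨k, hk', rfl⟩ := isConj_iff.1 hPU
    exact hk'.img_le_of_forall (hcl hk' hP)
  have hnorm : ∀ R : Subgroup Ω, F.IsConj R U → R ≤ T → Nat.card R = Nat.card P →
      ∃ γ, IsMap F R γ ∧ img R γ = U ∧ Decomp F E R γ := by
    intro R hR hRT hc
    obtain ⟨γ, hγ, hγimg, -⟩ := exists_map_normalizer hS hauto hrec hR
    have hle : normalizerIn T R ≤ normalizerIn S R := inf_le_inf_right _ hTS
    have hRN : R ≤ normalizerIn T R := le_inf hRT Subgroup.le_normalizer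
    have hlt : R < normalizerIn T R := lt_normalizerIn (hS.to_le hTS) hRT fun he => hPT
      (eq_of_le_of_card_le hTS hP (by rw [← hc, he]))
    have h1 : Nat.card R < Nat.card (normalizerIn T R) :=
      card_lt_of_lt ((inf_le_left : normalizerIn T R ≤ T).trans hTS) hlt
    have h2 : Nat.card (normalizerIn T R) ≤ Nat.card T := card_le_of_le' hTS inf_le_left
    exact ⟨γ, hγ.mono (hRN.trans hle), hγimg,
      (ih _ (by omega) (hγ.mono hle) inf_le_left rfl).mono hRN⟩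
  obtain ⟨γ, hγ, hγimg, hγd⟩ := hnorm P hPU hP rfl
  have hP' : img P f ≤ T := hf.img_le_of_forall (hcl hf hP)
  obtain ⟨δ, hδ, hδimg, hδd⟩ :=
    hnorm (img P f) (isConj_trans (isConj_symm (isConj_iff.2 ⟨f, hf, rfl⟩)) hPU) hP' hf.card_img
  obtain ⟨γ', hγ', hγ'1, -⟩ := hγ.exists_inv
  rw [hγimg] at hγ'
  have hγ'P : ∀ y ∈ U, γ' y ∈ P := fun y hy => by
    obtain ⟨x, hx, rfl⟩ := hγ.mem_img.1 (hγimg.ge hy)
    rwa [hγ'1 x hx]
  have hβ : IsMap F U (δ ∘ (f ∘ γ')) :=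
    (hγ'.comp hf hγ'P).comp hδ fun y hy => hf.mem_img.2 ⟨_, hγ'P y hy, rfl⟩
  have hβimg : img U (δ ∘ (f ∘ γ')) = U := img_eq_of_map_le hU.1 hβ le_rfl fun y hy =>
    hδimg.le (hδ.mem_img.2 ⟨_, hf.mem_img.2 ⟨_, hγ'P y hy, rfl⟩, rfl⟩)
  -- the automorphism of the fully normalized conjugate
  haveI := finite_of_le hU.1
  haveI := finite_mulAut (P := U)
  set X := F.autGroup U with hX
  set Y := E.autGroup U with hY
  set A := autInducedBy S U with hA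
  have hYX : Y ≤ X := fun y hy => by
    obtain ⟨φ, hφ, hφe⟩ := (mem_autGroup_iff hUT).1 hy
    exact (mem_autGroup_iff hU.1).2 ⟨φ, hsub U hφ, hφe⟩
  have hYn : X ≤ Subgroup.normalizer (Y : Set (MulAut U)) := by
    have key : ∀ x ∈ X, ∀ y ∈ Y, x * y * x⁻¹ ∈ Y := by
      intro x hx y hy
      obtain ⟨k, hk', hke⟩ := h U U (autFun y) (autFun x) le_rfl hUT
        ((mem_autGroup_iff hUT).1 hy) (fun z hz => autFun_mem y hz) ((mem_autGroup_iff hU.1).1 hx)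
      rw [img_autFun] at hk'
      refine (mem_autGroup_iff hUT).2 (hk'.congr fun z hz => ?_)
      have hz' := autFun_mem x⁻¹ hz
      conv_rhs => rw [← autFun_inv_apply x hz]
      rw [hke _ hz', autFun_mul _ _ hz, autFun_mul _ _ hz']
    intro x hx
    rw [Subgroup.mem_normalizer_iff]
    exact fun y => ⟨key x hx y, fun hy => by
      simpa [mul_assoc] using key x⁻¹ (inv_mem hx) _ hy⟩
  have hi := ((isFullyAutomized_iff hS).1 hauto).2
  have hDi := not_dvd_relIndex_inf_of_le_normalizer (isPGroup_autInducedBy hS)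
    (autInducedBy_le_autGroup hU.1) hi hYX hYn
  set b := autOf hβ hβimg with hb
  have hbX : b ∈ X := autOf_mem hβ hβimg
  obtain ⟨y, hy, hyD⟩ := exists_conj_le_of_not_dvd_relIndex
    ((isPGroup_autInducedBy hS).to_le (inf_le_left : A ⊓ Y ≤ A)) (inf_le_right : A ⊓ Y ≤ Y) hDi
    (isPGroup_conjBy b ((isPGroup_autInducedBy hS).to_le (inf_le_left : A ⊓ Y ≤ A)))
    (conjBy_le_iff.2 fun a ha => (Subgroup.mem_normalizer_iff.1 (hYn hbX) a).1 ha.2)
  rw [conjBy_conjBy] at hyD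
  set c := y * b with hc
  have hcm := (mem_autGroup_iff hU.1).1 (mul_mem (hYX hy) hbX)
  obtain ⟨e, he, hee⟩ := (isReceptive_iff.1 hrec).2 U _ hcm (img_autFun _)
  have hext : normalizerIn T U ≤ extSub S U (autFun c) := fun m hm => by
    have hmY : conjAut m hm.2 ∈ Y := autInducedBy_le_autGroup hUT (conjAut_mem hm.1 hm.2)
    obtain ⟨w, hw, hwe⟩ := mem_autInducedBy_iff.1
      (hyD (conj_mem_conjBy ⟨conjAut_mem (hTS hm.1) hm.2, hmY⟩)).1
    refine ⟨⟨hTS hm.1, hm.2⟩, w, hw, fun z hz => ?_⟩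
    rw [← autFun_conjAut hm.2 hz, ← hwe _ (autFun_mem c hz), ← autFun_mul _ _ hz,
      ← autFun_mul _ _ hz, inv_mul_cancel_right]
  have hUc : Nat.card U = Nat.card P := isConj_card hPU
  have hlt : U < normalizerIn T U := lt_normalizerIn (hS.to_le hTS) hUT fun he => hPT
    (eq_of_le_of_card_le hTS hP (by rw [← hUc, he]))
  have h1 : Nat.card U < Nat.card (normalizerIn T U) :=
    card_lt_of_lt ((inf_le_left : normalizerIn T U ≤ T).trans hTS) hlt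
  have h2 : Nat.card (normalizerIn T U) ≤ Nat.card T := card_le_of_le' hTS inf_le_left
  have hcd : Decomp F E U (autFun c) :=
    ((ih _ (by omega) (he.mono hext) inf_le_left rfl).mono hlt.le).congr
      fun z hz => (hee z hz).symm
  have hyd : Decomp F E U (autFun y⁻¹) :=
    Decomp.of_map hTS ((mem_autGroup_iff hUT).1 (inv_mem hy))
  have hbd : Decomp F E U (δ ∘ (f ∘ γ')) :=
    ((hcd.comp h hTS hyd fun z hz => autFun_mem c hz)).congr fun z hz => by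
      show _ = autFun y⁻¹ (autFun c z)
      rw [← autFun_mul _ _ hz, hc, inv_mul_cancel_left, autFun_autOf hβ hβimg hz]
  obtain ⟨δ', hδ'd, hδ'1⟩ := hδd.inverse h hTS hδ
  rw [hδimg] at hδ'd
  have hγU : ∀ x ∈ P, γ x ∈ U := fun x hx => hγimg.le (hγ.mem_img.2 ⟨x, hx, rfl⟩)
  refine (((hγd.comp h hTS hbd hγU).comp h hTS hδ'd fun x hx => ?_)).congr fun x hx => ?_
  · exact hδimg.le (hδ.mem_img.2 ⟨_, hf.mem_img.2 ⟨_, hγ'P _ (hγU x hx), rfl⟩, rfl⟩)
  · show f x = δ' (δ (f (γ' (γ x))))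
    rw [hγ'1 x hx, hδ'1 _ (hf.mem_img.2 ⟨x, hx, rfl⟩)]

theorem isInvariantIn_iff_strongInv (hS : IsPGroup p S) (hF : F.IsSaturated p)
    (hE : E.IsSubsystemOf F) (hT : F.StronglyClosed T) :
    E.IsInvariantIn F ↔ StrongInv E F := by
  have hTS := hT.1
  constructor
  · rintro ⟨-, -, hinv, hfrat⟩ P Q f g hPQ hQT hf hfQ hg
    obtain ⟨ψ, hψ, hψg⟩ := id hg
    obtain ⟨α, hα, ψ₀, hψ₀, hψe⟩ := hfrat Q hQT ψ hψ
    set g₀ := toFun ψ₀
    have hg₀ : IsMap E Q g₀ := isMap_toFun hψ₀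
    have hge : ∀ x ∈ Q, g x = autFun α (g₀ x) := fun x hx => by
      have h1 := hψe ⟨x, hx⟩ ((E.le_of_mem hψ₀).2 _)
      rw [hψg, ← autFun_apply α ((E.le_of_mem hψ₀).2 _)] at h1
      rw [h1, show g₀ x = ψ₀ ⟨x, hx⟩ from toFun_apply ψ₀ hx]
    obtain ⟨g₀', hg₀', hinv0, -⟩ := hg₀.exists_inv
    set P₁ := img P g₀ with hP₁
    have hgP := hg₀.mono hPQ
    have hm : IsMap E P₁ (g₀ ∘ (f ∘ g₀')) :=
      ((hg₀'.mono (hg₀.img_mono hPQ)).comp hf fun y hy => by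
        obtain ⟨x, hx, rfl⟩ := hgP.mem_img.1 hy
        rwa [hinv0 x (hPQ hx)]).comp hg₀ fun y hy => by
          obtain ⟨x, hx, rfl⟩ := hgP.mem_img.1 hy
          show f (g₀' (g₀ x)) ∈ Q
          rw [hinv0 x (hPQ hx)]
          exact hfQ x hx
    obtain ⟨φ₁, hφ₁, hφ₁f⟩ := hm
    have hP₁T : P₁ ≤ T := hgP.img_le
    obtain ⟨χ, hχ, hχe⟩ := hinv P₁ hP₁T φ₁ hφ₁ α hα
    have himg : img P g = (P₁.subgroupOf T).map (T.subtype.comp α.toMonoidHom) := by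
      rw [map_subgroupOf_eq_img hP₁T]
      show img P g = img P₁ (autFun α)
      rw [hP₁, img_img hgP]
      exact IsMap.img_congr fun x hx => hge x (hPQ hx)
    refine ⟨toFun χ, by rw [himg]; exact isMap_toFun hχ, fun x hx => ?_⟩
    have hx₁ : g₀ x ∈ P₁ := hgP.mem_img.2 ⟨x, hx, rfl⟩
    have hmem : ((α ⟨g₀ x, hP₁T hx₁⟩ : T) : Ω) ∈
        (P₁.subgroupOf T).map (T.subtype.comp α.toMonoidHom) := ⟨⟨g₀ x, hP₁T hx₁⟩, hx₁, rfl⟩
    rw [hge x (hPQ hx), autFun_apply α (hP₁T hx₁), toFun_apply χ hmem,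
      hχe ⟨g₀ x, hx₁⟩ ((E.le_of_mem hφ₁).2 _) hmem, ← autFun_apply α ((E.le_of_mem hφ₁).2 _),
      hφ₁f, hge _ (hfQ x hx)]
    show autFun α (g₀ (f (g₀' (g₀ x)))) = _
    rw [hinv0 x (hPQ hx)]
  · intro h
    refine ⟨hE, hT, fun P hPT φ hφ α hα => ?_, fun P hP φ hφ => ?_⟩
    · obtain ⟨ψ, hψ, hψe⟩ := isMap_autFun_of_mem (F := F) hTS hα
      have hψeq : ψ = T.subtype.comp α.toMonoidHom :=
        MonoidHom.ext fun x => (hψe x).trans (autFun_coe α x)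
      subst hψeq
      obtain ⟨χ, hχ, hχe⟩ := strongInv_iff.1 h P T hPT le_rfl φ hφ (fun x => (E.le_of_mem hφ).2 x) _ hψ
      exact ⟨χ, hχ, fun x hφx hαx => hχe x hαx⟩
    · obtain ⟨α, hα, f₀, ⟨φ₀, hφ₀, hφ₀f⟩, he⟩ :=
        decomp_of_strongInv hS hF hT hE h (isMap_toFun hφ) hP
      refine ⟨α, hα, φ₀, hφ₀, fun x hx => ?_⟩
      rw [← autFun_apply α hx, hφ₀f, ← he x x.2, toFun_coe]

/-- A strongly invariant saturated subsystem over `S` with the full automizer of `S` is `F`. -/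
theorem eq_of_strongInv {E : FusionSystem S} (hS : IsPGroup p S) (hF : F.IsSaturated p)
    (hle : E ≤ F) (h : StrongInv E F) (htop : E.autGroup S = F.autGroup S) (P : Subgroup Ω) :
    E.Hom P = F.Hom P :=
  Set.Subset.antisymm (hle P) fun φ hφ => mem_hom_iff.2 (le_of_invariant hS hF
    ((isInvariantIn_iff_strongInv hS hF hle
      (stronglyClosed_iff.2 ⟨le_rfl, fun _ _ _ hf _ hx => hf.mem_S hx⟩)).2 h)
    htop.ge (isMap_toFun hφ))

end CfsgLib.Fusion
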