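import Cfsg.Agent.Lib.Fusion.System.QdConstrained

/-!
# Factor systems modulo strongly closed subgroups are saturated; solvability without sections `Qd(p)`
-/

set_option autoImplicit false
set_option linter.style.haveILetI false

open Subgroup
open scoped Classical

namespace CfsgLib.Fusion

open Cfsg (FusionSystem)
open Cfsg.FusionSystem (normalizerIn centralizerIn preimageAlong imageAlong InducedAlong)

universe u

variable {Ω : Type u} [Group Ω] {S : Subgroup Ω} [Finite S] {F : FusionSystem S} {p : ℕ} [Fact p.Prime]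

/-- The factor system modulo a strongly closed subgroup is saturated. -/
theorem isSaturated_of_isFactorSystem (hS : IsPGroup p S) (hF : F.IsSaturated p) {R : Subgroup Ω}
    (hR : F.StronglyClosed R) {Ω' : Type u} [Group Ω'] {S' : Subgroup Ω'} {θ : S →* Ω'}
    {E : FusionSystem S'} (hE : F.IsFactorSystem R θ E) : E.IsSaturated p := by
  obtain ⟨hRS, hker, hr, hhom⟩ := hE
  have hn : S ≤ normalizerIn S R := le_normalizerIn_of_stronglyClosed hR
  set N := nSystem F S R hn hRS with hN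
  have hNR : N.IsNormal R := isNormal_iff.2 ⟨hRS, fun P f hf => by
    obtain ⟨h1, h2, g, hg, hgf, hgR⟩ := isMap_nSystem_iff.1 hf
    exact ⟨g, isMap_nSystem_iff.2 ⟨hg.le, fun x hx => hg.mem_S hx, g,
      hg.mono (sup_le le_rfl le_sup_right), fun _ _ => rfl, hgR⟩, hgf, hgR⟩⟩
  have hbot : preimageAlong θ ⊥ = R := by
    ext x
    rw [mem_preimageAlong]
    constructor
    · rintro ⟨hx, h⟩
      rw [Subgroup.mem_bot, ext1_apply θ hx] at h
      exact (hker ⟨x, hx⟩).1 h
    · intro hx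
      refine ⟨hRS hx, ?_⟩
      rw [Subgroup.mem_bot, ext1_apply θ (hRS hx)]
      exact (hker ⟨x, hRS hx⟩).2 hx
  have hK : N.IsNormal (preimageAlong θ ⊥) := hbot.symm ▸ hNR
  obtain ⟨⟨_, hmor⟩, -, hsurj⟩ := quotientSystem_surjective hK
  have heq : ∀ (P' : Subgroup Ω') (φ' : P' →* Ω'),
      φ' ∈ (quotientSystem hK).Hom P' ↔ φ' ∈ E.Hom P' := by
    intro P' φ'
    rw [hhom]
    constructor
    · intro h
      have hP' := ((quotientSystem hK).le_of_mem h).1
      obtain ⟨φ, hφ, hind⟩ := hsurj P' hP' φ' h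
      exact ⟨hP'.trans hr.le, φ, mem_hom_iff.2 (isMap_nSystem_iff.1 (isMap_toFun hφ)).isMap, hind⟩
    · rintro ⟨hP', φ, hφ, hP, hφS, _, hall⟩
      have hf := isMap_toFun hφ
      have hRP : R ≤ preimageAlong θ P' := hbot.ge.trans (preimageAlong_mono bot_le)
      have himg : img R (toFun φ) = R := img_eq_of_map_le hRS hf hRP fun x hx =>
        (stronglyClosed_iff.1 hR).2 R _ le_rfl (hf.mono hRP) x hx
      refine mem_quotientSystem_iff hK |>.2 ⟨hP'.trans hr.ge, toFun φ, isMap_nSystem_iff.2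
        ⟨hf.le, fun x hx => hf.mem_S hx, toFun φ, hf.mono (sup_le le_rfl hRP), fun _ _ => rfl, himg⟩,
        fun x hx => ?_⟩
      obtain ⟨hxS, hx'⟩ := mem_preimageAlong.1 hx
      rw [toFun_apply φ' hx', toFun_apply φ hx, ext1_apply θ (hφS ⟨x, hx⟩)]
      refine Eq.trans ?_ (hall ⟨x, hx⟩)
      exact congrArg φ' (Subtype.ext (ext1_apply θ hxS))
  refine isSaturated_of_surjectiveMorphism (F := N) (α := θ)
    ⟨⟨fun s => hr ▸ ⟨s, rfl⟩, fun P φ hφ => ?_⟩, hr, fun P' _ φ' hφ' => ?_⟩ hS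
    (isSaturated_nSystem_over hS hF hRS hn)
  · obtain ⟨φ', hφ', hind⟩ := hmor P φ hφ
    exact ⟨φ', (heq _ φ').1 hφ', hind⟩
  · have h := (heq P' φ').2 hφ'
    exact hsurj P' ((quotientSystem hK).le_of_mem h).1 φ' h

theorem noQd_core_ne_bot (hp : p ≠ 2) (hS : IsPGroup p S) (hF : F.IsSaturated p) (hfree : NoQd p F)
    (h : S ≠ ⊥) : F.core ≠ ⊥ := fun hc =>
  wSub_ne_bot (qdFunctor_zjFun.{u} hp) hS h
    (eq_bot_iff.2 ((le_core (isNormal_wSub (qdFunctor_zjFun.{u} hp) hS hF hfree)).trans_eq hc))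

/-- At an odd prime a system without sections `Qd(p)` is solvable. -/
theorem isSolvableSystem_of_noQd (hp : p ≠ 2) (hS : IsPGroup p S) (hF : F.IsSaturated p)
    (hfree : NoQd p F) : F.IsSolvableSystem := by
  intro R hR hne _ E hE
  refine noQd_core_ne_bot hp ((hS.to_quotient _).to_subgroup _)
    (isSaturated_of_isFactorSystem hS hF hR hE) (noQd_factorSystem hE hfree) fun htop => hne ?_
  refine le_antisymm hE.1 fun s hs => ?_
  have h : QuotientGroup.mk' (R.subgroupOf S) ⟨s, hs⟩ ∈ (⊤ : Subgroup (S ⧸ R.subgroupOf S)) :=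
    Subgroup.mem_top _
  rw [htop, Subgroup.mem_bot] at h
  exact (hE.2.1 ⟨s, hs⟩).1 h

end CfsgLib.Fusion
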