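import Cfsg.Agent.Lib.Fusion.System.FamilySat
import Cfsg.Prelude.Def_FusionComponents

/-!
# The product of two saturated fusion systems
-/

set_option autoImplicit false
set_option linter.style.haveILetI false
set_option linter.unusedSectionVars false

open Subgroup
open scoped Classical

namespace CfsgLib.Fusion.ProductSat

open Cfsg (FusionSystem autInducedBy)
open Cfsg.FusionSystem (normalizerIn centralizerIn)

variable {Ω₁ Ω₂ : Type*} [Group Ω₁] [Group Ω₂] {S₁ : Subgroup Ω₁} {S₂ : Subgroup Ω₂}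
  {F₁ : FusionSystem S₁} {F₂ : FusionSystem S₂} {E : FusionSystem (S₁.prod S₂)}
  {P Q : Subgroup (Ω₁ × Ω₂)} {f : Ω₁ × Ω₂ → Ω₁ × Ω₂}

/-- The first projection. -/
abbrev proj₁ (P : Subgroup (Ω₁ × Ω₂)) : Subgroup Ω₁ := P.map (MonoidHom.fst Ω₁ Ω₂)

/-- The second projection. -/
abbrev proj₂ (P : Subgroup (Ω₁ × Ω₂)) : Subgroup Ω₂ := P.map (MonoidHom.snd Ω₁ Ω₂)

theorem mem_proj₁ {x : Ω₁ × Ω₂} (hx : x ∈ P) : x.1 ∈ proj₁ P := ⟨x, hx, rfl⟩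

theorem mem_proj₂ {x : Ω₁ × Ω₂} (hx : x ∈ P) : x.2 ∈ proj₂ P := ⟨x, hx, rfl⟩

theorem isMap_iff (hE : FusionSystem.IsProductSystem F₁ F₂ E) :
    IsMap E P f ↔ P ≤ S₁.prod S₂ ∧ ∃ f₁ f₂, IsMap F₁ (proj₁ P) f₁ ∧ IsMap F₂ (proj₂ P) f₂ ∧
      ∀ x ∈ P, f x = (f₁ x.1, f₂ x.2) := by
  constructor
  · rintro ⟨φ, hφ, hφf⟩
    obtain ⟨hP, φ₁, h₁, φ₂, h₂, he⟩ := (hE P φ).1 hφ
    refine ⟨hP, toFun φ₁, toFun φ₂, isMap_toFun h₁, isMap_toFun h₂, fun x hx => ?_⟩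
    rw [← hφf ⟨x, hx⟩, he ⟨x, hx⟩ (mem_proj₁ hx) (mem_proj₂ hx),
      toFun_apply φ₁ (mem_proj₁ hx), toFun_apply φ₂ (mem_proj₂ hx)]
  · rintro ⟨hP, f₁, f₂, ⟨φ₁, h₁, e₁⟩, ⟨φ₂, h₂, e₂⟩, he⟩
    refine ⟨(φ₁.comp ((MonoidHom.fst Ω₁ Ω₂).subgroupMap P)).prod
      (φ₂.comp ((MonoidHom.snd Ω₁ Ω₂).subgroupMap P)), (hE P _).2 ⟨hP, φ₁, h₁, φ₂, h₂,
        fun x k₁ k₂ => rfl⟩, fun x => ?_⟩
    rw [he x x.2]
    exact Prod.ext (e₁ _) (e₂ _)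

theorem proj₁_img (hf : IsMap E P f) {f₁ : Ω₁ → Ω₁} {f₂ : Ω₂ → Ω₂}
    (h₁ : IsMap F₁ (proj₁ P) f₁) (he : ∀ x ∈ P, f x = (f₁ x.1, f₂ x.2)) :
    proj₁ (img P f) = img (proj₁ P) f₁ := by
  ext y
  constructor
  · rintro ⟨z, hz, rfl⟩
    obtain ⟨x, hx, rfl⟩ := hf.mem_img.1 hz
    exact h₁.mem_img.2 ⟨x.1, mem_proj₁ hx, by rw [MonoidHom.coe_fst, he x hx]⟩
  · intro hy
    obtain ⟨u, hu, rfl⟩ := h₁.mem_img.1 hy
    obtain ⟨x, hx, rfl⟩ := hu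
    exact ⟨f x, hf.mem_img.2 ⟨x, hx, rfl⟩, by rw [MonoidHom.coe_fst, he x hx]⟩

theorem proj₂_img (hf : IsMap E P f) {f₁ : Ω₁ → Ω₁} {f₂ : Ω₂ → Ω₂}
    (h₂ : IsMap F₂ (proj₂ P) f₂) (he : ∀ x ∈ P, f x = (f₁ x.1, f₂ x.2)) :
    proj₂ (img P f) = img (proj₂ P) f₂ := by
  ext y
  constructor
  · rintro ⟨z, hz, rfl⟩
    obtain ⟨x, hx, rfl⟩ := hf.mem_img.1 hz
    exact h₂.mem_img.2 ⟨x.2, mem_proj₂ hx, by rw [MonoidHom.coe_snd, he x hx]⟩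
  · intro hy
    obtain ⟨u, hu, rfl⟩ := h₂.mem_img.1 hy
    obtain ⟨x, hx, rfl⟩ := hu
    exact ⟨f x, hf.mem_img.2 ⟨x, hx, rfl⟩, by rw [MonoidHom.coe_snd, he x hx]⟩

theorem proj₁_prod (R₁ : Subgroup Ω₁) (R₂ : Subgroup Ω₂) : proj₁ (R₁.prod R₂) = R₁ := by
  ext y
  exact ⟨fun ⟨z, hz, e⟩ => e ▸ hz.1, fun hy => ⟨(y, 1), ⟨hy, one_mem R₂⟩, rfl⟩⟩

theorem proj₂_prod (R₁ : Subgroup Ω₁) (R₂ : Subgroup Ω₂) : proj₂ (R₁.prod R₂) = R₂ := by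
  ext y
  exact ⟨fun ⟨z, hz, e⟩ => e ▸ hz.2, fun hy => ⟨(1, y), ⟨one_mem R₁, hy⟩, rfl⟩⟩

theorem le_prod_proj (P : Subgroup (Ω₁ × Ω₂)) : P ≤ (proj₁ P).prod (proj₂ P) :=
  fun _ hx => ⟨mem_proj₁ hx, mem_proj₂ hx⟩

/-- Subgroups with receptive projections are receptive. -/
theorem isReceptive (hE : FusionSystem.IsProductSystem F₁ F₂ E) (hQ : Q ≤ S₁.prod S₂)
    (h₁ : F₁.IsReceptive (proj₁ Q)) (h₂ : F₂.IsReceptive (proj₂ Q)) : E.IsReceptive Q := by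
  refine isReceptive_iff.2 ⟨hQ, fun P f hf hfQ => ?_⟩
  obtain ⟨hP, f₁, f₂, hf₁, hf₂, he⟩ := (isMap_iff hE).1 hf
  have hi₁ : img (proj₁ P) f₁ = proj₁ Q := by rw [← proj₁_img hf hf₁ he, hfQ]
  have hi₂ : img (proj₂ P) f₂ = proj₂ Q := by rw [← proj₂_img hf hf₂ he, hfQ]
  obtain ⟨g₁, hg₁, hg₁e⟩ := (isReceptive_iff.1 h₁).2 _ f₁ hf₁ hi₁
  obtain ⟨g₂, hg₂, hg₂e⟩ := (isReceptive_iff.1 h₂).2 _ f₂ hf₂ hi₂
  set X := extSub (S₁.prod S₂) P f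
  have hX₁ : proj₁ X ≤ extSub S₁ (proj₁ P) f₁ := by
    rintro _ ⟨g, ⟨⟨hgS, hgn⟩, h, hh, hgh⟩, rfl⟩
    refine ⟨⟨hgS.1, Subgroup.le_normalizer_map _ ⟨g, hgn, rfl⟩⟩, h.1, hh.1, ?_⟩
    rintro _ ⟨x, hx, rfl⟩
    have hgx := (Subgroup.mem_normalizer_iff.1 hgn x).1 hx
    have h1 := hgh x hx
    rw [he _ hgx, he x hx] at h1
    exact congrArg Prod.fst h1
  have hX₂ : proj₂ X ≤ extSub S₂ (proj₂ P) f₂ := by
    rintro _ ⟨g, ⟨⟨hgS, hgn⟩, h, hh, hgh⟩, rfl⟩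
    refine ⟨⟨hgS.2, Subgroup.le_normalizer_map _ ⟨g, hgn, rfl⟩⟩, h.2, hh.2, ?_⟩
    rintro _ ⟨x, hx, rfl⟩
    have hgx := (Subgroup.mem_normalizer_iff.1 hgn x).1 hx
    have h1 := hgh x hx
    rw [he _ hgx, he x hx] at h1
    exact congrArg Prod.snd h1
  refine ⟨fun x => (g₁ x.1, g₂ x.2), (isMap_iff hE).2 ⟨fun g hg => hg.1.1, g₁, g₂,
    hg₁.mono hX₁, hg₂.mono hX₂, fun _ _ => rfl⟩, fun x hx => ?_⟩
  show (g₁ x.1, g₂ x.2) = f x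
  rw [he x hx, hg₁e _ (mem_proj₁ hx), hg₂e _ (mem_proj₂ hx)]

/-- A pair of automorphisms as an automorphism of the product. -/
noncomputable def pairAut (R₁ : Subgroup Ω₁) (R₂ : Subgroup Ω₂) :
    MulAut R₁ × MulAut R₂ →* MulAut (R₁.prod R₂) :=
  MonoidHom.mk' (fun a =>
    ((Subgroup.prodEquiv R₁ R₂).trans (a.1.prodCongr a.2)).trans (Subgroup.prodEquiv R₁ R₂).symm)
    fun a b => MulEquiv.ext fun x => rfl

theorem autFun_pairAut {R₁ : Subgroup Ω₁} {R₂ : Subgroup Ω₂} (a : MulAut R₁ × MulAut R₂)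
    {x : Ω₁ × Ω₂} (hx : x ∈ R₁.prod R₂) :
    autFun (pairAut R₁ R₂ a) x = (autFun a.1 x.1, autFun a.2 x.2) := by
  rw [autFun_apply _ hx, autFun_apply a.1 hx.1, autFun_apply a.2 hx.2]
  rfl

theorem pairAut_injective (R₁ : Subgroup Ω₁) (R₂ : Subgroup Ω₂) :
    Function.Injective (pairAut R₁ R₂) := fun a b hab => by
  refine Prod.ext (autFun_ext fun x hx => ?_) (autFun_ext fun y hy => ?_)
  · have hm : (x, 1) ∈ R₁.prod R₂ := ⟨hx, one_mem R₂⟩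
    have h := autFun_pairAut a hm
    rw [hab, autFun_pairAut b hm] at h
    exact (congrArg Prod.fst h).symm
  · have hm : (1, y) ∈ R₁.prod R₂ := ⟨one_mem R₁, hy⟩
    have h := autFun_pairAut a hm
    rw [hab, autFun_pairAut b hm] at h
    exact (congrArg Prod.snd h).symm

theorem relIndex_prod {A A' : Type*} [Group A] [Group A'] {H K : Subgroup A} {H' K' : Subgroup A'} :
    (H.prod H').relIndex (K.prod K') = H.relIndex K * H'.relIndex K' := by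
  have hr : (K.subtype.prodMap K'.subtype).range = K.prod K' := by
    ext z
    exact ⟨fun ⟨w, hw⟩ => hw ▸ ⟨w.1.2, w.2.2⟩, fun hz => ⟨(⟨z.1, hz.1⟩, ⟨z.2, hz.2⟩), rfl⟩⟩
  have hc : (H.prod H').comap (K.subtype.prodMap K'.subtype) =
      (H.subgroupOf K).prod (H'.subgroupOf K') := rfl
  rw [← hr, ← Subgroup.index_comap, hc, Subgroup.index_prod]
  rfl

variable {p : ℕ} [Fact p.Prime] [Finite S₁] [Finite S₂]

theorem isFullyAutomized_prod (hE : FusionSystem.IsProductSystem F₁ F₂ E)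
    (hS₁ : IsPGroup p S₁) (hS₂ : IsPGroup p S₂) (hS : IsPGroup p (S₁.prod S₂))
    [Finite (S₁.prod S₂)] {R₁ : Subgroup Ω₁} {R₂ : Subgroup Ω₂}
    (h₁ : F₁.IsFullyAutomized p R₁) (h₂ : F₂.IsFullyAutomized p R₂) :
    E.IsFullyAutomized p (R₁.prod R₂) := by
  obtain ⟨hR₁, hi₁⟩ := (isFullyAutomized_iff hS₁).1 h₁
  obtain ⟨hR₂, hi₂⟩ := (isFullyAutomized_iff hS₂).1 h₂
  have hC : R₁.prod R₂ ≤ S₁.prod S₂ := Subgroup.prod_mono hR₁ hR₂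
  have hX : E.autGroup (R₁.prod R₂) =
      ((F₁.autGroup R₁).prod (F₂.autGroup R₂)).map (pairAut R₁ R₂) := by
    refine le_antisymm (fun a ha => ?_) ?_
    · have hm := (mem_autGroup_iff hC).1 ha
      obtain ⟨-, f₁, f₂, hf₁, hf₂, he⟩ := (isMap_iff hE).1 hm
      have hi₁ := proj₁_img hm hf₁ he
      have hi₂ := proj₂_img hm hf₂ he
      rw [img_autFun, proj₁_prod] at hi₁
      rw [img_autFun, proj₂_prod] at hi₂
      rw [proj₁_prod] at hf₁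
      rw [proj₂_prod] at hf₂
      refine ⟨(autOf hf₁ hi₁.symm, autOf hf₂ hi₂.symm),
        ⟨autOf_mem hf₁ hi₁.symm, autOf_mem hf₂ hi₂.symm⟩, autFun_ext fun x hx => ?_⟩
      rw [autFun_pairAut _ hx, autFun_autOf hf₁ hi₁.symm hx.1, autFun_autOf hf₂ hi₂.symm hx.2,
        he x hx]
    · rintro _ ⟨a, ha, rfl⟩
      refine (mem_autGroup_iff hC).2 ((isMap_iff hE).2 ⟨hC, autFun a.1, autFun a.2, ?_, ?_,
        fun x hx => autFun_pairAut a hx⟩)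
      · rw [proj₁_prod]; exact (mem_autGroup_iff hR₁).1 ha.1
      · rw [proj₂_prod]; exact (mem_autGroup_iff hR₂).1 ha.2
  refine (isFullyAutomized_iff hS).2 ⟨hC, fun hd => ?_⟩
  have hA : ((autInducedBy S₁ R₁).prod (autInducedBy S₂ R₂)).map (pairAut R₁ R₂) ≤
      autInducedBy (S₁.prod S₂) (R₁.prod R₂) := by
    rintro _ ⟨a, ha, rfl⟩
    obtain ⟨g₁, hg₁, e₁⟩ := mem_autInducedBy_iff.1 ha.1
    obtain ⟨g₂, hg₂, e₂⟩ := mem_autInducedBy_iff.1 ha.2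
    refine mem_autInducedBy_iff.2 ⟨(g₁, g₂), ⟨hg₁, hg₂⟩, fun x hx => ?_⟩
    rw [autFun_pairAut a hx, e₁ _ hx.1, e₂ _ hx.2]
    rfl
  have h := hd.trans (Subgroup.relIndex_dvd_of_le_left _ hA)
  rw [hX, Subgroup.relIndex_map_map_of_injective _ _ (pairAut_injective R₁ R₂), relIndex_prod] at h
  rcases (Fact.out : p.Prime).dvd_mul.1 h with h | h
  · exact hi₁ h
  · exact hi₂ h

theorem isSaturated (hE : FusionSystem.IsProductSystem F₁ F₂ E)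
    (hS₁ : IsPGroup p S₁) (hS₂ : IsPGroup p S₂) (hF₁ : F₁.IsSaturated p) (hF₂ : F₂.IsSaturated p) :
    E.IsSaturated p := by
  haveI : Finite (S₁.prod S₂) := Finite.of_equiv _ (Subgroup.prodEquiv S₁ S₂).symm.toEquiv
  have hS : IsPGroup p (S₁.prod S₂) := fun x => by
    obtain ⟨m, hm⟩ := hS₁ ⟨_, x.2.1⟩
    obtain ⟨n, hn⟩ := hS₂ ⟨_, x.2.2⟩
    refine ⟨m + n, Subtype.ext (Prod.ext ?_ ?_)⟩
    · show (x : Ω₁ × Ω₂).1 ^ p ^ (m + n) = 1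
      have hm' : (x : Ω₁ × Ω₂).1 ^ p ^ m = 1 := congrArg Subtype.val hm
      rw [pow_add, pow_mul, hm', one_pow]
    · show (x : Ω₁ × Ω₂).2 ^ p ^ (m + n) = 1
      have hn' : (x : Ω₁ × Ω₂).2 ^ p ^ n = 1 := congrArg Subtype.val hn
      rw [add_comm, pow_add, pow_mul, hn', one_pow]
  intro P hP
  have hP₁ : proj₁ P ≤ S₁ := fun _ ⟨x, hx, e⟩ => e ▸ (hP hx).1
  have hP₂ : proj₂ P ≤ S₂ := fun _ ⟨x, hx, e⟩ => e ▸ (hP hx).2
  obtain ⟨R₁, hc₁, hn₁⟩ := exists_fullyNormalized (F := F₁) hP₁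
  obtain ⟨R₂, hc₂, hn₂⟩ := exists_fullyNormalized (F := F₂) hP₂
  obtain ⟨f₁, hf₁, hi₁⟩ := isConj_iff.1 hc₁
  obtain ⟨f₂, hf₂, hi₂⟩ := isConj_iff.1 hc₂
  obtain ⟨ha₁, hr₁⟩ := IsSaturated.automized_receptive hS₁ hF₁ hn₁
  obtain ⟨ha₂, hr₂⟩ := IsSaturated.automized_receptive hS₂ hF₂ hn₂
  set C := R₁.prod R₂
  have hCS : C ≤ S₁.prod S₂ := Subgroup.prod_mono hn₁.1 hn₂.1
  have hCa : E.IsFullyAutomized p C := isFullyAutomized_prod hE hS₁ hS₂ hS ha₁ ha₂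
  have hCr : E.IsReceptive C := isReceptive hE hCS (by rwa [proj₁_prod]) (by rwa [proj₂_prod])
  set f : Ω₁ × Ω₂ → Ω₁ × Ω₂ := fun x => (f₁ x.1, f₂ x.2)
  have hf : IsMap E P f := (isMap_iff hE).2 ⟨hP, f₁, f₂, hf₁, hf₂, fun _ _ => rfl⟩
  set Q₀ := img P f
  have hq₁ : proj₁ Q₀ = R₁ := (proj₁_img hf hf₁ fun _ _ => rfl).trans hi₁
  have hq₂ : proj₂ Q₀ = R₂ := (proj₂_img hf hf₂ fun _ _ => rfl).trans hi₂
  have hQ₀C : Q₀ ≤ C := fun x hx => ⟨hq₁ ▸ mem_proj₁ hx, hq₂ ▸ mem_proj₂ hx⟩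
  haveI : Finite C := finite_of_le hCS
  haveI : Finite Q₀ := finite_of_le (hQ₀C.trans hCS)
  obtain ⟨δ, hδ, hfin, hQC, hsyl, -⟩ := FamilySat.exists_move hS hCa hCr hQ₀C
  set Q := img Q₀ (autFun δ)
  have hδm := (mem_autGroup_iff hCS).1 hδ
  have hQS : Q ≤ S₁.prod S₂ := hQC.trans hCS
  -- the projections are unchanged
  obtain ⟨-, d₁, d₂, hd₁, hd₂, hde⟩ := (isMap_iff hE).1 hδm
  have hQ₁ : proj₁ Q = R₁ := by
    have h1 := proj₁_img (hδm.mono hQ₀C) (hd₁.mono (Subgroup.map_mono hQ₀C))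
      fun x hx => hde x (hQ₀C hx)
    have h2 := proj₁_img hδm hd₁ hde
    rw [img_autFun, proj₁_prod] at h2
    rw [h1, hq₁, ← h2]
  have hQ₂ : proj₂ Q = R₂ := by
    have h1 := proj₂_img (hδm.mono hQ₀C) (hd₂.mono (Subgroup.map_mono hQ₀C))
      fun x hx => hde x (hQ₀C hx)
    have h2 := proj₂_img hδm hd₂ hde
    rw [img_autFun, proj₂_prod] at h2
    rw [h1, hq₂, ← h2]
  refine ⟨Q, isConj_trans (isConj_iff.2 ⟨f, hf, rfl⟩)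
      (isConj_iff.2 ⟨_, hδm.mono hQ₀C, rfl⟩), ?_, isReceptive hE hQS (hQ₁ ▸ hr₁) (hQ₂ ▸ hr₂)⟩
  -- automized: restrict from the product of the projections
  refine (isFullyAutomized_iff hS).2 ⟨hQS, fun hd => ?_⟩
  haveI : Finite (MulAut C) := finite_mulAut
  set Y := E.autGroup C
  set K := FamilySat.autStab Y Q hQC
  set ρ := FamilySat.autRes Y Q hQC
  have hsurj : (⊤ : Subgroup K).map ρ = E.autGroup Q := by
    refine le_antisymm ?_ fun a ha => ?_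
    · rintro _ ⟨b, -, rfl⟩
      exact FamilySat.autRes_mem_autGroup hCS b
    · have hm := (mem_autGroup_iff hQS).1 ha
      obtain ⟨-, g₁, g₂, hg₁, hg₂, hge⟩ := (isMap_iff hE).1 hm
      have hj₁ := proj₁_img hm hg₁ hge
      have hj₂ := proj₂_img hm hg₂ hge
      rw [img_autFun, hQ₁] at hj₁
      rw [img_autFun, hQ₂] at hj₂
      rw [hQ₁] at hg₁
      rw [hQ₂] at hg₂
      have hgm : IsMap E C (fun x => (g₁ x.1, g₂ x.2)) := (isMap_iff hE).2 ⟨hCS, g₁, g₂,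
        (proj₁_prod R₁ R₂).symm ▸ hg₁, (proj₂_prod R₁ R₂).symm ▸ hg₂, fun _ _ => rfl⟩
      have hgi : img C (fun x => (g₁ x.1, g₂ x.2)) = C :=
        img_eq_of_map_le hCS hgm le_rfl fun x hx =>
          ⟨hj₁.ge (hg₁.mem_img.2 ⟨_, hx.1, rfl⟩), hj₂.ge (hg₂.mem_img.2 ⟨_, hx.2, rfl⟩)⟩
      refine ⟨⟨autOf hgm hgi, autOf_mem hgm hgi, fun x hx => ?_⟩, trivial,
        autFun_ext fun x hx => ?_⟩
      · rw [autFun_autOf hgm hgi (hQC hx), ← hge x hx]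
        exact autFun_mem a hx
      · rw [FamilySat.autFun_autRes _ hx, autFun_autOf hgm hgi (hQC hx), hge x hx]
  have hle : ((autInducedBy (S₁.prod S₂) C ⊓ K).subgroupOf K).map ρ ≤
      autInducedBy (S₁.prod S₂) Q := by
    rintro _ ⟨b, hb, rfl⟩
    obtain ⟨g, hg, hge⟩ := mem_autInducedBy_iff.1 (Subgroup.mem_subgroupOf.1 hb).1
    exact mem_autInducedBy_iff.2 ⟨g, hg, fun x hx => by
      rw [FamilySat.autFun_autRes b hx, hge x (hQC hx)]⟩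
  refine hsyl ((hd.trans (Subgroup.relIndex_dvd_of_le_left _ hle)).trans ?_)
  rw [← hsurj, Subgroup.relIndex_map_map, top_sup_eq, Subgroup.relIndex_top_right]
  exact Subgroup.index_dvd_of_le le_sup_left

end CfsgLib.Fusion.ProductSat
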