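import Cfsg.Agent.Lib.Fusion.System.GroupNormalSub
import Cfsg.Agent.Lib.Fusion.System.Normal
import Cfsg.Agent.Lib.Fusion.System.Alperin
import Cfsg.Agent.Lib.Coprime.Core
import Mathlib.GroupTheory.Transfer

/-!
# Normal subsystems of the fusion system of a strictly constrained group

If `C_G(O_p(G)) ≤ O_p(G)` and `E` is normal in `F_S(G)` over `T`, then exactly one normal subgroup `H` has `T` as a
Sylow subgroup and `E` as its fusion system.  `H` is generated by the conjugates of `T` and by the elements of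
order prime to `p` which move `O_p(G)` into `T` and act on `O_p(G) ∩ T` as maps of `E`.
-/

set_option autoImplicit false
set_option maxHeartbeats 1000000
set_option linter.style.haveILetI false

open Subgroup
open scoped Classical Pointwise

namespace CfsgLib.Fusion.ConstrainedNormalSub

open Cfsg (FusionSystem autInducedBy groupFusionSystem fusionSystemOfSubgroup)
open Cfsg.FusionSystem (normalizerIn centralizerIn)

section General

variable {M : Type*} [Group M] {p : ℕ}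

theorem mem_of_pow_coprime {N : Subgroup M} {x : M} {a b : ℕ} (hab : a.Coprime b) (ha : x ^ a ∈ N)
    (hb : x ^ b ∈ N) : x ∈ N := by
  have e : (1 : ℤ) = (a : ℤ) * Nat.gcdA a b + (b : ℤ) * Nat.gcdB a b := by
    rw [← Nat.gcd_eq_gcd_ab, hab.gcd_eq_one, Nat.cast_one]
  rw [← zpow_one x, e, zpow_add, zpow_mul, zpow_mul, zpow_natCast, zpow_natCast]
  exact N.mul_mem (N.zpow_mem ha _) (N.zpow_mem hb _)

/-- an element is the product of powers of `p`-power order and of order prime to `p` -/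
theorem exists_decomp [Finite M] [Fact p.Prime] (x : M) : ∃ i j e : ℕ,
    x = x ^ i * x ^ j ∧ (x ^ i) ^ p ^ e = 1 ∧ (orderOf (x ^ j)).Coprime p := by
  have hp := (Fact.out : p.Prime)
  obtain ⟨e, m, hm, hn⟩ := Nat.exists_eq_pow_mul_and_not_dvd (orderOf_pos x).ne' p hp.ne_one
  have hcop : (p ^ e).Coprime m := Nat.Coprime.pow_left e (hp.coprime_iff_not_dvd.2 hm)
  obtain ⟨i, hi1, hi2⟩ := Nat.chineseRemainder hcop 1 0
  obtain ⟨j, hj1, hj2⟩ := Nat.chineseRemainder hcop 0 1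
  refine ⟨i, j, e, ?_, ?_, ?_⟩
  · rw [← pow_add]
    conv_lhs => rw [← pow_one x]
    rw [pow_eq_pow_iff_modEq, hn]
    exact ((Nat.modEq_and_modEq_iff_modEq_mul hcop).1 ⟨hi1.add hj1, hi2.add hj2⟩).symm
  · rw [← pow_mul, ← orderOf_dvd_iff_pow_eq_one, hn, mul_comm i]
    exact Nat.mul_dvd_mul_left _ (Nat.modEq_zero_iff_dvd.1 hi2)
  · refine Nat.Coprime.coprime_dvd_left (orderOf_dvd_of_pow_eq_one (n := m) ?_) (hp.coprime_iff_not_dvd.2 hm).symm
    rw [← pow_mul, ← orderOf_dvd_iff_pow_eq_one, hn]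
    exact Nat.mul_dvd_mul (Nat.modEq_zero_iff_dvd.1 hj1) (dvd_refl m)

/-- If `T` is strongly closed in the Sylow subgroup `P`, `P / T` is abelian and is centralized modulo `T`, and
`M` is generated by conjugates of `T` and elements of order prime to `p`, then `P = T`. -/
theorem eq_of_transfer [Finite M] [Fact p.Prime] {P T : Subgroup M} (hP : IsPGroup p P)
    (hi : ¬ p ∣ P.index) (hTP : T ≤ P) (hcl : ∀ g, ∀ t ∈ T, g * t * g⁻¹ ∈ P → g * t * g⁻¹ ∈ T)
    (hgen : Subgroup.closure ({x : M | (orderOf x).Coprime p} ∪ {x | ∃ g, ∃ t ∈ T, x = g * t * g⁻¹}) = ⊤)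
    (hcomm : ∀ a ∈ P, ∀ b ∈ P, a * b * a⁻¹ * b⁻¹ ∈ T)
    (hcent : ∀ u ∈ P, ∃ t ∈ T, ∀ g, g * (t⁻¹ * u) * g⁻¹ * (t⁻¹ * u)⁻¹ ∈ T) : P = T := by
  have hp := (Fact.out : p.Prime)
  haveI : (T.subgroupOf P).Normal := ⟨fun n hn g => hcl g n hn
    (P.mul_mem (P.mul_mem g.2 n.2) (P.inv_mem g.2))⟩
  letI : CommGroup (P ⧸ T.subgroupOf P) :=
    { (inferInstance : Group (P ⧸ T.subgroupOf P)) with
      mul_comm := fun a b => Quotient.inductionOn₂' a b fun u v => QuotientGroup.eq.2 (by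
        show (((u * v)⁻¹ * (v * u) : P) : M) ∈ T
        have h1 := hcomm (v : M)⁻¹ (P.inv_mem v.2) (u : M)⁻¹ (P.inv_mem u.2)
        simpa [mul_assoc] using h1) }
  set ϕ : P →* P ⧸ T.subgroupOf P := QuotientGroup.mk' (T.subgroupOf P) with hϕ
  have hϕ1 : ∀ u : P, ϕ u = 1 ↔ (u : M) ∈ T := fun u => QuotientGroup.eq_one_iff u
  have hQp : IsPGroup p (P ⧸ T.subgroupOf P) := hP.to_quotient _
  set v := MonoidHom.transfer ϕ with hv
  haveI : Fintype (M ⧸ P) := Fintype.ofFinite _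
  have hvT : ∀ t ∈ T, v t = 1 := by
    intro t ht
    letI : Fintype (Quotient (MulAction.orbitRel (zpowers t) (M ⧸ P))) := Fintype.ofFinite _
    rw [hv, MonoidHom.transfer_eq_prod_quotient_orbitRel_zpowers_quot]
    refine Finset.prod_eq_one fun q _ => (hϕ1 _).2 ?_
    have hm := QuotientGroup.out_conj_pow_minimalPeriod_mem P t q.out
    have h1 := hcl q.out.out⁻¹ _ (T.pow_mem ht (Function.minimalPeriod (t • ·) q.out))
    rw [inv_inv] at h1
    exact h1 hm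
  have hv1 : ∀ x : M, v x = 1 := by
    intro x
    have hx : x ∈ Subgroup.closure ({x : M | (orderOf x).Coprime p} ∪
        {x | ∃ g, ∃ t ∈ T, x = g * t * g⁻¹}) := hgen ▸ Subgroup.mem_top x
    induction hx using Subgroup.closure_induction with
    | mem y hy =>
      rcases hy with hy | ⟨g, t, ht, rfl⟩
      · obtain ⟨k, hk⟩ := hQp (v y)
        refine orderOf_eq_one_iff.1 (Nat.eq_one_of_dvd_coprimes ?_ (orderOf_map_dvd v y)
          (orderOf_dvd_of_pow_eq_one hk))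
        exact Nat.Coprime.pow_right k hy
      · rw [map_mul, map_mul, map_inv, hvT t ht, mul_one, mul_inv_cancel]
    | one => exact map_one v
    | mul a b _ _ ha hb => rw [map_mul, ha, hb, mul_one]
    | inv a _ ha => rw [map_inv, ha, inv_one]
  refine le_antisymm (fun u₀ hu₀ => ?_) hTP
  obtain ⟨t, ht, hc⟩ := hcent u₀ hu₀
  set u := t⁻¹ * u₀ with hu
  have huP : u ∈ P := P.mul_mem (P.inv_mem (hTP ht)) hu₀
  have hconj : ∀ g, ∃ h : g * u * g⁻¹ ∈ P, ϕ ⟨_, h⟩ = ϕ ⟨u, huP⟩ := fun g => by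
    have h1 : g * u * g⁻¹ ∈ P := by
      have := P.mul_mem (hTP (hc g)) huP
      rwa [inv_mul_cancel_right] at this
    refine ⟨h1, ?_⟩
    rw [← mul_inv_eq_one, ← map_inv, ← map_mul, hϕ1]
    exact hc g
  have hvu : v u = ϕ ⟨u, huP⟩ ^ P.index := by
    letI : Fintype (Quotient (MulAction.orbitRel (zpowers u) (M ⧸ P))) := Fintype.ofFinite _
    rw [hv, MonoidHom.transfer_eq_prod_quotient_orbitRel_zpowers_quot, Subgroup.index_eq_sum_minimalPeriod P u,
      ← Finset.prod_pow_eq_pow_sum]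
    refine Finset.prod_congr rfl fun q _ => ?_
    set g := q.out.out⁻¹ with hg
    obtain ⟨h1, h2⟩ := hconj g
    rw [← h2, ← map_pow]
    refine congrArg ϕ (Subtype.ext ?_)
    show _ = ((⟨g * u * g⁻¹, h1⟩ : P) : M) ^ _
    rw [conj_pow, hg, inv_inv]
  rw [hv1 u] at hvu
  obtain ⟨k, hk⟩ := hQp (ϕ ⟨u, huP⟩)
  have h3 : ϕ ⟨u, huP⟩ = 1 := orderOf_eq_one_iff.1 (Nat.eq_one_of_dvd_coprimes
    (Nat.Coprime.pow_left k (hp.coprime_iff_not_dvd.2 hi)) (orderOf_dvd_of_pow_eq_one hk)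
    (orderOf_dvd_of_pow_eq_one hvu.symm))
  have h4 := T.mul_mem ht ((hϕ1 _).1 h3)
  simpa [hu] using h4

end General

variable {G : Type*} [Group G] [Finite G] {p : ℕ} [Fact p.Prime] {S : Sylow p G} {T : Subgroup G}
  {E : FusionSystem T}

theorem pCore_le (S : Sylow p G) : Cfsg.pCore p G ≤ S :=
  haveI := CfsgLib.Coprime.pCore_normal' (G := G) p
  (CfsgLib.Coprime.pCore_isPGroup p).le_sylow_of_normal S

theorem conj_mem_core (g : G) {q : G} (hq : q ∈ Cfsg.pCore p G) : g * q * g⁻¹ ∈ Cfsg.pCore p G :=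
  (CfsgLib.Coprime.pCore_normal' (G := G) p).conj_mem q hq g

theorem mem_center_core (hG : Subgroup.centralizer ((Cfsg.pCore p G : Subgroup G) : Set G) ≤ Cfsg.pCore p G)
    {x : G} (hx : (orderOf x).Coprime p) (h : ∀ q ∈ Cfsg.pCore p G, x * q * x⁻¹ = q) : x = 1 := by
  have hxQ : x ∈ Cfsg.pCore p G := hG (Subgroup.mem_centralizer_iff.2 fun q hq => by
    have := h q hq
    rw [← this]; rw [this]; exact (mul_inv_eq_iff_eq_mul.1 this).symm)
  obtain ⟨k, hk⟩ := CfsgLib.Coprime.pCore_isPGroup p ⟨x, hxQ⟩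
  exact orderOf_eq_one_iff.1 (Nat.eq_one_of_dvd_coprimes (Nat.Coprime.pow_right k hx) dvd_rfl
    (orderOf_dvd_of_pow_eq_one (congrArg Subtype.val hk : x ^ p ^ k = 1)))

section Closed

variable (hTsc : (groupFusionSystem (S : Subgroup G)).StronglyClosed T)
include hTsc

theorem conj_mem {g x : G} (hx : x ∈ T) (hgx : g * x * g⁻¹ ∈ (S : Subgroup G)) : g * x * g⁻¹ ∈ T := by
  have hle : Subgroup.zpowers x ≤ T := Subgroup.zpowers_le.2 hx
  refine (stronglyClosed_iff.1 hTsc).2 (Subgroup.zpowers x) (fun y => g * y * g⁻¹) hle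
    (isMap_group_iff.2 ⟨hle.trans hTsc.1, g, fun y hy => ⟨?_, rfl⟩⟩) x (Subgroup.mem_zpowers x)
  obtain ⟨n, rfl⟩ := Subgroup.mem_zpowers_iff.1 hy
  rw [← conj_zpow]
  exact zpow_mem hgx n

theorem conj_mem_inf (g : G) {x : G} (hx : x ∈ Cfsg.pCore p G ⊓ T) :
    g * x * g⁻¹ ∈ Cfsg.pCore p G ⊓ T :=
  ⟨conj_mem_core g hx.1, conj_mem hTsc hx.2 (pCore_le S (conj_mem_core g hx.1))⟩

theorem conj_mem_of_S {s x : G} (hs : s ∈ (S : Subgroup G)) (hx : x ∈ T) : s * x * s⁻¹ ∈ T :=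
  conj_mem hTsc hx ((S : Subgroup G).mul_mem ((S : Subgroup G).mul_mem hs (hTsc.1 hx))
    ((S : Subgroup G).inv_mem hs))

end Closed

/-- the elements that move `O_p(G)` into `T` and act on `O_p(G) ∩ T` as maps of `E` -/
def InK (E : FusionSystem T) (p : ℕ) (g : G) : Prop :=
  (∀ q ∈ Cfsg.pCore p G, g * q * g⁻¹ * q⁻¹ ∈ T) ∧
    IsMap E (Cfsg.pCore p G ⊓ T) (fun x => g * x * g⁻¹)

/-- the normal subgroup of `E` -/
def hSub (E : FusionSystem T) (p : ℕ) : Subgroup G :=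
  Subgroup.closure ({g | InK E p g ∧ (orderOf g).Coprime p} ∪ {x | ∃ g, ∃ t ∈ T, x = g * t * g⁻¹})

theorem subset_hSub (E : FusionSystem T) (p : ℕ) : T ≤ hSub E p := fun t ht =>
  Subgroup.subset_closure (Or.inr ⟨1, t, ht, by group⟩)

variable (hE : E.IsNormalIn (groupFusionSystem (S : Subgroup G)) p)

include hE

theorem sc : (groupFusionSystem (S : Subgroup G)).StronglyClosed T := hE.1.2.2.2.1

theorem inK_of_mem_T {t : G} (ht : t ∈ T) : InK E p t := by
  have hTsc := sc hE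
  refine ⟨fun q hq => ?_, (isMap_conj inf_le_right ht)⟩
  rw [show t * q * t⁻¹ * q⁻¹ = t * (q * t⁻¹ * q⁻¹) by group]
  exact T.mul_mem ht (conj_mem_of_S hTsc (pCore_le S hq) (T.inv_mem ht))

theorem inK_mul {a b : G} (ha : InK E p a) (hb : InK E p b) : InK E p (a * b) := by
  have hTsc := sc hE
  refine ⟨fun q hq => ?_, ?_⟩
  · rw [show a * b * q * (a * b)⁻¹ * q⁻¹ = a * (b * q * b⁻¹) * a⁻¹ * (b * q * b⁻¹)⁻¹ * (b * q * b⁻¹ * q⁻¹) by group]
    exact T.mul_mem (ha.1 _ (conj_mem_core b hq)) (hb.1 q hq)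
  · exact (hb.2.comp ha.2 fun x hx => conj_mem_inf hTsc b hx).congr fun x _ => by
      show a * b * x * (a * b)⁻¹ = a * (b * x * b⁻¹) * a⁻¹
      group

theorem inK_pow {a : G} (ha : InK E p a) : ∀ n : ℕ, InK E p (a ^ n)
  | 0 => by rw [pow_zero]; exact inK_of_mem_T hE (one_mem T)
  | n + 1 => by rw [pow_succ]; exact inK_mul hE (inK_pow ha n) ha

theorem inK_inv {a : G} (ha : InK E p a) : InK E p a⁻¹ := by
  have h := inK_pow hE ha (orderOf a - 1)
  rwa [show a⁻¹ = a ^ (orderOf a - 1) from inv_eq_of_mul_eq_one_right (by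
    rw [← pow_succ', Nat.sub_add_cancel (orderOf_pos a), pow_orderOf_eq_one])]

/-- the group of those elements -/
def kSub : Subgroup G where
  carrier := {g | InK E p g}
  one_mem' := inK_of_mem_T hE (one_mem T)
  mul_mem' := inK_mul hE
  inv_mem' := inK_inv hE

theorem map_group {P : Subgroup G} {f : G → G} (hf : IsMap E P f) :
    IsMap (groupFusionSystem (S : Subgroup G)) P f := by
  obtain ⟨φ, hφ, he⟩ := hf
  exact ⟨φ, hE.1.2.2.1 P hφ, he⟩

theorem frattini (g : G) : ∃ α ∈ (groupFusionSystem (S : Subgroup G)).autGroup T, ∃ f₀,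
    IsMap E (Cfsg.pCore p G ⊓ T) f₀ ∧ ∀ x ∈ Cfsg.pCore p G ⊓ T,
      f₀ x ∈ Cfsg.pCore p G ⊓ T ∧ g * x * g⁻¹ = autFun α (f₀ x) := by
  have hTsc := sc hE
  set R := Cfsg.pCore p G ⊓ T with hR
  have hRS : R ≤ (S : Subgroup G) := inf_le_right.trans hTsc.1
  have hm : IsMap (groupFusionSystem (S : Subgroup G)) R (fun x => g * x * g⁻¹) :=
    isMap_group_iff.2 ⟨hRS, g, fun x hx => ⟨hRS (conj_mem_inf hTsc g hx), rfl⟩⟩
  obtain ⟨φ, hφ, hφe⟩ := hm
  obtain ⟨α, hα, φ₀, hφ₀, h⟩ := hE.1.2.2.2.2.2 R inf_le_right φ hφ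
  refine ⟨α, hα, toFun φ₀, isMap_toFun hφ₀, fun x hx => ?_⟩
  have hm0 := isMap_toFun hφ₀
  have hx0 : toFun φ₀ x ∈ T := hm0.mem_S hx
  have h1 := h ⟨x, hx⟩ (by rw [← toFun_apply φ₀ hx]; exact hx0)
  refine ⟨⟨?_, hx0⟩, ?_⟩
  · obtain ⟨ψ, hψ, hψe⟩ := map_group hE hm0
    obtain ⟨-, -, k, hk⟩ := hψ
    have e := hψe ⟨x, hx⟩
    rw [hk] at e
    rw [← e]
    exact conj_mem_core k hx.1
  · rw [show g * x * g⁻¹ = φ ⟨x, hx⟩ from (hφe ⟨x, hx⟩).symm, h1, autFun_apply α hx0]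
    congr 2
    exact Subtype.ext (toFun_apply φ₀ hx).symm

theorem aut_group (α : MulAut T) (hα : α ∈ (groupFusionSystem (S : Subgroup G)).autGroup T) :
    ∃ n ∈ Subgroup.normalizer (T : Set G), ∀ x ∈ T, autFun α x = n * x * n⁻¹ := by
  obtain ⟨-, n, hn⟩ := isMap_group_iff.1 ((mem_autGroup_iff (sc hE).1).1 hα)
  exact ⟨n, mem_normalizer_of_autFun fun x hx => (hn x hx).2, fun x hx => (hn x hx).2⟩

/-- conjugating an element of the group by an automorphism of `T` -/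
theorem isMap_transport {α : MulAut T} (hα : α ∈ (groupFusionSystem (S : Subgroup G)).autGroup T)
    {P : Subgroup G} (hP : P ≤ T) {f : G → G} (hf : IsMap E P f) :
    ∃ f₁, IsMap E (img P (autFun α)) f₁ ∧ ∀ x ∈ P, f₁ (autFun α x) = autFun α (f x) := by
  obtain ⟨φ, hφ, hφe⟩ := hf
  have H := hE.1.2.2.2.2.1 P hP φ hφ α hα
  rw [map_subgroupOf_eq_img hP] at H
  obtain ⟨χ, hχ, hχe⟩ := H
  have hχ' : χ ∈ E.Hom (img P (autFun α)) := hχ
  refine ⟨toFun χ, isMap_toFun hχ', fun x hx => ?_⟩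
  have hm : autFun α x ∈ img P (autFun α) :=
    Subgroup.subset_closure ⟨x, hx, rfl⟩
  have hfT : φ ⟨x, hx⟩ ∈ T := (E.le_of_mem hφ).2 _
  have h1 := hχe ⟨x, hx⟩ hfT (by rw [← autFun_apply α (hP hx)]; exact hm)
  rw [toFun_apply χ hm]
  refine (congrArg χ (Subtype.ext (autFun_apply α (hP hx)))).trans (h1.trans ?_)
  rw [← autFun_apply α hfT, hφe ⟨x, hx⟩]

theorem inK_conj (g : G) {k : G} (hk : InK E p k) : InK E p (g * k * g⁻¹) := by
  have hTsc := sc hE
  refine ⟨fun q hq => ?_, ?_⟩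
  · have hq' := conj_mem_core g⁻¹ hq
    have h1 : k * (g⁻¹ * q * g⁻¹⁻¹) * k⁻¹ * (g⁻¹ * q * g⁻¹⁻¹)⁻¹ ∈ Cfsg.pCore p G ⊓ T :=
      ⟨mul_mem (conj_mem_core k hq') ((Cfsg.pCore p G).inv_mem hq'), hk.1 _ hq'⟩
    have h2 := (conj_mem_inf hTsc g h1).2
    simpa [mul_assoc] using h2
  · set R := Cfsg.pCore p G ⊓ T with hR
    obtain ⟨α, hα, f₀, hf₀, hf⟩ := frattini hE g
    obtain ⟨f₀', hf₀', h01, h02⟩ := hf₀.exists_inv
    have himg : img R f₀ = R := img_eq_of_map_le inf_le_right hf₀ le_rfl fun x hx => (hf x hx).1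
    rw [himg] at hf₀' h02
    have hc : IsMap E R (f₀ ∘ (fun x => k * x * k⁻¹) ∘ f₀') :=
      (hf₀'.comp hk.2 fun x hx => (h02 x hx).1).comp hf₀ fun x hx => conj_mem_inf hTsc k (h02 x hx).1
    obtain ⟨f₁, hf₁, hf₁e⟩ := isMap_transport hE hα inf_le_right hc
    have hαR : img R (autFun α) = R := by
      refine Eq.trans ?_ (img_eq_of_map_le (inf_le_right.trans hTsc.1)
        (isMap_group_iff.2 ⟨inf_le_right.trans hTsc.1, g, fun x hx =>
          ⟨hTsc.1 (conj_mem_inf hTsc g hx).2, rfl⟩⟩ : IsMap (groupFusionSystem (S : Subgroup G)) R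
            (fun x => g * x * g⁻¹)) le_rfl fun x hx => conj_mem_inf hTsc g hx)
      rw [IsMap.img_congr (g := autFun α ∘ f₀) fun x hx => (hf x hx).2, ← img_img hf₀, himg]
    rw [hαR] at hf₁
    refine hf₁.congr fun y hy => ?_
    set x := g⁻¹ * y * g⁻¹⁻¹ with hx
    have hxR : x ∈ R := conj_mem_inf hTsc g⁻¹ hy
    have e1 : y = autFun α (f₀ x) := by rw [← (hf x hxR).2, hx]; group
    have e2 := hf₁e (f₀ x) (hf x hxR).1
    rw [← e1] at e2
    rw [e2]
    show g * k * g⁻¹ * y * (g * k * g⁻¹)⁻¹ = autFun α (f₀ (k * f₀' (f₀ x) * k⁻¹))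
    rw [h01 x hxR, ← (hf _ (conj_mem_inf hTsc k hxR)).2, hx]
    group

theorem hSub_le : hSub E p ≤ kSub hE := by
  refine (Subgroup.closure_le _).2 ?_
  rintro x (hx | ⟨g, t, ht, rfl⟩)
  · exact hx.1
  · exact inK_conj hE g (inK_of_mem_T hE ht)

theorem inK_of_mem {g : G} (hg : g ∈ hSub E p) : InK E p g := hSub_le hE hg

theorem hSub_normal : (hSub E p).Normal := by
  refine ⟨fun x hx g => ?_⟩
  induction hx using Subgroup.closure_induction with
  | mem y hy =>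
    refine Subgroup.subset_closure ?_
    rcases hy with ⟨hy1, hy2⟩ | ⟨a, t, ht, rfl⟩
    · exact Or.inl ⟨inK_conj hE g hy1, by
        rw [show g * y * g⁻¹ = MulAut.conj g y from rfl, MulEquiv.orderOf_eq]; exact hy2⟩
    · exact Or.inr ⟨g * a, t, ht, by group⟩
  | one => simp
  | mul a b _ _ ha hb => simpa [mul_assoc] using Subgroup.mul_mem _ ha hb
  | inv a _ ha => simpa [mul_assoc] using Subgroup.inv_mem _ ha

variable (hG : Subgroup.centralizer ((Cfsg.pCore p G : Subgroup G) : Set G) ≤ Cfsg.pCore p G)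
include hG

/-- the elements of that group fixing `O_p(G) ∩ T` lie in `O_p(G)` -/
theorem mem_core_of_fix {k : G} (hk : InK E p k)
    (hfix : ∀ x ∈ Cfsg.pCore p G ⊓ T, k * x * k⁻¹ = x) : k ∈ Cfsg.pCore p G := by
  have hTsc := sc hE
  let X : Subgroup G :=
    { carrier := {g | InK E p g ∧ ∀ x ∈ Cfsg.pCore p G ⊓ T, g * x * g⁻¹ = x}
      one_mem' := ⟨inK_of_mem_T hE (one_mem T), fun x _ => by group⟩
      mul_mem' := fun {a b} ha hb => ⟨inK_mul hE ha.1 hb.1, fun x hx => by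
        rw [show a * b * x * (a * b)⁻¹ = a * (b * x * b⁻¹) * a⁻¹ by group, hb.2 x hx, ha.2 x hx]⟩
      inv_mem' := fun {a} ha => ⟨inK_inv hE ha.1, fun x hx => by
        conv_lhs => rw [← ha.2 x hx]
        group⟩ }
  haveI : X.Normal := ⟨fun a ha g => ⟨inK_conj hE g ha.1, fun x hx => by
    have h1 := ha.2 _ (conj_mem_inf hTsc g⁻¹ hx)
    calc g * a * g⁻¹ * x * (g * a * g⁻¹)⁻¹ = g * (a * (g⁻¹ * x * g⁻¹⁻¹) * a⁻¹) * g⁻¹ := by group
      _ = x := by rw [h1]; group⟩⟩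
  refine CfsgLib.Coprime.le_pCore (N := X) (fun a => ?_) (show k ∈ X from ⟨hk, hfix⟩)
  obtain ⟨i, j, e, hij, hi, hj⟩ := exists_decomp (p := p) (a : G)
  have hb := X.pow_mem a.2 j
  set b := (a : G) ^ j
  have hb1 : b = 1 := by
    refine mem_center_core hG hj fun q hq => ?_
    set r := b * q * b⁻¹ * q⁻¹ with hr
    have hrR : r ∈ Cfsg.pCore p G ⊓ T :=
      ⟨mul_mem (conj_mem_core b hq) ((Cfsg.pCore p G).inv_mem hq), hb.1.1 q hq⟩
    have hit : ∀ n : ℕ, b ^ n * q * (b ^ n)⁻¹ = r ^ n * q := by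
      intro n
      induction n with
      | zero => simp
      | succ n ih =>
        rw [show b ^ (n + 1) * q * (b ^ (n + 1))⁻¹ = b * (b ^ n * q * (b ^ n)⁻¹) * b⁻¹ by
          rw [pow_succ']; group, ih,
          show b * (r ^ n * q) * b⁻¹ = (b * r ^ n * b⁻¹) * (b * q * b⁻¹ * q⁻¹) * q by group,
          hb.2 _ (pow_mem hrR n), ← hr, ← pow_succ]
    have h1 := hit (orderOf b)
    rw [pow_orderOf_eq_one, one_mul, inv_one, mul_one, right_eq_mul] at h1
    obtain ⟨m, hm⟩ := CfsgLib.Coprime.pCore_isPGroup p ⟨r, hrR.1⟩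
    have hr1 : r = 1 := orderOf_eq_one_iff.1 (Nat.eq_one_of_dvd_coprimes (Nat.Coprime.pow_right m hj)
      (orderOf_dvd_of_pow_eq_one h1) (orderOf_dvd_of_pow_eq_one (congrArg Subtype.val hm : r ^ p ^ m = 1)))
    exact mul_inv_eq_one.1 hr1
  refine ⟨e, Subtype.ext ?_⟩
  show (a : G) ^ p ^ e = 1
  rw [hb1, mul_one] at hij
  rw [hij, hi]

/-- `C_T(O_p(G) ∩ T) ≤ O_p(G) ∩ T` -/
theorem centralizerIn_le : centralizerIn T (Cfsg.pCore p G ⊓ T) ≤ Cfsg.pCore p G ⊓ T := fun t ht =>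
  ⟨mem_core_of_fix hE hG (inK_of_mem_T hE ht.1) (fun x hx => by
    rw [← Subgroup.mem_centralizer_iff.1 ht.2 x hx, mul_inv_cancel_right]), ht.1⟩

omit hG in
theorem isNormal_core : (groupFusionSystem (S : Subgroup G)).IsNormal (Cfsg.pCore p G) := by
  refine isNormal_iff.2 ⟨pCore_le S, fun P f hf => ?_⟩
  obtain ⟨hP, g, hg⟩ := isMap_group_iff.1 hf
  have hle : conjBy g (P ⊔ Cfsg.pCore p G) ≤ (S : Subgroup G) := by
    show Subgroup.map (MulAut.conj g).toMonoidHom _ ≤ _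
    rw [Subgroup.map_sup, sup_le_iff]
    exact ⟨conjBy_le_iff.2 fun x hx => (hg x hx).1, conjBy_le_iff.2 fun x hx => pCore_le S (conj_mem_core g hx)⟩
  refine ⟨_, isMap_group_conj (sup_le hP (pCore_le S)) hle, fun x hx => (hg x hx).2.symm, ?_⟩
  exact img_eq_of_map_le (pCore_le S) (isMap_group_conj (sup_le hP (pCore_le S)) hle) le_sup_right
    fun x hx => conj_mem_core g hx

omit hG in
/-- `O_p(G) ∩ T` is normal in `E` -/
theorem isNormal_inf : E.IsNormal (Cfsg.pCore p G ⊓ T) := by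
  have hTsc := sc hE
  obtain ⟨n, Qs, h0, hlast, hmono, hi⟩ := exists_series_of_autExtends S.2 (pCore_le S)
    (autExtends_of_isNormal (isNormal_core hE))
  refine isNormal_of_series (S.2.to_le hTsc.1) hE.1.1 (Qs := fun i => Qs i ⊓ T) (by simp [h0]) (by simp [hlast])
    (fun i j hij => inf_le_inf_right _ (hmono hij)) (fun i => stronglyClosed_iff.2 ⟨inf_le_right,
      fun U f hU hf x hx => ⟨(stronglyClosed_iff.1 (hi i).1).2 U f (hU.trans inf_le_left) (map_group hE hf) x hx,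
        hf.mem_S hx⟩⟩) fun i => le_inf ?_ ?_
  · exact (Subgroup.commutator_mono inf_le_left inf_le_left).trans (hi i).2
  · refine Subgroup.commutator_le.2 fun a ha b hb => ?_
    rw [commutatorElement_def]
    exact T.mul_mem (T.mul_mem (T.mul_mem ha.2 hb.2) (T.inv_mem ha.2)) (T.inv_mem hb.2)

theorem isCentric_inf : E.IsCentric (Cfsg.pCore p G ⊓ T) := by
  refine ⟨inf_le_right, fun U hU => ?_⟩
  obtain ⟨f, hf, rfl⟩ := isConj_iff.1 hU
  rw [img_eq_of_map_le inf_le_right hf le_rfl fun x hx =>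
    (stronglyClosed_iff.1 (stronglyClosed_of_isNormal (isNormal_inf hE))).2 _ _ le_rfl hf x hx]
  exact centralizerIn_le hE hG

/-- `T` is a Sylow subgroup of the subgroup -/
theorem inf_hSub : (S : Subgroup G) ⊓ hSub E p = T := by
  have hTsc := sc hE
  haveI := hSub_normal hE
  set R := Cfsg.pCore p G ⊓ T with hR
  set H := hSub E p with hH
  set P₀ := (S : Subgroup G) ⊓ H with hP₀
  have hTP : T ≤ P₀ := le_inf hTsc.1 (subset_hSub E p)
  have hP₀p : IsPGroup p P₀ := S.2.to_le inf_le_left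
  have hTp : IsPGroup p T := S.2.to_le hTsc.1
  have hRN : ∀ g : G, g ∈ Subgroup.normalizer (R : Set G) := fun g => by
    refine Subgroup.mem_normalizer_iff.2 fun x => ⟨fun hx => conj_mem_inf hTsc g hx, fun hx => ?_⟩
    have := conj_mem_inf hTsc g⁻¹ hx
    rwa [show g⁻¹ * (g * x * g⁻¹) * g⁻¹⁻¹ = x by group] at this
  have hdec : ∀ u ∈ P₀, ∃ t ∈ T, t⁻¹ * u ∈ Cfsg.pCore p G ∧ t⁻¹ * u ∈ H := by
    have hi := ((isFullyAutomized_iff hTp).1 (IsSaturated.automized_receptive hTp hE.1.1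
      (isFullyNormalized_of_isNormal (isNormal_inf hE))).1).2
    have hle : autInducedBy P₀ R ≤ E.autGroup R := fun a ha => by
      obtain ⟨s, hs, hsa⟩ := mem_autInducedBy_iff.1 ha
      exact (mem_autGroup_iff inf_le_right).2 ((inK_of_mem hE hs.2).2.congr hsa)
    have hmono : autInducedBy T R ≤ autInducedBy P₀ R := fun a ha => by
      obtain ⟨s, hs, hsa⟩ := mem_autInducedBy_iff.1 ha
      exact mem_autInducedBy_iff.2 ⟨s, hTP hs, hsa⟩
    haveI := finite_mulAut (P := R)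
    have heq := eq_of_le_of_isPGroup_of_not_dvd_relIndex (isPGroup_autInducedBy hP₀p) hmono hle hi
    intro u hu
    obtain ⟨t, ht, htu⟩ := mem_autInducedBy_iff.1 (heq.le (conjAut_mem hu (hRN u)))
    have hH' : t⁻¹ * u ∈ H := H.mul_mem (H.inv_mem (subset_hSub E p ht)) hu.2
    refine ⟨t, ht, mem_core_of_fix hE hG (inK_of_mem hE hH') fun x hx => ?_, hH'⟩
    have h1 := htu x hx
    rw [autFun_conjAut (hRN u) hx] at h1
    calc t⁻¹ * u * x * (t⁻¹ * u)⁻¹ = t⁻¹ * (u * x * u⁻¹) * t := by group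
      _ = x := by rw [h1]; group
  have hinj : Function.Injective H.subtype := H.subtype_injective
  set P := P₀.subgroupOf H with hP
  have key : P = T.subgroupOf H := by
    refine eq_of_transfer (p := p) (hP₀p.of_equiv (Subgroup.subgroupOfEquivOfLe inf_le_right).symm)
      (not_dvd_relIndex_inf_of_normal S H) (fun x hx => hTP hx) (fun g t ht h => ?_) ?_ (fun a ha b hb => ?_)
      fun u hu => ?_
    · exact conj_mem hTsc ht (show (g : G) * t * (g : G)⁻¹ ∈ P₀ from h).1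
    · refine Subgroup.map_injective hinj ?_
      rw [MonoidHom.map_closure, ← MonoidHom.range_eq_map, Subgroup.range_subtype]
      conv_rhs => rw [hH, hSub]
      refine le_antisymm ((Subgroup.closure_le _).2 ?_) ((Subgroup.closure_le _).2 ?_)
      · rintro _ ⟨x, -, rfl⟩
        exact x.2
      · rintro x (hx | ⟨g, t, ht, rfl⟩)
        · refine Subgroup.subset_closure ⟨⟨x, Subgroup.subset_closure (Or.inl hx)⟩, Or.inl ?_, rfl⟩
          show (orderOf (⟨x, _⟩ : H)).Coprime p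
          rw [← Subgroup.orderOf_coe]
          exact hx.2
        · have hxH : g * t * g⁻¹ ∈ H := Subgroup.subset_closure (Or.inr ⟨g, t, ht, rfl⟩)
          have hxp : IsPGroup p (Subgroup.zpowers (g * t * g⁻¹)) := by
            obtain ⟨k, hk⟩ := hTp ⟨t, ht⟩
            refine isPGroup_zpowers_of_pow (k := k) ?_
            rw [conj_pow, show t ^ p ^ k = 1 from congrArg Subtype.val hk, mul_one, mul_inv_cancel]
          obtain ⟨h, hh, hhx⟩ := exists_conj_le_of_not_dvd_relIndex hP₀p inf_le_right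
            (not_dvd_relIndex_inf_of_normal S H) hxp (Subgroup.zpowers_le.2 hxH)
          have h1 : h * (g * t * g⁻¹) * h⁻¹ ∈ (S : Subgroup G) :=
            (hhx (conj_mem_conjBy (Subgroup.mem_zpowers _))).1
          have e : h * (g * t * g⁻¹) * h⁻¹ = (h * g) * t * (h * g)⁻¹ := by group
          have h2 : h * (g * t * g⁻¹) * h⁻¹ ∈ T := e ▸ conj_mem hTsc ht (e ▸ h1)
          refine Subgroup.subset_closure ⟨⟨g * t * g⁻¹, hxH⟩, Or.inr ?_, rfl⟩
          refine ⟨⟨h, hh⟩⁻¹, ⟨_, subset_hSub E p h2⟩, h2, Subtype.ext ?_⟩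
          show g * t * g⁻¹ = h⁻¹ * (h * (g * t * g⁻¹) * h⁻¹) * h⁻¹⁻¹
          group
    · obtain ⟨t₁, ht₁, h₁, -⟩ := hdec a ha
      show (a : G) * b * (a : G)⁻¹ * (b : G)⁻¹ ∈ T
      set v := t₁⁻¹ * (a : G) with hv
      have hb2 : (b : G) * v * (b : G)⁻¹ * v⁻¹ ∈ T := (inK_of_mem hE b.2).1 v h₁
      rw [show (a : G) * b * (a : G)⁻¹ * (b : G)⁻¹ =
        t₁ * ((b : G) * v * (b : G)⁻¹ * v⁻¹)⁻¹ * ((b : G) * t₁⁻¹ * (b : G)⁻¹) by rw [hv]; group]
      exact T.mul_mem (T.mul_mem ht₁ (T.inv_mem hb2))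
        (conj_mem_of_S hTsc (show (b : G) ∈ P₀ from hb).1 (T.inv_mem ht₁))
    · obtain ⟨t, ht, h₁, h₁'⟩ := hdec u hu
      refine ⟨⟨t, subset_hSub E p ht⟩, ht, fun g => ?_⟩
      show (g : G) * (t⁻¹ * (u : G)) * (g : G)⁻¹ * (t⁻¹ * (u : G))⁻¹ ∈ T
      exact (inK_of_mem hE g.2).1 _ h₁
  refine le_antisymm (fun x hx => ?_) hTP
  exact key.le (show (⟨x, hx.2⟩ : H) ∈ P from hx)

theorem not_dvd_relIndex_hSub : ¬ p ∣ T.relIndex (hSub E p) := by
  haveI := hSub_normal hE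
  have h := not_dvd_relIndex_inf_of_normal S (hSub E p)
  rwa [inf_hSub hE hG] at h

/-- the elements of the subgroup fixing `O_p(G) ∩ T` lie in it -/
theorem fix_mem {h : G} (hh : h ∈ hSub E p) (hfix : ∀ x ∈ Cfsg.pCore p G ⊓ T, h * x * h⁻¹ = x) :
    h ∈ Cfsg.pCore p G ⊓ T := by
  have h1 := mem_core_of_fix hE hG (inK_of_mem hE hh) hfix
  exact ⟨h1, (inf_hSub hE hG).le ⟨pCore_le S h1, hh⟩⟩

omit hG in
/-- an automorphism in `E` of `T` comes from the subgroup -/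
theorem autGroup_top_le {α : MulAut T} (hα : α ∈ E.autGroup T) :
    ∃ h ∈ hSub E p, ∀ x ∈ T, autFun α x = h * x * h⁻¹ := by
  have hTsc := sc hE
  have hTS := hTsc.1
  have hTp : IsPGroup p T := S.2.to_le hTS
  set C := centralizerIn (S : Subgroup G) T with hC
  obtain ⟨β, hβ, hβT, hβC⟩ := hE.2 α hα
  set Z := T ⊓ Subgroup.centralizer (T : Set G) with hZ
  obtain ⟨-, g, hg⟩ := isMap_group_iff.1 ((mem_autGroup_iff (sup_le hTS inf_le_left)).1 hβ)
  have hgT : ∀ x ∈ T, g * x * g⁻¹ = autFun α x := fun x hx =>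
    (hg x (Subgroup.mem_sup_left hx)).2.symm.trans ((autFun_apply β (Subgroup.mem_sup_left hx)).trans
      ((hβT ⟨x, hx⟩).trans (autFun_apply α hx).symm))
  have hgC : ∀ c ∈ C, c⁻¹ * (g * c * g⁻¹) ∈ Z := fun c hc => by
    have h1 := hβC ⟨c, Subgroup.mem_sup_right hc⟩ hc
    have e : g * c * g⁻¹ = ((β ⟨c, Subgroup.mem_sup_right hc⟩ : ↥(T ⊔ C)) : G) :=
      (hg c (Subgroup.mem_sup_right hc)).2.symm.trans (autFun_apply β (Subgroup.mem_sup_right hc))
    rw [e]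
    exact h1
  have hZC : Z ≤ C := inf_le_inf_right _ hTS
  -- powers of `g`
  have hpow : ∀ n : ℕ, (∀ x ∈ T, g ^ n * x * (g ^ n)⁻¹ = autFun (α ^ n) x) ∧
      ∀ c ∈ C, c⁻¹ * (g ^ n * c * (g ^ n)⁻¹) ∈ Z := by
    intro n
    induction n with
    | zero => exact ⟨fun x hx => by rw [pow_zero, pow_zero, autFun_one hx]; group,
        fun c hc => by simp⟩
    | succ n ih =>
      refine ⟨fun x hx => ?_, fun c hc => ?_⟩
      · rw [pow_succ' α, autFun_mul _ _ hx, ← ih.1 x hx, ← hgT _ (by rw [ih.1 x hx]; exact autFun_mem _ hx),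
          pow_succ']
        group
      · set z := c⁻¹ * (g ^ n * c * (g ^ n)⁻¹) with hz
        have hz' : z ∈ Z := ih.2 c hc
        have h1 := hgC _ (mul_mem hc (hZC hz'))
        rw [show c⁻¹ * (g ^ (n + 1) * c * (g ^ (n + 1))⁻¹) = z * ((c * z)⁻¹ * (g * (c * z) * g⁻¹)) by
          rw [hz, pow_succ']; group]
        exact mul_mem hz' h1
  have hαm : ∀ n : ℕ, α ^ n ∈ E.autGroup T := fun n => pow_mem hα n
  haveI := finite_mulAut (P := T)
  have hi := ((isFullyAutomized_iff hTp).1 (IsSaturated.automized_receptive hTp hE.1.1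
    isFullyNormalized_self).1).2
  have hAinn : ∀ γ : MulAut T, γ ∈ E.autGroup T → ∀ k, γ ^ p ^ k = 1 →
      ∃ t ∈ T, ∀ x ∈ T, autFun γ x = t * x * t⁻¹ := by
    intro γ hγ k hk
    obtain ⟨δ, hδ, hδA⟩ := exists_conj_le_of_not_dvd_relIndex (isPGroup_autInducedBy hTp)
      (autInducedBy_le_autGroup le_rfl) hi (isPGroup_zpowers_of_pow hk) (Subgroup.zpowers_le.2 hγ)
    obtain ⟨t, ht, hts⟩ := mem_autInducedBy_iff.1 (hδA (conj_mem_conjBy (Subgroup.mem_zpowers γ)))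
    refine ⟨autFun δ⁻¹ t, autFun_mem _ ht, fun x hx => ?_⟩
    have hm := (mem_autGroup_iff le_rfl).1 (inv_mem hδ)
    have hdx := autFun_mem δ hx
    have e := hts _ hdx
    rw [← autFun_mul _ _ hx, inv_mul_cancel_right, autFun_mul _ _ hx] at e
    rw [← autFun_one (autFun_mem γ hx), ← inv_mul_cancel δ, autFun_mul _ _ (autFun_mem γ hx), e,
      hm.map_conj ht hdx, ← autFun_mul _ _ hx, inv_mul_cancel, autFun_one hx]
  obtain ⟨i, j, e, hij, hi', hj⟩ := exists_decomp (p := p) g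
  obtain ⟨t, ht, hts⟩ := hAinn (α ^ i) (hαm i) e (autFun_ext fun x hx => by
    rw [autFun_one hx, ← pow_mul, ← (hpow (i * p ^ e)).1 x hx, pow_mul, hi']; group)
  -- the part of order prime to `p`
  set g' := g ^ j with hg'
  have hg'T : ∀ x ∈ T, g' * x * g'⁻¹ = autFun (α ^ j) x := (hpow j).1
  have hg'K : InK E p g' := by
    refine ⟨?_, (((mem_autGroup_iff le_rfl).1 (hαm j)).mono inf_le_right).congr fun x hx => hg'T x hx.2⟩
    set Y := T ⊔ C with hY
    have hCT : C ≤ Subgroup.normalizer (T : Set G) :=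
      inf_le_right.trans (Subgroup.centralizer_le_normalizer _)
    have hYmem : ∀ y ∈ Y, ∃ t₀ ∈ T, ∃ c ∈ C, y = t₀ * c := fun y hy => by
      have h2 : y ∈ ((T : Set G) * (C : Set G)) := by
        rw [← Subgroup.coe_mul_of_right_le_normalizer_left T C hCT]; exact hy
      obtain ⟨t₀, ht₀, c, hc, rfl⟩ := Set.mem_mul.1 h2
      exact ⟨t₀, ht₀, c, hc, rfl⟩
    have hstepY : ∀ q ∈ Cfsg.pCore p G, g' * q * g'⁻¹ * q⁻¹ ∈ Y := by
      intro q hq
      set u := g' * q * g'⁻¹ * q⁻¹ with hu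
      have huQ : u ∈ Cfsg.pCore p G := mul_mem (conj_mem_core g' hq) ((Cfsg.pCore p G).inv_mem hq)
      have hqn : q ∈ Subgroup.normalizer (T : Set G) :=
        (le_normalizerIn_of_stronglyClosed hTsc (pCore_le S hq)).2
      have hun : u ∈ Subgroup.normalizer (T : Set G) :=
        (le_normalizerIn_of_stronglyClosed hTsc (pCore_le S huQ)).2
      set κ := conjAut q hqn with hκdef
      have hκ : κ ∈ (groupFusionSystem (S : Subgroup G)).autGroup T := by
        rw [autGroup_group hTS]; exact conjAut_mem (Subgroup.mem_top q) hqn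
      obtain ⟨f₁, hf₁, hf₁e⟩ := isMap_transport hE hκ le_rfl ((mem_autGroup_iff le_rfl).1 (inv_mem (hαm j)))
      rw [img_autFun] at hf₁
      have hγm : IsMap E T (fun x => u * x * u⁻¹) := by
        refine (hf₁.comp ((mem_autGroup_iff le_rfl).1 (hαm j)) fun x hx => hf₁.mem_S hx).congr fun x hx => ?_
        show u * x * u⁻¹ = autFun (α ^ j) (f₁ x)
        set y := q⁻¹ * x * q⁻¹⁻¹ with hy
        have hyT : y ∈ T :=
          (Subgroup.mem_normalizer_iff.1 (inv_mem hqn) x).1 hx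
        have e1 : x = autFun κ y := by rw [hκdef, autFun_conjAut hqn hyT, hy]; group
        have e2 := hf₁e y hyT
        rw [← e1, hκdef, autFun_conjAut hqn (autFun_mem _ hyT)] at e2
        have hz : g'⁻¹ * y * g'⁻¹⁻¹ = autFun (α ^ j)⁻¹ y := by
          have h3 := hg'T _ (autFun_mem (α ^ j)⁻¹ hyT)
          rw [← autFun_mul _ _ hyT, mul_inv_cancel, autFun_one hyT] at h3
          conv_lhs => rw [← h3]
          group
        rw [← hz] at e2
        have hm2 : f₁ x ∈ T := hf₁.mem_S hx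
        rw [← hg'T _ hm2, e2, hu, hy]
        group
      have hγ : conjAut u hun ∈ E.autGroup T :=
        (mem_autGroup_iff le_rfl).2 (hγm.congr fun x hx => autFun_conjAut hun hx)
      obtain ⟨k, hk⟩ := CfsgLib.Coprime.pCore_isPGroup p ⟨u, huQ⟩
      have hupow : ∀ n : ℕ, ∀ x ∈ T, autFun (conjAut u hun ^ n) x = u ^ n * x * (u ^ n)⁻¹ := by
        intro n
        induction n with
        | zero => intro x hx; rw [pow_zero, autFun_one hx]; group
        | succ n ih =>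
          intro x hx
          rw [pow_succ', autFun_mul _ _ hx, autFun_conjAut hun (autFun_mem _ hx), ih x hx, pow_succ']
          group
      obtain ⟨t₀, ht₀, hts₀⟩ := hAinn _ hγ k (autFun_ext fun x hx => by
        rw [hupow _ x hx, show u ^ p ^ k = 1 from congrArg Subtype.val hk, autFun_one hx]; group)
      have hc : t₀⁻¹ * u ∈ C := by
        refine ⟨(S : Subgroup G).mul_mem ((S : Subgroup G).inv_mem (hTS ht₀)) (pCore_le S huQ), Subgroup.mem_centralizer_iff.2 fun x hx => ?_⟩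
        have h3 := hts₀ x hx
        rw [autFun_conjAut hun hx] at h3
        calc x * (t₀⁻¹ * u) = t₀⁻¹ * (t₀ * x * t₀⁻¹) * u := by group
          _ = t₀⁻¹ * u * x := by rw [← h3]; group
      rw [show u = t₀ * (t₀⁻¹ * u) by group]
      exact Subgroup.mul_mem_sup ht₀ hc
    have hstepR : ∀ y ∈ Y, y ∈ Cfsg.pCore p G → g' * y * g'⁻¹ * y⁻¹ ∈ Cfsg.pCore p G ⊓ T := by
      intro y hy hyQ
      refine ⟨mul_mem (conj_mem_core g' hyQ) ((Cfsg.pCore p G).inv_mem hyQ), ?_⟩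
      obtain ⟨t₀, ht₀, c, hc, rfl⟩ := hYmem y hy
      rw [show g' * (t₀ * c) * g'⁻¹ * (t₀ * c)⁻¹ =
        (g' * t₀ * g'⁻¹) * (g' * c * g'⁻¹ * c⁻¹) * t₀⁻¹ by group]
      refine T.mul_mem (T.mul_mem (by rw [hg'T t₀ ht₀]; exact autFun_mem _ ht₀) ?_) (T.inv_mem ht₀)
      have hz := (hpow j).2 c hc
      rw [show g' * c * g'⁻¹ * c⁻¹ = c * (c⁻¹ * (g' * c * g'⁻¹)) * c⁻¹ by group]
      exact conj_mem_of_S hTsc hc.1 hz.1
    intro q hq
    set u := g' * q * g'⁻¹ * q⁻¹ with hu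
    have huQ : u ∈ Cfsg.pCore p G := mul_mem (conj_mem_core g' hq) ((Cfsg.pCore p G).inv_mem hq)
    set R := Cfsg.pCore p G ⊓ T with hR
    haveI : R.Normal := ⟨fun x hx a => conj_mem_inf hTsc a hx⟩
    set π := QuotientGroup.mk' R with hπ
    have hu1 : π (g' * u * g'⁻¹) = π u := by
      rw [← mul_inv_eq_one, ← map_inv, ← map_mul]
      exact (QuotientGroup.eq_one_iff _).2 (hstepR u (hstepY q hq) huQ)
    have hit : ∀ n : ℕ, π (g' ^ n * q * (g' ^ n)⁻¹) = π u ^ n * π q := by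
      intro n
      induction n with
      | zero => simp
      | succ n ih =>
        rw [show g' ^ (n + 1) * q * (g' ^ (n + 1))⁻¹ = g' * (g' ^ n * q * (g' ^ n)⁻¹) * g'⁻¹ by
          rw [pow_succ']; group, map_mul, map_mul, ih]
        have e1 : π g' * π u ^ n * (π g')⁻¹ = π u ^ n := by
          rw [← conj_pow, ← map_inv, ← map_mul, ← map_mul, hu1]
        have e2 : π g' * π q * (π g')⁻¹ = π u * π q := by
          rw [← map_inv, ← map_mul, ← map_mul, ← map_mul, hu, inv_mul_cancel_right]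
        rw [map_inv, show π g' * (π u ^ n * π q) * (π g')⁻¹ =
          (π g' * π u ^ n * (π g')⁻¹) * (π g' * π q * (π g')⁻¹) by group, e1, e2, ← mul_assoc, ← pow_succ]
    have h1 := hit (orderOf g')
    rw [pow_orderOf_eq_one, one_mul, inv_one, mul_one, right_eq_mul] at h1
    obtain ⟨m, hm⟩ := CfsgLib.Coprime.pCore_isPGroup p ⟨u, huQ⟩
    have h2 : π u = 1 := orderOf_eq_one_iff.1 (Nat.eq_one_of_dvd_coprimes (Nat.Coprime.pow_right m hj)
      (orderOf_dvd_of_pow_eq_one h1) (orderOf_dvd_of_pow_eq_one (by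
        rw [← map_pow, show u ^ p ^ m = 1 from congrArg Subtype.val hm, map_one])))
    exact ((QuotientGroup.eq_one_iff _).1 h2).2
  refine ⟨t * g', Subgroup.mul_mem _ (subset_hSub E p ht) (Subgroup.subset_closure (Or.inl ⟨hg'K, hj⟩)),
    fun x hx => ?_⟩
  have hm : g' * x * g'⁻¹ ∈ T := hg'T x hx ▸ autFun_mem _ hx
  rw [show t * g' * x * (t * g')⁻¹ = t * (g' * x * g'⁻¹) * t⁻¹ by group, ← hts _ hm,
    ← (hpow i).1 _ hm, ← hgT x hx]
  conv_lhs => rw [hij]
  group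

omit hE hG in
/-- the fusion system of the subgroup -/
def hSys (E : FusionSystem T) (p : ℕ) : FusionSystem T := fusionSystemOfSubgroup (hSub E p) T (subset_hSub E p)

omit hG in
theorem exists_mem_hSub_core {α : MulAut (Cfsg.pCore p G ⊓ T : Subgroup G)}
    (hα : α ∈ E.autGroup (Cfsg.pCore p G ⊓ T)) :
    ∃ h ∈ hSub E p, ∀ x ∈ Cfsg.pCore p G ⊓ T, autFun α x = h * x * h⁻¹ := by
  have hTsc := sc hE
  have hTp : IsPGroup p T := S.2.to_le hTsc.1
  haveI := hSub_normal hE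
  set X := autInducedBy (hSub E p) (Cfsg.pCore p G ⊓ T) with hX
  haveI := finite_mulAut (P := (Cfsg.pCore p G ⊓ T))
  have hnR := isFullyNormalized_of_isNormal (isNormal_inf hE)
  obtain ⟨hauto, hrec⟩ := IsSaturated.automized_receptive hTp hE.1.1 hnR
  have hi := ((isFullyAutomized_iff hTp).1 hauto).2
  set A := autInducedBy T (Cfsg.pCore p G ⊓ T) with hA
  have hAX : A ≤ X := fun a ha => by
    obtain ⟨s, hs, hsa⟩ := mem_autInducedBy_iff.1 ha
    exact mem_autInducedBy_iff.2 ⟨s, subset_hSub E p hs, hsa⟩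
  have hXE : X ≤ E.autGroup (Cfsg.pCore p G ⊓ T) := fun a ha => by
    obtain ⟨s, hs, hsa⟩ := mem_autInducedBy_iff.1 ha
    exact (mem_autGroup_iff inf_le_right).2 ((inK_of_mem hE hs).2.congr hsa)
  have hiX : ¬ p ∣ A.relIndex X := fun hd =>
    hi (hd.trans (Dvd.intro _ (Subgroup.relIndex_mul_relIndex A X _ hAX hXE)))
  obtain ⟨-, g, hg⟩ := isMap_group_iff.1 (map_group hE ((mem_autGroup_iff inf_le_right).1 hα))
  have hconjX : conjBy α A ≤ X := conjBy_le_iff.2 fun a ha => by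
    obtain ⟨s, hs, hsa⟩ := mem_autInducedBy_iff.1 ha
    refine mem_autInducedBy_iff.2 ⟨g * s * g⁻¹, Subgroup.Normal.conj_mem inferInstance s (subset_hSub E p hs) g,
      fun x hx => ?_⟩
    obtain ⟨y, hy, rfl⟩ := ((mem_autGroup_iff inf_le_right).1 hα).mem_img.1 ((img_autFun α).ge hx)
    rw [← autFun_mul _ _ hy, inv_mul_cancel_right, autFun_mul _ _ hy, (hg _ (autFun_mem a hy)).2, hsa y hy,
      (hg y hy).2]
    group
  obtain ⟨κ, hκ, hκA⟩ := exists_conj_le_of_not_dvd_relIndex (isPGroup_autInducedBy hTp) hAX hiX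
    (isPGroup_conjBy α (isPGroup_autInducedBy hTp)) hconjX
  rw [conjBy_conjBy] at hκA
  set n := κ * α with hn
  have hnE : n ∈ E.autGroup (Cfsg.pCore p G ⊓ T) := mul_mem (hXE hκ) hα
  have hnm := (mem_autGroup_iff inf_le_right).1 hnE
  obtain ⟨ψ, hψ, hψe⟩ := (isReceptive_iff.1 hrec).2 (Cfsg.pCore p G ⊓ T) _ hnm (img_autFun n)
  have hTN : ∀ s ∈ T, s ∈ Subgroup.normalizer ((Cfsg.pCore p G ⊓ T) : Set G) := fun s hs =>
    (le_normalizerIn_of_stronglyClosed (stronglyClosed_of_isNormal (isNormal_inf hE)) hs).2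
  have hext : T ≤ extSub T (Cfsg.pCore p G ⊓ T) (autFun n) := by
    intro s hs
    obtain ⟨m, hm, hme⟩ := mem_autInducedBy_iff.1 (hκA (conj_mem_conjBy (conjAut_mem hs (hTN s hs))))
    refine ⟨⟨hs, hTN s hs⟩, m, hm, fun z hz => ?_⟩
    rw [← autFun_conjAut (hTN s hs) hz, ← hme _ (autFun_mem n hz), ← autFun_mul _ _ hz, ← autFun_mul _ _ hz,
      inv_mul_cancel_right]
  have hψT := hψ.mono hext
  have himgT : img T ψ = T := eq_of_le_of_card_le le_rfl hψT.img_le hψT.card_img.ge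
  obtain ⟨h, hh, hhe⟩ := autGroup_top_le hE (autOf_mem hψT himgT)
  obtain ⟨k, hk, hke⟩ := mem_autInducedBy_iff.1 (show κ⁻¹ ∈ X from inv_mem hκ)
  refine ⟨k * h, Subgroup.mul_mem _ hk hh, fun x hx => ?_⟩
  have hx' : x ∈ T := hx.2
  have e : autFun n x = h * x * h⁻¹ := by rw [← hhe x hx', autFun_autOf hψT himgT hx', hψe x hx]
  rw [show α = κ⁻¹ * n by rw [hn, inv_mul_cancel_left], autFun_mul _ _ hx, hke _ (autFun_mem n hx), e]
  group

theorem autGroup_le_hSys {U : Subgroup G} (hU : E.IsFullyNormalized U) (hRU : Cfsg.pCore p G ⊓ T ≤ U) :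
    E.autGroup U ≤ (hSys E p).autGroup U := by
  have hTsc := sc hE
  have hTp : IsPGroup p T := S.2.to_le hTsc.1
  haveI := hSub_normal hE
  haveI := finite_mulAut (P := U)
  set R := Cfsg.pCore p G ⊓ T with hR
  have hUT : U ≤ T := hU.1
  set N := autInducedBy (hSub E p) U with hN
  intro α hα
  suffices hαN : α ∈ N by
    obtain ⟨h, hh, hhe⟩ := mem_autInducedBy_iff.1 hαN
    exact (mem_autGroup_iff hUT).2 (isMap_subgroup_iff.2
      ⟨hUT, h, hh, fun x hx => ⟨hhe x hx ▸ hUT (autFun_mem α hx), hhe x hx⟩⟩)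
  have hkey : ∀ γ ∈ E.autGroup U, (orderOf γ).Coprime p → γ ∈ N := by
    intro γ hγ hord
    have hγm := (mem_autGroup_iff hUT).1 hγ
    have himgR : img R (autFun γ) = R := img_eq_of_map_le inf_le_right hγm hRU fun x hx =>
      (stronglyClosed_iff.1 (stronglyClosed_of_isNormal (isNormal_inf hE))).2 R _ le_rfl (hγm.mono hRU) x hx
    obtain ⟨h, hh, hhe⟩ := exists_mem_hSub_core hE (autOf_mem (hγm.mono hRU) himgR)
    have hhγ : ∀ x ∈ R, h * x * h⁻¹ = autFun γ x := fun x hx => by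
      rw [← hhe x hx, autFun_autOf _ himgR hx]
    have hRn : ∀ a : G, ∀ x ∈ R, a * x * a⁻¹ ∈ R := fun a x hx => conj_mem_inf hTsc a hx
    have hhU : ∀ x ∈ U, h * x * h⁻¹ ∈ U ∧ (autFun γ x)⁻¹ * (h * x * h⁻¹) ∈ R ∧
        ∀ r ∈ R, (autFun γ x)⁻¹ * (h * x * h⁻¹) * r = r * ((autFun γ x)⁻¹ * (h * x * h⁻¹)) := by
      intro x hx
      set c := (autFun γ x)⁻¹ * (h * x * h⁻¹) with hc
      have hcH : c ∈ hSub E p := Subgroup.mul_mem _
        (Subgroup.inv_mem _ (subset_hSub E p (hUT (autFun_mem γ hx))))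
        (Subgroup.Normal.conj_mem inferInstance x (subset_hSub E p (hUT hx)) h)
      have hfix : ∀ r ∈ R, c * r * c⁻¹ = r := by
        intro r hr
        obtain ⟨r₀, hr₀, rfl⟩ : ∃ r₀ ∈ R, autFun γ r₀ = r :=
          (hγm.mono hRU).mem_img.1 (himgR.ge hr)
        have h1 := hhγ _ (hRn x r₀ hr₀)
        rw [hγm.map_conj hx (hRU hr₀), ← hhγ _ hr₀] at h1
        calc c * autFun γ r₀ * c⁻¹
            = (autFun γ x)⁻¹ * (h * x * h⁻¹) * autFun γ r₀ * (h * x * h⁻¹)⁻¹ * autFun γ x := by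
              rw [hc]; group
          _ = (autFun γ x)⁻¹ * (h * (x * r₀ * x⁻¹) * h⁻¹) * autFun γ x := by rw [← hhγ _ hr₀]; group
          _ = autFun γ r₀ := by rw [h1, ← hhγ _ hr₀]; group
      have hcR := fix_mem hE hG hcH hfix
      refine ⟨?_, hcR, fun r hr => mul_inv_eq_iff_eq_mul.1 (hfix r hr)⟩
      rw [show h * x * h⁻¹ = autFun γ x * c by rw [hc]; group]
      exact mul_mem (autFun_mem γ hx) (hRU hcR)
    have hhn : h ∈ Subgroup.normalizer (U : Set G) :=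
      conjBy_eq_iff.1 (conjBy_eq_of_le (conjBy_le_iff.2 fun x hx => (hhU x hx).1))
    set β := conjAut h hhn with hβ
    set δ := γ⁻¹ * β with hδ
    have hδ1 : ∀ x ∈ U, ∃ z ∈ R, autFun δ x = x * z := by
      intro x hx
      obtain ⟨-, hcR, -⟩ := hhU x hx
      obtain ⟨z, hz, hze⟩ := (hγm.mono hRU).mem_img.1 (himgR.ge hcR)
      refine ⟨z, hz, ?_⟩
      have e : autFun β x = autFun γ (x * z) := by
        rw [hγm.map_mul hx (hRU hz), hze, hβ, autFun_conjAut hhn hx]; group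
      rw [hδ, autFun_mul _ _ hx, e, ← autFun_mul _ _ (mul_mem hx (hRU hz)), inv_mul_cancel,
        autFun_one (mul_mem hx (hRU hz))]
    have hδR : ∀ x ∈ R, autFun δ x = x := fun x hx => by
      rw [hδ, autFun_mul _ _ (hRU hx), hβ, autFun_conjAut hhn (hRU hx), hhγ x hx,
        ← autFun_mul _ _ (hRU hx), inv_mul_cancel, autFun_one (hRU hx)]
    obtain ⟨e, he⟩ := IsPGroup.iff_card.1 hTp
    have hδp : δ ^ p ^ e = 1 := autFun_ext fun x hx => by
      obtain ⟨z, hz, hzx⟩ := hδ1 x hx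
      have hit : ∀ n : ℕ, autFun (δ ^ n) x = x * z ^ n := by
        intro n
        induction n with
        | zero => rw [pow_zero, autFun_one hx, pow_zero, mul_one]
        | succ n ih =>
          rw [pow_succ', autFun_mul _ _ hx, ih, autFun_map_mul δ hx (pow_mem (hRU hz) n), hzx,
            hδR _ (pow_mem hz n), mul_assoc, ← pow_succ']
      have hz1 : z ^ p ^ e = 1 := by
        have := congrArg Subtype.val (pow_card_eq_one' (x := (⟨z, hz.2⟩ : T)))
        rwa [he] at this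
      rw [hit, hz1, mul_one, autFun_one hx]
    have hβN : β ∈ N := conjAut_mem hh hhn
    have hnorm : ∀ η ∈ E.autGroup U, ∀ ν ∈ N, η * ν * η⁻¹ ∈ N := by
      intro η hη ν hν
      obtain ⟨-, a, ha⟩ := isMap_group_iff.1 (map_group hE ((mem_autGroup_iff hUT).1 hη))
      obtain ⟨b, hb, hbe⟩ := mem_autInducedBy_iff.1 hν
      refine mem_autInducedBy_iff.2 ⟨a * b * a⁻¹, Subgroup.Normal.conj_mem inferInstance b hb a, fun x hx => ?_⟩
      obtain ⟨y, hy, rfl⟩ := ((mem_autGroup_iff hUT).1 hη).mem_img.1 ((img_autFun η).ge hx)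
      rw [← autFun_mul _ _ hy, inv_mul_cancel_right, autFun_mul _ _ hy, (ha _ (autFun_mem ν hy)).2, hbe y hy,
        (ha y hy).2]
      group
    -- modulo `N`, `γ` is the inverse of an element of `p`-power order
    have hpow : ∀ n : ℕ, γ ^ n * δ ^ n ∈ N → γ ^ (n + 1) * δ ^ (n + 1) ∈ N := fun n hn => by
      have h1 : γ * δ ∈ N := by rwa [hδ, mul_inv_cancel_left]
      have h2 := hnorm γ hγ _ hn
      rw [show γ ^ (n + 1) * δ ^ (n + 1) = (γ * (γ ^ n * δ ^ n) * γ⁻¹) * (γ * δ) by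
        rw [pow_succ' γ, pow_succ δ]; group]
      exact N.mul_mem h2 h1
    have hall : ∀ n : ℕ, γ ^ n * δ ^ n ∈ N := fun n => by
      induction n with
      | zero => simp
      | succ n ih => exact hpow n ih
    have h1 := hall (p ^ e)
    rw [hδp, mul_one] at h1
    exact mem_of_pow_coprime (Nat.Coprime.pow_right e hord) (by rw [pow_orderOf_eq_one]; exact one_mem N) h1
  -- `N` contains the elements of order prime to `p` and the Sylow subgroup
  have hi := ((isFullyAutomized_iff hTp).1 (IsSaturated.automized_receptive hTp hE.1.1 hU).1).2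
  set M := N ⊓ E.autGroup U with hM
  have hAM : autInducedBy T U ≤ M := le_inf (fun a ha => by
    obtain ⟨s, hs, hsa⟩ := mem_autInducedBy_iff.1 ha
    exact mem_autInducedBy_iff.2 ⟨s, subset_hSub E p hs, hsa⟩) (autInducedBy_le_autGroup hUT)
  obtain ⟨i, j, e, hij, hi', hj⟩ := exists_decomp (p := p) α
  rw [hij]
  refine N.mul_mem ?_ (hkey _ (pow_mem hα j) hj)
  obtain ⟨δ, hδ, hδA⟩ := exists_conj_le_of_not_dvd_relIndex (isPGroup_autInducedBy hTp)
    (autInducedBy_le_autGroup hUT) hi (isPGroup_zpowers_of_pow hi') (Subgroup.zpowers_le.2 (pow_mem hα i))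
  have h1 : δ * α ^ i * δ⁻¹ ∈ N := (hAM (hδA (conj_mem_conjBy (Subgroup.mem_zpowers _)))).1
  obtain ⟨-, a, ha⟩ := isMap_group_iff.1 (map_group hE ((mem_autGroup_iff hUT).1 hδ))
  obtain ⟨b, hb, hbe⟩ := mem_autInducedBy_iff.1 h1
  refine mem_autInducedBy_iff.2 ⟨a⁻¹ * b * a⁻¹⁻¹, Subgroup.Normal.conj_mem inferInstance b hb a⁻¹, fun x hx => ?_⟩
  have h2 := hbe _ (autFun_mem δ hx)
  rw [← autFun_mul _ _ hx, inv_mul_cancel_right, autFun_mul _ _ hx, (ha _ (autFun_mem _ hx)).2, (ha x hx).2] at h2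
  calc autFun (α ^ i) x = a⁻¹ * (a * autFun (α ^ i) x * a⁻¹) * a := by group
    _ = _ := by rw [h2]; group

theorem isMap_hSys_iff {P : Subgroup G} {f : G → G} : IsMap E P f ↔ IsMap (hSys E p) P f := by
  have hTsc := sc hE
  have hTp : IsPGroup p T := S.2.to_le hTsc.1
  haveI := hSub_normal hE
  set R := Cfsg.pCore p G ⊓ T with hR
  have hfwd : ∀ {Q : Subgroup G} {f : G → G}, IsMap E Q f → IsMap (hSys E p) Q f := fun hf => by
    refine isMap_of_autGroup_le hTp hE.1.1 (fun U hU => ?_) hf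
    rcases hU with rfl | hU
    · exact autGroup_le_hSys hE hG isFullyNormalized_self inf_le_right
    · obtain ⟨hc, hr⟩ := isEssential_centric_radical hTp hU
      exact autGroup_le_hSys hE hG hU.2.1 (le_of_isNormal hTp (isNormal_inf hE) hc hr)
  refine ⟨hfwd, fun hf => ?_⟩
  obtain ⟨hP, h, hh, hhf⟩ := isMap_subgroup_iff.1 hf
  refine IsMap.congr ?_ (fun x hx => (hhf x hx).2)
  have hR' := IsSaturated.automized_receptive hTp hE.1.1 (isFullyNormalized_of_isNormal (isNormal_inf hE))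
  have hm := (inK_of_mem hE hh).2
  obtain ⟨ψ, hψ, hψe⟩ := (isReceptive_iff.1 hR'.2).2 R _ hm
    (img_eq_of_map_le inf_le_right hm le_rfl fun x hx => conj_mem_inf hTsc h hx)
  set U := P ⊔ R with hU
  have hPext : U ≤ extSub T R (fun x => h * x * h⁻¹) := sup_le (fun x hx => ⟨⟨hP hx,
    (le_normalizerIn_of_stronglyClosed (stronglyClosed_of_isNormal (isNormal_inf hE)) (hP hx)).2⟩,
    h * x * h⁻¹, (hhf x hx).1, fun y _ => by group⟩) (le_extSub hm)
  have hψU := hψ.mono hPext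
  have h0 : IsMap (fusionSystemOfSubgroup (hSub E p) T (subset_hSub E p)) U ψ := hfwd hψU
  obtain ⟨-, h', hh', hψh⟩ := isMap_subgroup_iff.1 h0
  have hz : h'⁻¹ * h ∈ R := fix_mem hE hG (Subgroup.mul_mem _ (Subgroup.inv_mem _ hh') hh) fun x hx => by
    have h1 := hψe x hx
    rw [(hψh x (Subgroup.mem_sup_right hx)).2] at h1
    calc h'⁻¹ * h * x * (h'⁻¹ * h)⁻¹ = h'⁻¹ * (h * x * h⁻¹) * h' := by group
      _ = x := by rw [← h1]; group
  have hUT : U ≤ T := sup_le hP inf_le_right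
  have hconjU : ∀ x ∈ P, h'⁻¹ * h * x * (h'⁻¹ * h)⁻¹ ∈ U := fun x hx =>
    mul_mem (mul_mem (Subgroup.mem_sup_right hz) (Subgroup.mem_sup_left hx))
      (inv_mem (Subgroup.mem_sup_right hz))
  refine ((isMap_conj hP hz.2).comp hψU hconjU).congr fun x hx => ?_
  show h * x * h⁻¹ = ψ (h'⁻¹ * h * x * (h'⁻¹ * h)⁻¹)
  rw [(hψh _ (hconjU x hx)).2]
  group

omit hG in
theorem hom_eq_of_isMap_iff {E₁ E₂ : FusionSystem T}
    (h : ∀ {P : Subgroup G} {f : G → G}, IsMap E₁ P f ↔ IsMap E₂ P f) (P : Subgroup G) :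
    E₁.Hom P = E₂.Hom P :=
  Set.ext fun φ => by rw [mem_hom_iff, mem_hom_iff]; exact h

/-- existence and uniqueness -/
theorem exists_unique_normal : ∃ H : Subgroup G,
    (∃ hTH : T ≤ H, H.Normal ∧ (∃ R : Sylow p H, (R : Subgroup H) = T.subgroupOf H) ∧
      ∀ P : Subgroup G, E.Hom P = (fusionSystemOfSubgroup H T hTH).Hom P) ∧
    ∀ H' : Subgroup G, (∃ hTH' : T ≤ H', H'.Normal ∧ (∃ R : Sylow p H', (R : Subgroup H') = T.subgroupOf H') ∧
      ∀ P : Subgroup G, E.Hom P = (fusionSystemOfSubgroup H' T hTH').Hom P) → H' = H := by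
  have hTsc := sc hE
  have hTp : IsPGroup p T := S.2.to_le hTsc.1
  haveI := hSub_normal hE
  refine ⟨hSub E p, ⟨subset_hSub E p, hSub_normal hE,
    (exists_sylow_eq_subgroupOf_iff hTp (subset_hSub E p)).2 (not_dvd_relIndex_hSub hE hG),
    hom_eq_of_isMap_iff hE (fun {P f} => isMap_hSys_iff hE hG)⟩, ?_⟩
  rintro H' ⟨hTH', hn, hR', heq⟩
  haveI := hn
  have hi := (exists_sylow_eq_subgroupOf_iff hTp hTH').1 hR'
  have hSH : (S : Subgroup G) ⊓ H' = T :=
    eq_of_le_of_isPGroup_of_not_dvd_relIndex (S.2.to_le inf_le_left) (le_inf hTsc.1 hTH') inf_le_right hi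
  have heq' : ∀ {P : Subgroup G} {f : G → G}, IsMap E P f ↔
      IsMap (fusionSystemOfSubgroup H' T hTH') P f := fun {P f} => by
    constructor <;> rintro ⟨φ, hφ, he⟩
    · exact ⟨φ, heq P ▸ hφ, he⟩
    · exact ⟨φ, (heq P).symm ▸ hφ, he⟩
  set R := Cfsg.pCore p G ⊓ T with hR
  have hH'K : ∀ h ∈ H', InK E p h := fun h hh => by
    refine ⟨fun q hq => hSH.le ⟨pCore_le S (mul_mem (conj_mem_core h hq) ((Cfsg.pCore p G).inv_mem hq)), ?_⟩, ?_⟩
    · rw [show h * q * h⁻¹ * q⁻¹ = h * (q * h⁻¹ * q⁻¹) by group]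
      exact H'.mul_mem hh (hn.conj_mem _ (H'.inv_mem hh) q)
    · exact heq'.2 (isMap_subgroup_iff.2 ⟨inf_le_right, h, hh, fun x hx => ⟨(conj_mem_inf hTsc h hx).2, rfl⟩⟩)
  refine le_antisymm (fun h hh => ?_) fun h hh => ?_
  · obtain ⟨i, j, e, hij, hi', hj⟩ := exists_decomp (p := p) h
    rw [hij]
    refine Subgroup.mul_mem _ ?_ (Subgroup.subset_closure (Or.inl ⟨hH'K _ (H'.pow_mem hh j), hj⟩))
    obtain ⟨k, hk, hkT⟩ := exists_conj_le_of_not_dvd_relIndex hTp hTH' hi (isPGroup_zpowers_of_pow hi')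
      (Subgroup.zpowers_le.2 (H'.pow_mem hh i))
    exact Subgroup.subset_closure (Or.inr ⟨k⁻¹, _, hkT (conj_mem_conjBy (Subgroup.mem_zpowers _)), by group⟩)
  · obtain ⟨-, h', hh', he⟩ := isMap_subgroup_iff.1 (heq'.1 (inK_of_mem hE hh).2)
    have hK : InK E p (h'⁻¹ * h) := inK_mul hE (inK_inv hE (hH'K h' hh')) (inK_of_mem hE hh)
    have hz : h'⁻¹ * h ∈ Cfsg.pCore p G := mem_core_of_fix hE hG hK fun x hx => by
      calc h'⁻¹ * h * x * (h'⁻¹ * h)⁻¹ = h'⁻¹ * (h * x * h⁻¹) * h' := by group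
        _ = x := by rw [(he x hx).2]; group
    have h1 : h'⁻¹ * h ∈ hSub E p := by
      refine Subgroup.mul_mem _ (Subgroup.inv_mem _ ?_) hh
      obtain ⟨i, j, e, hij, hi', hj⟩ := exists_decomp (p := p) h'
      rw [hij]
      refine Subgroup.mul_mem _ ?_ (Subgroup.subset_closure (Or.inl ⟨hH'K _ (H'.pow_mem hh' j), hj⟩))
      obtain ⟨k, hk, hkT⟩ := exists_conj_le_of_not_dvd_relIndex hTp hTH' hi (isPGroup_zpowers_of_pow hi')
        (Subgroup.zpowers_le.2 (H'.pow_mem hh' i))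
      exact Subgroup.subset_closure (Or.inr ⟨k⁻¹, _, hkT (conj_mem_conjBy (Subgroup.mem_zpowers _)), by group⟩)
    have h2 : h'⁻¹ * h ∈ T := (inf_hSub hE hG).le ⟨pCore_le S hz, h1⟩
    have h3 := H'.mul_mem hh' (hTH' h2)
    rwa [mul_inv_cancel_left] at h3

end CfsgLib.Fusion.ConstrainedNormalSub
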