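import Cfsg.Agent.Lib.Fusion.System.PPowerNormal
import Cfsg.Agent.Lib.Fusion.System.StrongInvariance

/-!
# Normality is passed down through automorphism invariant subsystems

If `D` is normal in `F` over `U` and `D₀` is normal in `D` and invariant under `Aut_F(U)`, then
`D₀` is normal in `F` as soon as its subgroup contains its centralizer in `S`.
-/

set_option autoImplicit false
set_option linter.style.haveILetI false
set_option linter.unusedSectionVars false

open Subgroup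
open scoped Classical

namespace CfsgLib.Fusion

open Cfsg (FusionSystem autInducedBy)
open Cfsg.FusionSystem (normalizerIn centralizerIn)

universe u

variable {Ω : Type u} [Group Ω] {S U V T : Subgroup Ω} {F : FusionSystem S} {D : FusionSystem U}
  {D₀ : FusionSystem V} {p : ℕ} {P Q R : Subgroup Ω} {f g : Ω → Ω}

theorem IsMap.ofSubsystem (h : D.IsSubsystemOf F) (hf : IsMap D P f) : IsMap F P f :=
  let ⟨φ, hφ, hφf⟩ := hf; ⟨φ, h P hφ, hφf⟩

theorem autGroup_le_ofSubsystem (h : D.IsSubsystemOf F) (hPU : P ≤ U) (hPS : P ≤ S) :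
    D.autGroup P ≤ F.autGroup P := fun _ hα =>
  (mem_autGroup_iff hPS).2 (((mem_autGroup_iff hPU).1 hα).ofSubsystem h)

theorem le_of_isSubsystemOf (h : D.IsSubsystemOf F) : U ≤ S :=
  ((isMap_id (F := D) le_rfl).ofSubsystem h).le

/-- `D₀` is invariant under the automorphisms of `U` in `F`. -/
def AutInv (F : FusionSystem S) (U : Subgroup Ω) (D₀ : FusionSystem V) : Prop :=
  ∀ a ∈ F.autGroup U, ∀ (P : Subgroup Ω) (f : Ω → Ω), IsMap D₀ P f →
    ∃ k, IsMap D₀ (img P (autFun a)) k ∧ ∀ x ∈ P, k (autFun a x) = autFun a (f x)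

theorem AutInv.map_mem (h : AutInv F U D₀) (hUS : U ≤ S) (hVU : V ≤ U) {a : MulAut U}
    (ha : a ∈ F.autGroup U) {x : Ω} (hx : x ∈ V) : autFun a x ∈ V := by
  obtain ⟨k, hk, -⟩ := h a ha V id (isMap_id le_rfl)
  exact hk.le (((isMap_autFun_of_mem hUS ha).mono hVU).mem_img.2 ⟨x, hx, rfl⟩)

theorem StrongInv.autInv (h : StrongInv D F) (hUS : U ≤ S) : AutInv F U D :=
  fun _ ha _ _ hf => h.transport hUS ha hf

theorem StrongInv.restrict {S' : Subgroup Ω} {F' : FusionSystem S'} (h : StrongInv D F)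
    (hsub : F'.IsSubsystemOf F) : StrongInv D F' :=
  fun P Q f g hPQ hQ hf hfQ hg => h P Q f g hPQ hQ hf hfQ (hg.ofSubsystem hsub)

/-- Chains are transported by automorphisms. -/
theorem Chain.transport (h : StrongInv D F) (hUS : U ≤ S) {a : MulAut U} (ha : a ∈ F.autGroup U)
    {g' : Ω} (hc : Chain D p P f g') :
    Chain D p (img P (autFun a)) (autFun a ∘ (f ∘ autFun a⁻¹)) (autFun a g') := by
  have hm := isMap_autFun_of_mem (F := F) hUS ha
  induction hc with
  | @conj P s hP hs =>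
    refine (Chain.conj ((hm.mono hP).img_le_of_forall fun x hx => autFun_mem a (hP hx))
      (autFun_mem a hs)).congr fun y hy => ?_
    obtain ⟨x, hx, rfl⟩ := (hm.mono hP).mem_img.1 hy
    show autFun a (s * autFun a⁻¹ (autFun a x) * s⁻¹) = _
    rw [autFun_map_inv a (hP hx), hm.map_conj hs (hP hx)]
  | @aut P R hR α hα hPR =>
    have hmR := hm.mono hR
    have hR' : img R (autFun a) ≤ U := hmR.img_le_of_forall fun x hx => autFun_mem a (hR hx)
    set β := MulAut.congr (mapEquiv hmR) (α : MulAut R) with hβ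
    have hβm : β ∈ D.autGroup (img R (autFun a)) := by
      obtain ⟨k, hk, hka⟩ := h.transport hUS ha ((mem_autGroup_iff hR).1 α.2)
      refine (mem_autGroup_iff hR').2 (hk.congr fun y hy => ?_)
      obtain ⟨x, hx, rfl⟩ := hmR.mem_img.1 hy
      rw [hka x hx, hβ, autFun_congr hmR _ hx]
    have hord : orderOf (⟨β, hβm⟩ : D.autGroup (img R (autFun a))) = orderOf α := by
      rw [Subgroup.orderOf_mk, hβ, MulEquiv.orderOf_eq, Subgroup.orderOf_coe]
    have hβc := Chain.aut (p := p) hR' (α := ⟨β, hβm⟩) (hord ▸ hα) (hmR.img_mono hPR)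
    rw [show autFun a 1 = 1 from hm.map_one]
    refine hβc.congr fun y hy => ?_
    obtain ⟨x, hx, rfl⟩ := (hmR.mono hPR).mem_img.1 hy
    show autFun a (autFun (α : MulAut R) (autFun a⁻¹ (autFun a x))) = autFun β (autFun a x)
    rw [autFun_map_inv a (hR (hPR hx)), hβ, autFun_congr hmR _ (hPR hx)]
  | @comp P Q f f' g₁ g₂ h1 h2 hfQ ih ih' =>
    rw [hm.map_mul h2.mem_S h1.mem_S]
    refine (ih.comp ih' fun y hy => ?_).congr fun y hy => ?_
    all_goals obtain ⟨x, hx, rfl⟩ := (hm.mono h1.isMap.le).mem_img.1 hy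
    · show autFun a (f (autFun a⁻¹ (autFun a x))) ∈ _
      rw [autFun_map_inv a (h1.isMap.le hx)]
      exact (hm.mono h2.isMap.le).mem_img.2 ⟨_, hfQ x hx, rfl⟩
    · show autFun a (f' (f (autFun a⁻¹ (autFun a x)))) =
        autFun a (f' (autFun a⁻¹ (autFun a (f (autFun a⁻¹ (autFun a x))))))
      rw [autFun_map_inv a (h1.isMap.le hx), autFun_map_inv a (h2.isMap.le (hfQ x hx))]
  | @congr P f f' g₁ h1 he ih =>
    refine ih.congr fun y hy => ?_
    obtain ⟨x, hx, rfl⟩ := (hm.mono h1.isMap.le).mem_img.1 hy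
    show autFun a (f' (autFun a⁻¹ (autFun a x))) = autFun a (f (autFun a⁻¹ (autFun a x)))
    rw [autFun_map_inv a (h1.isMap.le hx), he x hx]

/-- The subsystem of `p`-power index over an invariant subgroup is invariant. -/
theorem autInv_pSystem (h : StrongInv D F) (hUS : U ≤ S) {hVU : V ≤ U}
    {hV : D.hyperfocalSubgroup p ≤ V}
    (ha : ∀ a ∈ F.autGroup U, ∀ x ∈ V, autFun a x ∈ V) :
    AutInv F U (pSystem D p V hVU hV) := by
  intro a haF P f hf
  obtain ⟨hP, g', hg', hc⟩ := isMap_pSystem_iff.1 hf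
  have hm := isMap_autFun_of_mem (F := F) hUS haF
  refine ⟨autFun a ∘ (f ∘ autFun a⁻¹), isMap_pSystem_iff.2 ⟨?_, autFun a g', ha a haF g' hg',
    hc.transport h hUS haF⟩, fun x hx => ?_⟩
  · exact (hm.mono (hP.trans hVU)).img_le_of_forall fun x hx => ha a haF x (hP hx)
  · show autFun a (f (autFun a⁻¹ (autFun a x))) = _
    rw [autFun_map_inv a (hVU (hP hx))]

variable [Finite S] [Fact p.Prime]

/-- Strong invariance is passed down through automorphism invariant subsystems. -/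
theorem strongInv_of_autInv (hS : IsPGroup p S) (hF : F.IsSaturated p)
    (hD : D.IsInvariantIn F) (hVU : V ≤ U) (h₀ : StrongInv D₀ D) (hA : AutInv F U D₀) :
    StrongInv D₀ F := by
  obtain ⟨hsub, hU, -, -⟩ := id hD
  have hinv := (isInvariantIn_iff_strongInv hS hF hsub hU).1 hD
  intro P Q f g hPQ hQV hf hfQ hg
  obtain ⟨α, hα, g₀, hg₀, hge⟩ := decomp_of_strongInv hS hF hU hsub hinv hg (hQV.trans hVU)
  obtain ⟨h₁, hh₁, he₁⟩ := h₀ P Q f g₀ hPQ hQV hf hfQ hg₀
  obtain ⟨k, hk, hke⟩ := hA α hα _ _ hh₁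
  have himg : img (img P g₀) (autFun α) = img P g := by
    rw [img_img (hg₀.mono hPQ)]
    exact IsMap.img_congr fun x hx => (hge x (hPQ hx)).symm
  refine ⟨k, himg ▸ hk, fun x hx => ?_⟩
  rw [hge x (hPQ hx), hke _ ((hg₀.mono hPQ).mem_img.2 ⟨x, hx, rfl⟩), he₁ x hx,
    hge _ (hfQ x hx)]

theorem stronglyClosed_of_autInv (hS : IsPGroup p S) (hF : F.IsSaturated p)
    (hD : D.IsInvariantIn F) (hV : D.StronglyClosed V) (hA : AutInv F U D₀) :
    F.StronglyClosed V := by
  obtain ⟨hsub, hU, -, -⟩ := id hD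
  have hinv := (isInvariantIn_iff_strongInv hS hF hsub hU).1 hD
  refine stronglyClosed_iff.2 ⟨hV.1.trans hU.1, fun R f hR hf x hx => ?_⟩
  obtain ⟨α, hα, f₀, hf₀, hfe⟩ := decomp_of_strongInv hS hF hU hsub hinv hf (hR.trans hV.1)
  rw [hfe x hx]
  exact hA.map_mem hU.1 hV.1 hα ((stronglyClosed_iff.1 hV).2 R f₀ hR hf₀ x hx)

omit [Fact p.Prime] in
/-- The extension condition holds trivially for subgroups containing their centralizer. -/
theorem exists_ext_of_centralizer_le (hVS : V ≤ S) (hC : centralizerIn S V ≤ V) {α : MulAut V}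
    (hα : α ∈ F.autGroup V) : ∃ β ∈ F.autGroup (V ⊔ centralizerIn S V),
      (∀ x : V, ((β (Subgroup.inclusion le_sup_left x) : ↥(V ⊔ centralizerIn S V)) : Ω) =
        ((α x : V) : Ω)) ∧
      ∀ c : ↥(V ⊔ centralizerIn S V), (c : Ω) ∈ centralizerIn S V →
        (c : Ω)⁻¹ * ((β c : ↥(V ⊔ centralizerIn S V)) : Ω) ∈
          V ⊓ Subgroup.centralizer (V : Set Ω) := by
  have hm := (mem_autGroup_iff hVS).1 hα
  set W := V ⊔ centralizerIn S V with hW
  have hWV : W = V := sup_eq_left.2 hC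
  have hmW : IsMap F W (autFun α) := hm.mono hWV.le
  have hiW : img W (autFun α) = W := img_eq_of_map_le (hWV.le.trans hVS) hmW le_rfl
    fun y hy => hWV.ge (autFun_mem α (hWV.le hy))
  refine ⟨autOf hmW hiW, autOf_mem hmW hiW, fun x => ?_, fun c hc => ?_⟩
  · rw [← autFun_coe, Subgroup.coe_inclusion, autFun_autOf hmW hiW (hWV.ge x.2), ← autFun_coe]
  · rw [← autFun_coe, autFun_autOf hmW hiW c.2]
    have h1 := map_mem_centralizerIn hm le_rfl (hC hc) hc.2
    rw [img_autFun] at h1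
    exact Subgroup.mem_inf.2 ⟨mul_mem (inv_mem (hC hc)) (autFun_mem α (hC hc)),
      Subgroup.mul_mem _ (Subgroup.inv_mem _ hc.2) h1.2⟩

/-- Normality is passed down. -/
theorem isNormalIn_of_autInv (hS : IsPGroup p S) (hF : F.IsSaturated p) (hD : D.IsNormalIn F p)
    (h₀ : D₀.IsNormalIn D p) (hA : AutInv F U D₀) (hC : centralizerIn S V ≤ V) :
    D₀.IsNormalIn F p := by
  obtain ⟨⟨-, -, hDi⟩, -⟩ := hD
  obtain ⟨⟨hs₀, hDs, h₀i⟩, -⟩ := h₀
  obtain ⟨hsub, hU, -, -⟩ := id hDi
  obtain ⟨hsub₀, hV, -, -⟩ := id h₀i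
  have hUS := hU.1
  haveI := finite_of_le hUS
  have hVS : V ≤ S := hV.1.trans hUS
  have hVF := stronglyClosed_of_autInv hS hF hDi hV hA
  have hsubF : D₀.IsSubsystemOf F := fun P φ hφ => hsub P (hsub₀ P hφ)
  refine ⟨⟨hs₀, hF, (isInvariantIn_iff_strongInv hS hF hsubF hVF).2
    (strongInv_of_autInv hS hF hDi hV.1
      ((isInvariantIn_iff_strongInv (hS.to_le hUS) hDs hsub₀ hV).1 h₀i) hA)⟩, fun α hα => ?_⟩
  exact exists_ext_of_centralizer_le hVS hC (autGroup_le_ofSubsystem hsubF le_rfl hVS hα)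

/-- An invariant subsystem of `F` inside an intermediate system is invariant there. -/
theorem isInvariantIn_of_between {E : FusionSystem T} (hS : IsPGroup p S) (hF : F.IsSaturated p)
    (hDs : D.IsSaturated p) (hDF : D.IsSubsystemOf F) (hE : E.IsInvariantIn F)
    (hED : E.IsSubsystemOf D) : E.IsInvariantIn D := by
  obtain ⟨hsub, hT, -, -⟩ := id hE
  have hUS := le_of_isSubsystemOf hDF
  haveI := finite_of_le hUS
  have hTD : D.StronglyClosed T := stronglyClosed_iff.2
    ⟨le_of_isSubsystemOf hED, fun R f hR hf x hx =>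
      (stronglyClosed_iff.1 hT).2 R f hR (hf.ofSubsystem hDF) x hx⟩
  exact (isInvariantIn_iff_strongInv (hS.to_le hUS) hDs hED hTD).2
    (((isInvariantIn_iff_strongInv hS hF hsub hT).1 hE).restrict hDF)

end CfsgLib.Fusion
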