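import Cfsg.Agent.Lib.Fusion.System.CentralizerSubgroup
import Cfsg.Agent.Lib.Fusion.System.NormalTransfer

/-!
# A normal subsystem inside `C_F(T)`

For a strongly closed `T` and a strongly closed subgroup `Y` of `C_S(T)` containing the focal
subgroup of `C_F(T)` there is a normal subsystem over `Y` all of whose maps fix `T`.
-/

set_option autoImplicit false
set_option maxHeartbeats 1000000
set_option linter.style.haveILetI false
set_option linter.unusedSectionVars false

open Subgroup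
open scoped Classical

namespace CfsgLib.Fusion.CentFocal

open Cfsg (FusionSystem autInducedBy)
open Cfsg.FusionSystem (normalizerIn centralizerIn)
open CfsgLib.Fusion
open CfsgLib.Fusion.Envelope (HasExt)

universe u

variable {Ω : Type u} [Group Ω] {S T Y : Subgroup Ω} {F : FusionSystem S} {p : ℕ}
  {Q : Subgroup Ω} {g : Ω → Ω} [Finite S] [Fact p.Prime]

/-- A map between subgroups centralizing `T` extends to a map carrying `T` onto itself. -/
theorem exists_ext_fix_top (hS : IsPGroup p S) (hF : F.IsSaturated p) (hT : F.StronglyClosed T)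
    (hQ : Q ≤ centralizerIn S T) (hg : IsMap F Q g) (hgC : ∀ x ∈ Q, g x ∈ centralizerIn S T) :
    ∃ g₁, IsMap F (Q ⊔ T) g₁ ∧ (∀ x ∈ Q, g₁ x = g x) ∧ img T g₁ = T := by
  have hTS := hT.1
  set U := img Q g with hU
  have hUC : U ≤ centralizerIn S T := hg.img_le_of_forall hgC
  obtain ⟨R, hR, hRn⟩ := exists_fullyNormalized (F := F) hg.img_le
  obtain ⟨θ, hθ, hθR⟩ := isConj_iff.1 hR
  obtain ⟨-, hrec⟩ := IsSaturated.automized_receptive hS hF hRn
  obtain ⟨θ₁, hθ₁, hθ₁e⟩ := (isReceptive_iff.1 hrec).2 U θ hθ hθR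
  have hθ₁' := hθ₁.mono (show U ⊔ T ≤ extSub S U θ from sup_le (le_extSub hθ)
    ((le_centralizerIn_of_le hTS hUC).trans centralizerIn_le_extSub))
  have hθg : IsMap F Q (θ ∘ g) := hg.comp hθ fun x hx => hg.mem_img.2 ⟨x, hx, rfl⟩
  obtain ⟨k, hk, hke⟩ := (isReceptive_iff.1 hrec).2 Q _ hθg (by rw [← img_img hg]; exact hθR)
  have hk' := hk.mono (show Q ⊔ T ≤ extSub S Q (θ ∘ g) from sup_le (le_extSub hθg)
    ((le_centralizerIn_of_le hTS hQ).trans centralizerIn_le_extSub))
  have hfix : ∀ {A : Subgroup Ω} {f : Ω → Ω}, IsMap F (A ⊔ T) f → img T f = T := fun hf =>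
    img_eq_of_map_le hTS hf le_sup_right fun t ht =>
      (stronglyClosed_iff.1 hT).2 T _ le_rfl (hf.mono le_sup_right) t ht
  obtain ⟨θ₂, hθ₂, hθ₂1, hθ₂2⟩ := hθ₁'.exists_inv
  have hkW : ∀ z ∈ Q ⊔ T, k z ∈ img (U ⊔ T) θ₁ := fun z hz =>
    hk'.map_mem_of_sup (fun x hx => hθ₁'.mem_img.2 ⟨g x,
      Subgroup.mem_sup_left (hg.mem_img.2 ⟨x, hx, rfl⟩),
      (hθ₁e _ (hg.mem_img.2 ⟨x, hx, rfl⟩)).trans (hke x hx).symm⟩)
      (fun t ht => by
        have h1 : k t ∈ img T θ₁ := by
          rw [hfix hθ₁', ← hfix hk']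
          exact (hk'.mono le_sup_right).mem_img.2 ⟨t, ht, rfl⟩
        exact hθ₁'.img_mono le_sup_right h1) hz
  have hg₁ : IsMap F (Q ⊔ T) (θ₂ ∘ k) := hk'.comp hθ₂ hkW
  refine ⟨θ₂ ∘ k, hg₁, fun x hx => ?_, hfix hg₁⟩
  show θ₂ (k x) = g x
  have hxU : g x ∈ U := hg.mem_img.2 ⟨x, hx, rfl⟩
  rw [hke x hx, show (θ ∘ g) x = θ₁ (g x) from (hθ₁e _ hxU).symm,
    hθ₂1 _ (Subgroup.mem_sup_left hxU)]

theorem isSaturated_nSystem (hS : IsPGroup p S) (hF : F.IsSaturated p)
    (hT : F.IsFullyNormalized T) : ∀ {S₀ : Subgroup Ω}, S₀ = normalizerIn S T →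
      ∀ (h : S₀ ≤ normalizerIn S T), (nSystem F S₀ T h hT.1).IsSaturated p := by
  rintro S₀ rfl h
  exact isSaturated_normalizerSystem hS hF hT fun P => Set.ext fun φ => by
    rw [mem_hom_iff, mem_normalizerHom_iff]
    exact isMap_nSystem_iff

/-- Strongly closed subgroups of `C_S(T)` containing the focal subgroup of `C_F(T)` carry a
normal subsystem fixing `T`. -/
theorem exists_normal_of_focal_le (hS : IsPGroup p S) (hF : F.IsSaturated p)
    (hT : F.StronglyClosed T) (hYC : Y ≤ centralizerIn S T) (hY : F.StronglyClosed Y)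
    (hfoc : focal F T ≤ Y) :
    ∃ D : FusionSystem Y, D.IsNormalIn F p ∧ ∀ P : Subgroup Ω, D.Hom P ⊆ F.centralizerHom T P := by
  have hTS := hT.1
  have hYS := hY.1
  haveI : Finite Y := finite_of_le hYS
  have hn : S ≤ normalizerIn S T := le_normalizerIn_of_stronglyClosed hT
  set F' := nSystem F S T hn hTS with hF'
  have hF's : F'.IsSaturated p := isSaturated_nSystem hS hF
    (Envelope.isFullyNormalized_of_normalized hTS (hn.trans inf_le_right))
    (le_antisymm hn inf_le_left) hn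
  have hTn : F'.IsNormal T := isNormal_iff.2 ⟨hTS, fun P f hf => by
    obtain ⟨h1, h2, g, hg, hgf, hgT⟩ := isMap_nSystem_iff.1 hf
    exact ⟨g, isMap_nSystem_iff.2 ⟨hg.le, fun x hx => hg.mem_S hx, g,
      hg.mono (sup_le le_rfl le_sup_right), fun _ _ => rfl, hgT⟩, hgf, hgT⟩⟩
  set C := centralizerIn S T with hC
  have hCS : C ≤ S := inf_le_left
  haveI : Finite C := finite_of_le hCS
  set G := Components.cSys F' T hTn.1 with hGdef
  have hwn : G.IsWeaklyNormalIn F' p := Components.cSys_isWeaklyNormalIn hS hF's hTn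
  obtain ⟨hGs, -, hGi⟩ := id hwn
  have hGc : ∀ {P : Subgroup Ω} {f : Ω → Ω}, IsMap G P f → CMap F C T P f := by
    intro P f hf
    obtain ⟨h1, h2, g, hg, hgf, hgT⟩ := isMap_cSystem_iff.1 hf
    exact ⟨h1, h2, g, (isMap_nSystem_iff.1 hg).isMap, hgf, hgT⟩
  have hGF : G.IsSubsystemOf F := fun P φ hφ => mem_hom_iff.2 (hGc (isMap_toFun hφ)).isMap
  have hhyp : G.hyperfocalSubgroup p ≤ Y := by
    refine ((Subgroup.closure_le _).2 ?_).trans hfoc
    rintro y ⟨P, α, x, hP, -, rfl⟩
    obtain ⟨hPC, -, g, hg, hgα, hgT⟩ := hGc ((mem_autGroup_iff hP).1 α.2)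
    refine Subgroup.subset_closure ⟨x, hP x.2, g,
      hg.mono (sup_le_sup_right (Subgroup.zpowers_le.2 x.2) T), hgT, ?_⟩
    rw [hgα x x.2, autFun_coe]
  have hYG : G.StronglyClosed Y := stronglyClosed_iff.2 ⟨hYC, fun R f hR hf x hx =>
    (stronglyClosed_iff.1 hY).2 R f hR (hf.ofSubsystem hGF) x hx⟩
  set D := pSystem G p Y hYC hhyp with hD
  have hDG : D.IsNormalIn G p := pSystem_isNormalIn (hS.to_le hCS) hGs
    (hCS.trans ((le_normalizerIn_of_stronglyClosed hY).trans inf_le_right))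
  have hDs : D.IsSaturated p := hDG.1.1
  have hA : AutInv F' C D := autInv_pSystem
    ((isInvariantIn_iff_strongInv hS hF's hGi.1 hGi.2.1).1 hGi) hCS fun a ha x hx =>
      (stronglyClosed_iff.1 hY).2 Y _ le_rfl
        ((isMap_nSystem_iff.1 ((mem_autGroup_iff hCS).1 ha)).isMap.mono hYC) x hx
  have hinv' : StrongInv D F' := strongInv_of_autInv hS hF's hGi hYC
    ((isInvariantIn_iff_strongInv (hS.to_le hCS) hGs pSystem_isSubsystemOf hYG).1 hDG.1.2.2) hA
  have hDc : ∀ {P : Subgroup Ω} {f : Ω → Ω}, IsMap D P f → CMap F C T P f := fun hf =>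
    hGc (hf.ofSubsystem pSystem_isSubsystemOf)
  have hDF : D.IsSubsystemOf F := fun P φ hφ => mem_hom_iff.2 (hDc (isMap_toFun hφ)).isMap
  -- maps of `F` inside `Y` normalize `T`
  have hinv : StrongInv D F := by
    intro P R f g hPR hR hf hfR hg
    obtain ⟨g₁, hg₁, hg₁e, hg₁T⟩ := exists_ext_fix_top hS hF hT (hR.trans hYC) hg fun x hx =>
      hYC ((stronglyClosed_iff.1 hY).2 R g hR hg x hx)
    exact hinv' P R f g hPR hR hf hfR (isMap_nSystem_iff.2
      ⟨hR.trans hYS, fun x hx => hg.mem_S hx, g₁, hg₁, hg₁e, hg₁T⟩)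
  refine ⟨D, ⟨⟨hDs, hF, (isInvariantIn_iff_strongInv hS hF hDF hY).2 hinv⟩, fun α hα => ?_⟩,
    fun P φ hφ => mem_centralizerHom_iff.2 (hDc (isMap_toFun hφ))⟩
  -- the extension condition
  set K := centralizerIn S Y with hK
  set W := Y ⊔ T with hW
  have hTK : T ≤ K := le_centralizerIn_of_le hTS hYC
  have hWS : W ≤ S := sup_le hYS hTS
  have hBS : Y ⊔ K ≤ S := sup_le hYS inf_le_left
  haveI : Finite W := finite_of_le hWS
  haveI : Finite (Y ⊔ K : Subgroup Ω) := finite_of_le hBS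
  haveI := finite_mulAut (P := Y)
  haveI := finite_mulAut (P := W)
  haveI := finite_mulAut (P := (Y ⊔ K : Subgroup Ω))
  have hTY : ∀ t ∈ T, ∀ y ∈ Y, y * t = t * y := fun t ht y hy =>
    Subgroup.mem_centralizer_iff.1 (hTK ht).2 y hy
  have hconjW : ∀ s ∈ S, ∀ z ∈ W, s * z * s⁻¹ ∈ W := fun s hs z hz =>
    (sup_le (c := W.comap (MulAut.conj s).toMonoidHom)
      (fun x hx => Subgroup.mem_sup_left (Components.conj_mem_of_stronglyClosed hY hs hx))
      (fun x hx => Subgroup.mem_sup_right (Components.conj_mem_of_stronglyClosed hT hs hx))) hz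
  have hSW : S ≤ Subgroup.normalizer (W : Set Ω) := fun s hs => by
    rw [Subgroup.mem_normalizer_iff]
    refine fun z => ⟨hconjW s hs z, fun hz => ?_⟩
    simpa [mul_assoc] using hconjW s⁻¹ (inv_mem hs) _ hz
  have hWdec : ∀ z ∈ W, ∃ y ∈ Y, ∃ t ∈ T, z = y * t := fun z hz => by
    have hz' : z ∈ ((Y ⊔ T : Subgroup Ω) : Set Ω) := hz
    rw [coe_mul_of_left_le_normalizer_right Y T
      ((hYC.trans inf_le_right).trans (Subgroup.centralizer_le_normalizer _))] at hz'
    obtain ⟨y, hy, t, ht, rfl⟩ := Set.mem_mul.1 hz'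
    exact ⟨y, hy, t, ht, rfl⟩
  have hgen : ∀ a : D.autGroup Y, (orderOf a).Coprime p → HasExt F K (a : MulAut Y) := by
    intro a hco
    obtain ⟨-, -, g, hg, hga, hgT⟩ := hDc ((mem_autGroup_iff le_rfl).1 a.2)
    have hgY : ∀ y ∈ Y, g y ∈ Y := fun y hy => hga y hy ▸ autFun_mem _ hy
    have hgi : img W g = W := img_eq_of_map_le hWS hg le_rfl fun z hz => hg.map_mem_of_sup
      (fun y hy => Subgroup.mem_sup_left (hgY y hy))
      (fun t ht => Subgroup.mem_sup_right ((hgT t ht).symm ▸ ht)) hz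
    set a₁ : F.autGroup W := ⟨autOf hg hgi, autOf_mem hg hgi⟩
    have hpowY : ∀ (j : ℕ), ∀ y ∈ Y, autFun ((a₁ ^ j : F.autGroup W) : MulAut W) y =
        autFun ((a ^ j : D.autGroup Y) : MulAut Y) y := by
      intro j
      induction j with
      | zero => intro y hy; simp [autFun_one hy, autFun_one (Subgroup.mem_sup_left hy : y ∈ W)]
      | succ j ih =>
        intro y hy
        rw [pow_succ, pow_succ, Subgroup.coe_mul, Subgroup.coe_mul,
          autFun_mul _ _ (Subgroup.mem_sup_left hy : y ∈ W), autFun_mul _ _ hy,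
          show autFun (a₁ : MulAut W) y = autFun (a : MulAut Y) y from
            (autFun_autOf hg hgi (Subgroup.mem_sup_left hy)).trans (hga y hy),
          ih _ (autFun_mem _ hy)]
    have hpowT : ∀ (j : ℕ), ∀ t ∈ T, autFun ((a₁ ^ j : F.autGroup W) : MulAut W) t = t := by
      intro j
      induction j with
      | zero => intro t ht; simp [autFun_one (Subgroup.mem_sup_right ht : t ∈ W)]
      | succ j ih =>
        intro t ht
        rw [pow_succ, Subgroup.coe_mul, autFun_mul _ _ (Subgroup.mem_sup_right ht : t ∈ W),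
          show autFun (a₁ : MulAut W) t = t from
            (autFun_autOf hg hgi (Subgroup.mem_sup_right ht)).trans (hgT t ht), ih t ht]
    have hco₁ : (orderOf a₁).Coprime p := by
      refine Nat.Coprime.coprime_dvd_left (orderOf_dvd_of_pow_eq_one ?_) hco
      refine Subtype.ext (autFun_ext fun z hz => ?_)
      obtain ⟨y, hy, t, ht, rfl⟩ := hWdec z hz
      rw [autFun_map_mul _ (Subgroup.mem_sup_left hy) (Subgroup.mem_sup_right ht), hpowY _ y hy,
        hpowT _ t ht, pow_orderOf_eq_one, OneMemClass.coe_one, OneMemClass.coe_one, autFun_one hy,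
        autFun_one hz]
    obtain ⟨-, hrec⟩ := IsSaturated.automized_receptive hS hF
      (Envelope.isFullyNormalized_of_normalized (D := F) hWS hSW)
    obtain ⟨ψ, hψ, hψg⟩ := (isReceptive_iff.1 hrec).2 W g hg hgi
    have hsrc : Y ⊔ K ≤ extSub S W g := by
      refine sup_le ((le_sup_left : Y ≤ W).trans (le_extSub hg)) fun c hc => ?_
      refine ⟨⟨hc.1, hSW hc.1⟩, c, hc.1, fun z hz => ?_⟩
      obtain ⟨y, hy, t, ht, rfl⟩ := hWdec z hz
      have ht' : c * t * c⁻¹ ∈ T := Components.conj_mem_of_stronglyClosed hT hc.1 ht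
      have hcy : ∀ w ∈ Y, c * w * c⁻¹ = w := fun w hw => by
        rw [← Subgroup.mem_centralizer_iff.1 hc.2 w hw, mul_inv_cancel_right]
      have hmul : ∀ w v : Ω, c * (w * v) * c⁻¹ = (c * w * c⁻¹) * (c * v * c⁻¹) := fun w v => by
        group
      rw [hmul, hcy y hy, hg.map_mul (Subgroup.mem_sup_left hy) (Subgroup.mem_sup_right ht'),
        hgT _ ht', hg.map_mul (Subgroup.mem_sup_left hy) (Subgroup.mem_sup_right ht), hgT t ht,
        hmul, hcy _ (hgY y hy)]
    have hψB := hψ.mono hsrc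
    have hWB : W ≤ Y ⊔ K := sup_le_sup_left hTK Y
    have hψY : img Y ψ = Y := img_eq_of_map_le hYS hψB le_sup_left fun y hy => by
      rw [hψg y (Subgroup.mem_sup_left hy)]; exact hgY y hy
    have hψi : img (Y ⊔ K) ψ = Y ⊔ K := img_eq_of_map_le hBS hψB le_rfl fun z hz =>
      hψB.map_mem_of_sup (fun y hy => Subgroup.mem_sup_left
        (hψY.le ((hψB.mono le_sup_left).mem_img.2 ⟨y, hy, rfl⟩)))
        (fun c hc => Subgroup.mem_sup_right (by
          have h1 := map_mem_centralizerIn hψB le_sup_left (Subgroup.mem_sup_right hc) hc.2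
          rwa [hψY] at h1)) hz
    obtain ⟨γ, hγco, hγe⟩ := exists_coprime_ext hψB hψi hWB hco₁ fun z hz => by
      rw [hψg z hz]; exact (autFun_autOf hg hgi hz).symm
    have hγY : ∀ y ∈ Y, autFun γ.1 y = autFun (a : MulAut Y) y := fun y hy => by
      rw [hγe y (Subgroup.mem_sup_left hy)]
      exact (autFun_autOf hg hgi (Subgroup.mem_sup_left hy)).trans (hga y hy)
    have hγT : ∀ t ∈ T, autFun γ.1 t = t := fun t ht => by
      rw [hγe t (Subgroup.mem_sup_right ht)]
      exact (autFun_autOf hg hgi (Subgroup.mem_sup_right ht)).trans (hgT t ht)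
    have hγm := (mem_autGroup_iff hBS).1 γ.2
    refine ⟨γ, γ.2, hγY, fun c hc => ?_⟩
    obtain ⟨e, he⟩ : ∃ e, e = c⁻¹ * autFun γ.1 c := ⟨_, rfl⟩
    rw [← he]
    have hγc : autFun γ.1 c = c * e := by rw [he, mul_inv_cancel_left]
    have hγK : autFun γ.1 c ∈ K := by
      have h1 := map_mem_centralizerIn hγm le_sup_left (Subgroup.mem_sup_right hc) hc.2
      rwa [(IsMap.img_congr hγY).trans (img_autFun _)] at h1
    have heK : e ∈ K := he ▸ mul_mem (inv_mem hc) hγK
    have heC : e ∈ C := ⟨heK.1, Subgroup.mem_centralizer_iff.2 fun t ht => by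
      have ht' : c * t * c⁻¹ ∈ T := Components.conj_mem_of_stronglyClosed hT hc.1 ht
      have h1 := hγm.map_conj (Subgroup.mem_sup_right hc) (Subgroup.mem_sup_right (hTK ht))
      rw [hγT _ ht', hγT t ht, hγc] at h1
      calc t * e = c⁻¹ * (c * t * c⁻¹) * c * e := by group
        _ = c⁻¹ * (c * e * t * (c * e)⁻¹) * c * e := by rw [h1]
        _ = e * t := by group⟩
    have hpow : ∀ j : ℕ, ∃ y ∈ Y, autFun (γ ^ j).1 c =
        c * e ^ j * y := by
      intro j
      induction j with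
      | zero => exact ⟨1, one_mem _, by simp [autFun_one (Subgroup.mem_sup_right hc : c ∈ Y ⊔ K)]⟩
      | succ j ih =>
        obtain ⟨y, hy, hye⟩ := ih
        have hej : e ^ j ∈ K := pow_mem heK j
        have hejB : e ^ j ∈ Y ⊔ K := Subgroup.mem_sup_right hej
        have hy' : (e ^ j)⁻¹ * autFun γ.1 (e ^ j) ∈ Y :=
          hfoc (Subgroup.subset_closure ⟨e ^ j, pow_mem heC j, _,
            hγm.mono (sup_le (Subgroup.zpowers_le.2 hejB) (hTK.trans le_sup_right)), hγT, rfl⟩)
        refine ⟨(e ^ j)⁻¹ * autFun γ.1 (e ^ j) * autFun γ.1 y,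
          mul_mem hy' (hγY y hy ▸ autFun_mem _ hy), ?_⟩
        rw [pow_succ', Subgroup.coe_mul, autFun_mul _ _ (Subgroup.mem_sup_right hc), hye,
          autFun_map_mul _ (mul_mem (Subgroup.mem_sup_right hc) hejB) (Subgroup.mem_sup_left hy),
          autFun_map_mul _ (Subgroup.mem_sup_right hc) hejB, hγc, pow_succ']
        group
    obtain ⟨y, hy, hye⟩ := hpow (orderOf γ)
    rw [pow_orderOf_eq_one, OneMemClass.coe_one, autFun_one (Subgroup.mem_sup_right hc)] at hye
    have hen : e ^ orderOf γ ∈ Y := by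
      have h2 : e ^ orderOf γ = y⁻¹ := by
        refine eq_inv_of_mul_eq_one_left ?_
        have h3 : c * 1 = c * (e ^ orderOf γ * y) := by rw [mul_one, ← mul_assoc]; exact hye
        exact (mul_left_cancel h3).symm
      exact h2 ▸ inv_mem hy
    obtain ⟨k, hk⟩ := hS ⟨e, heK.1⟩
    have hk' : e ^ p ^ k = 1 := congrArg Subtype.val hk
    obtain ⟨m, hm⟩ := exists_pow_eq_self_of_coprime (x := e) (n := orderOf γ)
      (Nat.Coprime.coprime_dvd_right (orderOf_dvd_of_pow_eq_one hk') (hγco.pow_right k))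
    refine ⟨?_, heK.2⟩
    rw [← hm]
    exact pow_mem hen m
  have hCK : K ≤ Subgroup.centralizer (Y : Set Ω) := inf_le_right
  have hone : HasExt F K (1 : MulAut Y) :=
    ⟨1, one_mem _, Envelope.Witness.one le_sup_left le_sup_right⟩
  have hres : ∀ a : D.autGroup Y, a ∈ Cfsg.pResidual p (D.autGroup Y) →
      HasExt F K (a : MulAut Y) := by
    intro a ha
    unfold Cfsg.pResidual at ha
    induction ha using Subgroup.closure_induction with
    | mem a ha => exact hgen a ha
    | one => exact hone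
    | mul a b _ _ ha hb => exact ha.mul hb
    | inv a _ ha =>
      obtain ⟨b, hb, hw⟩ := ha
      rw [InvMemClass.coe_inv, ← pow_eq_one_inv (a : MulAut Y)]
      exact ⟨b ^ (Nat.card (MulAut Y) - 1), pow_mem hb _, hw.pow le_sup_left le_sup_right _⟩
  obtain ⟨n, hn', β, hβ, he⟩ := exists_conj_mul_residual
    (IsSaturated.automized_receptive (hS.to_le hYS) hDs isFullyNormalized_self).1 ⟨α, hα⟩
  have hext := (Envelope.hasExt_conjAut (D := F) (C := K) hYS inf_le_left hCK hn'.1 hn'.2).mul (hres β hβ)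
  rw [show conjAut n hn'.2 * (β : MulAut Y) = α from autFun_ext fun z hz => by
    rw [show autFun α z = _ from he z hz, autFun_mul _ _ hz,
      autFun_conjAut hn'.2 (autFun_mem _ hz)]] at hext
  obtain ⟨γ, hγ, hγe, hγc⟩ := hext
  refine ⟨γ, hγ, fun x => ?_, fun c hc => ?_⟩
  · rw [← autFun_coe, ← autFun_coe, Subgroup.coe_inclusion, hγe x x.2]
  · rw [← autFun_coe]; exact hγc c hc
where
  pow_eq_one_inv {M : Type u} [Group M] [Finite M] (a : M) : a ^ (Nat.card M - 1) = a⁻¹ := by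
    refine eq_inv_of_mul_eq_one_left ?_
    rw [← pow_succ, Nat.sub_add_cancel Nat.card_pos, pow_card_eq_one']

end CfsgLib.Fusion.CentFocal
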