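import Cfsg.Agent.Lib.Fusion.System.FactorSat

/-!
# Kernels of morphisms, existence of factor systems, fully normalized subgroups of subsystems
-/

set_option autoImplicit false

open Subgroup
open scoped Classical

namespace CfsgLib.Fusion

open Cfsg (FusionSystem)
open Cfsg.FusionSystem (normalizerIn centralizerIn preimageAlong)

variable {Ω Ω' : Type*} [Group Ω] [Group Ω'] {S : Subgroup Ω} {F : FusionSystem S}

/-- The kernel of a morphism is strongly closed. -/
theorem stronglyClosed_ker_of_isMorphism {S' : Subgroup Ω'} {F' : FusionSystem S'} {α : S →* Ω'}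
    (hα : F.IsMorphism F' α) : F.StronglyClosed (α.ker.map S.subtype) := by
  refine ⟨Subgroup.map_subtype_le _, fun R hR φ hφ x => ?_⟩
  obtain ⟨φ', -, hP, hφS, hP', hall⟩ := hα.2 R φ hφ
  refine ⟨⟨φ x, hφS x⟩, ?_, rfl⟩
  show α ⟨φ x, hφS x⟩ = 1
  obtain ⟨s, hs, hsx⟩ := hR x.2
  have h1 : α ⟨(x : Ω), hP x.2⟩ = 1 := by
    rw [show (⟨(x : Ω), hP x.2⟩ : S) = s from Subtype.ext hsx.symm]
    exact hs
  rw [← hall x, ← map_one φ']
  exact congrArg φ' (Subtype.ext h1)

/-- Factor systems modulo strongly closed subgroups exist. -/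
theorem exists_isFactorSystem [Finite S] {R : Subgroup Ω} (hR : F.StronglyClosed R)
    (θ : S →* Ω') (hker : ∀ s : S, θ s = 1 ↔ (s : Ω) ∈ R) {S' : Subgroup Ω'} (hr : θ.range = S') :
    ∃ E : FusionSystem S', F.IsFactorSystem R θ E := by
  subst hr
  have hRS := hR.1
  have hn : S ≤ normalizerIn S R := le_normalizerIn_of_stronglyClosed hR
  set N := nSystem F S R hn hRS with hN
  have hNR : N.IsNormal R := isNormal_iff.2 ⟨hRS, fun P f hf => by
    obtain ⟨h1, h2, g, hg, hgf, hgR⟩ := isMap_nSystem_iff.1 hf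
    exact ⟨g, isMap_nSystem_iff.2 ⟨hg.le, fun x hx => hg.mem_S hx, g,
      hg.mono (sup_le le_rfl le_sup_right), fun _ _ => rfl, hgR⟩, hgf, hgR⟩⟩
  have hbot : preimageAlong θ ⊥ = R := by
    ext x
    rw [mem_preimageAlong]
    constructor
    · rintro ⟨hx, h⟩
      rw [Subgroup.mem_bot, ext1_apply θ hx] at h
      exact (hker ⟨x, hx⟩).1 h
    · intro hx
      refine ⟨hRS hx, ?_⟩
      rw [Subgroup.mem_bot, ext1_apply θ (hRS hx)]
      exact (hker ⟨x, hRS hx⟩).2 hx
  have hK : N.IsNormal (preimageAlong θ ⊥) := hbot.symm ▸ hNR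
  obtain ⟨-, -, hsurj⟩ := quotientSystem_surjective hK
  refine ⟨quotientSystem hK, hRS, hker, rfl, fun P' φ' => ?_⟩
  constructor
  · intro h
    have hP' := ((quotientSystem hK).le_of_mem h).1
    obtain ⟨φ, hφ, hind⟩ := hsurj P' hP' φ' h
    exact ⟨hP', φ, mem_hom_iff.2 (isMap_nSystem_iff.1 (isMap_toFun hφ)).isMap, hind⟩
  · rintro ⟨hP', φ, hφ, hP, hφS, _, hall⟩
    have hf := isMap_toFun hφ
    have hRP : R ≤ preimageAlong θ P' := hbot.ge.trans (preimageAlong_mono bot_le)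
    have himg : img R (toFun φ) = R := img_eq_of_map_le hRS hf hRP fun x hx =>
      (stronglyClosed_iff.1 hR).2 R _ le_rfl (hf.mono hRP) x hx
    refine mem_quotientSystem_iff hK |>.2 ⟨hP', toFun φ, isMap_nSystem_iff.2
      ⟨hf.le, fun x hx => hf.mem_S hx, toFun φ, hf.mono (sup_le le_rfl hRP), fun _ _ => rfl, himg⟩,
      fun x hx => ?_⟩
    obtain ⟨hxS, hx'⟩ := mem_preimageAlong.1 hx
    rw [toFun_apply φ' hx', toFun_apply φ hx, ext1_apply θ (hφS ⟨x, hx⟩)]
    refine Eq.trans ?_ (hall ⟨x, hx⟩)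
    exact congrArg φ' (Subtype.ext (ext1_apply θ hxS))

section Closed

variable [Finite S] {p : ℕ} [Fact p.Prime] {T Q : Subgroup Ω} {E : FusionSystem T}

theorem isConj_of_subsystem (h : E.IsSubsystemOf F) {R : Subgroup Ω} (hR : E.IsConj Q R) :
    F.IsConj Q R := by
  obtain ⟨φ, hφ, hr⟩ := hR
  exact ⟨φ, h _ hφ, hr⟩

theorem isFullyCentralized_of_stronglyClosed (hS : IsPGroup p S) (hF : F.IsSaturated p)
    (hT : F.StronglyClosed T) (hE : E.IsSubsystemOf F) (hQT : Q ≤ T)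
    (hQ : F.IsFullyCentralized Q) : E.IsFullyCentralized Q := by
  refine ⟨hQT, fun R hR => ?_⟩
  obtain ⟨f, hf, himg⟩ := isConj_iff.1 (isConj_symm (isConj_of_subsystem hE hR))
  obtain ⟨g, hg, hgf⟩ := (isReceptive_iff.1 (IsSaturated.isReceptive hS hF hQ)).2 R f hf himg
  have hRE : R ≤ extSub S R f := le_extSub hf
  have hCE : centralizerIn T R ≤ extSub S R f :=
    (inf_le_inf_right _ hT.1).trans centralizerIn_le_extSub
  have hgC := hg.mono hCE
  rw [← hgC.card_img]
  refine card_le_of_le' (inf_le_left.trans hT.1) fun y hy => ?_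
  obtain ⟨c, hc, rfl⟩ := hgC.mem_img.1 hy
  refine ⟨(stronglyClosed_iff.1 hT).2 _ _ inf_le_left hgC c hc, ?_⟩
  have := (map_mem_centralizerIn hg hRE (hCE hc) hc.2).2
  rwa [IsMap.img_congr hgf, himg] at this

theorem isFullyNormalized_of_stronglyClosed (hS : IsPGroup p S) (hF : F.IsSaturated p)
    (hT : F.StronglyClosed T) (hE : E.IsSubsystemOf F) (hQT : Q ≤ T)
    (hQ : F.IsFullyNormalized Q) : E.IsFullyNormalized Q := by
  refine ⟨hQT, fun R hR => ?_⟩
  obtain ⟨h₁, h₂⟩ := IsSaturated.automized_receptive hS hF hQ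
  obtain ⟨g, hg, -, hgN⟩ :=
    exists_map_normalizer hS h₁ h₂ (isConj_symm (isConj_of_subsystem hE hR))
  have hle : normalizerIn T R ≤ normalizerIn S R := inf_le_inf_right _ hT.1
  have hgN' := hg.mono hle
  rw [← hgN'.card_img]
  refine card_le_of_le' (inf_le_left.trans hT.1) fun y hy => ?_
  obtain ⟨c, hc, rfl⟩ := hgN'.mem_img.1 hy
  exact ⟨(stronglyClosed_iff.1 hT).2 _ _ inf_le_left hgN' c hc, (hgN c (hle hc)).2⟩

end Closed

end CfsgLib.Fusion
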