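import Cfsg.Agent.Lib.Fusion.System.ExtensionLift
import Cfsg.Agent.Lib.Fusion.System.FactorExist
import Cfsg.Agent.Lib.Fusion.System.StrongInvariance

/-!
# Extensions to `T C_S(T)` of automorphisms in the `p'`-residual of a weakly normal subsystem

For a weakly normal subsystem `E` over `T`, the maps of index prime to `p` inside `E` extend to
`P C_S(T)` with trivial action modulo `T`, and so the automorphisms of `T` restricting to such maps
extend to `T C_S(T)` in the same way.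
-/

set_option autoImplicit false
set_option linter.style.haveILetI false
set_option linter.unusedSectionVars false

open Subgroup
open scoped Classical

namespace CfsgLib.Fusion.PPrimeChar

open Cfsg (FusionSystem autInducedBy)
open Cfsg.FusionSystem (normalizerIn centralizerIn)
open CfsgLib.Fusion.PPrime (EMap HMap autFun_symm autFun_symm')

variable {Ω : Type*} [Group Ω] {S T : Subgroup Ω} [Finite S] {F : FusionSystem S}
  {E : FusionSystem T} {p : ℕ} [Fact p.Prime] {Δ : Type*} [Group Δ]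
  {χ : F.autGroup T →* Δ} {P Q R : Subgroup Ω} {f g : Ω → Ω}

/-- A map of `F` carries centric subgroups of `E` to centric subgroups of `E`. -/
theorem Setup.isCentric_of_map (h : Setup F E p χ) (hR : E.IsCentric R) (hf : IsMap F R f) :
    E.IsCentric (img R f) := by
  obtain ⟨a, e, he, hfe⟩ := h.exists_decomp hf hR.1
  rw [IsMap.img_congr (g := autFun (a : MulAut T) ∘ e) hfe, ← img_img he]
  exact h.isCentric_img (isCentric_of_isConj hR (isConj_iff.2 ⟨e, he, rfl⟩)) a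

/-- `f` extends to `P C_S(T)` acting trivially on `C_S(T)` modulo `T`. -/
def ExtTriv (F : FusionSystem S) (T P : Subgroup Ω) (f : Ω → Ω) : Prop :=
  ∃ g, IsMap F (P ⊔ centralizerIn S T) g ∧ (∀ x ∈ P, g x = f x) ∧
    ∀ c ∈ centralizerIn S T, c⁻¹ * g c ∈ T

theorem ExtTriv.mono (h : ExtTriv F T P f) (hQ : Q ≤ P) : ExtTriv F T Q f := by
  obtain ⟨g, hg, hgf, hgc⟩ := h
  exact ⟨g, hg.mono (sup_le_sup_right hQ _), fun x hx => hgf x (hQ hx), hgc⟩

theorem Setup.normal_T (h : Setup F E p χ) : S ≤ Subgroup.normalizer (T : Set Ω) :=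
  (le_normalizerIn_of_stronglyClosed h.inv.2.1).trans inf_le_right

theorem Setup.extTriv_pElement (h : Setup F E p χ) (hR : E.IsCentric R) {β : MulAut R}
    (hβ : β ∈ E.autGroup R) {k : ℕ} (hk : β ^ p ^ k = 1) : ExtTriv F T R (autFun β) := by
  haveI : Finite T := finite_of_le h.le
  have hTp : IsPGroup p T := h.isPGroup.to_le h.le
  have hRS := hR.1.trans h.le
  obtain ⟨Q', hQc, hQn⟩ := exists_fullyNormalized (F := F) hRS
  obtain ⟨f, hf, rfl⟩ := isConj_iff.1 hQc
  set Q := img R f with hQ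
  have hQT : Q ≤ T := hf.img_le_of_forall fun x hx => h.map_mem hf hx (hR.1 hx)
  have hQS : Q ≤ S := hQT.trans h.le
  haveI : Finite Q := finite_of_le hQS
  haveI : Finite (MulAut Q) := finite_mulAut
  have hQE : E.IsCentric Q := h.isCentric_of_map hR hf
  -- transport `β`
  have hST : StrongInv E F :=
    (isInvariantIn_iff_strongInv h.isPGroup h.sat h.inv.1 h.inv.2.1).1 h.inv
  have hβR : ∀ x ∈ R, autFun β x ∈ R := fun x hx => autFun_mem β hx
  obtain ⟨b, hb, hbe⟩ := hST R R (autFun β) f le_rfl hR.1 ((mem_autGroup_iff hR.1).1 hβ) hβR hf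
  have hbi : img Q b = Q := img_eq_of_map_le hQT hb le_rfl fun y hy => by
    obtain ⟨x, hx, rfl⟩ := hf.mem_img.1 hy
    rw [hbe x hx]
    exact hf.mem_img.2 ⟨_, hβR x hx, rfl⟩
  set β₁ := autOf hb hbi
  have hb1 : ∀ x ∈ R, autFun β₁ (f x) = f (autFun β x) := fun x hx => by
    rw [autFun_autOf hb hbi (hf.mem_img.2 ⟨x, hx, rfl⟩), hbe x hx]
  have hbn : ∀ n : ℕ, ∀ x ∈ R, autFun (β₁ ^ n) (f x) = f (autFun (β ^ n) x) := by
    intro n
    induction n with
    | zero =>
      intro x hx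
      rw [pow_zero, pow_zero, autFun_one hx, autFun_one (hf.mem_img.2 ⟨x, hx, rfl⟩)]
    | succ n ih =>
      intro x hx
      rw [pow_succ', pow_succ', autFun_mul _ _ (hf.mem_img.2 ⟨x, hx, rfl⟩), autFun_mul _ _ hx,
        ih x hx, hb1 _ (autFun_mem _ hx)]
  have hb1p : β₁ ^ p ^ k = 1 := autFun_ext fun y hy => by
    obtain ⟨x, hx, rfl⟩ := hf.mem_img.1 hy
    rw [hbn _ x hx, hk, autFun_one hx, autFun_one (hf.mem_img.2 ⟨x, hx, rfl⟩)]
  -- move it into `Aut_T(Q)`
  have hQEn := isFullyNormalized_of_stronglyClosed h.isPGroup h.sat h.inv.2.1 h.inv.1 hQT hQn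
  obtain ⟨-, hi⟩ := (isFullyAutomized_iff hTp).1
    (IsSaturated.automized_receptive hTp h.satE hQEn).1
  obtain ⟨κ, hκ, hκA⟩ := exists_conj_le_of_not_dvd_relIndex (isPGroup_autInducedBy hTp)
    (autInducedBy_le_autGroup hQT) hi (isPGroup_zpowers_of_pow hb1p)
    (Subgroup.zpowers_le.2 (autOf_mem hb hbi))
  obtain ⟨t, ht, htx⟩ :=
    mem_autInducedBy_iff.1 (hκA (conj_mem_conjBy (Subgroup.mem_zpowers β₁)))
  have htQ : t ∈ Subgroup.normalizer (Q : Set Ω) := mem_normalizer_of_autFun htx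
  set θ := autFun κ ∘ f
  have hκm : IsMap F Q (autFun κ) := h.isMap_sub ((mem_autGroup_iff hQT).1 hκ)
  have hθ : IsMap F R θ := hf.comp hκm fun x hx => hf.mem_img.2 ⟨x, hx, rfl⟩
  have hθi : img R θ = Q := by
    rw [← img_img hf]; exact img_autFun κ
  have hθQ : ∀ x ∈ R, θ x ∈ Q := fun x hx => hθi.le (hθ.mem_img.2 ⟨x, hx, rfl⟩)
  have hθβ : ∀ x ∈ R, θ (autFun β x) = t * θ x * t⁻¹ := fun x hx => by
    have hfx : f x ∈ Q := hf.mem_img.2 ⟨x, hx, rfl⟩
    show autFun κ (f (autFun β x)) = t * autFun κ (f x) * t⁻¹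
    rw [← hb1 x hx, ← htx _ (autFun_mem κ hfx), ← autFun_mul _ _ hfx, ← autFun_mul _ _ hfx,
      inv_mul_cancel_right]
  -- extend
  obtain ⟨ψ, hψ, hψθ⟩ := (isReceptive_iff.1 (IsSaturated.automized_receptive h.isPGroup h.sat
    hQn).2).2 R θ hθ hθi
  set C := centralizerIn S T
  have hCR : C ≤ centralizerIn S R :=
    fun c hc => ⟨hc.1, Subgroup.centralizer_le hR.1 hc.2⟩
  have hψU : IsMap F (R ⊔ C) ψ :=
    hψ.mono (sup_le (le_extSub hθ) (hCR.trans centralizerIn_le_extSub))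
  have hRU : R ≤ R ⊔ C := le_sup_left
  have hψi : img R ψ = Q := by rw [IsMap.img_congr hψθ, hθi]
  -- the element `q`
  have key : ∀ c ∈ C, ∃ r ∈ R, t * ψ c * t⁻¹ = ψ (c * r) := by
    intro c hc
    have hψc : ψ c ∈ centralizerIn S (img R ψ) := map_mem_centralizerIn hψU hRU
      (le_sup_right (a := R) hc) (Subgroup.centralizer_le hR.1 hc.2)
    rw [hψi] at hψc
    have hqT : (ψ c)⁻¹ * (t * ψ c * t⁻¹) ∈ T := by
      rw [show (ψ c)⁻¹ * (t * ψ c * t⁻¹) = (ψ c)⁻¹ * t * ψ c * t⁻¹ by group]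
      exact mul_mem ((Subgroup.mem_normalizer_iff''.1 (h.normal_T hψc.1) t).1 ht) (inv_mem ht)
    have hqQ : (ψ c)⁻¹ * (t * ψ c * t⁻¹) ∈ Q := by
      refine centralizerIn_le_of_isCentric hQE ⟨hqT, Subgroup.mul_mem _ (Subgroup.inv_mem _ hψc.2) ?_⟩
      rw [Subgroup.mem_centralizer_iff]
      intro y hy
      have hy' : t⁻¹ * y * t ∈ Q := (Subgroup.mem_normalizer_iff''.1 htQ y).1 hy
      have e1 := Subgroup.mem_centralizer_iff.1 hψc.2 _ hy'
      calc y * (t * ψ c * t⁻¹) = t * (t⁻¹ * y * t * ψ c) * t⁻¹ := by group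
        _ = t * ψ c * t⁻¹ * y := by rw [e1]; group
    obtain ⟨r, hr, hre⟩ := (hψU.mono hRU).mem_img.1 (hψi.ge hqQ)
    refine ⟨r, hr, ?_⟩
    rw [hψU.map_mul (le_sup_right (a := R) hc) (hRU hr), hre, mul_inv_cancel_left]
  obtain ⟨ψ', hψ', hψ'1, -⟩ := hψU.exists_inv
  have htS : t ∈ S := h.le ht
  have hconj := hψU.comp (isMap_conj (F := F) (le_refl S) htS) fun x hx => hψU.mem_S hx
  have hmem : ∀ z ∈ R ⊔ C, t * ψ z * t⁻¹ ∈ img (R ⊔ C) ψ := fun z hz =>
    hconj.map_mem_of_sup (fun x hx => by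
      show t * ψ x * t⁻¹ ∈ _
      exact hψU.img_mono hRU (hψi.ge ((Subgroup.mem_normalizer_iff.1 htQ _).1
        (hψi.le ((hψU.mono hRU).mem_img.2 ⟨x, hx, rfl⟩)))))
      (fun c hc => by
        obtain ⟨r, hr, hre⟩ := key c hc
        show t * ψ c * t⁻¹ ∈ _
        rw [hre]
        exact hψU.mem_img.2 ⟨_, mul_mem (le_sup_right (a := R) hc) (hRU hr), rfl⟩) hz
  refine ⟨_, hconj.comp hψ' hmem, fun x hx => ?_, fun c hc => ?_⟩
  · show ψ' (t * ψ x * t⁻¹) = autFun β x
    rw [hψθ x hx, ← hθβ x hx, ← hψθ _ (hβR x hx), hψ'1 _ (hRU (hβR x hx))]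
  · obtain ⟨r, hr, hre⟩ := key c hc
    show c⁻¹ * ψ' (t * ψ c * t⁻¹) ∈ T
    rw [hre, hψ'1 _ (mul_mem (le_sup_right (a := R) hc) (hRU hr)), inv_mul_cancel_left]
    exact hR.1 hr

theorem Setup.extTriv_eMap (h : Setup F E p χ)
    (hf : EMap E p {R | E.IsCentric R} P f) : E.IsCentric P → ExtTriv F T P f := by
  induction hf with
  | @base R P β k hC hle hR hβ hk => exact fun _ => (h.extTriv_pElement hC hβ hk).mono hle
  | @conj P s hP hs =>
    intro _
    refine ⟨_, isMap_conj (sup_le (hP.trans h.le) inf_le_left) (h.le hs), fun _ _ => rfl,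
      fun c hc => ?_⟩
    rw [← mul_assoc, ← mul_assoc]
    exact mul_mem ((Subgroup.mem_normalizer_iff''.1 (h.normal_T hc.1) s).1 hs) (inv_mem hs)
  | @comp P R f₁ f₂ h1 h2 hm ih1 ih2 =>
    intro hP
    obtain ⟨g₁, hg₁, hg₁f, hg₁c⟩ := ih1 hP
    have hf₁c : E.IsCentric (img P f₁) :=
      isCentric_of_isConj hP (isConj_iff.2 ⟨f₁, h1.isMap, rfl⟩)
    have hle : img P f₁ ≤ R := h1.isMap.img_le_of_forall hm
    obtain ⟨g₂, hg₂, hg₂f, hg₂c⟩ := ih2 (isCentric_mono hf₁c hle h2.isMap.le)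
    set C := centralizerIn S T
    have hCU : C ≤ P ⊔ C := le_sup_right
    have hPU : P ≤ P ⊔ C := le_sup_left
    have hτ : ∀ c ∈ C, c⁻¹ * g₁ c ∈ R := fun c hc => by
      refine hle (centralizerIn_le_of_isCentric hf₁c ⟨hg₁c c hc, Subgroup.mul_mem _ (Subgroup.inv_mem _ ?_) ?_⟩)
      · exact Subgroup.centralizer_le h1.isMap.img_le hc.2
      · have h3 := map_mem_centralizerIn hg₁ hPU (hCU hc)
          (Subgroup.centralizer_le hP.1 hc.2)
        rw [IsMap.img_congr hg₁f] at h3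
        exact h3.2
    have hg₁R : ∀ c ∈ C, g₁ c ∈ R ⊔ C := fun c hc => by
      have h3 := mul_mem (le_sup_right (a := R) hc) (le_sup_left (b := C) (hτ c hc))
      rwa [mul_inv_cancel_left] at h3
    refine ⟨_, hg₁.comp hg₂ fun z hz => hg₁.map_mem_of_sup
      (fun x hx => by rw [hg₁f x hx]; exact Subgroup.mem_sup_left (hm x hx)) hg₁R hz,
      fun x hx => ?_, fun c hc => ?_⟩
    · show g₂ (g₁ x) = f₂ (f₁ x)
      rw [hg₁f x hx, hg₂f _ (hm x hx)]
    · show c⁻¹ * g₂ (g₁ c) ∈ T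
      have e1 : g₂ (g₁ c) = g₂ c * g₂ (c⁻¹ * g₁ c) := by
        rw [← hg₂.map_mul (le_sup_right (a := R) hc) (le_sup_left (b := C) (hτ c hc)),
          mul_inv_cancel_left]
      rw [e1, ← mul_assoc, hg₂f _ (hτ c hc)]
      exact mul_mem (hg₂c c hc) (h2.isMap.mem_S (hτ c hc))
  | @congr P f₁ f₂ _ he ih =>
    intro hP
    obtain ⟨g, hg, hgf, hgc⟩ := ih hP
    exact ⟨g, hg, fun x hx => (hgf x hx).trans (he x hx).symm, hgc⟩

/-! ### Automorphisms of `T` extending to `T C_S(T)` trivially modulo `T` -/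

theorem map_mem_centralizer {V : Subgroup Ω} (hTV : T ≤ V) (hV : V ≤ S) (hT : F.StronglyClosed T)
    {k : MulAut V} (hk : k ∈ F.autGroup V) {c : Ω} (hc : c ∈ V) (hcT : c ∈ centralizerIn S T) :
    autFun k c ∈ centralizerIn S T := by
  have hm := (mem_autGroup_iff hV).1 hk
  have hi : img T (autFun k) = T := img_eq_of_map_le hT.1 hm hTV fun x hx =>
    SubsystemCentric.map_mem_of_stronglyClosed hT hm (hTV hx) hx
  have h1 := map_mem_centralizerIn hm hTV hc hcT.2
  rwa [hi] at h1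

/-- Automorphisms of `T` extending to `T C_S(T)` trivially modulo `T`. -/
def extAut (F : FusionSystem S) (T : Subgroup Ω) (hT : F.StronglyClosed T) :
    Subgroup (MulAut T) where
  carrier := {α | ∃ k ∈ F.autGroup (T ⊔ centralizerIn S T),
    (∀ x ∈ T, autFun k x = autFun α x) ∧ ∀ c ∈ centralizerIn S T, c⁻¹ * autFun k c ∈ T}
  one_mem' := ⟨1, one_mem _, fun x hx => by rw [autFun_one hx, autFun_one (le_sup_left (a := T) hx)],
    fun c hc => by rw [autFun_one (le_sup_right (a := T) hc), inv_mul_cancel]; exact one_mem T⟩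
  mul_mem' := fun {a b} ⟨k, hk, hka, hkc⟩ ⟨l, hl, hlb, hlc⟩ => by
    refine ⟨k * l, mul_mem hk hl, fun x hx => ?_, fun c hc => ?_⟩
    · rw [autFun_mul _ _ (le_sup_left (a := T) hx), hlb x hx, hka _ (autFun_mem b hx),
        autFun_mul _ _ hx]
    · have hcW := le_sup_right (a := T) hc
      have h1 := hlc c hc
      rw [autFun_mul _ _ hcW, show autFun l c = c * (c⁻¹ * autFun l c) by group,
        autFun_map_mul k hcW (le_sup_left (a := T) h1), hka _ h1, ← mul_assoc]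
      exact mul_mem (hkc c hc) (autFun_mem a h1)
  inv_mem' := fun {a} ⟨k, hk, hka, hkc⟩ => by
    refine ⟨k⁻¹, inv_mem hk, fun x hx => ?_, fun c hc => ?_⟩
    · have h1 := hka _ (autFun_mem a⁻¹ hx)
      rw [autFun_symm' hx] at h1
      conv_lhs => rw [← h1]
      exact autFun_symm (le_sup_left (a := T) (autFun_mem a⁻¹ hx))
    · have hcW := le_sup_right (a := T) hc
      have hv := map_mem_centralizer le_sup_left (sup_le hT.1 inf_le_left) hT (inv_mem hk) hcW hc
      have h1 := inv_mem (hkc _ hv)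
      rw [mul_inv_rev, inv_inv] at h1
      exact (congrArg (fun u => u⁻¹ * autFun k⁻¹ c ∈ T) (autFun_symm' (α := k) hcW)).mp h1

/-- An automorphism of `T` restricting to a map of index prime to `p` extends. -/
theorem Setup.mem_extAut (h : Setup F E p χ) {α : MulAut T} (hα : α ∈ E.autGroup T)
    (hP : E.IsCentric P) (he : EMap E p {R | E.IsCentric R} P (autFun α)) :
    α ∈ extAut F T h.inv.2.1 := by
  have hT := h.inv.2.1
  have hTS := h.le
  haveI : Finite T := finite_of_le hTS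
  haveI : Finite (MulAut T) := finite_mulAut
  have hαF : α ∈ F.autGroup T :=
    (mem_autGroup_iff hTS).2 (h.isMap_sub ((mem_autGroup_iff le_rfl).1 hα))
  have hαm := (mem_autGroup_iff hTS).1 hαF
  set C := centralizerIn S T with hC
  set W := T ⊔ C with hW
  have hCS : C ≤ S := inf_le_left
  have hWS : W ≤ S := sup_le hTS hCS
  have hTW : T ≤ W := le_sup_left
  have hCW : C ≤ W := le_sup_right
  haveI : Finite W := finite_of_le hWS
  haveI : Finite (MulAut W) := finite_mulAut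
  -- extend `α` to `W`
  have hTn : F.IsFullyNormalized T := ⟨hTS, fun R _ =>
    card_le_of_le' inf_le_left (inf_le_left.trans (le_normalizerIn_of_stronglyClosed hT))⟩
  obtain ⟨ψ₀, hψ₀, hψ₀α⟩ := (isReceptive_iff.1
    (IsSaturated.automized_receptive h.isPGroup h.sat hTn).2).2 T _ hαm (img_autFun α)
  have hψm : IsMap F W ψ₀ := hψ₀.mono (sup_le (le_extSub hαm) centralizerIn_le_extSub)
  have hψC : ∀ c ∈ C, ψ₀ c ∈ C := fun c hc => by
    have h1 := map_mem_centralizerIn hψm hTW (hCW hc) hc.2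
    rwa [IsMap.img_congr hψ₀α, img_autFun] at h1
  have hψT : ∀ x ∈ T, ψ₀ x ∈ T := fun x hx => hψ₀α x hx ▸ autFun_mem α hx
  have hψi : img W ψ₀ = W := img_eq_of_map_le hWS hψm le_rfl fun z hz =>
    hψm.map_mem_of_sup (fun x hx => hTW (hψT x hx)) (fun c hc => hCW (hψC c hc)) hz
  set ψ := autOf hψm hψi
  have hψF : ψ ∈ F.autGroup W := autOf_mem hψm hψi
  have hψv : ∀ x ∈ W, autFun ψ x = ψ₀ x := fun x hx => autFun_autOf hψm hψi hx
  have hψTa : ∀ x ∈ T, autFun ψ x = autFun α x := fun x hx =>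
    (hψv x (hTW hx)).trans (hψ₀α x hx)
  -- the automorphism of `α(P) C`
  obtain ⟨g, hg, hgα, hgc⟩ := h.extTriv_eMap he hP
  set P' := img P (autFun α)
  have hP'T : P' ≤ T := (hαm.mono hP.1).img_le_of_forall fun x hx => autFun_mem α (hP.1 hx)
  have hP'c : ∀ P₁, F.IsConj P' P₁ → centralizerIn T P₁ ≤ P₁ := fun P₁ hc => by
    obtain ⟨f', hf', rfl⟩ := isConj_iff.1 hc
    exact centralizerIn_le_of_isCentric
      (h.isCentric_of_map (h.isCentric_of_map hP (hαm.mono hP.1)) hf')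
  have hP'0 : centralizerIn T P' ≤ P' := hP'c P' (isConj_refl (hP'T.trans hTS))
  set U := P' ⊔ C with hU
  have hUW : U ≤ W := sup_le (hP'T.trans hTW) hCW
  have hUS : U ≤ S := hUW.trans hWS
  haveI : Finite U := finite_of_le hUS
  haveI : Finite (MulAut U) := finite_mulAut
  have hPU : P ⊔ C ≤ W := sup_le (hP.1.trans hTW) hCW
  have hψ'm := (mem_autGroup_iff hWS).1 (inv_mem hψF)
  have hψ'U : ∀ u ∈ U, autFun ψ⁻¹ u ∈ P ⊔ C := fun u hu =>
    (hψ'm.mono hUW).map_mem_of_sup (fun y hy => by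
      obtain ⟨x, hx, rfl⟩ := (hαm.mono hP.1).mem_img.1 hy
      rw [← hψTa x (hP.1 hx), autFun_symm (hTW (hP.1 hx))]
      exact Subgroup.mem_sup_left hx)
      (fun c hc => Subgroup.mem_sup_right
        (map_mem_centralizer le_sup_left hWS hT (inv_mem hψF) (hCW hc) hc)) hu
  have hτ : ∀ c ∈ C, c⁻¹ * g c ∈ P' := fun c hc => by
    refine hP'0 ⟨hgc c hc, Subgroup.mul_mem _ (Subgroup.inv_mem _ (Subgroup.centralizer_le hP'T hc.2)) ?_⟩
    have h3 := map_mem_centralizerIn hg (le_sup_left (a := P) (b := C))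
      (le_sup_right (a := P) hc) (Subgroup.centralizer_le hP.1 hc.2)
    rw [IsMap.img_congr hgα] at h3
    exact h3.2
  have hgU : ∀ z ∈ P ⊔ C, g z ∈ U := fun z hz => hg.map_mem_of_sup
    (fun x hx => Subgroup.mem_sup_left
      ((hgα x hx).symm ▸ (hαm.mono hP.1).mem_img.2 ⟨x, hx, rfl⟩))
    (fun c hc => by
      have h3 := mul_mem (le_sup_right (a := P') hc) (le_sup_left (b := C) (hτ c hc))
      rwa [mul_inv_cancel_left] at h3) hz
  have hεm : IsMap F U (g ∘ autFun ψ⁻¹) := (hψ'm.mono hUW).comp hg hψ'U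
  have hεi : img U (g ∘ autFun ψ⁻¹) = U :=
    img_eq_of_map_le hUS hεm le_rfl fun u hu => hgU _ (hψ'U u hu)
  set ε := autOf hεm hεi with hεd
  have hεF : ε ∈ F.autGroup U := autOf_mem hεm hεi
  have hεP : ∀ y ∈ P', autFun ε y = y := fun y hy => by
    obtain ⟨x, hx, rfl⟩ := (hαm.mono hP.1).mem_img.1 hy
    rw [autFun_autOf hεm hεi (Subgroup.mem_sup_left hy)]
    show g (autFun ψ⁻¹ (autFun α x)) = _
    rw [← hψTa x (hP.1 hx), autFun_symm (hTW (hP.1 hx)), hgα x hx, hψTa x (hP.1 hx)]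
  have hεfix : ∀ n : ℕ, ∀ y ∈ P', autFun (ε ^ n) y = y := fun n y hy => by
    induction n with
    | zero => rw [pow_zero, autFun_one (Subgroup.mem_sup_left hy)]
    | succ j ih => rw [pow_succ, autFun_mul _ _ (Subgroup.mem_sup_left hy), hεP y hy, ih]
  -- modulo `T` it is `ψ⁻¹`
  have hsim : ExtLift.Sim T ψ⁻¹ ε := by
    intro u hu
    have hgS := hg.mem_S (hψ'U u hu)
    rw [autFun_autOf hεm hεi hu]
    show (g (autFun ψ⁻¹ u))⁻¹ * autFun ψ⁻¹ u ∈ T
    refine inv_mem_iff.1 ?_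
    rw [mul_inv_rev, inv_inv]
    obtain ⟨x, hx, c, hc, hxc⟩ : ∃ x ∈ P, ∃ c ∈ C, x * c = autFun ψ⁻¹ u := by
      have hz := hψ'U u hu
      have hz' : autFun ψ⁻¹ u ∈ ((P ⊔ C : Subgroup Ω) : Set Ω) := hz
      rw [coe_mul_of_left_le_normalizer_right P C fun a ha =>
        Subgroup.mem_normalizer_iff.2 fun w => by
          constructor
          · intro hw
            rw [Subgroup.mem_centralizer_iff.1 hw.2 a (hP.1 ha), mul_inv_cancel_right]
            exact hw
          · intro hw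
            have h1 := Subgroup.mem_centralizer_iff.1 hw.2 a⁻¹ (inv_mem (hP.1 ha))
            rw [show w = a⁻¹ * (a * w * a⁻¹) * a by group, h1, inv_mul_cancel_right]
            exact hw] at hz'
      obtain ⟨x, hx, c, hc, hxc⟩ := Set.mem_mul.1 hz'
      exact ⟨x, hx, c, hc, hxc⟩
    rw [← hxc, hg.map_mul (le_sup_left (b := C) hx) (le_sup_right (a := P) hc), hgα x hx,
      show (x * c)⁻¹ * (autFun α x * g c) = c⁻¹ * (x⁻¹ * autFun α x) * c * (c⁻¹ * g c) by group]
    exact mul_mem ((Subgroup.mem_normalizer_iff''.1 (h.normal_T (hCS hc)) _).1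
      (mul_mem (inv_mem (hP.1 hx)) (autFun_mem α (hP.1 hx)))) (hgc c hc)
  -- an exponent
  obtain ⟨q, M, a, hn, hqp, -, hMa, hM1, -⟩ := ExtLift.exists_exponent (p := p)
    (orderOf ε * orderOf α) (Nat.mul_ne_zero (orderOf_pos ε).ne' (orderOf_pos α).ne') 0
  have hεMo : ¬ p ∣ orderOf (ε ^ M) := by
    intro hd
    refine hqp (hd.trans (orderOf_dvd_of_pow_eq_one ?_))
    rw [← pow_mul, ← orderOf_dvd_iff_pow_eq_one]
    refine (Dvd.intro _ rfl).trans (hn ▸ Nat.mul_dvd_mul_right hMa q)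
  obtain ⟨k, hk, hkT, hksim⟩ := ExtLift.exists_lift h.isPGroup h.sat hT P' hP'c hP'T (ε ^ M)
    (pow_mem hεF M) (hεfix M) hεMo
  have hψ'T : ∀ t ∈ T, autFun ψ⁻¹ t ∈ T := fun t ht =>
    SubsystemCentric.map_mem_of_stronglyClosed hT hψ'm (hTW ht) ht
  have hsimM := hsim.pow hUW hTW hψ'T M
  have hαM : α ^ M ∈ extAut F T hT := by
    refine ⟨k * ψ ^ M, mul_mem hk (pow_mem hψF M), fun x hx => ?_, fun c hc => ?_⟩
    · rw [autFun_mul _ _ (hTW hx), autFun_pow_eq hTW hψTa M x hx, hkT _ (autFun_mem _ hx)]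
    · rw [autFun_mul _ _ (hCW hc)]
      set v := autFun (ψ ^ M) c with hv
      have hvC : v ∈ C := map_mem_centralizer le_sup_left hWS hT (pow_mem hψF M) (hCW hc) hc
      have e1 : autFun (ψ⁻¹ ^ M) v = c := by rw [hv, inv_pow, autFun_symm (hCW hc)]
      have h1 := hksim v (Subgroup.mem_sup_right hvC)
      have h2 := hsimM v (Subgroup.mem_sup_right hvC)
      rw [e1] at h2
      have h3 := mul_mem (inv_mem h2) h1
      rwa [mul_inv_rev, inv_inv, mul_assoc, mul_inv_cancel_left] at h3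
  -- the remaining part is an inner automorphism
  set γ := α * (α ^ M)⁻¹ with hγ
  have hγp : γ ^ p ^ a = 1 := by
    rw [hγ, ((Commute.refl α).pow_right M).inv_right.mul_pow, inv_pow, mul_inv_eq_one, ← pow_mul]
    refine pow_eq_pow_iff_modEq.2 (Nat.ModEq.of_dvd (n := p ^ a * q) ?_ ?_)
    · exact (Dvd.intro_left _ rfl).trans hn.dvd
    · have h1 : M ≡ 1 [MOD q] := hM1
      have h2 := (h1.mul_right' (p ^ a)).symm
      rwa [one_mul, mul_comm q] at h2
  have hTp : IsPGroup p T := h.isPGroup.to_le hTS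
  obtain ⟨-, hi⟩ := (isFullyAutomized_iff hTp).1
    (IsSaturated.automized_receptive hTp h.satE isFullyNormalized_self).1
  obtain ⟨δ, hδE, hδ⟩ := exists_conj_le_of_not_dvd_relIndex (isPGroup_autInducedBy hTp)
    (autInducedBy_le_autGroup le_rfl) hi (isPGroup_zpowers_of_pow hγp)
    (Subgroup.zpowers_le.2 (mul_mem hα (inv_mem (pow_mem hα M))))
  obtain ⟨t, ht, htx⟩ :=
    mem_autInducedBy_iff.1 (hδ (conj_mem_conjBy (Subgroup.mem_zpowers γ)))
  have hγX : γ ∈ extAut F T hT := by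
    set t' := autFun δ⁻¹ t with ht'
    have ht'T : t' ∈ T := autFun_mem _ ht
    have ht'n : t' ∈ Subgroup.normalizer (W : Set Ω) := Subgroup.le_normalizer (hTW ht'T)
    refine ⟨conjAut t' ht'n, autInducedBy_le_autGroup hWS (conjAut_mem (hTS ht'T) ht'n),
      fun x hx => ?_, fun c hc => ?_⟩
    · rw [autFun_conjAut ht'n (hTW hx)]
      have h1 := htx _ (autFun_mem δ hx)
      rw [autFun_mul _ _ (autFun_mem δ hx), autFun_symm hx, autFun_mul _ _ hx] at h1
      have h2 := congrArg (autFun δ⁻¹) h1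
      rw [autFun_symm (autFun_mem γ hx), autFun_map_mul _ (mul_mem ht (autFun_mem δ hx)) (inv_mem ht),
        autFun_map_mul _ ht (autFun_mem δ hx), autFun_symm hx] at h2
      rw [h2, ((mem_autGroup_iff le_rfl).1 (inv_mem hδE)).map_inv ht]
    · rw [autFun_conjAut ht'n (hCW hc), Subgroup.mem_centralizer_iff.1 hc.2 t' ht'T,
        mul_inv_cancel_right, inv_mul_cancel]
      exact one_mem T
  have h1 := mul_mem hγX hαM
  rwa [hγ, inv_mul_cancel_right] at h1

end CfsgLib.Fusion.PPrimeChar
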