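import Cfsg.Agent.Lib.Fusion.System.PPowerIndex

/-!
# Saturated subsystems inside subsystems of `p`-power index
-/

set_option autoImplicit false

open Subgroup
open scoped Classical

namespace CfsgLib.Fusion

open Cfsg (FusionSystem autInducedBy)
open Cfsg.FusionSystem (normalizerIn centralizerIn)

universe u

variable {Ω : Type u} [Group Ω] {S T U : Subgroup Ω} {F : FusionSystem S} {p : ℕ} [Finite S]
  [Fact p.Prime]

/-- A saturated subsystem over `T ≤ U` lies in a subsystem of `p`-power index over `U`. -/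
theorem isSubsystemOf_pPowerIndex (hS : IsPGroup p S) {E : FusionSystem T} (hE : E.IsSaturated p)
    (hEF : E.IsSubsystemOf F) (hTS : T ≤ S) {F₀ : FusionSystem U} (hTU : T ≤ U)
    (hidx : F₀.HasPPowerIndexIn F p) : E.IsSubsystemOf F₀ := by
  haveI : Finite T := finite_of_le hTS
  let E₂ : FusionSystem T := mkSystem F₀ T
    (fun P f => IsMap F₀ P f ∧ P ≤ T ∧ ∀ x ∈ P, f x ∈ T)
    (fun _ _ h => h)
    (fun _ _ _ h he => ⟨h.1.congr he, h.2.1, fun x hx => by rw [he x hx]; exact h.2.2 x hx⟩)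
    (fun _ t hP ht => ⟨isMap_conj (hP.trans hTU) (hTU ht), hP,
      fun x hx => T.mul_mem (T.mul_mem ht (hP hx)) (T.inv_mem ht)⟩)
    (fun _ _ _ _ hf hg h => ⟨hf.1.comp hg.1 h, hf.2.1, fun x hx => hg.2.2 _ (h x hx)⟩)
    (fun P f f' hf hf' he => ⟨hf', hf.1.img_le_of_forall hf.2.2, fun y hy => by
      obtain ⟨x, hx, rfl⟩ := hf.1.mem_img.1 hy
      rw [he x hx]; exact hf.2.1 hx⟩)
  have hle : E ≤ E₂ := by
    refine le_of_autGroup_le (hS.to_le hTS) hE fun R hR α hα => ?_
    have hRn : E.IsFullyNormalized R := by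
      rcases hR with rfl | hR
      · exact isFullyNormalized_self
      · exact hR.2.1
    obtain ⟨n, hn, β, hβ, he⟩ := exists_conj_mul_residual
      (IsSaturated.automized_receptive (hS.to_le hTS) hE hRn).1 ⟨α, hα⟩
    obtain ⟨β', hβ', hβe⟩ := residual_of_subsystem hEF hTS hRn.1 hβ
    have h1 : (β : MulAut R) ∈ F₀.autGroup R := hidx.2.2 R (hRn.1.trans hTU) ⟨β', hβ', hβe⟩
    have h2 : conjAut n hn.2 ∈ F₀.autGroup R :=
      autInducedBy_le_autGroup (hRn.1.trans hTU) (conjAut_mem (hTU hn.1) hn.2)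
    have hm : (conjAut n hn.2 * (β : MulAut R)) ∈ F₀.autGroup R := mul_mem h2 h1
    have heq : α = conjAut n hn.2 * (β : MulAut R) := autFun_ext fun z hz => by
      rw [show autFun α z = _ from he z hz, autFun_mul _ _ hz,
        autFun_conjAut hn.2 (autFun_mem _ hz)]
    rw [← heq] at hm
    exact (mem_autGroup_iff hRn.1).2 ((isMap_mkSystem_iff _).2
      ⟨(mem_autGroup_iff (hRn.1.trans hTU)).1 hm, hRn.1, fun x hx => hRn.1 (autFun_mem α hx)⟩)
  intro P φ hφ
  exact mem_hom_iff.2 ((isMap_mkSystem_iff _).1 (isMap_toFun (hle P hφ))).1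

end CfsgLib.Fusion
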