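import Cfsg.Agent.Lib.Fusion.System.Model
import Cfsg.Agent.Lib.Fusion.System.GroupCriteria
import Cfsg.Agent.Lib.Fusion.System.Inner
import Cfsg.Agent.Lib.Classical.SL2Sylow
import Cfsg.Agent.Lib.Classical.SLNormalized
import Cfsg.Agent.Lib.Classical.ProjLine
import Cfsg.Agent.Lib.Invol.MaxClassTwo
import Cfsg.Agent.S1217
import Mathlib.NumberTheory.LSeries.PrimesInAP

/-!
# Two-groups of maximal class as Sylow subgroups of groups without normal 2-complement
-/

set_option autoImplicit false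
set_option linter.style.haveILetI false

open Subgroup

namespace CfsgLib.Fusion.MaxClassWitness

open Cfsg (FusionSystem groupFusionSystem)

/-- The system pulled back along an injective homomorphism. -/
def pulled {Ω : Type*} [Group Ω] {S : Subgroup Ω} {G : Type*} [Group G] (ι : S →* G)
    (hι : Function.Injective ι) : FusionSystem S where
  Hom P := {φ | ∃ (hP : P ≤ S) (hφ : ∀ x : P, φ x ∈ S),
    ∃ g : G, ∀ x : P, ι ⟨φ x, hφ x⟩ = g * ι ⟨x, hP x.2⟩ * g⁻¹}
  le_of_mem h := ⟨h.1, h.2.1⟩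
  injective_of_mem := by
    rintro P φ ⟨hP, hφ, g, hg⟩ a b hab
    have h : g * ι ⟨a, hP a.2⟩ * g⁻¹ = g * ι ⟨b, hP b.2⟩ * g⁻¹ := by
      rw [← hg a, ← hg b]
      exact congrArg ι (Subtype.ext hab)
    have h' := congrArg Subtype.val (hι (mul_left_cancel (mul_right_cancel h)))
    exact Subtype.ext h'
  conj_mem := by
    intro P g hP hg
    refine ⟨hP, fun x => S.mul_mem (S.mul_mem hg (hP x.2)) (S.inv_mem hg), ι ⟨g, hg⟩, fun x => ?_⟩
    rw [← map_inv, ← map_mul, ← map_mul]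
    rfl
  comp_mem := by
    rintro P Q φ ψ ⟨hP, hφ, g, hg⟩ ⟨hQ, hψ, k, hk⟩ h
    refine ⟨hP, fun x => hψ _, k * g, fun x => ?_⟩
    have h1 := hk ⟨φ x, h x⟩
    refine Eq.trans h1 ?_
    rw [show (⟨((⟨φ x, h x⟩ : Q) : Ω), hQ (h x)⟩ : S) = ⟨φ x, hφ x⟩ from rfl, hg x]
    group
  inv_mem := by
    rintro P φ ⟨hP, hφ, g, hg⟩
    have hinj : Function.Injective φ := fun a b hab => by
      have h : g * ι ⟨a, hP a.2⟩ * g⁻¹ = g * ι ⟨b, hP b.2⟩ * g⁻¹ := by
        rw [← hg a, ← hg b]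
        exact congrArg ι (Subtype.ext hab)
      have h' := congrArg Subtype.val (hι (mul_left_cancel (mul_right_cancel h)))
      exact Subtype.ext h'
    have hR : φ.range ≤ S := by rintro _ ⟨x, rfl⟩; exact hφ x
    refine ⟨P.subtype.comp (MonoidHom.ofInjective hinj).symm.toMonoidHom,
      ⟨hR, fun y => hP ((MonoidHom.ofInjective hinj).symm y).2, g⁻¹, fun y => ?_⟩, fun x => ?_⟩
    · obtain ⟨x, rfl⟩ := (MonoidHom.ofInjective hinj).surjective y
      simp only [MonoidHom.comp_apply, MulEquiv.coe_toMonoidHom, MulEquiv.symm_apply_apply]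
      rw [show (⟨((MonoidHom.ofInjective hinj x : φ.range) : Ω), hR (MonoidHom.ofInjective hinj x).2⟩ : S)
        = ⟨φ x, hφ x⟩ from rfl, hg x]
      show ι ⟨(x : Ω), hP x.2⟩ = _
      group
    · exact congrArg Subtype.val ((MonoidHom.ofInjective hinj).symm_apply_apply x)

theorem pulled_isRealizedBy {Ω : Type*} [Group Ω] {S : Subgroup Ω} {G : Type*} [Group G]
    (ι : S →* G) (hι : Function.Injective ι) : (pulled ι hι).IsRealizedBy ι :=
  ⟨hι, fun _ hP _ hφ => ⟨fun ⟨_, _, g, hg⟩ => ⟨g, hg⟩, fun ⟨g, hg⟩ => ⟨hP, hφ, g, hg⟩⟩⟩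

/-- A group without normal `p`-complement gives a saturated system that is not inner. -/
theorem exists_not_inner {Ω : Type*} [Group Ω] {S : Subgroup Ω} [Finite S] {p : ℕ} [Fact p.Prime]
    (hS : IsPGroup p S) {G : Type*} [Group G] [Finite G] (T : Sylow p G)
    (e : S ≃* (T : Subgroup G)) (hG : ¬ Cfsg.HasNormalPComplement p G) :
    ∃ F : FusionSystem S, F.IsSaturated p ∧ ¬ IsInner F := by
  set ι : S →* G := (T : Subgroup G).subtype.comp e.toMonoidHom with hιdef
  have hι : Function.Injective ι := (T : Subgroup G).subtype_injective.comp e.injective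
  have hr : (pulled ι hι).IsRealizedBy ι := pulled_isRealizedBy ι hι
  have hT : (T : Subgroup G) = ι.range := by
    refine le_antisymm ?_ ?_
    · intro x hx
      refine ⟨e.symm ⟨x, hx⟩, ?_⟩
      show ((e (e.symm ⟨x, hx⟩) : (T : Subgroup G)) : G) = x
      rw [e.apply_symm_apply]
    · rintro _ ⟨x, rfl⟩
      exact (e x).2
  refine ⟨pulled ι hι, isSaturated_of_realized hr hS hT, fun hin => hG ?_⟩
  refine hasNormalPComplement_of_isInner T fun Q f hf => ?_
  obtain ⟨φ, ⟨hQT, hφT, g, hg⟩, hφf⟩ := hf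
  let θ : (T : Subgroup G) →* Ω := S.subtype.comp e.symm.toMonoidHom
  have hθι : ∀ (y : (T : Subgroup G)) (h : θ y ∈ S), ι ⟨θ y, h⟩ = (y : G) := fun y h => by
    show ((e (⟨θ y, h⟩ : S) : (T : Subgroup G)) : G) = y
    exact congrArg Subtype.val (e.apply_symm_apply y)
  set P : Subgroup Ω := (Q.subgroupOf (T : Subgroup G)).map θ with hP
  have hPS : P ≤ S := by
    rintro _ ⟨y, -, rfl⟩
    exact (e.symm y).2
  have hPQ : ∀ x : P, ι ⟨x, hPS x.2⟩ ∈ Q := fun x => by
    obtain ⟨y, hy, hye⟩ := x.2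
    have h := hθι y (e.symm y).2
    rw [show (⟨(x : Ω), hPS x.2⟩ : S) = ⟨θ y, (e.symm y).2⟩ from Subtype.ext hye.symm]
    exact h.symm ▸ hy
  let ψ : P →* Ω := θ.comp ((φ.comp ((ι.comp (Subgroup.inclusion hPS)).codRestrict Q hPQ)).codRestrict
    (T : Subgroup G) fun x => hφT _)
  have hψS : ∀ x : P, ψ x ∈ S := fun x => SetLike.coe_mem _
  have hψ : ψ ∈ (pulled ι hι).Hom P := ⟨hPS, hψS, g, fun x => by
    refine (hθι _ (hψS x)).trans ?_
    exact hg ⟨_, hPQ x⟩⟩
  obtain ⟨-, s, hs, hse⟩ := (isInner_iff.1 hin P).le hψ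
  refine ⟨ι ⟨s, hs⟩, (e _).2, fun z hz => ?_⟩
  let y : (T : Subgroup G) := ⟨z, hQT hz⟩
  let x : P := ⟨θ y, ⟨y, hz, rfl⟩⟩
  have hxz : ι ⟨x, hPS x.2⟩ = z := hθι y _
  have h1 : ι ⟨ψ x, hψS x⟩ = f z := by
    refine (hθι _ (hψS x)).trans ?_
    show φ ⟨ι ⟨x, hPS x.2⟩, hPQ x⟩ = f z
    rw [show (⟨ι ⟨x, hPS x.2⟩, hPQ x⟩ : Q) = ⟨z, hz⟩ from Subtype.ext hxz]
    exact hφf ⟨z, hz⟩
  rw [← h1, ← hxz, ← map_inv, ← map_mul, ← map_mul]
  exact congrArg ι (Subtype.ext (hse x))

/-- A perfect subgroup of even order forbids normal 2-complements. -/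
theorem not_complement {G K : Type*} [Group G] [Finite G] [Group K] (j : K →* G) {p : ℕ}
    [Fact p.Prime] (hK : commutator K = ⊤) (hd : p ∣ Nat.card j.range) :
    ¬ Cfsg.HasNormalPComplement p G := by
  rintro ⟨P, N, hN, hc⟩
  haveI := hN
  have hle : j.range ≤ N := by
    set π := QuotientGroup.mk' N
    obtain ⟨n, hn⟩ := P.2.exists_card_eq
    have hq : IsPGroup p (G ⧸ N) := IsPGroup.of_card (n := n) (by
      rw [← Subgroup.index_eq_card, hc.symm.index_eq_card]; exact hn)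
    haveI hsolv : Group.IsSolvable (π.comp j).range := by
      haveI := (hq.to_subgroup (π.comp j).range).isNilpotent
      infer_instance
    have htriv : (π.comp j).range = ⊥ := by
      by_contra hne
      haveI : Nontrivial (π.comp j).range := (Subgroup.nontrivial_iff_ne_bot _).2 hne
      refine (Group.IsSolvable.commutator_lt_top_of_nontrivial (π.comp j).range).ne ?_
      rw [_root_.commutator_def, ← map_top_of_surjective _ (π.comp j).rangeRestrict_surjective,
        ← map_commutator, ← _root_.commutator_def, hK]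
    rintro _ ⟨x, rfl⟩
    rw [← QuotientGroup.eq_one_iff]
    exact Subgroup.mem_bot.1 (htriv.le ⟨x, rfl⟩)
  have h2 : p ∣ Nat.card N := hd.trans (Subgroup.card_dvd_of_le hle)
  exact P.not_dvd_index (hc.index_eq_card ▸ h2)

/-- Primes `q > 5` with prescribed 2-part of `q + 1`. -/
theorem exists_prime (m : ℕ) (hm : 2 ≤ m) :
    ∃ q : ℕ, q.Prime ∧ 5 < q ∧ q % 4 = 3 ∧ ∃ u v, Odd u ∧ Odd v ∧ q + 1 = 2 ^ m * u ∧ q - 1 = 2 * v := by
  have h1 : 1 ≤ 2 ^ m := Nat.one_le_two_pow
  have hev : 2 ∣ 2 ^ m := dvd_pow_self 2 (by omega)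
  have hcop : Nat.Coprime (2 ^ m - 1) (2 ^ (m + 1)) :=
    Nat.Coprime.pow_right _ (Nat.coprime_two_right.2 (Nat.odd_iff.2 (by omega)))
  obtain ⟨q, hq5, hq, hmod⟩ := Nat.forall_exists_prime_gt_and_modEq 5 (pow_ne_zero _ two_ne_zero) hcop
  have h2 : (q + 1) % 2 ^ (m + 1) = 2 ^ m := by
    have h3 := hmod.add_right 1
    rw [Nat.ModEq, show 2 ^ m - 1 + 1 = 2 ^ m by omega] at h3
    rw [h3, Nat.mod_eq_of_lt (Nat.pow_lt_pow_right (by norm_num) (Nat.lt_succ_self m))]
  set c := (q + 1) / 2 ^ (m + 1)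
  have h4 : q + 1 = 2 ^ m * (2 * c + 1) := by
    rw [← Nat.mod_add_div (q + 1) (2 ^ (m + 1)), h2]
    ring
  have h5 : 4 ∣ q + 1 := h4 ▸ Dvd.dvd.mul_right (pow_dvd_pow 2 hm) _
  refine ⟨q, hq, hq5, by omega, 2 * c + 1, (q - 1) / 2, ⟨c, rfl⟩, Nat.odd_iff.2 ?_, h4, ?_⟩ <;> omega

/-- The dihedral quotient of a quaternion group. -/
def quatToDihedral (n : ℕ) : QuaternionGroup n →* DihedralGroup n where
  toFun
    | .a i => .r (ZMod.castHom (dvd_mul_left n 2) (ZMod n) i)
    | .xa i => .sr (ZMod.castHom (dvd_mul_left n 2) (ZMod n) i)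
  map_one' := by
    show DihedralGroup.r (ZMod.castHom (dvd_mul_left n 2) (ZMod n) 0) = 1
    rw [map_zero]; rfl
  map_mul' := by
    rintro (i | i) (j | j) <;>
      simp [QuaternionGroup.a_mul_a, QuaternionGroup.a_mul_xa, QuaternionGroup.xa_mul_a,
        QuaternionGroup.xa_mul_xa, DihedralGroup.r_mul_r, DihedralGroup.r_mul_sr,
        DihedralGroup.sr_mul_r, DihedralGroup.sr_mul_sr]

theorem quatToDihedral_surjective (n : ℕ) [NeZero n] : Function.Surjective (quatToDihedral n) := by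
  rintro (i | i) <;> obtain ⟨j, hj⟩ := ZMod.castHom_surjective (dvd_mul_left n 2) i
  · exact ⟨.a j, congrArg DihedralGroup.r hj⟩
  · exact ⟨.xa j, congrArg DihedralGroup.sr hj⟩

section Shapes

variable {S : Type*} [Group S] [Finite S]

/-- Generalized quaternion groups. -/
theorem exists_group_quaternion (hS : IsPGroup 2 S) {n : ℕ} (hn : 2 ≤ n)
    (e : S ≃* QuaternionGroup n) :
    ∃ (G : Type) (_ : Group G) (_ : Finite G) (T : Sylow 2 G),
      ¬ Cfsg.HasNormalPComplement 2 G ∧ Nonempty (S ≃* (T : Subgroup G)) := by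
  haveI : Fact (Nat.Prime 2) := ⟨Nat.prime_two⟩
  haveI : NeZero n := ⟨by omega⟩
  obtain ⟨a, ha⟩ := hS.exists_card_eq
  have hcS : 4 * n = 2 ^ a := by
    rw [← ha, Nat.card_congr e.toEquiv, Nat.card_eq_fintype_card, QuaternionGroup.card]
  have ha3 : 3 ≤ a := by
    by_contra h
    have : 2 ^ a ≤ 2 ^ 2 := Nat.pow_le_pow_right two_pos (by omega)
    omega
  obtain ⟨q, hq, hq5, -, u, v, hu, hv, hqu, hqv⟩ := exists_prime (a - 1) (by omega)
  haveI := Fact.mk hq
  have hcF : Fintype.card (ZMod q) = q := ZMod.card q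
  have hodd : Odd (Fintype.card (ZMod q)) := by rw [hcF]; exact hq.odd_of_ne_two (by omega)
  obtain ⟨P⟩ : Nonempty (Sylow 2 (Matrix.SpecialLinearGroup (Fin 2) (ZMod q))) := inferInstance
  have hcard : Nat.card P = 2 ^ a := by
    refine CfsgLib.Invol.card_sylow_of_eq P (r := q * v * u) ?_
      (((hq.odd_of_ne_two (by omega)).mul hv).mul hu)
    rw [CfsgLib.Classical.card_sl2, hcF, hqu, hqv, show a = a - 1 + 1 by omega, pow_succ,
      Nat.add_sub_cancel]
    ring
  refine ⟨_, inferInstance, inferInstance, P, not_complement (MonoidHom.id _)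
    (CfsgLib.Classical.sl_perfect_and_psl_simple le_rfl (by rw [hcF]; omega)).1 ?_, ?_⟩
  · rw [MonoidHom.range_eq_top.2 Function.surjective_id, Subgroup.card_top]
    exact (dvd_pow_self 2 (by omega)).trans (hcard ▸ Subgroup.card_subgroup_dvd_card _)
  · obtain ⟨k, -, ⟨eP⟩⟩ := CfsgLib.Classical.sylow_two_quaternion hodd P
    have h1 : 4 * 2 ^ k = 4 * n := by
      rw [hcS, ← hcard, Nat.card_congr eP.toEquiv, Nat.card_eq_fintype_card, QuaternionGroup.card]
    rw [show 2 ^ k = n by omega] at eP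
    exact ⟨e.trans eP.symm⟩

/-- Dihedral groups. -/
theorem exists_group_dihedral (hS : IsPGroup 2 S) {n : ℕ} (hn : 2 ≤ n)
    (e : S ≃* DihedralGroup n) :
    ∃ (G : Type) (_ : Group G) (_ : Finite G) (T : Sylow 2 G),
      ¬ Cfsg.HasNormalPComplement 2 G ∧ Nonempty (S ≃* (T : Subgroup G)) := by
  haveI : Fact (Nat.Prime 2) := ⟨Nat.prime_two⟩
  haveI : NeZero n := ⟨by omega⟩
  obtain ⟨a, ha⟩ := hS.exists_card_eq
  have hcS : 2 * n = 2 ^ a := by
    rw [← ha, Nat.card_congr e.toEquiv, DihedralGroup.nat_card]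
  have ha2 : 2 ≤ a := by
    by_contra h
    have : 2 ^ a ≤ 2 ^ 1 := Nat.pow_le_pow_right two_pos (by omega)
    omega
  obtain ⟨q, hq, hq5, -, u, v, hu, hv, hqu, hqv⟩ := exists_prime a ha2
  haveI := Fact.mk hq
  have hcF : Fintype.card (ZMod q) = q := ZMod.card q
  have hodd : Odd (Fintype.card (ZMod q)) := by rw [hcF]; exact hq.odd_of_ne_two (by omega)
  set SL := Matrix.SpecialLinearGroup (Fin 2) (ZMod q)
  obtain ⟨P⟩ : Nonempty (Sylow 2 SL) := inferInstance
  have hcard : Nat.card P = 2 ^ (a + 1) := by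
    refine CfsgLib.Invol.card_sylow_of_eq P (r := q * v * u) ?_
      (((hq.odd_of_ne_two (by omega)).mul hv).mul hu)
    rw [CfsgLib.Classical.card_sl2, hcF, hqu, hqv, pow_succ]
    ring
  set π : SL →* Matrix.ProjectiveSpecialLinearGroup (Fin 2) (ZMod q) :=
    QuotientGroup.mk' (Subgroup.center SL) with hπdef
  have hπ : Function.Surjective π := QuotientGroup.mk'_surjective _
  set T := P.mapSurjective hπ
  have hperf := (CfsgLib.Classical.sl_perfect_and_psl_simple (F := ZMod q) (n := 2) le_rfl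
    (by rw [hcF]; omega)).1
  obtain ⟨k, -, ⟨eP⟩⟩ := CfsgLib.Classical.sylow_two_quaternion hodd P
  have h1 : 4 * 2 ^ k = 4 * n := by
    rw [show 4 * n = 2 * (2 * n) by ring, hcS, ← pow_succ', ← hcard, Nat.card_congr eP.toEquiv,
      Nat.card_eq_fintype_card, QuaternionGroup.card]
  rw [show 2 ^ k = n by omega] at eP
  let f₁ : P →* DihedralGroup n := (quatToDihedral n).comp eP.toMonoidHom
  have hf₁ : Function.Surjective f₁ := (quatToDihedral_surjective n).comp eP.surjective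
  let f₂ : P →* (P : Subgroup SL).map π := π.subgroupMap P
  have hf₂ : Function.Surjective f₂ := π.subgroupMap_surjective _
  have hk₁ : Nat.card f₁.ker = 2 := by
    have h2 := f₁.ker.card_mul_index
    rw [Subgroup.index_ker, MonoidHom.range_eq_top.2 hf₁, Subgroup.card_top, DihedralGroup.nat_card,
      hcard, pow_succ, ← hcS] at h2
    nlinarith
  have hone : ∀ x y : P, x * x = 1 → y * y = 1 → x ≠ 1 → y ≠ 1 → x = y := fun x y hx hy hx1 hy1 => by
    have h2 := CfsgLib.Classical.two_ne_zero_of_odd_card hodd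
    exact Subtype.ext (Subtype.ext ((CfsgLib.Classical.involution_eq_neg_one h2
      (fun h => hx1 (Subtype.ext h)) (congrArg Subtype.val hx :)).trans
      (CfsgLib.Classical.involution_eq_neg_one h2
      (fun h => hy1 (Subtype.ext h)) (congrArg Subtype.val hy :)).symm))
  have hker : f₁.ker = f₂.ker := by
    have hsq : ∀ x ∈ f₁.ker, x * x = 1 := fun x hx => by
      have h3 := pow_card_eq_one' (G := f₁.ker) (x := ⟨x, hx⟩)
      rw [hk₁, sq] at h3
      exact congrArg Subtype.val h3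
    obtain ⟨⟨z, hz⟩, hz1⟩ := exists_prime_orderOf_dvd_card' (G := f₁.ker) 2 (by rw [hk₁])
    have hzne : z ≠ 1 := by
      rintro rfl
      simp at hz1
    obtain ⟨c, hc⟩ : ∃ c : Subgroup.center SL, orderOf c = 2 := exists_prime_orderOf_dvd_card' 2 (by
      rw [CfsgLib.Classical.card_center_sl (by omega), hcF]
      exact Nat.dvd_gcd dvd_rfl (hqv ▸ Dvd.intro v rfl))
    have hcP : (c : SL) ∈ (P : Subgroup SL) := by
      have h4 : IsPGroup 2 (zpowers (c : SL)) := IsPGroup.of_card (n := 1) (by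
        rw [Nat.card_zpowers, Subgroup.orderOf_coe, hc, pow_one])
      haveI : (zpowers (c : SL)).Normal := ⟨fun w hw g => by
        obtain ⟨i, rfl⟩ := mem_zpowers_iff.1 hw
        rw [Subgroup.mem_center_iff.1 (zpow_mem c.2 i) g, mul_inv_cancel_right]
        exact zpow_mem (mem_zpowers _) i⟩
      exact h4.le_sylow_of_normal P (mem_zpowers _)
    have hzc : z = ⟨c, hcP⟩ := by
      refine hone _ _ (hsq z hz) (Subtype.ext ?_) hzne fun h => ?_
      · show (c : SL) * c = 1
        rw [← Subgroup.coe_mul, ← sq, orderOf_dvd_iff_pow_eq_one.1 hc.dvd, Subgroup.coe_one]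
      · have h5 : c = 1 := Subtype.ext (congrArg Subtype.val h :)
        simp [h5] at hc
    ext x
    constructor
    · intro hx
      rcases eq_or_ne x 1 with rfl | hx1
      · exact one_mem _
      rw [hone x z (hsq x hx) (hsq z hz) hx1 hzne, hzc]
      exact MonoidHom.mem_ker.2 (Subtype.ext ((QuotientGroup.eq_one_iff _).2 c.2))
    · intro hx
      rcases eq_or_ne x 1 with rfl | hx1
      · exact one_mem _
      have h6 : (x : SL) ∈ Subgroup.center SL :=
        (QuotientGroup.eq_one_iff _).1 (congrArg Subtype.val (MonoidHom.mem_ker.1 hx))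
      have h7 : x * x = 1 := by
        refine Subtype.ext ?_
        have h8 := pow_card_eq_one' (G := Subgroup.center SL) (x := ⟨x, h6⟩)
        rw [CfsgLib.Classical.card_center_sl (by omega), hcF,
          Nat.gcd_eq_left (hqv ▸ Dvd.intro v rfl), sq] at h8
        exact congrArg (fun w : Subgroup.center SL => (w : SL)) h8
      rw [hone x z h7 (hsq z hz) hx1 hzne]
      exact hz
  refine ⟨_, inferInstance, inferInstance, T, not_complement π hperf ?_, ⟨?_⟩⟩
  · rw [MonoidHom.range_eq_top.2 hπ, Subgroup.card_top]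
    have h9 : Nat.card ((P : Subgroup SL).map π) = 2 ^ a := by
      rw [← Nat.card_congr (QuotientGroup.quotientKerEquivOfSurjective f₂ hf₂).toEquiv, ← hker,
        Nat.card_congr (QuotientGroup.quotientKerEquivOfSurjective f₁ hf₁).toEquiv,
        DihedralGroup.nat_card, hcS]
    exact (dvd_pow_self 2 (by omega)).trans (h9 ▸ Subgroup.card_subgroup_dvd_card _)
  · exact e.trans ((QuotientGroup.quotientKerEquivOfSurjective f₁ hf₁).symm.trans
      ((QuotientGroup.quotientMulEquivOfEq hker).trans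
        (QuotientGroup.quotientKerEquivOfSurjective f₂ hf₂)))

/-- Quasidihedral groups. -/
theorem exists_group_quasidihedral (hS : Cfsg.IsQuasiDihedral S) :
    ∃ (G : Type) (_ : Group G) (_ : Finite G) (T : Sylow 2 G),
      ¬ Cfsg.HasNormalPComplement 2 G ∧ Nonempty (S ≃* (T : Subgroup G)) := by
  haveI : Fact (Nat.Prime 2) := ⟨Nat.prime_two⟩
  obtain ⟨k, a, b, hk, hc, Fr⟩ := CfsgLib.Invol.exists_frame_of_quasiDihedral hS
  obtain ⟨q, hq, hq5, hq4, u, v, hu, hv, hqu, hqv⟩ := exists_prime (k - 1) (by omega)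
  haveI := Fact.mk hq
  have hcF : Fintype.card (ZMod q) = q := ZMod.card q
  obtain ⟨P⟩ : Nonempty (Sylow 2 (GL (Fin 2) (ZMod q))) := inferInstance
  have hcard : Nat.card P = 2 ^ (k + 1) := by
    refine CfsgLib.Invol.card_sylow_of_eq P (r := q * v * v * u) ?_
      ((((hq.odd_of_ne_two (by omega)).mul hv).mul hv).mul hu)
    rw [CfsgLib.Classical.card_gl2, hcF, hqu, hqv, show k + 1 = k - 1 + 1 + 1 by omega, pow_succ,
      pow_succ]
    ring
  have hP : Cfsg.IsQuasiDihedral (P : Subgroup (GL (Fin 2) (ZMod q))) :=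
    (Cfsg.Agent.S1217.result P).1 (by rw [hcF]; exact hq4)
  obtain ⟨k', a', b', hk', hc', Fr'⟩ := CfsgLib.Invol.exists_frame_of_quasiDihedral hP
  obtain rfl : k' = k := by
    have h1 := hcard.symm.trans hc'
    have := Nat.pow_right_injective le_rfl h1
    omega
  obtain ⟨f, -⟩ := Fr.nonempty_mulEquiv Fr'
  refine ⟨_, inferInstance, inferInstance, P, not_complement
    (Matrix.SpecialLinearGroup.toGL : Matrix.SpecialLinearGroup (Fin 2) (ZMod q) →* _)
    (CfsgLib.Classical.sl_perfect_and_psl_simple le_rfl (by rw [hcF]; omega)).1 ?_, ⟨f⟩⟩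
  have hinj : Function.Injective (Matrix.SpecialLinearGroup.toGL :
      Matrix.SpecialLinearGroup (Fin 2) (ZMod q) →* GL (Fin 2) (ZMod q)) :=
    fun a b h => Subtype.ext (congrArg Units.val h)
  rw [← Nat.card_congr (MonoidHom.ofInjective hinj).toEquiv, CfsgLib.Classical.card_sl2, hcF, hqv]
  exact Dvd.dvd.mul_left ((dvd_mul_right 2 v).mul_right _) _

end Shapes

end CfsgLib.Fusion.MaxClassWitness
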