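import Cfsg.Agent.Lib.Fusion.System.AbelianIndexPOne

/-!
# Core-free systems with an abelian subgroup of index `p` that is not essential

For odd `p` the centre has order `p`, lies in the derived subgroup, some subgroup `Z(S)⟨x⟩` is
essential, and `S` has maximal class.
-/

set_option autoImplicit false
set_option linter.style.haveILetI false
set_option linter.unusedSectionVars false

open Subgroup
open scoped Classical commutatorElement IsMulCommutative

namespace CfsgLib.Fusion.AbelianIndexP

open Cfsg (FusionSystem autInducedBy)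
open Cfsg.FusionSystem (normalizerIn centralizerIn)
open CfsgLib.Fusion.CenterIndex (map_center eq_bot_of_invariant)

variable {Ω : Type*} [Group Ω] {S A : Subgroup Ω} {p : ℕ} [Finite S] [Fact p.Prime]
  {F : FusionSystem S}

theorem center_ne_bot (h : Setup S A p) : centralizerIn S S ≠ ⊥ := by
  intro hb
  haveI : Nontrivial S := (Subgroup.nontrivial_iff_ne_bot S).2 fun hS =>
    h.nonab fun a ha b hb' => by
      rw [hS, Subgroup.mem_bot] at ha hb'
      rw [ha, hb']
  haveI := h.isPGroup.center_nontrivial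
  refine (Subgroup.nontrivial_iff_ne_bot (Subgroup.center S)).1 inferInstance ?_
  rw [← CenterIndex.centralizerIn_subgroupOf, hb, Subgroup.bot_subgroupOf]

/-- An abelian essential subgroup exists, and the centre lies in `S'` and has order `p`. -/
theorem exists_abelian_essential (hp : p ≠ 2) (h : Setup S A p) (hF : F.IsSaturated p)
    (hcore : F.core = ⊥) (hAe : ¬ F.IsEssential p A) :
    ∃ E x, Ess F A p E x ∧ E = centralizerIn S S ⊔ Subgroup.zpowers x ∧
      centralizerIn S S ≤ ⁅S, S⁆ ∧ Nat.card (centralizerIn S S) = p := by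
  have hzess : ∀ R, F.IsEssential p R → centralizerIn S S ≤ R := fun R hR => by
    obtain ⟨y, hy⟩ := exists_ess h hAe hR
    exact hy.center_le h
  by_cases hI : ∃ E x, Ess F A p E x ∧ E ⊓ A ≤ centralizerIn S S
  · obtain ⟨E, x, he, hab⟩ := hI
    haveI := he.mulComm h hab
    obtain ⟨φ, hφ, -⟩ := he.exists_inverting h hab hp hAe hF
    have hbot : fixZ φ = ⊥ := by
      refine eq_bot_of_invariant h.isPGroup hF hcore (fun z hz => hz.1.1)
        (fun R hR z hz => hzess R hR hz.1)
        (fun χ hχ z hz => hφ.fixZ_invariant h.isPGroup hF hχ hz) fun R hR β hβ z hz => ?_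
      obtain ⟨y, hy⟩ := exists_ess h hAe hR
      by_cases hRab : R ⊓ A ≤ centralizerIn S S
      · haveI := hy.mulComm h hRab
        obtain ⟨ψ, hψ, hψinv⟩ := hy.exists_inverting h hRab hp hAe hF
        have heq : fixZ φ = fixZ ψ := by
          ext w
          rw [mem_fixZ, mem_fixZ]
          refine and_congr_right fun hw => ?_
          rw [hφ.agree h.isPGroup hF hψ w hw]
        rw [heq] at hz ⊢
        exact hψinv β hβ z hz
      · obtain ⟨ψ, hψ, hψe⟩ := hy.topOn h hAe hF hRab hβ
        rw [hψe z hz.1]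
        exact hφ.fixZ_invariant h.isPGroup hF hψ hz
    have hle : centralizerIn S S ≤ cd S :=
      (hφ.le_sup hp h.isPGroup).trans (sup_le le_rfl (by rw [hbot]; exact bot_le))
    refine ⟨E, x, he, he.eq_sup h hab, hle.trans inf_le_right, ?_⟩
    rw [← he.card_cd h hab hF, le_antisymm hle inf_le_left]
  · exfalso
    push Not at hI
    refine center_ne_bot h (eq_bot_of_invariant h.isPGroup hF hcore inf_le_left hzess
      (fun χ _ z hz => map_center χ hz) fun R hR β hβ z hz => ?_)
    obtain ⟨y, hy⟩ := exists_ess h hAe hR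
    exact hy.map_center h (hI R y hy) β hz

/-- `A` has large iterated commutators with `S`. -/
theorem card_le_lowerCentralSeries (h : Setup S A p) (hZ : Nat.card (centralizerIn S S) = p)
    (k : ℕ) : ∃ D : Subgroup Ω, D ≤ A ∧ D ≤ Subgroup.lowerCentralSeries S k ∧
      Nat.card A ≤ p ^ k * Nat.card D := by
  obtain ⟨x, hx, hxA⟩ := SetLike.exists_of_lt (lt_of_le_of_ne h.le h.ne)
  induction k with
  | zero => exact ⟨A, le_rfl, h.le, by rw [pow_zero, one_mul]⟩
  | succ k ih =>
    obtain ⟨D, hDA, hDk, hc⟩ := ih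
    refine ⟨(D.subgroupOf A).map (h.dl hx), ?_, ?_, hc.trans ?_⟩
    · rintro _ ⟨a, -, rfl⟩
      exact h.comm_mem a.2 hx
    · rintro _ ⟨a, ha, rfl⟩
      rw [Subgroup.lowerCentralSeries_succ]
      exact Subgroup.commutator_mem_commutator (hDk ha) hx
    · rw [pow_succ, mul_assoc]
      have h1 := h.card_le_dl hx hxA hDA
      rw [hZ] at h1
      exact Nat.mul_le_mul_left _ h1

theorem lowerCentralSeries_ne_bot (h : Setup S A p)
    (hZ : Nat.card (centralizerIn S S) = p) {n : ℕ} (hn : Nat.card S = p ^ n) (hn2 : 2 ≤ n) :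
    Subgroup.lowerCentralSeries S (n - 2) ≠ ⊥ := by
  intro hb
  obtain ⟨D, -, hD, hc⟩ := card_le_lowerCentralSeries h hZ (n - 2)
  rw [hb, le_bot_iff] at hD
  subst hD
  rw [Subgroup.card_bot, mul_one] at hc
  have e := Subgroup.relIndex_mul_relIndex ⊥ A S bot_le h.le
  simp only [Subgroup.relIndex_bot_left] at e
  rw [h.idx, hn, show p ^ n = p ^ (n - 1) * p by rw [← pow_succ]; congr 1; omega] at e
  rw [Nat.eq_of_mul_eq_mul_right (Fact.out : p.Prime).pos e] at hc
  have := (Nat.pow_le_pow_iff_right (Fact.out : p.Prime).one_lt).1 hc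
  omega

end CfsgLib.Fusion.AbelianIndexP
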