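import Cfsg.Agent.Lib.Fusion.System.CenterIndexCore

/-!
# An abelian subgroup of index `p` and the essential subgroups it meets

Structure of a nonabelian `p`-group `S` with an abelian subgroup `A` of index `p`, and of an
essential subgroup `E` with an element `x` outside `A`.
-/

set_option autoImplicit false
set_option linter.style.haveILetI false
set_option linter.unusedSectionVars false

open Subgroup
open scoped Classical commutatorElement

namespace CfsgLib.Fusion.AbelianIndexP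

open Cfsg (FusionSystem autInducedBy)
open Cfsg.FusionSystem (normalizerIn centralizerIn)
open CfsgLib.Fusion.CenterIndex (commute_center)

variable {Ω : Type*} [Group Ω] {S A : Subgroup Ω} {p : ℕ}

/-- An abelian subgroup of index `p` in a nonabelian `p`-group. -/
structure Setup (S A : Subgroup Ω) (p : ℕ) : Prop where
  isPGroup : IsPGroup p S
  le : A ≤ S
  comm : ∀ a ∈ A, ∀ b ∈ A, a * b = b * a
  idx : A.relIndex S = p
  nonab : ¬ ∀ a ∈ S, ∀ b ∈ S, a * b = b * a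

variable [Finite S] [Fact p.Prime] (h : Setup S A p)
include h

theorem Setup.ne : A ≠ S := fun e => (Fact.out : p.Prime).ne_one (by
  rw [← h.idx, e, Subgroup.relIndex_self])

theorem Setup.conj_mem {s a : Ω} (hs : s ∈ S) (ha : a ∈ A) : s * a * s⁻¹ ∈ A := by
  have hlt := lt_normalizerIn h.isPGroup h.le h.ne
  have hmul := Subgroup.relIndex_mul_relIndex A (normalizerIn S A) S hlt.le inf_le_left
  rw [h.idx] at hmul
  rcases (Nat.dvd_prime (Fact.out : p.Prime)).1 ⟨_, hmul.symm⟩ with h1 | h1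
  · exact absurd (Subgroup.relIndex_eq_one.1 h1) (not_le_of_gt hlt)
  · rw [h1] at hmul
    have h2 : S ≤ normalizerIn S A :=
      Subgroup.relIndex_eq_one.1 ((mul_eq_left₀ (Fact.out : p.Prime).ne_zero).1 hmul)
    exact (Subgroup.mem_normalizer_iff.1 (h2 hs).2 a).1 ha

theorem Setup.le_normalizer : S ≤ Subgroup.normalizer (A : Set Ω) := fun s hs =>
  Subgroup.mem_normalizer_iff.2 fun a => ⟨h.conj_mem hs, fun ha => by
    have := h.conj_mem (S.inv_mem hs) ha
    simpa [mul_assoc] using this⟩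

theorem Setup.comm_mem {a x : Ω} (ha : a ∈ A) (hx : x ∈ S) : ⁅a, x⁆ ∈ A := by
  rw [commutatorElement_def, show a * x * a⁻¹ * x⁻¹ = a * (x * a⁻¹ * x⁻¹) by group]
  exact mul_mem ha (h.conj_mem hx (inv_mem ha))

theorem Setup.sup_eq {x : Ω} (hx : x ∈ S) (hxA : x ∉ A) : A ⊔ Subgroup.zpowers x = S := by
  have hle : A ⊔ Subgroup.zpowers x ≤ S := sup_le h.le (Subgroup.zpowers_le.2 hx)
  have hmul := Subgroup.relIndex_mul_relIndex A (A ⊔ Subgroup.zpowers x) S le_sup_left hle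
  rw [h.idx] at hmul
  rcases (Nat.dvd_prime (Fact.out : p.Prime)).1 ⟨_, hmul.symm⟩ with h1 | h1
  · exact absurd (Subgroup.relIndex_eq_one.1 h1 (Subgroup.mem_sup_right (Subgroup.mem_zpowers x))) hxA
  · rw [h1] at hmul
    exact le_antisymm hle
      (Subgroup.relIndex_eq_one.1 ((mul_eq_left₀ (Fact.out : p.Prime).ne_zero).1 hmul))

theorem Setup.decomp {x y : Ω} (hx : x ∈ S) (hxA : x ∉ A) (hy : y ∈ S) :
    ∃ k : ℤ, y * x ^ k ∈ A := by
  have hy' : y ∈ ((A ⊔ Subgroup.zpowers x : Subgroup Ω) : Set Ω) := (h.sup_eq hx hxA).ge hy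
  rw [Subgroup.coe_mul_of_right_le_normalizer_left A (Subgroup.zpowers x)
    (Subgroup.zpowers_le.2 (h.le_normalizer hx))] at hy'
  obtain ⟨a, ha, b, hb, rfl : a * b = y⟩ := Set.mem_mul.1 hy'
  obtain ⟨k, rfl⟩ := Subgroup.mem_zpowers_iff.1 hb
  exact ⟨-k, by rwa [mul_assoc, ← zpow_add, add_neg_cancel, zpow_zero, mul_one]⟩

theorem Setup.center_le : centralizerIn S S ≤ A := by
  intro z hz
  by_contra hzA
  refine h.nonab fun a ha b hb => ?_
  obtain ⟨i, hi⟩ := h.decomp hz.1 hzA ha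
  obtain ⟨j, hj⟩ := h.decomp hz.1 hzA hb
  have hc : ∀ y ∈ S, ∀ k : ℤ, Commute (z ^ k) y := fun y hy k =>
    Commute.zpow_left (commute_center hz hy).symm k
  calc a * b = a * z ^ i * (z ^ i)⁻¹ * (b * z ^ j * (z ^ j)⁻¹) := by group
    _ = a * z ^ i * (b * z ^ j) * ((z ^ i)⁻¹ * (z ^ j)⁻¹) := by
      rw [mul_assoc (a * z ^ i), ← mul_assoc (z ^ i)⁻¹,
        ((hc _ (h.le hj) i).inv_left).eq, mul_assoc (b * z ^ j), ← mul_assoc (a * z ^ i)]
    _ = b * z ^ j * (a * z ^ i) * ((z ^ i)⁻¹ * (z ^ j)⁻¹) := by rw [h.comm _ hi _ hj]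
    _ = b * z ^ j * (a * (z ^ j)⁻¹) := by group
    _ = b * (z ^ j * a) * (z ^ j)⁻¹ := by group
    _ = b * a := by rw [(hc a ha j).eq]; group

theorem Setup.mem_center_of_commute {a x : Ω} (ha : a ∈ A) (hx : x ∈ S) (hxA : x ∉ A)
    (hax : Commute a x) : a ∈ centralizerIn S S := by
  refine ⟨h.le ha, Subgroup.mem_centralizer_iff.2 fun y hy => ?_⟩
  obtain ⟨k, hk⟩ := h.decomp hx hxA hy
  show Commute y a
  rw [show y = y * x ^ k * x ^ (-k) by group]
  exact Commute.mul_left (h.comm _ hk a ha) (Commute.zpow_left hax.symm _)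

theorem Setup.comm_eq_one_iff {a x : Ω} (ha : a ∈ A) (hx : x ∈ S) (hxA : x ∉ A) :
    ⁅a, x⁆ = 1 ↔ a ∈ centralizerIn S S := by
  rw [commutatorElement_eq_one_iff_mul_comm]
  exact ⟨fun e => h.mem_center_of_commute ha hx hxA e, fun hz => (commute_center hz hx).symm⟩

/-- The homomorphism `a ↦ [a, x]` on `A`. -/
def Setup.dl {x : Ω} (hx : x ∈ S) : A →* Ω :=
  MonoidHom.mk' (fun a => ⁅(a : Ω), x⁆) fun a b => by
    show ⁅(a : Ω) * b, x⁆ = ⁅(a : Ω), x⁆ * ⁅(b : Ω), x⁆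
    have hc := h.comm _ (h.comm_mem b.2 hx) _ a.2
    rw [show ⁅(a : Ω) * b, x⁆ = (a : Ω) * ⁅(b : Ω), x⁆ * (a : Ω)⁻¹ * ⁅(a : Ω), x⁆ by
      simp only [commutatorElement_def]; group]
    rw [← hc, mul_inv_cancel_right, h.comm _ (h.comm_mem b.2 hx) _ (h.comm_mem a.2 hx)]

theorem Setup.dl_apply {x : Ω} (hx : x ∈ S) (a : A) : h.dl hx a = ⁅(a : Ω), x⁆ := rfl

theorem Setup.dl_ker {x : Ω} (hx : x ∈ S) (hxA : x ∉ A) :
    (h.dl hx).ker = (centralizerIn S S).subgroupOf A := by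
  ext a
  rw [MonoidHom.mem_ker, h.dl_apply, h.comm_eq_one_iff a.2 hx hxA, Subgroup.mem_subgroupOf]

theorem Setup.dl_range_le {x : Ω} (hx : x ∈ S) : (h.dl hx).range ≤ A := by
  rintro _ ⟨a, rfl⟩
  exact h.comm_mem a.2 hx

theorem Setup.derived_eq {x : Ω} (hx : x ∈ S) (hxA : x ∉ A) :
    ⁅S, S⁆ = (h.dl hx).range := by
  refine le_antisymm (Subgroup.commutator_le.2 fun a ha b hb => ?_) ?_
  · set D := (h.dl hx).range with hD
    have hDA : D ≤ A := h.dl_range_le hx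
    -- `x` normalizes `D`, and `A` centralizes it
    have hxD : ∀ k : ℤ, ∀ d ∈ D, x ^ k * d * (x ^ k)⁻¹ ∈ D := by
      rintro k _ ⟨a, rfl⟩
      refine ⟨⟨x ^ k * a * (x ^ k)⁻¹, h.conj_mem (S.zpow_mem hx k) a.2⟩, ?_⟩
      simp only [h.dl_apply, commutatorElement_def]
      group
    have haD : ∀ c ∈ A, ∀ k : ℤ, ⁅c, x ^ k⁆ ∈ D := by
      intro c hc k
      induction k using Int.induction_on with
      | zero => rw [zpow_zero, commutatorElement_one_right]; exact one_mem _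
      | succ i hi =>
        rw [zpow_add_one, show ⁅c, x ^ (i : ℤ) * x⁆ =
          ⁅c, x ^ (i : ℤ)⁆ * (x ^ (i : ℤ) * ⁅c, x⁆ * (x ^ (i : ℤ))⁻¹) by
            simp only [commutatorElement_def]; group]
        exact mul_mem hi (hxD _ _ ⟨⟨c, hc⟩, rfl⟩)
      | pred i hi =>
        rw [show ⁅c, x ^ (-(i : ℤ) - 1)⁆ =
          ⁅c, x ^ (-(i : ℤ))⁆ * (x ^ (-(i : ℤ) - 1) * ⁅c, x⁆⁻¹ * (x ^ (-(i : ℤ) - 1))⁻¹) by
            simp only [commutatorElement_def]; group]
        exact mul_mem hi (hxD _ _ (inv_mem ⟨⟨c, hc⟩, rfl⟩))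
    obtain ⟨i, hi⟩ := h.decomp hx hxA ha
    obtain ⟨j, hj⟩ := h.decomp hx hxA hb
    set a' := a * x ^ i with ha'
    set b' := b * x ^ j with hb'
    have hD1 : x ^ (-i) * ⁅b', x ^ (-i)⁆ * (x ^ (-i))⁻¹ ∈ D := hxD _ _ (haD _ hj _)
    rw [show ⁅a, b⁆ = (a' * ⁅x ^ (-i), b'⁆ * a'⁻¹) * ⁅a', b'⁆ *
      (b' * ⁅a', x ^ (-j)⁆ * b'⁻¹) by
        simp only [ha', hb', commutatorElement_def]; group]
    have hab : ⁅a', b'⁆ = 1 := commutatorElement_eq_one_iff_mul_comm.2 (h.comm _ hi _ hj)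
    have h1 : ⁅x ^ (-i), b'⁆ ∈ D := commutatorElement_inv b' (x ^ (-i)) ▸ inv_mem (haD _ hj _)
    rw [hab, mul_one, h.comm _ hi _ (hDA h1), mul_inv_cancel_right,
      h.comm _ hj _ (hDA (haD _ hi _)), mul_inv_cancel_right]
    exact mul_mem h1 (haD _ hi _)
  · rintro _ ⟨a, rfl⟩
    exact Subgroup.commutator_mem_commutator (h.le a.2) hx

theorem Setup.derived_le : ⁅S, S⁆ ≤ A := by
  obtain ⟨x, hx, hxA⟩ := SetLike.exists_of_lt (lt_of_le_of_ne h.le h.ne)
  rw [h.derived_eq hx hxA]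
  exact h.dl_range_le hx

/-- The kernel of `a ↦ [a, x]` is the centre. -/
theorem Setup.card_le_dl {x : Ω} (hx : x ∈ S) (hxA : x ∉ A) {B : Subgroup Ω} (hB : B ≤ A) :
    Nat.card B ≤ Nat.card (centralizerIn S S) * Nat.card ((B.subgroupOf A).map (h.dl hx)) := by
  haveI := finite_of_le (P := A) h.le
  haveI := finite_of_le (P := centralizerIn S S) (inf_le_left : _ ≤ S)
  set g := (h.dl hx).comp (Subgroup.inclusion hB)
  have hr : g.range = (B.subgroupOf A).map (h.dl hx) := by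
    ext y
    constructor
    · rintro ⟨b, rfl⟩
      exact ⟨Subgroup.inclusion hB b, b.2, rfl⟩
    · rintro ⟨a, ha, rfl⟩
      exact ⟨⟨a, ha⟩, rfl⟩
  haveI := finite_of_le (P := B) (hB.trans h.le)
  rw [← hr, ← g.ker.card_mul_index, Subgroup.index_ker]
  refine Nat.mul_le_mul_right _ (Nat.card_le_card_of_injective
    (fun b : g.ker => (⟨(b : B), (h.comm_eq_one_iff (hB b.1.2) hx hxA).1 b.2⟩ : centralizerIn S S))
    fun b c e => Subtype.ext (Subtype.ext (congrArg Subtype.val e :)))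

omit h

/-! ### Essential subgroups -/

variable {F : FusionSystem S} {E : Subgroup Ω} {x : Ω}

/-- An essential subgroup and one of its elements outside `A`. -/
structure Ess (F : FusionSystem S) (A : Subgroup Ω) (p : ℕ) (E : Subgroup Ω) (x : Ω) : Prop where
  ess : F.IsEssential p E
  mem : x ∈ E
  notMem : x ∉ A

theorem exists_ess (h : Setup S A p) (hAe : ¬ F.IsEssential p A) (hE : F.IsEssential p E) :
    ∃ x, Ess F A p E x := by
  by_contra hc
  push Not at hc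
  have hEA : E ≤ A := fun y hy => by
    by_contra hyA
    exact hc y ⟨hE, hy, hyA⟩
  have hAE : A ≤ E := fun a ha => centralizerIn_le_of_isCentric hE.1
    ⟨h.le ha, Subgroup.mem_centralizer_iff.2 fun y hy => (h.comm _ (hEA hy) _ ha)⟩
  exact hAe (le_antisymm hEA hAE ▸ hE)

variable (h : Setup S A p) (he : Ess F A p E x)
include h he

theorem Ess.le : E ≤ S := he.ess.1.1

theorem Ess.memS : x ∈ S := he.le h he.mem

theorem Ess.center_le : centralizerIn S S ≤ E :=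
  (inf_le_inf_left _ (Subgroup.centralizer_le (he.le h))).trans
    (centralizerIn_le_of_isCentric he.ess.1)

theorem Ess.center_le_inf : centralizerIn S S ≤ E ⊓ A := le_inf (he.center_le h) h.center_le

theorem Ess.decomp {y : Ω} (hy : y ∈ E) : ∃ k : ℤ, y * x ^ k ∈ E ⊓ A := by
  obtain ⟨k, hk⟩ := h.decomp (he.memS h) he.notMem (he.le h hy)
  exact ⟨k, mul_mem hy (zpow_mem he.mem k), hk⟩

theorem Ess.sup_eq : E ⊓ A ⊔ Subgroup.zpowers x = E := by
  refine le_antisymm (sup_le inf_le_left (Subgroup.zpowers_le.2 he.mem)) fun y hy => ?_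
  obtain ⟨k, hk⟩ := he.decomp h hy
  rw [show y = y * x ^ k * x ^ (-k) by group]
  exact mul_mem (Subgroup.mem_sup_left hk)
    (Subgroup.mem_sup_right (zpow_mem (Subgroup.mem_zpowers x) _))

theorem Ess.conj_inf {a y : Ω} (ha : a ∈ A) (hy : y ∈ E ⊓ A) : a * y * a⁻¹ = y := by
  rw [h.comm a ha y hy.2, mul_inv_cancel_right]

theorem Ess.mem_normalizer_iff {a : Ω} (ha : a ∈ A) :
    a ∈ Subgroup.normalizer (E : Set Ω) ↔ ⁅a, x⁆ ∈ E := by
  constructor
  · intro hn
    rw [commutatorElement_def]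
    exact mul_mem ((Subgroup.mem_normalizer_iff.1 hn x).1 he.mem) (inv_mem he.mem)
  · intro hc
    haveI := finite_of_le (P := E) (he.le h)
    have hle : conjBy a E ≤ E := by
      calc conjBy a E = conjBy a (E ⊓ A ⊔ Subgroup.zpowers x) := by rw [he.sup_eq h]
        _ ≤ E := by
          rw [conjBy, Subgroup.map_sup, MonoidHom.map_zpowers]
          refine sup_le (fun y hy => ?_) (Subgroup.zpowers_le.2 ?_)
          · obtain ⟨z, hz, rfl⟩ := hy
            show a * z * a⁻¹ ∈ E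
            rw [he.conj_inf h ha hz]
            exact hz.1
          · show a * x * a⁻¹ ∈ E
            have := mul_mem hc he.mem
            rwa [commutatorElement_def, inv_mul_cancel_right] at this
    refine conjBy_eq_iff.1 (eq_of_le_of_card_le (he.le h) hle (card_conjBy a E).ge)

theorem Ess.mem_normalizerIn {a : Ω} (ha : a ∈ A) (hc : ⁅a, x⁆ ∈ E) : a ∈ normalizerIn S E :=
  ⟨h.le ha, (he.mem_normalizer_iff h ha).2 hc⟩

theorem Ess.decomp_normalizer {y : Ω} (hy : y ∈ normalizerIn S E) :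
    ∃ k : ℤ, y * x ^ k ∈ A ∧ ⁅y * x ^ k, x⁆ ∈ E := by
  obtain ⟨k, hk⟩ := h.decomp (he.memS h) he.notMem hy.1
  exact ⟨k, hk, (he.mem_normalizer_iff h hk).1
    (mul_mem hy.2 (zpow_mem (Subgroup.le_normalizer he.mem) k))⟩

theorem Ess.ne_self (hF : F.IsSaturated p) : E ≠ S := ne_self_of_isEssential h.isPGroup hF he.ess

theorem Ess.exists_notMem (hF : F.IsSaturated p) : ∃ a ∈ A, a ∉ E ∧ ⁅a, x⁆ ∈ E := by
  obtain ⟨n, hn, hnE⟩ := SetLike.exists_of_lt
    (lt_normalizerIn h.isPGroup (he.le h) (he.ne_self h hF))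
  obtain ⟨k, hk, hkE⟩ := he.decomp_normalizer h hn
  refine ⟨_, hk, fun hm => hnE ?_, hkE⟩
  rw [show n = n * x ^ k * x ^ (-k) by group]
  exact mul_mem hm (zpow_mem he.mem _)

theorem Ess.relIndex_inf : (E ⊓ A).relIndex E = p := by
  have h1 : A.relIndex E ≠ 1 := fun e => he.notMem (Subgroup.relIndex_eq_one.1 e he.mem)
  haveI : (A.subgroupOf S).Normal := ⟨fun a ha g => h.conj_mem g.2 ha⟩
  have h2 : A.relIndex E ∣ p := by
    rw [← h.idx, ← Subgroup.relIndex_subgroupOf (he.le h)]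
    exact Subgroup.relIndex_dvd_index_of_normal (A.subgroupOf S) (E.subgroupOf S)
  rw [Subgroup.inf_relIndex_left]
  exact ((Nat.dvd_prime (Fact.out : p.Prime)).1 h2).resolve_left h1

theorem Ess.card_eq : Nat.card E = p * Nat.card (E ⊓ A : Subgroup Ω) := by
  have e := Subgroup.relIndex_mul_relIndex ⊥ (E ⊓ A) E bot_le inf_le_left
  simp only [Subgroup.relIndex_bot_left] at e
  rw [← e, he.relIndex_inf h, mul_comm]

end CfsgLib.Fusion.AbelianIndexP
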