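import Cfsg.Agent.Lib.Fusion.System.AbelianIndexP

/-!
# Essential subgroups other than the abelian subgroup of index `p`

They are `Z(S)⟨x⟩` or `Z₂(S)⟨x⟩`, of index `p` in their normalizers, and `S` has maximal class
modulo the centre.
-/

set_option autoImplicit false
set_option linter.style.haveILetI false
set_option linter.unusedSectionVars false

open Subgroup
open scoped Classical commutatorElement IsMulCommutative

namespace CfsgLib.Fusion.AbelianIndexP

open Cfsg (FusionSystem autInducedBy)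
open Cfsg.FusionSystem (normalizerIn centralizerIn)
open CfsgLib.Fusion.CenterIndex (commute_center)

variable {Ω : Type*} [Group Ω] {S A : Subgroup Ω} {p : ℕ} [Finite S] [Fact p.Prime]
  {F : FusionSystem S} {E : Subgroup Ω} {x : Ω}

/-- The second centre of `S`. -/
abbrev z2 (S : Subgroup Ω) : Subgroup Ω := (Subgroup.upperCentralSeries S 2).map S.subtype

theorem mem_z2 {y : Ω} : y ∈ z2 S ↔ y ∈ S ∧ ∀ w ∈ S, ⁅y, w⁆ ∈ centralizerIn S S := by
  have key : ∀ w : S, (w : Ω) ∈ centralizerIn S S ↔ w ∈ Subgroup.upperCentralSeries S 1 := fun w => by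
    rw [Subgroup.upperCentralSeries_one, ← CenterIndex.centralizerIn_subgroupOf,
      Subgroup.mem_subgroupOf]
  constructor
  · rintro ⟨v, hv, rfl⟩
    exact ⟨v.2, fun w hw => (key ⁅v, ⟨w, hw⟩⁆).2 (Subgroup.mem_upperCentralSeries_succ_iff.1 hv ⟨w, hw⟩)⟩
  · rintro ⟨hy, hw⟩
    exact ⟨⟨y, hy⟩, Subgroup.mem_upperCentralSeries_succ_iff.2 fun w => (key _).1 (hw w w.2), rfl⟩

variable (h : Setup S A p)
include h

/-- An element of `A` is in the second centre as soon as its commutator with `x` is central. -/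
theorem Setup.mem_z2_iff (hx : x ∈ S) (hxA : x ∉ A) {a : Ω} (ha : a ∈ A) :
    a ∈ z2 S ↔ ⁅a, x⁆ ∈ centralizerIn S S := by
  refine ⟨fun hz => (mem_z2.1 hz).2 x hx, fun hc => mem_z2.2 ⟨h.le ha, ?_⟩⟩
  let T : Subgroup Ω :=
    { carrier := {w | w ∈ S ∧ ⁅a, w⁆ ∈ centralizerIn S S}
      one_mem' := ⟨one_mem _, by simp⟩
      mul_mem' := fun {v w} hv hw => ⟨mul_mem hv.1 hw.1, by
        rw [show ⁅a, v * w⁆ = ⁅a, v⁆ * (v * ⁅a, w⁆ * v⁻¹) by
          simp only [commutatorElement_def]; group,
          mul_inv_eq_iff_eq_mul.2 (commute_center hw.2 hv.1)]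
        exact mul_mem hv.2 hw.2⟩
      inv_mem' := fun {v} hv => ⟨inv_mem hv.1, by
        have hcv : v⁻¹ * ⁅a, v⁆⁻¹ * v = ⁅a, v⁆⁻¹ := by
          rw [mul_assoc, ← commute_center (inv_mem hv.2) hv.1, inv_mul_cancel_left]
        rw [show ⁅a, v⁻¹⁆ = v⁻¹ * ⁅a, v⁆⁻¹ * v by simp only [commutatorElement_def]; group, hcv]
        exact inv_mem hv.2⟩ }
  have hAT : A ≤ T := fun w hw => ⟨h.le hw, by
    rw [commutatorElement_eq_one_iff_mul_comm.2 (h.comm a ha w hw)]; exact one_mem _⟩
  intro w hw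
  exact ((h.sup_eq hx hxA).ge.trans
    (sup_le hAT (Subgroup.zpowers_le.2 (show x ∈ T from ⟨hx, hc⟩))) hw).2

/-- If the second centre leaves `A`, then `S` has class two. -/
theorem Setup.derived_le_center {y : Ω} (hy : y ∈ z2 S) (hyA : y ∉ A) :
    ⁅S, S⁆ ≤ centralizerIn S S := by
  obtain ⟨hyS, hyc⟩ := mem_z2.1 hy
  rw [h.derived_eq hyS hyA]
  rintro _ ⟨a, rfl⟩
  rw [h.dl_apply, ← commutatorElement_inv]
  exact inv_mem (hyc a (h.le a.2))

theorem Setup.card_dl_map (hx : x ∈ S) (hxA : x ∉ A) {B : Subgroup Ω} (hB : B ≤ A) :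
    Nat.card ((B.subgroupOf A).map (h.dl hx)) = (centralizerIn S S).relIndex B := by
  rw [← Subgroup.relIndex_ker, h.dl_ker hx hxA, Subgroup.relIndex_subgroupOf hB]

theorem card_mul_relIndex {P Q : Subgroup Ω} (hPQ : P ≤ Q) :
    Nat.card P * P.relIndex Q = Nat.card Q := by
  have e := Subgroup.relIndex_mul_relIndex ⊥ P Q bot_le hPQ
  simpa only [Subgroup.relIndex_bot_left] using e

variable (he : Ess F A p E x)
include he

/-- The automorphism argument: a commutator in the centre puts an element of `A` in `E`. -/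
theorem Ess.mem_of_comm_mem (hne : ¬ E ⊓ A ≤ centralizerIn S S) {a : Ω} (ha : a ∈ A)
    (hac : ⁅a, x⁆ ∈ centralizerIn S S) : a ∈ E := by
  have hinv : ∀ α ∈ F.autGroup E, ∀ y ∈ centralizerIn S S, autFun α y ∈ centralizerIn S S :=
    fun α _ y hy => he.map_center h hne α hy
  have hbot : ∀ α ∈ F.autGroup E, ∀ y ∈ (⊥ : Subgroup Ω), autFun α y ∈ (⊥ : Subgroup Ω) :=
    fun α _ y hy => by
      rw [Subgroup.mem_bot] at hy ⊢
      rw [hy, autFun_map_one]
  have hZE := he.center_le h
  let K : Subgroup (F.autGroup E) :=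
    relStab (F.autGroup E) (centralizerIn S S) ⊥ hbot hZE bot_le hinv ⊓
      relStab (F.autGroup E) E (centralizerIn S S) hinv le_rfl hZE
        (fun α _ y hy => autFun_mem α hy)
  haveI hKn : K.Normal := @Subgroup.normal_inf_normal _ _ _ _ relStab_normal relStab_normal
  obtain ⟨m, hm⟩ := IsPGroup.iff_card.1 h.isPGroup
  have hKp : IsPGroup p K := by
    intro α
    refine ⟨m, Subtype.ext (Subtype.ext (autFun_ext fun y hy => ?_))⟩
    simp only [Subgroup.coe_pow, Subgroup.coe_one]
    rw [autFun_one hy]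
    refine pow_fix_step (he.le h) hm le_rfl hZE (fun z hz => ?_)
      (mem_relStab.1 (Subgroup.mem_inf.1 α.2).2) y hy
    exact (inv_mul_eq_one.1 (Subgroup.mem_bot.1
      (mem_relStab.1 (Subgroup.mem_inf.1 α.2).1 z hz))).symm
  have haN := he.mem_normalizerIn h ha (hZE hac)
  have hm' : conjAut a haN.2 ∈ F.autGroup E :=
    autInducedBy_le_autGroup (he.le h) (conjAut_mem haN.1 _)
  have hK : (⟨_, hm'⟩ : F.autGroup E) ∈ K := by
    refine Subgroup.mem_inf.2 ⟨fun y hy => ?_, fun y hy => ?_⟩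
    · rw [Subgroup.mem_bot, inv_mul_eq_one,
        show autFun _ y = _ from autFun_conjAut haN.2 (hZE hy)]
      exact eq_mul_inv_of_mul_eq (commute_center hy (h.le ha)).symm
    · show y⁻¹ * autFun (conjAut a haN.2) y ∈ centralizerIn S S
      rw [autFun_conjAut haN.2 hy]
      obtain ⟨k, hk⟩ := he.decomp h hy
      have hyS := he.le h hy
      have hz2 := (mem_z2.1 ((h.mem_z2_iff (he.memS h) he.notMem ha).2 hac)).2 y hyS
      rw [show y⁻¹ * (a * y * a⁻¹) = y⁻¹ * ⁅a, y⁆ * y by
        rw [commutatorElement_def]; group, mul_assoc, ← commute_center hz2 hyS, inv_mul_cancel_left]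
      exact hz2
  have h1 : conjAut a haN.2 ∈ Cfsg.Inn E :=
    (isRadical_of_isEssential h.isPGroup he.ess).2 ▸ ⟨_, CfsgLib.Coprime.le_pCore hKp hK, rfl⟩
  exact mem_of_conjAut_mem_inn haN.1 haN.2 (he.le h) (centralizerIn_le_of_isCentric he.ess.1) h1

theorem Ess.relIndex_center (hF : F.IsSaturated p) (hne : ¬ E ⊓ A ≤ centralizerIn S S) :
    (centralizerIn S S).relIndex (E ⊓ A) = p := by
  have h1 := he.relIndex_center_le h hF
  haveI := finite_of_le (P := E ⊓ A) (inf_le_left.trans (he.le h))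
  obtain ⟨k, hk⟩ := ((h.isPGroup.to_le (inf_le_left.trans (he.le h))).index
    ((centralizerIn S S).subgroupOf (E ⊓ A)))
  have hk' : (centralizerIn S S).relIndex (E ⊓ A) = p ^ k := hk
  rw [hk'] at h1 ⊢
  have hk0 : k ≠ 0 := fun h0 => hne (Subgroup.relIndex_eq_one.1 (by rw [hk', h0, pow_zero]))
  have hk1 : k ≤ 1 :=
    (Nat.pow_le_pow_iff_right (Fact.out : p.Prime).one_lt).1 (by rwa [pow_one])
  rw [show k = 1 by omega, pow_one]

theorem Ess.comm_mem_center (hF : F.IsSaturated p) (hne : ¬ E ⊓ A ≤ centralizerIn S S) {a : Ω}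
    (ha : a ∈ E ⊓ A) : ⁅a, x⁆ ∈ centralizerIn S S := by
  have hES := he.le h
  haveI := finite_of_le hES
  have hle : (centralizerIn S S).subgroupOf E ≤ Subgroup.center E := fun z hz =>
    Subgroup.mem_center_iff.2 fun w => Subtype.ext
      (commute_center (Subgroup.mem_subgroupOf.1 hz) (hES w.2))
  haveI : ((centralizerIn S S).subgroupOf E).Normal :=
    ⟨fun n hn g => by rw [Subgroup.mem_center_iff.1 (hle hn) g, mul_inv_cancel_right]; exact hn⟩
  have hcard : Nat.card (E ⧸ (centralizerIn S S).subgroupOf E) = p ^ 2 := by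
    show (centralizerIn S S).relIndex E = p ^ 2
    rw [← Subgroup.relIndex_mul_relIndex _ _ _ (he.center_le_inf h) inf_le_left,
      he.relIndex_center h hF hne, he.relIndex_inf h, sq]
  have hcomm := IsPGroup.commutative_of_card_eq_prime_sq hcard
  have h1 : (⁅(⟨a, ha.1⟩ : E), ⟨x, he.mem⟩⁆ : E) ∈ (centralizerIn S S).subgroupOf E := by
    rw [← QuotientGroup.eq_one_iff, ← QuotientGroup.mk'_apply, map_commutatorElement,
      commutatorElement_eq_one_iff_mul_comm]
    exact hcomm _ _
  exact h1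

theorem Ess.inf_eq_z2 (hF : F.IsSaturated p) (hne : ¬ E ⊓ A ≤ centralizerIn S S) :
    z2 S ≤ A ∧ E ⊓ A = z2 S := by
  have hle : z2 S ≤ A := by
    intro y hy
    by_contra hyA
    have hd := h.derived_le_center hy hyA
    refine he.ne_self h hF (le_antisymm (he.le h) ?_)
    rw [← h.sup_eq (he.memS h) he.notMem]
    refine sup_le (fun a ha => he.mem_of_comm_mem h hne ha ?_) (Subgroup.zpowers_le.2 he.mem)
    exact hd (Subgroup.commutator_mem_commutator (h.le ha) (he.memS h))
  refine ⟨hle, le_antisymm (fun a ha => ?_) fun a ha => ⟨?_, hle ha⟩⟩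
  · exact (h.mem_z2_iff (he.memS h) he.notMem ha.2).2 (he.comm_mem_center h hF hne ha)
  · exact he.mem_of_comm_mem h hne (hle ha) ((mem_z2.1 ha).2 x (he.memS h))

theorem Ess.card_cd_eq (hF : F.IsSaturated p) : Nat.card (cd S) = p := by
  by_cases hab : E ⊓ A ≤ centralizerIn S S
  · haveI := he.mulComm h hab
    exact he.card_cd h hab hF
  rw [← he.relIndex_center h hF hab, ← h.card_dl_map (he.memS h) he.notMem inf_le_right]
  congr 1
  have : cd S = ((E ⊓ A).subgroupOf A).map (h.dl (he.memS h)) := by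
    apply le_antisymm
    · intro d hd
      obtain ⟨a, rfl⟩ := (h.derived_eq (he.memS h) he.notMem).le hd.2
      exact ⟨a, ⟨he.mem_of_comm_mem h hab a.2 hd.1, a.2⟩, rfl⟩
    · rintro _ ⟨a, ha, rfl⟩
      exact Subgroup.mem_inf.2 ⟨he.comm_mem_center h hF hab ha,
        Subgroup.commutator_mem_commutator (h.le a.2) (he.memS h)⟩
  rw [this]

theorem Ess.relIndex_normalizer (hF : F.IsSaturated p) : E.relIndex (normalizerIn S E) = p := by
  have hp := (Fact.out : p.Prime)
  have hES := he.le h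
  set N := normalizerIn S E with hN
  have hEN : E ≤ N := le_normalizerIn hES
  have hNS : N ≤ S := inf_le_left
  haveI : Finite N := finite_of_le (S := S) hNS
  haveI : Finite E := finite_of_le (S := S) hES
  have hrel : (N ⊓ A).relIndex N = p := by
    haveI : (A.subgroupOf S).Normal := ⟨fun a ha g => h.conj_mem g.2 ha⟩
    have h2 : A.relIndex N ∣ p := by
      rw [← h.idx, ← Subgroup.relIndex_subgroupOf hNS]
      exact Subgroup.relIndex_dvd_index_of_normal (A.subgroupOf S) (N.subgroupOf S)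
    rw [Subgroup.inf_relIndex_left]
    exact ((Nat.dvd_prime hp).1 h2).resolve_left fun e =>
      he.notMem (Subgroup.relIndex_eq_one.1 e (hEN he.mem))
  have hN0 : centralizerIn S S ≤ N ⊓ A := le_inf ((he.center_le h).trans hEN) h.center_le
  -- `[N ⊓ A, x]` lies in `E ⊓ A` and in `S'`
  have hb : (centralizerIn S S).relIndex (N ⊓ A) ≤ p * (centralizerIn S S).relIndex (E ⊓ A) := by
    rw [← h.card_dl_map (he.memS h) he.notMem inf_le_right]
    set D := ((N ⊓ A).subgroupOf A).map (h.dl (he.memS h))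
    have hDE : D ≤ E ⊓ A := by
      rintro _ ⟨a, ha, rfl⟩
      exact ⟨(he.mem_normalizer_iff h a.2).1 ha.1.2, h.comm_mem a.2 (he.memS h)⟩
    have hDd : D ≤ ⁅S, S⁆ := by
      rintro _ ⟨a, -, rfl⟩
      exact Subgroup.commutator_mem_commutator (h.le a.2) (he.memS h)
    haveI : Finite (E ⊓ A : Subgroup Ω) := finite_of_le (S := S) (inf_le_left.trans hES)
    haveI : Finite (cd S) := finite_of_le (S := S) (inf_le_left.trans inf_le_left)
    have e := card_mul_relIndex h (inf_le_left : D ⊓ centralizerIn S S ≤ D)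
    rw [← e, Subgroup.inf_relIndex_left]
    refine Nat.mul_le_mul ?_ (Subgroup.relIndex_le_of_le_right hDE fun h0 => Nat.card_pos.ne'
      (zero_dvd_iff.1 (h0 ▸ Subgroup.relIndex_dvd_card (centralizerIn S S) (E ⊓ A))))
    rw [← he.card_cd_eq h hF]
    exact Subgroup.card_le_of_le (le_inf inf_le_right (inf_le_left.trans hDd))
  have hle : Nat.card N ≤ p * Nat.card E := by
    rw [← card_mul_relIndex h (inf_le_left : N ⊓ A ≤ N), hrel, ← card_mul_relIndex h hN0,
      he.card_eq h, ← card_mul_relIndex h (he.center_le_inf h)]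
    calc Nat.card (centralizerIn S S) * (centralizerIn S S).relIndex (N ⊓ A) * p
        ≤ Nat.card (centralizerIn S S) * (p * (centralizerIn S S).relIndex (E ⊓ A)) * p :=
          Nat.mul_le_mul_right _ (Nat.mul_le_mul_left _ hb)
      _ = p * (p * (Nat.card (centralizerIn S S) * (centralizerIn S S).relIndex (E ⊓ A))) := by
          ring
  have e := card_mul_relIndex h hEN
  obtain ⟨k, hk⟩ : ∃ k, E.relIndex N = p ^ k := (h.isPGroup.to_le hNS).index (E.subgroupOf N)
  rw [hk] at e ⊢
  have hk1 : k ≤ 1 := by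
    refine (Nat.pow_le_pow_iff_right hp.one_lt).1 ?_
    rw [pow_one]
    exact Nat.le_of_mul_le_mul_left (by rw [e]; linarith [mul_comm p (Nat.card E)]) Nat.card_pos
  have hk0 : k ≠ 0 := fun h0 => by
    rw [h0, pow_zero, mul_one] at e
    exact absurd (card_lt_of_lt hNS (lt_normalizerIn h.isPGroup hES (he.ne_self h hF))) (by
      rw [e]; exact lt_irrefl _)
  rw [show k = 1 by omega, pow_one]

theorem Ess.relIndex_sup_derived (hF : F.IsSaturated p) :
    (centralizerIn S S ⊔ ⁅S, S⁆).relIndex A = p := by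
  have hx := he.memS h
  set Z := centralizerIn S S
  set D := ⁅S, S⁆
  have hZA : Z ≤ A := h.center_le
  have hDA : D ≤ A := h.derived_le
  have hle : Z ⊔ D ≤ A := sup_le hZA hDA
  haveI : Finite (Z ⊔ D : Subgroup Ω) := finite_of_le (S := S) (hle.trans h.le)
  haveI : Finite D := finite_of_le (S := S) (hDA.trans h.le)
  have hsup : Nat.card (Z ⊔ D : Subgroup Ω) * p = Nat.card A := by
    have hcomm : ∀ z ∈ Z, z ∈ Subgroup.normalizer (D : Set Ω) := fun z hz =>
      CenterIndex.mem_normalizer_of_center hz (hDA.trans h.le)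
    haveI : (D.subgroupOf (Z ⊔ D)).Normal := by
      rw [Subgroup.normal_subgroupOf_iff_le_normalizer le_sup_right]
      exact sup_le hcomm Subgroup.le_normalizer
    have hr : D.relIndex (Z ⊔ D) = D.relIndex Z := by
      rw [← Subgroup.relIndex_subgroupOf (le_sup_left : Z ≤ Z ⊔ D)]
      calc D.relIndex (Z ⊔ D)
          = (D.subgroupOf (Z ⊔ D)).relIndex ⊤ := (Subgroup.relIndex_top_right _).symm
        _ = (D.subgroupOf (Z ⊔ D)).relIndex (Z.subgroupOf (Z ⊔ D) ⊔ D.subgroupOf (Z ⊔ D)) := by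
          rw [← Subgroup.subgroupOf_sup le_sup_left le_sup_right, Subgroup.subgroupOf_self]
        _ = _ := Subgroup.relIndex_sup_right _ _
    have e1 := card_mul_relIndex h (le_sup_right : D ≤ Z ⊔ D)
    rw [hr, ← Subgroup.inf_relIndex_right, inf_comm] at e1
    have e2 := card_mul_relIndex h (inf_le_left : Z ⊓ D ≤ Z)
    rw [he.card_cd_eq h hF] at e2
    have e3 : Nat.card D = Z.relIndex A := by
      rw [← h.card_dl_map hx he.notMem le_rfl, show D = _ from h.derived_eq hx he.notMem,
        Subgroup.subgroupOf_self, ← MonoidHom.range_eq_map]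
    have e4 := card_mul_relIndex h hZA
    rw [← e4, ← e3, ← e1, ← e2]
    ring
  have e := card_mul_relIndex h hle
  exact Nat.eq_of_mul_eq_mul_left Nat.card_pos (e.trans hsup.symm)

theorem Ess.relIndex_z2 (hF : F.IsSaturated p) (hle : z2 S ≤ A) :
    (centralizerIn S S).relIndex (z2 S) = p := by
  rw [← h.card_dl_map (he.memS h) he.notMem hle]
  refine Eq.trans ?_ (he.card_cd_eq h hF)
  congr 1
  have : cd S = ((z2 S).subgroupOf A).map (h.dl (he.memS h)) := by
    apply le_antisymm
    · intro d hd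
      obtain ⟨a, rfl⟩ := (h.derived_eq (he.memS h) he.notMem).le hd.2
      exact ⟨a, (h.mem_z2_iff (he.memS h) he.notMem a.2).2 hd.1, rfl⟩
    · rintro _ ⟨a, ha, rfl⟩
      exact Subgroup.mem_inf.2 ⟨(h.mem_z2_iff (he.memS h) he.notMem a.2).1 ha,
        Subgroup.commutator_mem_commutator (h.le a.2) (he.memS h)⟩
  rw [this]

/-- For abelian `E` the second centre lies in `A` unless `E` has index `p`. -/
theorem Ess.z2_le_or (hF : F.IsSaturated p) (hab : E ⊓ A ≤ centralizerIn S S) :
    z2 S ≤ A ∨ E.relIndex S = p := by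
  refine or_iff_not_imp_left.2 fun hn => ?_
  obtain ⟨y, hy, hyA⟩ := SetLike.not_le_iff_exists.1 hn
  have hd := h.derived_le_center hy hyA
  -- then `E` is normal
  have hall : S ≤ normalizerIn S E := by
    refine (h.sup_eq (he.memS h) he.notMem).ge.trans (sup_le (fun a ha => he.mem_normalizerIn h ha (he.center_le h
      (hd (Subgroup.commutator_mem_commutator (h.le ha) (he.memS h))))) ?_)
    exact Subgroup.zpowers_le.2 ⟨he.memS h, Subgroup.le_normalizer he.mem⟩
  rw [show S = normalizerIn S E from le_antisymm hall inf_le_left]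
  exact he.relIndex_normalizer h hF

/-- `S` has maximal class modulo its centre. -/
theorem Ess.lowerCentralSeries_not_le (hF : F.IsSaturated p) {m : ℕ}
    (hm : (centralizerIn S S).relIndex S = p ^ m) (hm2 : 2 ≤ m) :
    ¬ Subgroup.lowerCentralSeries S (m - 2) ≤ centralizerIn S S := by
  have hp := (Fact.out : p.Prime)
  have hx := he.memS h
  haveI : Finite (cd S) := finite_of_le (S := S) (inf_le_left.trans inf_le_left)
  have hA : (centralizerIn S S).relIndex A = p ^ (m - 1) := by
    have e := Subgroup.relIndex_mul_relIndex _ A S h.center_le h.le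
    rw [h.idx, hm, show p ^ m = p ^ (m - 1) * p by rw [← pow_succ]; congr 1; omega] at e
    exact Nat.eq_of_mul_eq_mul_right hp.pos e
  have key : ∀ k, ∃ D : Subgroup Ω, D ≤ A ∧ D ≤ Subgroup.lowerCentralSeries S k ∧
      p ^ (m - 1) ≤ p ^ k * (centralizerIn S S).relIndex D := by
    intro k
    induction k with
    | zero => exact ⟨A, le_rfl, h.le, by rw [pow_zero, one_mul, hA]⟩
    | succ k ih =>
      obtain ⟨D, hDA, hDk, hc⟩ := ih
      set D' := (D.subgroupOf A).map (h.dl hx)
      have hD'A : D' ≤ A := by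
        rintro _ ⟨a, -, rfl⟩
        exact h.comm_mem a.2 hx
      refine ⟨D', hD'A, ?_, hc.trans ?_⟩
      · rintro _ ⟨a, ha, rfl⟩
        rw [Subgroup.lowerCentralSeries_succ]
        exact Subgroup.commutator_mem_commutator (hDk ha) hx
      · rw [pow_succ, mul_assoc]
        refine Nat.mul_le_mul_left _ ?_
        rw [← h.card_dl_map hx he.notMem hDA]
        have e := card_mul_relIndex h (inf_le_left : D' ⊓ centralizerIn S S ≤ D')
        rw [Subgroup.inf_relIndex_left] at e
        rw [← e, ← he.card_cd_eq h hF]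
        refine Nat.mul_le_mul_right _ (Subgroup.card_le_of_le (le_inf inf_le_right ?_))
        rintro _ ⟨⟨a, -, rfl⟩, -⟩
        exact Subgroup.commutator_mem_commutator (h.le a.2) hx
  intro hle
  obtain ⟨D, -, hD, hc⟩ := key (m - 2)
  rw [Subgroup.relIndex_eq_one.2 (hD.trans hle), mul_one] at hc
  have := (Nat.pow_le_pow_iff_right hp.one_lt).1 hc
  omega

end CfsgLib.Fusion.AbelianIndexP
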