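import Cfsg.Agent.Lib.Fusion.System.AbelianIndexPTwo

/-!
# Abelian essential subgroups beside an abelian subgroup of index `p`

Their automizers contain transvections.  For odd `p` some automorphism of `S` inverts
`Z(S) ⊓ S'`, is trivial modulo it, and its fixed points on `Z(S)` are invariant.
-/

set_option autoImplicit false
set_option linter.style.haveILetI false
set_option linter.unusedSectionVars false

open Subgroup
open scoped Classical commutatorElement IsMulCommutative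

namespace CfsgLib.Fusion.AbelianIndexP

open Cfsg (FusionSystem autInducedBy)
open Cfsg.FusionSystem (normalizerIn centralizerIn)
open CfsgLib.Fusion.CenterIndex (commute_center map_center map_derived)
open CfsgLib.Fusion.Transvection (dlt IsTrv)

variable {Ω : Type*} [Group Ω] {S A : Subgroup Ω} {p : ℕ} [Finite S] [Fact p.Prime]
  {F : FusionSystem S} {E : Subgroup Ω} {x : Ω}

/-- `Z(S) ⊓ S'`. -/
abbrev cd (S : Subgroup Ω) : Subgroup Ω := centralizerIn S S ⊓ ⁅S, S⁆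

theorem map_cd (φ : MulAut S) {z : Ω} (hz : z ∈ cd S) : autFun φ z ∈ cd S :=
  Subgroup.mem_inf.2 ⟨map_center φ hz.1, map_derived φ hz.2⟩

/-- `φ` inverts `Z(S) ⊓ S'` and is trivial on `Z(S)` modulo it. -/
structure Inverts (F : FusionSystem S) (φ : MulAut S) : Prop where
  mem : φ ∈ F.autGroup S
  inv : ∀ d ∈ cd S, autFun φ d = d⁻¹
  mod : ∀ z ∈ centralizerIn S S, z⁻¹ * autFun φ z ∈ cd S

/-- The fixed points of `φ` on `Z(S)`. -/
def fixZ (φ : MulAut S) : Subgroup Ω where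
  carrier := {z | z ∈ centralizerIn S S ∧ autFun φ z = z}
  one_mem' := ⟨one_mem _, autFun_map_one φ⟩
  mul_mem' := fun {a b} ha hb => ⟨mul_mem ha.1 hb.1, by
    rw [autFun_map_mul φ ha.1.1 hb.1.1, ha.2, hb.2]⟩
  inv_mem' := fun {a} ha => ⟨inv_mem ha.1, by
    have h := autFun_map_mul φ ha.1.1 (S.inv_mem ha.1.1)
    rw [mul_inv_cancel, autFun_map_one, ha.2] at h
    exact eq_inv_of_mul_eq_one_right h.symm⟩

theorem mem_fixZ {φ : MulAut S} {z : Ω} :
    z ∈ fixZ φ ↔ z ∈ centralizerIn S S ∧ autFun φ z = z := Iff.rfl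

/-- A `p`-element of `Aut_F(S)` is trivial on the centre. -/
theorem fix_center_of_pow (hS : IsPGroup p S) (hF : F.IsSaturated p) {χ : MulAut S}
    (hχ : χ ∈ F.autGroup S) {m : ℕ}
    (hm : ∀ z ∈ centralizerIn S S, autFun (χ ^ p ^ m) z = z) :
    ∀ z ∈ centralizerIn S S, autFun χ z = z := by
  have himg : ∀ φ ∈ F.autGroup S, img (centralizerIn S S) (autFun φ) = centralizerIn S S :=
    fun φ hφ => img_eq_of_map_le inf_le_left ((mem_autGroup_iff le_rfl).1 hφ) inf_le_left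
      fun z hz => map_center φ hz
  let r : F.autGroup S →* MulAut (centralizerIn S S) := MonoidHom.mk'
    (fun φ => autOf (((mem_autGroup_iff le_rfl).1 φ.2).mono inf_le_left) (himg φ φ.2))
    fun φ ψ => autFun_ext fun z hz => by
      rw [autFun_autOf _ _ hz, autFun_mul _ _ hz, autFun_autOf _ _ hz,
        autFun_autOf _ _ (map_center _ hz)]
      exact autFun_mul _ _ hz.1
  have hr : ∀ φ : F.autGroup S, ∀ z ∈ centralizerIn S S,
      autFun (r φ) z = autFun (φ : MulAut S) z := fun φ z hz =>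
    autFun_autOf (((mem_autGroup_iff le_rfl).1 φ.2).mono inf_le_left) (himg φ φ.2) hz
  haveI := finite_mulAut (P := S)
  set P0 := (autInducedBy S S).subgroupOf (F.autGroup S)
  have hP0 : ¬ p ∣ P0.index := ((isFullyAutomized_iff hS).1
    (IsSaturated.automized_receptive hS hF isFullyNormalized_self).1).2
  have hker : P0 ≤ r.ker := fun φ hφ => MonoidHom.mem_ker.2 <| autFun_ext fun z hz => by
    obtain ⟨g, hg, hge⟩ := mem_autInducedBy_iff.1 (Subgroup.mem_subgroupOf.1 hφ)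
    rw [hr φ z hz, autFun_one hz, hge z hz.1]
    exact mul_inv_eq_iff_eq_mul.2 (commute_center hz hg)
  have h1 : orderOf (r ⟨χ, hχ⟩) ∣ P0.index := by
    refine (Subgroup.orderOf_dvd_natCard r.range ⟨_, rfl⟩).trans ?_
    rw [← Subgroup.index_ker]
    exact Subgroup.index_dvd_of_le hker
  have h2 : orderOf (r ⟨χ, hχ⟩) ∣ p ^ m := by
    refine orderOf_dvd_of_pow_eq_one ?_
    rw [← map_pow]
    exact autFun_ext fun z hz => by rw [hr _ z hz, autFun_one hz]; exact hm z hz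
  obtain ⟨i, -, hi⟩ := (Nat.dvd_prime_pow (Fact.out : p.Prime)).1 h2
  have h3 : r ⟨χ, hχ⟩ = 1 := by
    rw [← orderOf_eq_one_iff]
    cases i with
    | zero => rw [hi, pow_zero]
    | succ i => exact absurd ((dvd_pow_self p (Nat.succ_ne_zero i)).trans (hi ▸ h1)) hP0
  intro z hz
  rw [← hr ⟨χ, hχ⟩ z hz, h3, autFun_one hz]

theorem Inverts.map_inv_apply {φ : MulAut S} (hφ : Inverts F φ) {z : Ω}
    (hz : z ∈ centralizerIn S S) : autFun φ⁻¹ z = autFun φ z := by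
  have he := hφ.mod z hz
  have h1 : autFun φ (autFun φ z) = z := by
    conv_lhs => rw [show autFun φ z = z * (z⁻¹ * autFun φ z) by rw [mul_inv_cancel_left]]
    rw [autFun_map_mul φ hz.1 he.1.1, hφ.inv _ he, mul_inv_rev, inv_inv, mul_inv_cancel_left]
  conv_lhs => rw [← h1]
  rw [← autFun_mul _ _ (autFun_mem φ hz.1), inv_mul_cancel, autFun_one (autFun_mem φ hz.1)]

/-- Two inverting automorphisms agree on the centre. -/
theorem Inverts.agree (hS : IsPGroup p S) (hF : F.IsSaturated p) {φ ψ : MulAut S}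
    (hφ : Inverts F φ) (hψ : Inverts F ψ) :
    ∀ z ∈ centralizerIn S S, autFun φ z = autFun ψ z := by
  intro z hz
  obtain ⟨m, hm⟩ := IsPGroup.iff_card.1 hS
  have hfix : ∀ d ∈ cd S, autFun (φ⁻¹ * ψ) d = d := fun d hd => by
    rw [autFun_mul _ _ hd.1.1, hψ.inv d hd, hφ.map_inv_apply (inv_mem hd.1),
      hφ.inv _ (inv_mem hd), inv_inv]
  have hstab : ∀ w ∈ centralizerIn S S, w⁻¹ * autFun (φ⁻¹ * ψ) w ∈ cd S := fun w hw => by
    have he := hψ.mod w hw
    rw [autFun_mul _ _ hw.1, show autFun ψ w = w * (w⁻¹ * autFun ψ w) by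
      rw [mul_inv_cancel_left], autFun_map_mul _ hw.1 he.1.1, hφ.map_inv_apply hw,
      hφ.map_inv_apply he.1, hφ.inv _ he, ← mul_assoc]
    exact mul_mem (hφ.mod w hw) (inv_mem he)
  have h1 := fix_center_of_pow hS hF (mul_mem (inv_mem hφ.mem) hψ.mem)
    (pow_fix_step le_rfl hm inf_le_left (inf_le_left.trans inf_le_left) hfix hstab) z hz
  rw [autFun_mul _ _ hz.1] at h1
  conv_lhs => rw [← h1]
  rw [← autFun_mul _ _ (autFun_mem ψ hz.1), mul_inv_cancel, autFun_one (autFun_mem ψ hz.1)]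

theorem Inverts.conj {φ : MulAut S} (hφ : Inverts F φ) {χ : MulAut S} (hχ : χ ∈ F.autGroup S) :
    Inverts F (χ * φ * χ⁻¹) := by
  refine ⟨mul_mem (mul_mem hχ hφ.mem) (inv_mem hχ), fun d hd => ?_, fun z hz => ?_⟩
  · have hd' := map_cd χ⁻¹ hd
    rw [autFun_mul _ _ hd.1.1, autFun_mul _ _ hd'.1.1, hφ.inv _ hd']
    have h1 : autFun χ (autFun χ⁻¹ d) = d := by
      rw [← autFun_mul _ _ hd.1.1, mul_inv_cancel, autFun_one hd.1.1]
    have h2 := autFun_map_mul χ hd'.1.1 (S.inv_mem hd'.1.1)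
    rw [mul_inv_cancel, autFun_map_one, h1] at h2
    exact eq_inv_of_mul_eq_one_right h2.symm
  · have hz' := map_center χ⁻¹ hz
    have h2 := map_cd χ (hφ.mod _ hz')
    rwa [autFun_inv_map hz'.1 (autFun_mem φ hz'.1), ← autFun_mul _ _ hz.1, mul_inv_cancel,
      autFun_one hz.1, ← autFun_mul _ _ hz'.1, ← autFun_mul _ _ hz.1] at h2

/-- The fixed points of an inverting automorphism are invariant under `Aut_F(S)`. -/
theorem Inverts.fixZ_invariant (hS : IsPGroup p S) (hF : F.IsSaturated p) {φ : MulAut S}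
    (hφ : Inverts F φ) {χ : MulAut S} (hχ : χ ∈ F.autGroup S) {z : Ω} (hz : z ∈ fixZ φ) :
    autFun χ z ∈ fixZ φ := by
  refine ⟨map_center χ hz.1, ?_⟩
  rw [hφ.agree hS hF (hφ.conj hχ) _ (map_center χ hz.1), ← autFun_mul _ _ hz.1.1,
    inv_mul_cancel_right, autFun_mul _ _ hz.1.1, hz.2]

/-- Every element of the centre is an element of `Z(S) ⊓ S'` times a fixed point. -/
theorem Inverts.le_sup (hp : p ≠ 2) (hS : IsPGroup p S) {φ : MulAut S} (hφ : Inverts F φ) :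
    centralizerIn S S ≤ cd S ⊔ fixZ φ := by
  intro z hz
  obtain ⟨m, hm⟩ := IsPGroup.iff_card.1 hS
  set e := z⁻¹ * autFun φ z
  have he : e ∈ cd S := hφ.mod z hz
  obtain ⟨j, hj⟩ : ∃ j : ℕ, e ^ (2 * j) = e := by
    refine ⟨(p ^ m + 1) / 2, ?_⟩
    have hodd : Odd (p ^ m) := ((Fact.out : p.Prime).odd_of_ne_two hp).pow
    rw [Nat.mul_div_cancel' (even_iff_two_dvd.1 hodd.add_one), pow_succ]
    have h1 : e ^ p ^ m = 1 := by
      rw [← hm]
      exact congrArg Subtype.val (pow_card_eq_one' (x := (⟨e, he.1.1⟩ : S)))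
    rw [h1, one_mul]
  have hd : e ^ j ∈ cd S := pow_mem he j
  rw [show z = (e ^ j)⁻¹ * (e ^ j * z) by group]
  refine Subgroup.mul_mem_sup (inv_mem hd) ⟨mul_mem hd.1 hz, ?_⟩
  rw [autFun_map_mul φ hd.1.1 hz.1, hφ.inv _ hd,
    show autFun φ z = z * e by simp [e],
    show e ^ j * z = z * e ^ j from (commute_center hd.1 hz.1).symm,
    ← mul_assoc, show (e ^ j)⁻¹ * z = z * (e ^ j)⁻¹ from (commute_center (inv_mem hd.1) hz.1).symm,
    mul_assoc]
  rw [two_mul, pow_add] at hj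
  rw [show (e ^ j)⁻¹ * e = e ^ j from inv_mul_eq_iff_eq_mul.2 hj.symm]

variable (h : Setup S A p) (he : Ess F A p E x) (hab : E ⊓ A ≤ centralizerIn S S)
include h he hab

theorem Ess.inf_eq : E ⊓ A = centralizerIn S S := le_antisymm hab (he.center_le_inf h)

theorem Ess.eq_sup : E = centralizerIn S S ⊔ Subgroup.zpowers x := by
  rw [← he.inf_eq h hab, he.sup_eq h]

theorem Ess.mulComm : IsMulCommutative E := by
  refine ⟨⟨fun a b => Subtype.ext ?_⟩⟩
  obtain ⟨i, hi⟩ := he.decomp h a.2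
  obtain ⟨j, hj⟩ := he.decomp h b.2
  have ha : (a : Ω) = a * x ^ i * x ^ (-i) := by group
  have hb : (b : Ω) = b * x ^ j * x ^ (-j) := by group
  show Commute (a : Ω) b
  rw [ha, hb]
  have hc : ∀ y ∈ S, Commute ((a : Ω) * x ^ i) y := fun y hy => (commute_center (hab hi) hy).symm
  refine (hc _ (S.mul_mem (h.le hj.2) (S.zpow_mem (he.memS h) _))).mul_left ?_
  exact Commute.mul_right (commute_center (hab hj) (S.zpow_mem (he.memS h) _))
    (Commute.zpow_zpow (Commute.refl x) _ _)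

theorem Ess.pow_mem_center : x ^ p ∈ centralizerIn S S := by
  haveI : (A.subgroupOf S).Normal := ⟨fun a ha g => h.conj_mem g.2 ha⟩
  have hA := (A.subgroupOf S).pow_index_mem ⟨x, he.memS h⟩
  have hi : (A.subgroupOf S).index = p := h.idx
  rw [hi] at hA
  exact hab ⟨pow_mem he.mem p, hA⟩

/-- Every element inducing an automorphism of `E` can be taken in `A`. -/
theorem Ess.exists_of_autInducedBy {α : MulAut E} (hα : α ∈ autInducedBy S E) :
    ∃ a ∈ A, ⁅a, x⁆ ∈ cd S ∧ ∀ y ∈ E, autFun α y = a * y * a⁻¹ := by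
  obtain ⟨n, hn, hne⟩ := mem_autInducedBy_iff.1 hα
  obtain ⟨k, hk, hkE⟩ := he.decomp_normalizer h (y := n) ⟨hn, mem_normalizer_of_autFun hne⟩
  refine ⟨_, hk, Subgroup.mem_inf.2 ⟨hab ⟨hkE, h.comm_mem hk (he.memS h)⟩, ?_⟩, fun y hy => ?_⟩
  · exact Subgroup.commutator_mem_commutator (h.le hk) (he.memS h)
  · haveI := he.mulComm h hab
    have hxy : x ^ k * y * (x ^ k)⁻¹ = y := mul_inv_eq_iff_eq_mul.2 (congrArg Subtype.val
      (mul_comm (⟨x ^ k, zpow_mem he.mem k⟩ : E) ⟨y, hy⟩))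
    rw [hne y hy]
    conv_lhs => rw [← hxy]
    group

theorem Ess.exists_conj {a : Ω} (ha : a ∈ A) (hc : ⁅a, x⁆ ∈ centralizerIn S S) :
    ∃ u ∈ autInducedBy S E, ∀ y ∈ E, autFun u y = a * y * a⁻¹ :=
  have hn := he.mem_normalizerIn h ha (he.center_le h hc)
  ⟨conjAut a hn.2, conjAut_mem hn.1 _, fun _ hy => autFun_conjAut _ hy⟩

variable [IsMulCommutative E] {a : Ω} {u : MulAut E}

/-- `dlt` of the conjugation by `a` has image generated by `[a, x]`. -/
theorem Ess.dlt_eq (ha : a ∈ A) (hc : ⁅a, x⁆ ∈ centralizerIn S S)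
    (hu : ∀ y ∈ E, autFun u y = a * y * a⁻¹) :
    ((dlt u ⟨x, he.mem⟩ : E) : Ω) = ⁅a, x⁆ ∧
      (dlt u).range = Subgroup.zpowers (dlt u ⟨x, he.mem⟩) ∧
      ∀ r : E, (r : Ω) ∈ centralizerIn S S → dlt u r = 1 := by
  have happ : ∀ r : E, ((dlt u r : E) : Ω) = (r : Ω)⁻¹ * (a * r * a⁻¹) := fun r => by
    rw [← hu r r.2, autFun_coe]
    rfl
  have hz : ∀ r : E, (r : Ω) ∈ centralizerIn S S → dlt u r = 1 := fun r hr => by
    rw [← OneMemClass.coe_eq_one, happ, inv_mul_eq_one, commute_center hr (h.le ha),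
      mul_inv_cancel_right]
  refine ⟨?_, le_antisymm ?_ (Subgroup.zpowers_le.2 ⟨_, rfl⟩), hz⟩
  · rw [happ]
    calc x⁻¹ * (a * x * a⁻¹) = x⁻¹ * ⁅a, x⁆ * x := by rw [commutatorElement_def]; group
      _ = ⁅a, x⁆ := by
        rw [mul_assoc, ← commute_center hc (he.memS h), inv_mul_cancel_left]
  · rintro _ ⟨r, rfl⟩
    obtain ⟨k, hk⟩ := he.decomp h r.2
    have h1 : dlt u (r * ⟨x, he.mem⟩ ^ k) = 1 :=
      hz _ (by rw [Subgroup.coe_mul, Subgroup.coe_zpow]; exact hab hk)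
    rw [map_mul, map_zpow] at h1
    rw [eq_inv_of_mul_eq_one_left h1]
    exact inv_mem (zpow_mem (Subgroup.mem_zpowers _) k)

theorem Ess.pow_p_eq_one {d : Ω} (hd : d ∈ cd S) : d ^ p = 1 := by
  obtain ⟨⟨a, ha⟩, had⟩ := (h.derived_eq (he.memS h) he.notMem).le hd.2
  rw [h.dl_apply] at had
  have hc : ⁅a, x⁆ ∈ centralizerIn S S := had ▸ hd.1
  obtain ⟨u, -, hu⟩ := he.exists_conj h hab ha hc
  obtain ⟨e1, -, e3⟩ := he.dlt_eq h hab ha hc hu
  have h1 := e3 (⟨x, he.mem⟩ ^ p) (he.pow_mem_center h hab)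
  rw [map_pow] at h1
  rw [← had, show ((⟨a, ha⟩ : A) : Ω) = a from rfl, ← e1, ← Subgroup.coe_pow, h1,
    Subgroup.coe_one]

theorem Ess.isTrv (ha : a ∈ A) (hc : ⁅a, x⁆ ∈ centralizerIn S S) (hne : a ∉ centralizerIn S S)
    (hu : ∀ y ∈ E, autFun u y = a * y * a⁻¹) : IsTrv p u := by
  obtain ⟨e1, e2, e3⟩ := he.dlt_eq h hab ha hc hu
  refine ⟨?_, fun r => ?_⟩
  · rw [e2, Nat.card_zpowers]
    refine orderOf_eq_prime (Subtype.ext ?_) fun e => hne ?_
    · rw [Subgroup.coe_pow, e1, he.pow_p_eq_one h hab (Subgroup.mem_inf.2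
        ⟨hc, Subgroup.commutator_mem_commutator (h.le ha) (he.memS h)⟩)]
      rfl
    · refine (h.comm_eq_one_iff ha (he.memS h) he.notMem).1 ?_
      rw [← e1, e]
      rfl
  · refine e3 _ ?_
    have hmem : dlt u r ∈ Subgroup.zpowers (dlt u ⟨x, he.mem⟩) := e2 ▸ ⟨r, rfl⟩
    obtain ⟨k, hk⟩ := Subgroup.mem_zpowers_iff.1 hmem
    rw [← hk, Subgroup.coe_zpow, e1]
    exact zpow_mem hc k

/-- A proper subgroup of `Aut_F(E)` catching all fusion inside `Aut_S(E)`. -/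
theorem Ess.exists_catch (hF : F.IsSaturated p) :
    ∃ M : Subgroup (MulAut E), (∃ φ ∈ F.autGroup E, φ ∉ M) ∧
      ∀ b ∈ autInducedBy S E, b ≠ 1 → ∀ g ∈ F.autGroup E,
        g * b * g⁻¹ ∈ autInducedBy S E → g ∈ M := by
  obtain ⟨hc, hn, _, E₀, hE₀⟩ := he.ess
  haveI := finite_of_le hn.1
  haveI := finite_mulAut (P := E)
  set X := F.autGroup E with hX
  set I := (Cfsg.Inn E).subgroupOf X with hI
  set π := QuotientGroup.mk' I
  set P := (autInducedBy S E).subgroupOf X with hP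
  have hXP := autInducedBy_le_autGroup (F := F) hn.1
  have hPp : IsPGroup p P := (isPGroup_autInducedBy h.isPGroup).of_equiv
    (Subgroup.subgroupOfEquivOfLe hXP).symm
  have hPi : ¬ p ∣ P.index := ((isFullyAutomized_iff h.isPGroup).1
    (IsSaturated.automized_receptive h.isPGroup hF hn).1).2
  have hi : ¬ p ∣ (P.map π).index :=
    fun hd => hPi (hd.trans (Subgroup.index_map_dvd P (QuotientGroup.mk'_surjective I)))
  have hI1 : ∀ g : X, π g = 1 → g = 1 := fun g hg => by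
    have hg' : (g : MulAut E) ∈ Cfsg.Inn E := (QuotientGroup.eq_one_iff g).1 hg
    obtain ⟨r, hr⟩ := hg'
    refine Subtype.ext (hr.symm.trans (MulEquiv.ext fun y => ?_))
    show r * y * r⁻¹ = y
    rw [mul_comm r y, mul_inv_cancel_right]
  obtain ⟨E', hE', hnorm⟩ := exists_conj_embedded (hPp.map π) hE₀
  refine ⟨(E'.comap π).map X.subtype, ?_, fun b hb hb1 g hg hgb => ?_⟩
  · by_contra hall
    push Not at hall
    refine hE' (top_unique fun y _ => ?_)
    obtain ⟨⟨φ, hφ⟩, rfl⟩ := QuotientGroup.mk'_surjective I y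
    obtain ⟨φ', hφ', hφe⟩ := hall φ hφ
    rwa [show φ' = ⟨φ, hφ⟩ from Subtype.ext hφe] at hφ'
  · refine ⟨⟨g, hg⟩, ?_, rfl⟩
    refine mem_of_conj_le (hPp.map π) hi hnorm (T := Subgroup.zpowers (π ⟨b, hXP hb⟩)) ?_ ?_ ?_
    · exact Subgroup.zpowers_le.2 (Subgroup.mem_map_of_mem π hb)
    · rw [Ne, Subgroup.zpowers_eq_bot]
      exact fun e => hb1 (congrArg Subtype.val (hI1 _ e))
    · rw [conjBy, MonoidHom.map_zpowers, Subgroup.zpowers_le]
      show π ⟨g, hg⟩ * π ⟨b, hXP hb⟩ * (π ⟨g, hg⟩)⁻¹ ∈ P.map π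
      rw [← map_mul, ← map_inv, ← map_mul]
      exact Subgroup.mem_map_of_mem π hgb

/-- `Z(S) ⊓ S'` has order `p`. -/
theorem Ess.card_cd (hF : F.IsSaturated p) : Nat.card (cd S) = p := by
  have hp := (Fact.out : p.Prime)
  have hES := he.le h
  haveI := finite_of_le hES
  haveI := finite_mulAut (P := E)
  haveI := finite_of_le (P := cd S) (inf_le_left.trans inf_le_left : cd S ≤ S)
  obtain ⟨n, hn⟩ := IsPGroup.iff_card.1
    (h.isPGroup.to_le (inf_le_left.trans inf_le_left : cd S ≤ S))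
  obtain ⟨a, ha, haE, hac⟩ := he.exists_notMem h hF
  have hacd : ⁅a, x⁆ ∈ cd S := Subgroup.mem_inf.2
    ⟨hab ⟨hac, h.comm_mem ha (he.memS h)⟩,
      Subgroup.commutator_mem_commutator (h.le ha) (he.memS h)⟩
  have hn0 : n ≠ 0 := fun h0 => haE <| he.center_le h <| by
    refine (h.comm_eq_one_iff ha (he.memS h) he.notMem).1 ?_
    have hbot : cd S = ⊥ := Subgroup.eq_bot_of_card_eq _ (by rw [hn, h0, pow_zero])
    exact Subgroup.mem_bot.1 (hbot ▸ hacd)
  rw [hn]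
  by_contra hne
  have hn2 : 2 ≤ n := by
    by_contra hlt
    exact hne (by rw [show n = 1 by omega, pow_one])
  -- each automorphism carries a nontrivial element of `Z(S) ⊓ S'` into the centre
  have key : ∀ γ ∈ F.autGroup E, ∃ d ∈ cd S, d ≠ 1 ∧ autFun γ d ∈ centralizerIn S S := by
    intro γ hγ
    have hm := ((mem_autGroup_iff hES).1 (inv_mem hγ)).mono (he.center_le h)
    set B := img (centralizerIn S S) (autFun γ⁻¹)
    have hBE : B ≤ E := hm.img_le_of_forall fun z hz => autFun_mem _ (he.center_le h hz)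
    have hBi : B.relIndex E = p := by
      have e := Subgroup.relIndex_mul_relIndex ⊥ B E bot_le hBE
      simp only [Subgroup.relIndex_bot_left] at e
      rw [hm.card_img, he.card_eq h, he.inf_eq h hab, mul_comm p] at e
      haveI := finite_of_le (P := centralizerIn S S) (inf_le_left : _ ≤ S)
      exact Nat.eq_of_mul_eq_mul_left Nat.card_pos e
    by_contra hall
    push Not at hall
    have hbot : cd S ⊓ B = ⊥ := eq_bot_iff.2 fun d hd => by
      obtain ⟨z, hz, hzd⟩ := hm.mem_img.1 hd.2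
      by_contra hd1
      refine hall d hd.1 hd1 ?_
      rw [← hzd, ← autFun_mul _ _ (he.center_le h hz), mul_inv_cancel,
        autFun_one (he.center_le h hz)]
      exact hz
    have h1 : B.relIndex (cd S) ≤ p := hBi ▸ Subgroup.relIndex_le_of_le_right
      ((inf_le_left : cd S ≤ _).trans (he.center_le h)) (by rw [hBi]; exact hp.ne_zero)
    rw [← Subgroup.inf_relIndex_left, hbot, Subgroup.relIndex_bot_left, hn] at h1
    have h2 : p ^ 2 ≤ p ^ n := Nat.pow_le_pow_right hp.pos hn2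
    have h3 : p ^ 1 < p ^ 2 := Nat.pow_lt_pow_right hp.one_lt one_lt_two
    rw [pow_one] at h3
    omega
  -- lift such elements to transvections
  have lift : ∀ d ∈ cd S, d ≠ 1 → ∃ b ∈ autInducedBy S E, b ≠ 1 ∧
      (∀ r : E, (r : Ω) ∈ centralizerIn S S → dlt b r = 1) ∧
      ∀ r : E, ((dlt b r : E) : Ω) ∈ Subgroup.zpowers d := by
    intro d hd hd1
    obtain ⟨⟨b, hb⟩, rfl⟩ := (h.derived_eq (he.memS h) he.notMem).le hd.2
    obtain ⟨v, hv, hve⟩ := he.exists_conj h hab hb hd.1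
    obtain ⟨e1, e2, e3⟩ := he.dlt_eq h hab hb hd.1 hve
    refine ⟨v, hv, fun e => hd1 ?_, e3, fun r => ?_⟩
    · rw [h.dl_apply, show ((⟨b, hb⟩ : A) : Ω) = b from rfl, ← e1,
        Transvection.dlt_eq_one.2 (show v ⟨x, he.mem⟩ = ⟨x, he.mem⟩ by rw [e]; rfl)]
      rfl
    · have hmem : dlt v r ∈ Subgroup.zpowers (dlt v ⟨x, he.mem⟩) := e2 ▸ ⟨r, rfl⟩
      obtain ⟨k, hk⟩ := Subgroup.mem_zpowers_iff.1 hmem
      rw [← hk, Subgroup.coe_zpow, e1]
      exact zpow_mem (Subgroup.mem_zpowers _) k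
  obtain ⟨M, ⟨φ, hφ, hφM⟩, hM⟩ := he.exists_catch h hab hF
  obtain ⟨d, hd, hd1, hdφ⟩ := key φ⁻¹ (inv_mem hφ)
  obtain ⟨d', hd', hd'1, hd'φ⟩ := key φ hφ
  obtain ⟨b, hb, hb1, hbz, hbd⟩ := lift d hd hd1
  obtain ⟨b', hb', hb'1, hb'z, hb'd⟩ := lift d' hd' hd'1
  let B : Subgroup E :=
    ((centralizerIn S S).subgroupOf E) ⊓
      ((centralizerIn S S).subgroupOf E).comap (φ⁻¹ : MulAut E).toMonoidHom
  have hBmem : ∀ r : E, r ∈ B ↔ (r : Ω) ∈ centralizerIn S S ∧
      ((φ⁻¹ r : E) : Ω) ∈ centralizerIn S S := fun r => Iff.rfl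
  have hdE := he.center_le h hd.1
  have hd'E := he.center_le h hd'.1
  have hdB : (⟨d, hdE⟩ : E) ∈ B := (hBmem _).2
    ⟨hd.1, by rw [← autFun_coe]; exact hdφ⟩
  have hd'B : φ ⟨d', hd'E⟩ ∈ B := (hBmem _).2 ⟨by rw [← autFun_coe]; exact hd'φ, by
    rw [show φ⁻¹ (φ ⟨d', hd'E⟩) = ⟨d', hd'E⟩ from MulEquiv.symm_apply_apply φ _]
    exact hd'.1⟩
  have h1 : ∀ r : E, dlt b r ∈ B := fun r => by
    obtain ⟨k, hk⟩ := Subgroup.mem_zpowers_iff.1 (hbd r)
    rw [show dlt b r = (⟨d, hdE⟩ : E) ^ k from Subtype.ext hk.symm]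
    exact zpow_mem hdB k
  have h2 : ∀ r : E, dlt (φ * b' * φ⁻¹) r ∈ B := fun r => by
    rw [Transvection.dlt_conj]
    obtain ⟨k, hk⟩ := Subgroup.mem_zpowers_iff.1 (hb'd (φ⁻¹ r))
    rw [show dlt b' (φ⁻¹ r) = (⟨d', hd'E⟩ : E) ^ k from Subtype.ext hk.symm, map_zpow]
    exact zpow_mem hd'B k
  set H := F.autGroup E ⊓ Transvection.stab B B le_rfl
  have hbH : b ∈ H := Subgroup.mem_inf.2 ⟨autInducedBy_le_autGroup hES hb,
    fun r hr => hbz r ((hBmem r).1 hr).1, fun r _ => h1 r, h1⟩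
  have hb'H : φ * b' * φ⁻¹ ∈ H := Subgroup.mem_inf.2
    ⟨mul_mem (mul_mem hφ (autInducedBy_le_autGroup hES hb')) (inv_mem hφ), fun r hr => by
      rw [Transvection.dlt_conj, hb'z _ ((hBmem r).1 hr).2, map_one], fun r _ => h2 r, h2⟩
  obtain ⟨hauto, -⟩ := IsSaturated.automized_receptive h.isPGroup hF he.ess.2.1
  obtain ⟨g, hg, hgle⟩ := exists_conj_le_of_not_dvd_relIndex (isPGroup_autInducedBy h.isPGroup)
    (autInducedBy_le_autGroup hES) ((isFullyAutomized_iff h.isPGroup).1 hauto).2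
    ((Transvection.isPGroup_stab (h.isPGroup.to_le hES) B B le_rfl).to_le inf_le_right)
    (inf_le_left : H ≤ F.autGroup E)
  have hgM : g ∈ M := hM b hb hb1 g hg (hgle (conj_mem_conjBy hbH))
  have hgφM : g * φ ∈ M := hM b' hb' hb'1 _ (mul_mem hg hφ) (by
    have h3 := hgle (conj_mem_conjBy hb'H)
    rwa [show g * φ * b' * (g * φ)⁻¹ = g * (φ * b' * φ⁻¹) * g⁻¹ by group])
  exact hφM ((M.mul_mem_cancel_left hgM).1 hgφM)

/-- The transvection, its Sylow property and a conjugate independent of it. -/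
theorem Ess.exists_pair (hF : F.IsSaturated p) :
    ∃ a ∈ A, ∃ u : MulAut E, (∀ y ∈ E, autFun u y = a * y * a⁻¹) ∧
      u ∈ autInducedBy S E ∧ IsTrv p u ∧
      (dlt u).range.map E.subtype = cd S ∧
      (∀ r : E, dlt u r = 1 ↔ (r : Ω) ∈ centralizerIn S S) ∧
      autInducedBy S E ≤ Subgroup.zpowers u ∧
      (∀ H : Subgroup (MulAut E), H ≤ F.autGroup E → IsPGroup p H → Nat.card H ≤ p) ∧
      ∃ φ ∈ F.autGroup E, φ * u * φ⁻¹ ∉ Subgroup.zpowers u := by
  have hES := he.le h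
  haveI := finite_of_le hES
  haveI := finite_mulAut (P := E)
  haveI := finite_of_le (P := cd S) (inf_le_left.trans inf_le_left : cd S ≤ S)
  obtain ⟨a, ha, haE, hac⟩ := he.exists_notMem h hF
  have hz : ⁅a, x⁆ ∈ centralizerIn S S := hab ⟨hac, h.comm_mem ha (he.memS h)⟩
  have haZ : a ∉ centralizerIn S S := fun hc => haE (he.center_le h hc)
  obtain ⟨u, huS, hu⟩ := he.exists_conj h hab ha hz
  obtain ⟨e1, e2, e3⟩ := he.dlt_eq h hab ha hz hu
  have ht := he.isTrv h hab ha hz haZ hu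
  have hrange : (dlt u).range.map E.subtype = cd S := by
    refine Subgroup.eq_of_le_of_card_ge ?_ ?_
    · rw [e2, MonoidHom.map_zpowers, Subgroup.zpowers_le]
      show ((dlt u ⟨x, he.mem⟩ : E) : Ω) ∈ cd S
      rw [e1]
      exact Subgroup.mem_inf.2 ⟨hz, Subgroup.commutator_mem_commutator (h.le ha) (he.memS h)⟩
    · rw [Subgroup.card_map_of_injective E.subtype_injective, ht.card, he.card_cd h hab hF]
  have hle : autInducedBy S E ≤ Subgroup.zpowers u := by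
    intro α hα
    obtain ⟨b, hb, hbc, hbe⟩ := he.exists_of_autInducedBy h hab hα
    rw [← hrange, e2, MonoidHom.map_zpowers] at hbc
    obtain ⟨k, hk⟩ := Subgroup.mem_zpowers_iff.1 hbc
    change ((dlt u ⟨x, he.mem⟩ : E) : Ω) ^ k = ⁅b, x⁆ at hk
    rw [e1] at hk
    -- `b a⁻ᵏ` is central
    have hcz : b * (a ^ k)⁻¹ ∈ centralizerIn S S := by
      refine (h.comm_eq_one_iff (mul_mem hb (inv_mem (zpow_mem ha k))) (he.memS h) he.notMem).1 ?_
      have e : h.dl (he.memS h) (⟨b, hb⟩ * ((⟨a, ha⟩ : A) ^ k)⁻¹) = 1 := by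
        rw [map_mul, map_inv, map_zpow, h.dl_apply, h.dl_apply]
        show ⁅b, x⁆ * (⁅a, x⁆ ^ k)⁻¹ = 1
        rw [hk, mul_inv_cancel]
      rw [h.dl_apply] at e
      simpa using e
    have han := he.mem_normalizerIn h ha (he.center_le h hz)
    refine Subgroup.mem_zpowers_iff.2 ⟨k, autFun_ext fun y hy => ?_⟩
    have e : u ^ k = conjAut (a ^ k) (Subgroup.zpow_mem _ han.2 k) := by
      rw [show u = conjAut a han.2 from autFun_ext fun w hw => by
        rw [hu w hw, autFun_conjAut _ hw]]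
      show (E.normalizerMonoidHom ⟨a, _⟩) ^ k = E.normalizerMonoidHom ⟨a ^ k, _⟩
      rw [← map_zpow]
      rfl
    rw [e, autFun_conjAut _ hy, hbe y hy]
    have hcy : (b * (a ^ k)⁻¹) * (a ^ k * y * (a ^ k)⁻¹) * (b * (a ^ k)⁻¹)⁻¹ =
        a ^ k * y * (a ^ k)⁻¹ := mul_inv_eq_iff_eq_mul.2 (commute_center hcz
      (S.mul_mem (S.mul_mem (S.zpow_mem (h.le ha) k) (hES hy))
        (S.inv_mem (S.zpow_mem (h.le ha) k)))).symm
    rw [← hcy]
    group
  refine ⟨a, ha, u, hu, huS, ht, hrange, fun r => ⟨fun hr => ?_, e3 r⟩, hle,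
    fun H hH hHp => ?_, ?_⟩
  · by_contra hrZ
    obtain ⟨k, hk⟩ := he.decomp h r.2
    have hk' := hab hk
    have h1 : dlt u ⟨x, he.mem⟩ ^ k = 1 := by
      have := e3 (r * ⟨x, he.mem⟩ ^ k) (by rw [Subgroup.coe_mul, Subgroup.coe_zpow]; exact hk')
      rwa [map_mul, map_zpow, hr, one_mul] at this
    have ho : orderOf (dlt u ⟨x, he.mem⟩) = p := by rw [← Nat.card_zpowers, ← e2, ht.card]
    obtain ⟨q, rfl⟩ : (p : ℤ) ∣ k := ho ▸ orderOf_dvd_iff_zpow_eq_one.2 h1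
    refine hrZ ?_
    rw [show (r : Ω) = r * x ^ ((p : ℤ) * q) * (x ^ ((p : ℤ) * q))⁻¹ by group]
    refine mul_mem hk' (inv_mem ?_)
    rw [zpow_mul, zpow_natCast]
    exact zpow_mem (he.pow_mem_center h hab) q
  · obtain ⟨hauto, -⟩ := IsSaturated.automized_receptive h.isPGroup hF he.ess.2.1
    obtain ⟨g, -, hgle⟩ := exists_conj_le_of_not_dvd_relIndex (isPGroup_autInducedBy h.isPGroup)
      (autInducedBy_le_autGroup hES) ((isFullyAutomized_iff h.isPGroup).1 hauto).2 hHp hH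
    calc Nat.card H = Nat.card (conjBy g H) := (card_conjBy g H).symm
      _ ≤ Nat.card (Subgroup.zpowers u) := Subgroup.card_le_of_le (hgle.trans hle)
      _ = p := by rw [Nat.card_zpowers, ht.orderOf]
  · obtain ⟨M, ⟨φ, hφ, hφM⟩, hM⟩ := he.exists_catch h hab hF
    refine ⟨φ, hφ, fun hc => hφM (hM u huS ht.ne_one φ hφ ?_)⟩
    exact (Subgroup.zpowers_le.2 huS) hc

/-- An inverting automorphism of `S`, with invariant fixed points. -/
theorem Ess.exists_inverting (hp : p ≠ 2) (hAe : ¬ F.IsEssential p A) (hF : F.IsSaturated p) :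
    ∃ φ, Inverts F φ ∧ ∀ α ∈ F.autGroup E, ∀ z ∈ fixZ φ, autFun α z ∈ fixZ φ := by
  have hES := he.le h
  haveI := finite_of_le hES
  haveI := finite_mulAut (P := E)
  obtain ⟨a, ha, u, hu, huS, ht, hrange, hker, hle, hsyl, γ₀, hγ₀, hγ₀n⟩ :=
    he.exists_pair h hab hF
  have huX : u ∈ F.autGroup E := autInducedBy_le_autGroup hES huS
  obtain ⟨-, hrec⟩ := IsSaturated.automized_receptive h.isPGroup hF he.ess.2.1
  -- from each moving pair
  have hpair : ∀ γ ∈ F.autGroup E, γ * u * γ⁻¹ ∉ Subgroup.zpowers u → ∃ φ, Inverts F φ ∧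
      ∀ r : E, (r : Ω) ∈ fixZ φ ↔ dlt u r = 1 ∧ dlt (γ * u * γ⁻¹) r = 1 := by
    intro γ hγ hne
    set u' := γ * u * γ⁻¹ with hu'def
    have hu'X : u' ∈ F.autGroup E := mul_mem (mul_mem hγ huX) (inv_mem hγ)
    have hu' : IsTrv p u' := ht.conj γ
    obtain ⟨τ, τ', e1, e2, e3, e4, hT, hT', hdec⟩ :=
      Transvection.exists_basis (h.isPGroup.to_le hES) hsyl ht hu' huX hu'X hne
    obtain ⟨t, htX, htinv, htfix, htu, -⟩ :=
      Transvection.exists_neg (h.isPGroup.to_le hES) hsyl ht hu' huX hu'X hne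
    obtain ⟨g, hg, hge⟩ := (isReceptive_iff.1 hrec).2 E _ ((mem_autGroup_iff hES).1 htX)
      (img_autFun t)
    have hext : normalizerIn S E ≤ extSub S E (autFun t) := by
      intro q hq
      obtain ⟨k, hk⟩ := Subgroup.mem_zpowers_iff.1 (hle (conjAut_mem hq.1 hq.2))
      refine mem_extSub.2 ⟨hq, q, hq.1, fun y hy => ?_⟩
      rw [← autFun_conjAut hq.2 hy, ← hk, ← autFun_mul _ _ hy, (htu.zpow_right k).eq,
        autFun_mul _ _ hy, hk, autFun_conjAut hq.2 (autFun_mem t hy)]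
    have hcard : p ^ 2 * Nat.card (centralizerIn S S) ≤ Nat.card (normalizerIn S E) := by
      haveI : Finite (normalizerIn S E) := finite_of_le (S := S) (P := normalizerIn S E) inf_le_left
      have hN : IsPGroup p (normalizerIn S E) := h.isPGroup.to_le inf_le_left
      obtain ⟨m, hm⟩ := IsPGroup.iff_card.1 hN
      obtain ⟨l, hl⟩ := IsPGroup.iff_card.1 (h.isPGroup.to_le hES)
      have h1 : Nat.card E < Nat.card (normalizerIn S E) := card_lt_of_lt inf_le_left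
        (lt_normalizerIn h.isPGroup hES (he.ne_self h hF))
      rw [hl, hm] at h1
      have h2 : l + 1 ≤ m := (Nat.pow_lt_pow_iff_right (Fact.out : p.Prime).one_lt).1 h1
      calc p ^ 2 * Nat.card (centralizerIn S S) = p * Nat.card E := by
            rw [he.card_eq h, he.inf_eq h hab]; ring
        _ = p ^ (l + 1) := by rw [hl]; ring
        _ ≤ _ := hm ▸ Nat.pow_le_pow_right (Fact.out : p.Prime).pos h2
    obtain ⟨φ, hφ, hφe⟩ := topOn_of_card h hAe hF (hg.mono hext)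
      ((he.center_le h).trans (le_normalizerIn hES)) hcard
    have hφt : ∀ r : E, (r : Ω) ∈ centralizerIn S S → autFun φ (r : Ω) = (t r : E) := fun r hr => by
      rw [← hφe _ hr, hge _ r.2, autFun_coe]
    -- the centre decomposes
    have hzdec : ∀ r : E, (r : Ω) ∈ centralizerIn S S →
        ∃ i : ℤ, ∃ c : E, dlt u c = 1 ∧ dlt u' c = 1 ∧ r = τ ^ i * c ∧
          t r = (τ ^ i)⁻¹ * c := by
      intro r hr
      obtain ⟨i, j, c, hc, hc', rfl⟩ := hdec r
      have h1 := (hker _).2 hr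
      rw [map_mul, map_mul, map_zpow, map_zpow, e1, e2, hc, one_zpow, one_mul, mul_one] at h1
      have hj : τ' ^ j = 1 := by
        refine orderOf_dvd_iff_zpow_eq_one.1 ?_
        rw [← Nat.card_zpowers, hT', hu'.card]
        have := orderOf_dvd_iff_zpow_eq_one.2 h1
        rwa [← Nat.card_zpowers, hT, ht.card] at this
      refine ⟨i, c, hc, hc', by rw [hj, mul_one], ?_⟩
      rw [map_mul, map_mul, hj, map_one, mul_one, map_zpow,
        htinv τ (hT ▸ Subgroup.mem_zpowers τ), inv_zpow, htfix c hc hc']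
    have hinv : Inverts F φ := by
      refine ⟨hφ, fun d hd => ?_, fun z hz => ?_⟩
      · obtain ⟨r, hr, rfl⟩ := hrange.ge hd
        show autFun φ (r : Ω) = (r : Ω)⁻¹
        rw [hφt r hd.1, htinv r hr]
        rfl
      · obtain ⟨i, c, hc, hc', hr, htr⟩ := hzdec ⟨z, he.center_le h hz⟩ hz
        rw [show autFun φ z = ((t ⟨z, he.center_le h hz⟩ : E) : Ω) from hφt ⟨z, _⟩ hz, htr,
          show z = ((τ ^ i * c : E) : Ω) from congrArg Subtype.val hr]
        rw [← Subgroup.coe_inv, ← Subgroup.coe_mul, ← hrange]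
        refine ⟨(τ ^ i * c)⁻¹ * ((τ ^ i)⁻¹ * c), ?_, rfl⟩
        rw [mul_inv_rev, show c⁻¹ * (τ ^ i)⁻¹ * ((τ ^ i)⁻¹ * c) = ((τ ^ i)⁻¹) * ((τ ^ i)⁻¹) by
          rw [mul_comm c⁻¹, mul_mul_mul_comm, inv_mul_cancel, mul_one]]
        exact mul_mem (inv_mem (zpow_mem (hT ▸ Subgroup.mem_zpowers τ) i))
          (inv_mem (zpow_mem (hT ▸ Subgroup.mem_zpowers τ) i))
    refine ⟨φ, hinv, fun r => ⟨fun hr => ?_, fun hr => ?_⟩⟩
    · obtain ⟨hrZ, hrφ⟩ := mem_fixZ.1 hr
      obtain ⟨i, c, hc, hc', hri, htr⟩ := hzdec r hrZ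
      have h1 : t r = r := Subtype.ext ((hφt r hrZ).symm.trans hrφ)
      rw [htr] at h1
      conv_rhs at h1 => rw [hri]
      have h2 : τ ^ i = 1 := by
        have h4 : ((τ ^ i) ^ 2) = 1 := by
          rw [sq, ← mul_eq_one_iff_inv_eq.2 (mul_right_cancel h1)]
        have h5 : (τ ^ i) ^ p = 1 := ht.pow_eq_one (zpow_mem (hT ▸ Subgroup.mem_zpowers τ) i)
        exact CenterIndex.pow_fix_of_dvd hp h4 h5
      rw [hri, h2, one_mul]
      exact ⟨hc, hc'⟩
    · have hrZ := (hker r).1 hr.1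
      refine ⟨hrZ, ?_⟩
      rw [hφt r hrZ, htfix r hr.1 hr.2]
  obtain ⟨φ, hφ, hφfix⟩ := hpair γ₀ hγ₀ hγ₀n
  refine ⟨φ, hφ, fun α hα z hz => ?_⟩
  have hzE := he.center_le h hz.1
  -- every conjugate of `u` fixes `z`
  have hall : ∀ γ ∈ F.autGroup E, dlt (γ * u * γ⁻¹) (⟨z, hzE⟩ : E) = 1 := by
    intro γ hγ
    by_cases hc : γ * u * γ⁻¹ ∈ Subgroup.zpowers u
    · obtain ⟨k, hk⟩ := Subgroup.mem_zpowers_iff.1 hc
      rw [← hk, Transvection.dlt_eq_one]
      have huz : u ⟨z, hzE⟩ = ⟨z, hzE⟩ := Transvection.dlt_eq_one.1 ((hker _).2 hz.1)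
      have hsub : u ^ k ∈ MulAction.stabilizer (MulAut E) (⟨z, hzE⟩ : E) :=
        zpow_mem (show u ∈ MulAction.stabilizer (MulAut E) (⟨z, hzE⟩ : E) from huz) k
      exact hsub
    · obtain ⟨ψ, hψ, hψfix⟩ := hpair γ hγ hc
      exact ((hψfix ⟨z, hzE⟩).1 ⟨hz.1, by
        rw [← hφ.agree h.isPGroup hF hψ z hz.1]; exact hz.2⟩).2
  rw [show autFun α z = ((α ⟨z, hzE⟩ : E) : Ω) from autFun_coe α ⟨z, hzE⟩]
  refine (hφfix _).2 ⟨?_, ?_⟩
  · have h1 := hall α⁻¹ (inv_mem hα)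
    rw [Transvection.dlt_conj, inv_inv, map_eq_one_iff _ (α⁻¹).injective] at h1
    exact h1
  · have h1 := hall (α⁻¹ * γ₀) (mul_mem (inv_mem hα) hγ₀)
    rw [show α⁻¹ * γ₀ * u * (α⁻¹ * γ₀)⁻¹ = α⁻¹ * (γ₀ * u * γ₀⁻¹) * α⁻¹⁻¹ by group,
      Transvection.dlt_conj, inv_inv, map_eq_one_iff _ (α⁻¹).injective] at h1
    exact h1

end CfsgLib.Fusion.AbelianIndexP
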