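import Cfsg.Agent.Lib.Fusion.System.AbelianIndexPBasic
import Cfsg.Agent.Lib.Fusion.System.KNormalizer

/-!
# Nonabelian essential subgroups beside an abelian subgroup of index `p`

Such a subgroup has order `p² |Z(S)|`, and its automorphisms act on `Z(S)` like automorphisms
of `S`.  Consequently so does every map with a source of order at least `p² |Z(S)|`.
-/

set_option autoImplicit false
set_option linter.style.haveILetI false
set_option linter.unusedSectionVars false

open Subgroup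
open scoped Classical commutatorElement

namespace CfsgLib.Fusion.AbelianIndexP

open Cfsg (FusionSystem autInducedBy)
open Cfsg.FusionSystem (normalizerIn centralizerIn)
open CfsgLib.Fusion.CenterIndex (commute_center map_center)

variable {Ω : Type*} [Group Ω] {S A : Subgroup Ω} {p : ℕ} [Finite S] [Fact p.Prime]
  {F : FusionSystem S} {E : Subgroup Ω} {x : Ω}

/-- `f` acts on the centre of `S` like an automorphism of `S` in the system. -/
def TopOn (F : FusionSystem S) (f : Ω → Ω) : Prop :=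
  ∃ φ ∈ F.autGroup S, ∀ z ∈ centralizerIn S S, f z = autFun φ z

theorem TopOn.mem {f : Ω → Ω} (hf : TopOn F f) {z : Ω} (hz : z ∈ centralizerIn S S) :
    f z ∈ centralizerIn S S := by
  obtain ⟨φ, -, hφ⟩ := hf
  exact hφ z hz ▸ map_center φ hz

theorem TopOn.comp {f g : Ω → Ω} (hf : TopOn F f) (hg : TopOn F g) : TopOn F (g ∘ f) := by
  obtain ⟨φ, hφ, hφe⟩ := hf
  obtain ⟨ψ, hψ, hψe⟩ := hg
  refine ⟨ψ * φ, mul_mem hψ hφ, fun z hz => ?_⟩
  show g (f z) = _
  rw [autFun_mul _ _ hz.1, hφe z hz, hψe _ (map_center φ hz)]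

theorem TopOn.inv {f g : Ω → Ω} (hf : TopOn F f)
    (hgf : ∀ z ∈ centralizerIn S S, g (f z) = z) : TopOn F g := by
  obtain ⟨φ, hφ, hφe⟩ := hf
  refine ⟨φ⁻¹, inv_mem hφ, fun z hz => ?_⟩
  have h1 : f (autFun φ⁻¹ z) = z := by
    rw [hφe _ (map_center _ hz), ← autFun_mul _ _ hz.1, mul_inv_cancel, autFun_one hz.1]
  conv_lhs => rw [← h1]
  exact hgf _ (map_center _ hz)

theorem topOn_conj {t : Ω} (ht : t ∈ S) : TopOn F (fun y => t * y * t⁻¹) :=
  ⟨1, one_mem _, fun z hz => by
    rw [autFun_one hz.1]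
    exact mul_inv_eq_iff_eq_mul.2 (commute_center hz ht)⟩

/-- Maps extending to `Z(S)` as restrictions of automorphisms of `S`. -/
def TMap (F : FusionSystem S) (P : Subgroup Ω) (f : Ω → Ω) : Prop :=
  P ≤ S ∧ ∃ g, IsMap F (P ⊔ centralizerIn S S) g ∧ (∀ y ∈ P, g y = f y) ∧ TopOn F g

theorem TMap.isMap {P : Subgroup Ω} {f : Ω → Ω} (h : TMap F P f) : IsMap F P f := by
  obtain ⟨-, g, hg, hgf, -⟩ := h
  exact (hg.mono le_sup_left).congr fun y hy => (hgf y hy).symm

/-- The system of these maps. -/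
noncomputable def topSystem (F : FusionSystem S) : FusionSystem S :=
  mkSystem F S (TMap F) (fun _ _ h => ⟨h.isMap, h.1, fun _ hy => h.isMap.mem_S hy⟩)
    (fun _ _ _ ⟨h1, k, hk, hkf, hkZ⟩ he =>
      ⟨h1, k, hk, fun y hy => (hkf y hy).trans (he y hy).symm, hkZ⟩)
    (fun _ _ hP ht => ⟨hP, _, isMap_conj (sup_le hP inf_le_left) ht, fun _ _ => rfl,
      topOn_conj ht⟩)
    (fun P R f g ⟨h1, k, hk, hkf, hkZ⟩ ⟨_, l, hl, hlg, hlZ⟩ hfR =>
      ⟨h1, l ∘ k, hk.comp hl (fun z hz => hk.map_mem_of_sup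
        (fun y hy => (le_sup_left : R ≤ R ⊔ centralizerIn S S) (hkf y hy ▸ hfR y hy))
        (fun y hy => (le_sup_right : centralizerIn S S ≤ R ⊔ centralizerIn S S) (hkZ.mem hy)) hz),
        fun y hy => by
          show l (k y) = g (f y)
          rw [hkf y hy, hlg _ (hfR y hy)],
        hkZ.comp hlZ⟩)
    (fun P f f' h _ hinv => by
      obtain ⟨h1, k, hk, hkf, hkZ⟩ := id h
      obtain ⟨k', hk', hk'1, -⟩ := hk.exists_inv
      have hZle : centralizerIn S S ≤ img (P ⊔ centralizerIn S S) k := by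
        intro z hz
        obtain ⟨φ, -, hφe⟩ := hkZ
        refine hk.mem_img.2 ⟨autFun φ⁻¹ z, Subgroup.mem_sup_right (map_center _ hz), ?_⟩
        rw [hφe _ (map_center _ hz), ← autFun_mul _ _ hz.1, mul_inv_cancel, autFun_one hz.1]
      refine ⟨h.isMap.img_le, k', hk'.mono (sup_le ?_ hZle), fun y hy => ?_,
        hkZ.inv fun z hz => hk'1 z (Subgroup.mem_sup_right hz)⟩
      · rw [← IsMap.img_congr hkf]
        exact hk.img_mono le_sup_left
      · obtain ⟨w, hw, rfl⟩ := h.isMap.mem_img.1 hy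
        rw [hinv w hw, ← hkf w hw, hk'1 w ((le_sup_left : P ≤ P ⊔ centralizerIn S S) hw)])

theorem isMap_topSystem_iff {P : Subgroup Ω} {f : Ω → Ω} :
    IsMap (topSystem F) P f ↔ TMap F P f :=
  isMap_mkSystem_iff _

/-- Maps that are restrictions of automorphisms of `S`. -/
def RMap (F : FusionSystem S) (P : Subgroup Ω) (f : Ω → Ω) : Prop :=
  P ≤ S ∧ ∃ φ ∈ F.autGroup S, ∀ y ∈ P, f y = autFun φ y

theorem RMap.isMap {P : Subgroup Ω} {f : Ω → Ω} (h : RMap F P f) : IsMap F P f := by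
  obtain ⟨hP, φ, hφ, hφf⟩ := h
  exact (((mem_autGroup_iff le_rfl).1 hφ).mono hP).congr hφf

/-- The system generated by the automorphisms of `S`. -/
noncomputable def restrSystem (F : FusionSystem S) : FusionSystem S :=
  mkSystem F S (RMap F) (fun _ _ h => ⟨h.isMap, h.1, fun _ hy => h.isMap.mem_S hy⟩)
    (fun _ _ _ ⟨h1, φ, hφ, hφf⟩ he => ⟨h1, φ, hφ, fun y hy => (he y hy).trans (hφf y hy)⟩)
    (fun _ t hP ht => ⟨hP, conjAut t (Subgroup.le_normalizer ht),
      autInducedBy_le_autGroup le_rfl (conjAut_mem ht _),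
      fun _ hy => (autFun_conjAut _ (hP hy)).symm⟩)
    (fun P R f g ⟨h1, φ, hφ, hφf⟩ ⟨_, ψ, hψ, hψg⟩ hfR => ⟨h1, ψ * φ, mul_mem hψ hφ, fun y hy => by
      rw [autFun_mul _ _ (h1 hy), ← hφf y hy, ← hψg _ (hfR y hy)]
      rfl⟩)
    (fun P f f' h _ hinv => by
      obtain ⟨h1, φ, hφ, hφf⟩ := id h
      refine ⟨h.isMap.img_le, φ⁻¹, inv_mem hφ, fun y hy => ?_⟩
      obtain ⟨w, hw, rfl⟩ := h.isMap.mem_img.1 hy
      rw [hinv w hw, hφf w hw, ← autFun_mul _ _ (h1 hw), inv_mul_cancel, autFun_one (h1 hw)])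

theorem isMap_restrSystem_iff {P : Subgroup Ω} {f : Ω → Ω} :
    IsMap (restrSystem F) P f ↔ RMap F P f :=
  isMap_mkSystem_iff _

variable (h : Setup S A p) (he : Ess F A p E x)
include h he

/-- `E ⊓ A` is not invariant under the automizer of `E`. -/
theorem Ess.not_invariant (hF : F.IsSaturated p) :
    ∃ α ∈ F.autGroup E, ∃ y ∈ E ⊓ A, autFun α y ∉ A := by
  by_contra hall
  push Not at hall
  have hinv : ∀ α ∈ F.autGroup E, ∀ y ∈ E ⊓ A, autFun α y ∈ E ⊓ A := fun α hα y hy =>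
    ⟨autFun_mem α hy.1, hall α hα y hy⟩
  have hbot : ∀ α ∈ F.autGroup E, ∀ y ∈ (⊥ : Subgroup Ω), autFun α y ∈ (⊥ : Subgroup Ω) :=
    fun α _ y hy => by
      rw [Subgroup.mem_bot] at hy ⊢
      rw [hy, autFun_map_one]
  let K : Subgroup (F.autGroup E) :=
    relStab (F.autGroup E) (E ⊓ A) ⊥ hbot inf_le_left bot_le hinv ⊓
      relStab (F.autGroup E) E (E ⊓ A) hinv le_rfl inf_le_left (fun α _ y hy => autFun_mem α hy)
  haveI hKn : K.Normal := @Subgroup.normal_inf_normal _ _ _ _ relStab_normal relStab_normal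
  obtain ⟨m, hm⟩ := IsPGroup.iff_card.1 h.isPGroup
  have hKp : IsPGroup p K := by
    intro a
    refine ⟨m, Subtype.ext (Subtype.ext (autFun_ext fun y hy => ?_))⟩
    simp only [Subgroup.coe_pow, Subgroup.coe_one]
    rw [autFun_one hy]
    refine pow_fix_step (he.le h) hm le_rfl inf_le_left (fun z hz => ?_)
      (mem_relStab.1 (Subgroup.mem_inf.1 a.2).2) y hy
    exact (inv_mul_eq_one.1 (Subgroup.mem_bot.1
      (mem_relStab.1 (Subgroup.mem_inf.1 a.2).1 z hz))).symm
  obtain ⟨a, ha, haE, hac⟩ := he.exists_notMem h hF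
  have haN := he.mem_normalizerIn h ha hac
  have hm' : conjAut a haN.2 ∈ F.autGroup E :=
    autInducedBy_le_autGroup (he.le h) (conjAut_mem haN.1 _)
  have hK : (⟨_, hm'⟩ : F.autGroup E) ∈ K := by
    refine Subgroup.mem_inf.2 ⟨fun y hy => ?_, fun y hy => ?_⟩
    · rw [Subgroup.mem_bot, inv_mul_eq_one, show autFun _ y = _ from autFun_conjAut haN.2 hy.1,
        he.conj_inf h ha hy]
    · show y⁻¹ * autFun (conjAut a haN.2) y ∈ E ⊓ A
      rw [autFun_conjAut haN.2 hy]
      refine Subgroup.mem_inf.2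
        ⟨mul_mem (inv_mem hy) ((Subgroup.mem_normalizer_iff.1 haN.2 y).1 hy), ?_⟩
      rw [show y⁻¹ * (a * y * a⁻¹) = y⁻¹ * a * y⁻¹⁻¹ * a⁻¹ by group]
      exact mul_mem (h.conj_mem (S.inv_mem (he.le h hy)) ha) (inv_mem ha)
  have h1 : conjAut a haN.2 ∈ Cfsg.Inn E :=
    (isRadical_of_isEssential h.isPGroup he.ess).2 ▸ ⟨_, CfsgLib.Coprime.le_pCore hKp hK, rfl⟩
  exact haE (mem_of_conjAut_mem_inn haN.1 haN.2 (he.le h)
    (centralizerIn_le_of_isCentric he.ess.1) h1)

/-- `E ⊓ A` has index at most `p` over the centre. -/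
theorem Ess.relIndex_center_le (hF : F.IsSaturated p) :
    (centralizerIn S S).relIndex (E ⊓ A) ≤ p := by
  have hp := (Fact.out : p.Prime)
  obtain ⟨α, hα, y, hy, hyA⟩ := he.not_invariant h hF
  haveI := finite_of_le (P := E) (he.le h)
  haveI := finite_of_le (P := E ⊓ A) (inf_le_left.trans (he.le h))
  have hm := ((mem_autGroup_iff (he.le h)).1 hα).mono (inf_le_left : E ⊓ A ≤ E)
  set B := img (E ⊓ A) (autFun α) with hB
  have hBE : B ≤ E := hm.img_le_of_forall fun z hz => autFun_mem α hz.1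
  have hBab : ∀ b ∈ B, ∀ c ∈ B, Commute b c := fun b hb c hc => by
    obtain ⟨b', hb', rfl⟩ := hm.mem_img.1 hb
    obtain ⟨c', hc', rfl⟩ := hm.mem_img.1 hc
    exact hm.map_commute hb' hc' (h.comm _ hb'.2 _ hc'.2)
  have hBi : B.relIndex E = p := by
    have e := Subgroup.relIndex_mul_relIndex ⊥ B E bot_le hBE
    simp only [Subgroup.relIndex_bot_left] at e
    rw [hm.card_img, he.card_eq h] at e
    rw [mul_comm p] at e
    exact Nat.eq_of_mul_eq_mul_left Nat.card_pos e
  set x' := autFun α y with hx'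
  have hx'B : x' ∈ B := hm.mem_img.2 ⟨y, hy, rfl⟩
  have hle : E ⊓ A ⊓ B ≤ centralizerIn S S := fun z hz =>
    h.mem_center_of_commute hz.1.2 (he.le h (hBE hx'B)) hyA (hBab z hz.2 x' hx'B)
  calc (centralizerIn S S).relIndex (E ⊓ A)
      ≤ (E ⊓ A ⊓ B).relIndex (E ⊓ A) :=
        Subgroup.relIndex_le_of_le_left hle fun h0 => Nat.card_pos.ne'
          (zero_dvd_iff.1 (h0 ▸ Subgroup.relIndex_dvd_card (E ⊓ A ⊓ B) (E ⊓ A)))
    _ = B.relIndex (E ⊓ A) := Subgroup.inf_relIndex_left _ _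
    _ ≤ B.relIndex E := Subgroup.relIndex_le_of_le_right inf_le_left (by rw [hBi]; exact hp.ne_zero)
    _ = p := hBi

theorem Ess.card_le (hF : F.IsSaturated p) :
    Nat.card E ≤ p ^ 2 * Nat.card (centralizerIn S S) := by
  have e := Subgroup.relIndex_mul_relIndex ⊥ (centralizerIn S S) (E ⊓ A) bot_le (he.center_le_inf h)
  simp only [Subgroup.relIndex_bot_left] at e
  rw [he.card_eq h, ← e, sq, mul_assoc, mul_comm (Nat.card (centralizerIn S S))]
  exact Nat.mul_le_mul_left _ (Nat.mul_le_mul_right _ (he.relIndex_center_le h hF))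

omit he

/-- Every map with a big source is the restriction of an automorphism of `S`. -/
theorem isRMap (hAe : ¬ F.IsEssential p A) (hF : F.IsSaturated p) {P : Subgroup Ω} {f : Ω → Ω}
    (hf : IsMap F P f) (hP : p ^ 2 * Nat.card (centralizerIn S S) < Nat.card P) : RMap F P f := by
  refine isMap_restrSystem_iff.1 (isMap_of_autGroup_le_above h.isPGroup hF (fun R hR hcase => ?_) hf)
  rcases hcase with hRS | hess
  · subst hRS
    intro α hα
    exact (mem_autGroup_iff le_rfl).2 (isMap_restrSystem_iff.2 ⟨le_rfl, α, hα, fun _ _ => rfl⟩)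
  · obtain ⟨y, hy⟩ := exists_ess h hAe hess
    exact absurd (hR.trans (hy.card_le h hF)) (not_le.2 hP)

include he

/-- The centre of `S` is the centre of a nonabelian `E`. -/
theorem Ess.map_center (hne : ¬ E ⊓ A ≤ centralizerIn S S) (α : MulAut E) {z : Ω}
    (hz : z ∈ centralizerIn S S) : autFun α z ∈ centralizerIn S S := by
  have hzE := he.center_le h hz
  obtain ⟨e, he', heZ⟩ := SetLike.not_le_iff_exists.1 hne
  set w := autFun α z with hw
  have hwE : w ∈ E := autFun_mem α hzE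
  have hc : ∀ y ∈ E, Commute w y := fun y hy => by
    obtain ⟨v, hv⟩ := α.surjective ⟨y, hy⟩
    have e1 : (⟨z, hzE⟩ : E) * v = v * ⟨z, hzE⟩ :=
      Subtype.ext (commute_center hz (he.le h v.2)).symm
    have h1 := congrArg Subtype.val (congrArg α e1)
    rw [map_mul, map_mul, hv] at h1
    rw [hw, autFun_apply α hzE]
    exact h1
  by_cases hwA : w ∈ A
  · exact h.mem_center_of_commute hwA (he.memS h) he.notMem (hc x he.mem)
  · exact absurd (h.mem_center_of_commute he'.2 (he.le h hwE) hwA (hc e he'.1).symm) heZ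

/-- The automorphisms of a nonabelian `E` act on `Z(S)` like automorphisms of `S`. -/
theorem Ess.topOn (hAe : ¬ F.IsEssential p A) (hF : F.IsSaturated p)
    (hne : ¬ E ⊓ A ≤ centralizerIn S S) {β : MulAut E} (hβ : β ∈ F.autGroup E) :
    TopOn F (autFun β) := by
  have hp := (Fact.out : p.Prime)
  have hES := he.le h
  haveI := finite_of_le hES
  haveI := finite_mulAut (P := E)
  set X := F.autGroup E
  let C : Subgroup (MulAut E) :=
    { carrier := {c | c ∈ X ∧ ∀ z ∈ centralizerIn S S, autFun c z = z}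
      one_mem' := ⟨one_mem _, fun z hz => autFun_one (he.center_le h hz)⟩
      mul_mem' := fun {a b} ha hb => ⟨mul_mem ha.1 hb.1, fun z hz => by
        rw [autFun_mul _ _ (he.center_le h hz), hb.2 z hz, ha.2 z hz]⟩
      inv_mem' := fun {a} ha => ⟨inv_mem ha.1, fun z hz => by
        conv_lhs => rw [← ha.2 z hz]
        rw [← autFun_mul _ _ (he.center_le h hz), inv_mul_cancel, autFun_one (he.center_le h hz)]⟩ }
  have hPC : autInducedBy S E ≤ C := fun a ha => by
    refine ⟨autInducedBy_le_autGroup hES ha, fun z hz => ?_⟩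
    obtain ⟨g, hg, hge⟩ := mem_autInducedBy_iff.1 ha
    rw [hge z (he.center_le h hz)]
    exact mul_inv_eq_iff_eq_mul.2 (commute_center hz hg)
  obtain ⟨hauto, hrec⟩ := IsSaturated.automized_receptive h.isPGroup hF he.ess.2.1
  have hi := ((isFullyAutomized_iff h.isPGroup).1 hauto).2
  have hCX : C ≤ X := fun _ hc => hc.1
  have hPi : ¬ p ∣ (autInducedBy S E).relIndex C := fun hd => hi (hd.trans
    ⟨_, (Subgroup.relIndex_mul_relIndex _ C X hPC hCX).symm⟩)
  obtain ⟨c, hc, hcP⟩ := exists_conj_le_of_not_dvd_relIndex (isPGroup_autInducedBy h.isPGroup)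
    hPC hPi (isPGroup_conjBy β (isPGroup_autInducedBy (P := E) h.isPGroup))
    (conjBy_le_iff.2 fun a ha => by
      refine ⟨mul_mem (mul_mem hβ (hPC ha).1) (inv_mem hβ), fun z hz => ?_⟩
      have hm := he.map_center h hne β⁻¹ hz
      rw [autFun_mul _ _ (he.center_le h hz), autFun_mul _ _ (he.center_le h hm),
        (hPC ha).2 _ hm, ← autFun_mul _ _ (he.center_le h hz), mul_inv_cancel,
        autFun_one (he.center_le h hz)])
  rw [conjBy_conjBy] at hcP
  set n := c * β with hn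
  have hnX : n ∈ X := mul_mem hc.1 hβ
  have hnm := (mem_autGroup_iff hES).1 hnX
  obtain ⟨g, hg, hge⟩ := (isReceptive_iff.1 hrec).2 E _ hnm (img_autFun n)
  have hext : normalizerIn S E ≤ extSub S E (autFun n) := fun q hq => by
    obtain ⟨r, hr, hre⟩ := mem_autInducedBy_iff.1
      (hcP (conj_mem_conjBy (conjAut_mem hq.1 hq.2)))
    refine mem_extSub.2 ⟨hq, r, hr, fun y hy => ?_⟩
    have h1 := hre _ (autFun_mem n hy)
    rw [← autFun_mul _ _ hy, inv_mul_cancel_right, autFun_mul _ _ hy, autFun_conjAut _ hy] at h1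
    exact h1
  have hbig : p ^ 2 * Nat.card (centralizerIn S S) < Nat.card (normalizerIn S E) := by
    refine lt_of_le_of_lt ?_ (card_lt_of_lt inf_le_left
      (lt_normalizerIn h.isPGroup hES (he.ne_self h hF)))
    haveI := finite_of_le (P := E ⊓ A) (inf_le_left.trans hES)
    have e := Subgroup.relIndex_mul_relIndex ⊥ (centralizerIn S S) (E ⊓ A) bot_le
      (he.center_le_inf h)
    simp only [Subgroup.relIndex_bot_left] at e
    rw [he.card_eq h, ← e, sq, mul_assoc, mul_comm (Nat.card (centralizerIn S S)) _]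
    refine Nat.mul_le_mul_left _ (Nat.mul_le_mul_right _ ?_)
    obtain ⟨k, hk⟩ := ((h.isPGroup.to_le (inf_le_left.trans hES)).index
      ((centralizerIn S S).subgroupOf (E ⊓ A)))
    rw [show (centralizerIn S S).relIndex (E ⊓ A) = p ^ k from hk]
    refine Nat.le_self_pow (fun hk0 => hne ?_) p
    rw [hk0, pow_zero] at hk
    exact Subgroup.relIndex_eq_one.1 hk
  obtain ⟨-, φ, hφ, hφe⟩ := isRMap h hAe hF (hg.mono hext) hbig
  refine ⟨φ, hφ, fun z hz => ?_⟩
  have hzE := he.center_le h hz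
  have h1 := hφe z (le_normalizerIn hES hzE)
  rw [hge z hzE, hn, autFun_mul _ _ hzE, hc.2 _ (he.map_center h hne β hz)] at h1
  exact h1

omit he

/-- Every map with a source of order at least `p² |Z(S)|` acts on `Z(S)` like an automorphism
of `S`. -/
theorem topOn_of_card (hAe : ¬ F.IsEssential p A) (hF : F.IsSaturated p) {P : Subgroup Ω}
    {f : Ω → Ω} (hf : IsMap F P f) (hZP : centralizerIn S S ≤ P)
    (hP : p ^ 2 * Nat.card (centralizerIn S S) ≤ Nat.card P) : TopOn F f := by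
  have hp := (Fact.out : p.Prime)
  have h1 : IsMap (topSystem F) P f := by
    refine isMap_of_autGroup_le_above h.isPGroup hF (fun R hR hcase α hα => ?_) hf
    rcases hcase with hRS | hess
    · subst hRS
      refine (mem_autGroup_iff le_rfl).2 (isMap_topSystem_iff.2 ⟨le_rfl, autFun α, ?_,
        fun _ _ => rfl, α, hα, fun _ _ => rfl⟩)
      rw [sup_eq_left.2 inf_le_left]
      exact (mem_autGroup_iff le_rfl).1 hα
    · obtain ⟨y, hy⟩ := exists_ess h hAe hess
      have hne : ¬ R ⊓ A ≤ centralizerIn S S := fun hle => by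
        have h2 : Nat.card R ≤ p * Nat.card (centralizerIn S S) := by
          rw [hy.card_eq h]
          exact Nat.mul_le_mul_left _ (card_le_of_le' (inf_le_left : centralizerIn S S ≤ S) hle)
        haveI := finite_of_le (P := centralizerIn S S) (inf_le_left : _ ≤ S)
        have h3 := (hP.trans hR).trans h2
        rw [sq, mul_assoc] at h3
        have h4 := Nat.le_of_mul_le_mul_left h3 hp.pos
        nlinarith [hp.two_le, (Nat.card_pos : 0 < Nat.card (centralizerIn S S))]
      refine (mem_autGroup_iff (hy.le h)).2 (isMap_topSystem_iff.2 ⟨hy.le h, autFun α, ?_,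
        fun _ _ => rfl, hy.topOn h hAe hF hne hα⟩)
      rw [sup_eq_left.2 (hy.center_le h)]
      exact (mem_autGroup_iff (hy.le h)).1 hα
  obtain ⟨-, g, -, hgf, φ, hφ, hφe⟩ := isMap_topSystem_iff.1 h1
  exact ⟨φ, hφ, fun z hz => (hgf z (hZP hz)).symm.trans (hφe z hz)⟩

end CfsgLib.Fusion.AbelianIndexP
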