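import Cfsg.Prelude.Def_FusionSystem
import Mathlib.GroupTheory.FiniteAbelian.Basic
import Mathlib.GroupTheory.PGroup
import Mathlib.FieldTheory.Finite.Basic

/-!
# Abelian groups with a repeated invariant
-/

set_option autoImplicit false

namespace CfsgLib.Fusion.AbelianSupersoluble

section Universal

variable {Ω : Type*} [Group Ω]

/-- All injective maps between subgroups of `S`. -/
noncomputable def univSystem (S : Subgroup Ω) : Cfsg.FusionSystem S where
  Hom P := {φ | P ≤ S ∧ (∀ x : P, φ x ∈ S) ∧ Function.Injective φ}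
  le_of_mem h := ⟨h.1, h.2.1⟩
  injective_of_mem h := h.2.2
  conj_mem {P g} hP hg := ⟨hP, fun x => S.mul_mem (S.mul_mem hg (hP x.2)) (S.inv_mem hg), fun a b h =>
    Subtype.ext (mul_left_cancel (mul_right_cancel (h : g * (a : Ω) * g⁻¹ = g * b * g⁻¹)))⟩
  comp_mem {P Q φ ψ} hφ hψ h := ⟨hφ.1, fun x => hψ.2.1 _, fun a b hab => hφ.2.2
    (congrArg Subtype.val (hψ.2.2 hab))⟩
  inv_mem {P φ} hφ := by
    refine ⟨P.subtype.comp (MonoidHom.ofInjective hφ.2.2).symm.toMonoidHom, ⟨?_, fun x => hφ.1 (SetLike.coe_mem _),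
      fun a b hab => (MonoidHom.ofInjective hφ.2.2).symm.injective (Subtype.ext hab)⟩, fun x => ?_⟩
    · rintro _ ⟨x, rfl⟩; exact hφ.2.1 x
    · exact congrArg Subtype.val ((MonoidHom.ofInjective hφ.2.2).symm_apply_apply x)

end Universal

section Cyclic

variable {p : ℕ} [Fact p.Prime]

/-- elements of `ZMod (p ^ e)` killed by `p` -/
theorem zmod_killed {e : ℕ} {v : ZMod (p ^ e)} (hv : (p : ZMod (p ^ e)) * v = 0) :
    e = 0 ∨ ∃ t : ℕ, v = ((p ^ (e - 1) * t : ℕ) : ZMod (p ^ e)) := by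
  rcases Nat.eq_zero_or_pos e with h | h
  · exact Or.inl h
  haveI : NeZero (p ^ e) := ⟨pow_ne_zero _ (Fact.out : p.Prime).ne_zero⟩
  right
  have h1 : ((p * v.val : ℕ) : ZMod (p ^ e)) = 0 := by rw [Nat.cast_mul, ZMod.natCast_rightInverse, hv]
  rw [ZMod.natCast_eq_zero_iff] at h1
  have h2 : p ^ (e - 1) ∣ v.val := by
    refine Nat.dvd_of_mul_dvd_mul_left (Fact.out : p.Prime).pos ?_
    rwa [← pow_succ', show e - 1 + 1 = e by omega]
  obtain ⟨t, ht⟩ := h2
  exact ⟨t, by rw [← ht, ZMod.natCast_rightInverse]⟩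

end Cyclic

section Chain

variable {G : Type*} [CommGroup G] {p : ℕ}

/-- `D j i`: elements of `Ω_{j+1}` whose `p^j`-th power is a `p^i`-th power. -/
def D (p : ℕ) (G : Type*) [CommGroup G] (j i : ℕ) : Subgroup G where
  carrier := {x | x ^ p ^ (j + 1) = 1 ∧ ∃ w : G, w ^ p ^ i = x ^ p ^ j}
  one_mem' := ⟨one_pow _, 1, by rw [one_pow, one_pow]⟩
  mul_mem' := fun {a b} ha hb => ⟨by rw [mul_pow, ha.1, hb.1, one_mul], by
    obtain ⟨v, hv⟩ := ha.2
    obtain ⟨w, hw⟩ := hb.2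
    exact ⟨v * w, by rw [mul_pow, mul_pow, hv, hw]⟩⟩
  inv_mem' := fun {a} ha => ⟨by rw [inv_pow, ha.1, inv_one], by
    obtain ⟨v, hv⟩ := ha.2
    exact ⟨v⁻¹, by rw [inv_pow, inv_pow, hv]⟩⟩

variable [Fact p.Prime] [Finite G]

theorem map_mem_D {j i : ℕ} (g : G →* G) {x : G} (hx : x ∈ D p G j i) : g x ∈ D p G j i :=
  ⟨by rw [← map_pow, hx.1, map_one], by
    obtain ⟨w, hw⟩ := hx.2
    exact ⟨g w, by rw [← map_pow, ← map_pow, hw]⟩⟩

theorem D_succ_le (j i : ℕ) : D p G j (i + 1) ≤ D p G j i := by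
  rintro x ⟨h1, w, hw⟩
  exact ⟨h1, w ^ p, by rw [← pow_mul, ← pow_succ', hw]⟩

theorem D_zero_eq {j N : ℕ} (hN : ∀ x : G, x ^ p ^ N = 1) : D p G j 0 = D p G (j + 1) N := by
  ext x
  constructor
  · rintro ⟨h1, -⟩
    refine ⟨by rw [pow_succ, pow_mul, h1, one_pow], 1, by rw [one_pow, h1]⟩
  · rintro ⟨-, w, hw⟩
    exact ⟨by rw [← hw, hN], x ^ p ^ j, by rw [pow_zero, pow_one]⟩

/-- the layers of a group without repeated invariant are cyclic -/
theorem exists_layer_generator (hG : IsPGroup p G)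
    (hrep : ¬ ∃ (n : ℕ) (H : Type) (_ : CommGroup H), 0 < n ∧
      Nonempty (G ≃* (Multiplicative (ZMod (p ^ n)) × Multiplicative (ZMod (p ^ n))) × H))
    (i : ℕ) (a b : G) (ha : a ^ p = 1) (hb : b ^ p = 1) (hai : ∃ w, w ^ p ^ i = a) (hbi : ∃ w, w ^ p ^ i = b)
    (ha' : ¬ ∃ w, w ^ p ^ (i + 1) = a) : ∃ k : ℕ, ∃ w, w ^ p ^ (i + 1) = b * (a ^ k)⁻¹ := by
  classical
  have hp := (Fact.out : p.Prime)
  obtain ⟨ι, hι, n, hn1, ⟨E⟩⟩ := CommGroup.equiv_prod_multiplicative_zmod_of_finite G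
  obtain ⟨K, hK⟩ := IsPGroup.iff_card.1 hG
  have hne : ∀ j : ι, ∃ e, n j = p ^ e := by
    intro j
    have h1 : n j ∣ Nat.card G := by
      rw [Nat.card_congr E.toEquiv, Nat.card_pi]
      have h2 : Nat.card (Multiplicative (ZMod (n j))) = n j := by
        rw [Nat.card_congr Multiplicative.toAdd, Nat.card_zmod]
      exact h2.symm.dvd.trans (Finset.dvd_prod_of_mem _ (Finset.mem_univ j))
    rw [hK] at h1
    obtain ⟨e, -, he⟩ := (Nat.dvd_prime_pow hp).1 h1
    exact ⟨e, he⟩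
  choose e he using hne
  obtain rfl : n = fun j => p ^ e j := funext he
  -- exponents are distinct
  have hinj : Function.Injective e := by
    intro u v huv
    by_contra hne
    refine hrep ⟨e u, (k : {k : ι // k ≠ u ∧ k ≠ v}) → Multiplicative (ZMod (p ^ e k)), inferInstance, ?_, ⟨?_⟩⟩
    · rcases Nat.eq_zero_or_pos (e u) with h | h
      · exact absurd (hn1 u) (by simp [h])
      · exact h
    refine E.trans ?_
    let c : Multiplicative (ZMod (p ^ e v)) ≃* Multiplicative (ZMod (p ^ e u)) :=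
      AddEquiv.toMultiplicative (ZMod.ringEquivCongr (by rw [huv])).toAddEquiv
    let f : ((j : ι) → Multiplicative (ZMod (p ^ e j))) →*
        (Multiplicative (ZMod (p ^ e u)) × Multiplicative (ZMod (p ^ e u))) ×
          ((k : {k : ι // k ≠ u ∧ k ≠ v}) → Multiplicative (ZMod (p ^ e k))) :=
      MonoidHom.mk' (fun z => ((z u, c (z v)), fun k => z k)) fun z w => by
        simp only [Pi.mul_apply, map_mul]; rfl
    refine MulEquiv.ofBijective f ⟨fun z w h => ?_, fun t => ?_⟩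
    · simp only [f, MonoidHom.mk'_apply, Prod.mk.injEq, c.injective.eq_iff, funext_iff] at h
      funext k
      by_cases h1 : k = u
      · exact h1 ▸ h.1.1
      by_cases h2 : k = v
      · exact h2 ▸ h.1.2
      exact h.2 ⟨k, h1, h2⟩
    · refine ⟨fun k => if h1 : k = u then h1 ▸ t.1.1 else if h2 : k = v then h2 ▸ c.symm t.1.2 else t.2 ⟨k, h1, h2⟩, ?_⟩
      show ((_, c _), _) = t
      refine Prod.ext (Prod.ext ?_ ?_) (funext fun k => ?_)
      · simp
      · simp [Ne.symm hne]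
      · simp [k.2.1, k.2.2]
  -- coordinates
  have hpow : ∀ (m : ℕ) (x : G) (j : ι), (E (x ^ m) j).toAdd = (m : ZMod (p ^ e j)) * (E x j).toAdd := fun m x j => by
    rw [map_pow, Pi.pow_apply, toAdd_pow, nsmul_eq_mul]
  have hcoord : ∀ x : G, x ^ p = 1 → (∃ w, w ^ p ^ i = x) → ∀ j, e j ≠ i + 1 →
      ∃ s : ZMod (p ^ e j), (E x j).toAdd = ((p ^ (i + 1) : ℕ) : ZMod (p ^ e j)) * s := by
    rintro x hx ⟨w, rfl⟩ j hj
    have h0 : (p : ZMod (p ^ e j)) * (E (w ^ p ^ i) j).toAdd = 0 := by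
      rw [← hpow, hx, map_one, Pi.one_apply, toAdd_one]
    rcases Nat.lt_or_ge i (e j) with hlt | hge
    · rcases zmod_killed h0 with h | ⟨t, ht⟩
      · omega
      · refine ⟨((p ^ (e j - 1 - (i + 1)) * t : ℕ) : ZMod (p ^ e j)), ?_⟩
        rw [ht, ← Nat.cast_mul, ← mul_assoc, ← pow_add, show i + 1 + (e j - 1 - (i + 1)) = e j - 1 by omega]
    · refine ⟨0, ?_⟩
      rw [hpow, mul_zero, (ZMod.natCast_eq_zero_iff _ _).2 (pow_dvd_pow p hge), zero_mul]
  have hsucc : ∀ x : G, (∀ j, ∃ s : ZMod (p ^ e j), (E x j).toAdd = ((p ^ (i + 1) : ℕ) : ZMod (p ^ e j)) * s) →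
      ∃ w, w ^ p ^ (i + 1) = x := by
    intro x hx
    choose s hs using hx
    refine ⟨E.symm fun j => Multiplicative.ofAdd (s j), E.injective (funext fun j => Multiplicative.toAdd.injective ?_)⟩
    rw [hpow, E.apply_symm_apply, toAdd_ofAdd, hs]
  obtain ⟨u, hu⟩ : ∃ u, e u = i + 1 := by
    by_contra hcon
    push Not at hcon
    exact ha' (hsucc a fun j => hcoord a ha hai j (hcon j))
  have htop : ∀ x : G, x ^ p = 1 → ∃ t : ℕ, (E x u).toAdd = ((p ^ i * t : ℕ) : ZMod (p ^ e u)) := by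
    intro x hx
    have h0 : (p : ZMod (p ^ e u)) * (E x u).toAdd = 0 := by rw [← hpow, hx, map_one, Pi.one_apply, toAdd_one]
    rcases zmod_killed h0 with h | ⟨t, ht⟩
    · omega
    · exact ⟨t, by rw [ht, show e u - 1 = i by omega]⟩
  obtain ⟨t, ht⟩ := htop a ha
  obtain ⟨s, hs⟩ := htop b hb
  have hpt : ¬ p ∣ t := fun ⟨r, hr⟩ => ha' (hsucc a fun j => by
    by_cases hj : j = u
    · subst hj
      exact ⟨(r : ZMod (p ^ e j)), by rw [ht, hr, ← Nat.cast_mul, ← mul_assoc, ← pow_succ]⟩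
    · exact hcoord a ha hai j fun h => hj (hinj (h.trans hu.symm)))
  obtain ⟨k, hk⟩ : ∃ k : ℕ, (s : ZMod p) = (k : ZMod p) * t := ⟨((s : ZMod p) * (t : ZMod p)⁻¹).val, by
    rw [ZMod.natCast_rightInverse, mul_assoc, inv_mul_cancel₀ (fun h => hpt ((ZMod.natCast_eq_zero_iff _ _).1 h)),
      mul_one]⟩
  refine ⟨k, hsucc _ fun j => ?_⟩
  by_cases hj : j = u
  · subst hj
    refine ⟨0, ?_⟩
    rw [mul_zero, map_mul, map_inv, Pi.mul_apply, Pi.inv_apply, toAdd_mul, toAdd_inv, hpow, hs, ht,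
      ← Nat.cast_mul, add_neg_eq_zero, ZMod.natCast_eq_natCast_iff, hu, pow_succ]
    rw [← Nat.cast_mul, ZMod.natCast_eq_natCast_iff] at hk
    rw [show k * (p ^ i * t) = p ^ i * (k * t) by ring]
    exact hk.mul_left' _
  · have hne : e j ≠ i + 1 := fun h => hj (hinj (h.trans hu.symm))
    obtain ⟨wa, hwa⟩ := hcoord a ha hai j hne
    obtain ⟨wb, hwb⟩ := hcoord b hb hbi j hne
    refine ⟨wb - k * wa, ?_⟩
    rw [map_mul, map_inv, Pi.mul_apply, Pi.inv_apply, toAdd_mul, toAdd_inv, hpow, hwa, hwb]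
    ring

/-- a chain of fully invariant subgroups with cyclic steps -/
theorem exists_chain (hG : IsPGroup p G)
    (hrep : ¬ ∃ (n : ℕ) (H : Type) (_ : CommGroup H), 0 < n ∧
      Nonempty (G ≃* (Multiplicative (ZMod (p ^ n)) × Multiplicative (ZMod (p ^ n))) × H)) :
    ∃ (m : ℕ) (c : Fin (m + 1) → Subgroup G), c 0 = ⊥ ∧ c (Fin.last m) = ⊤ ∧
      (∀ i, ∀ g : G →* G, ∀ x ∈ c i, g x ∈ c i) ∧
      ∀ i : Fin m, c i.castSucc ≤ c i.succ ∧ ∃ x, c i.succ = c i.castSucc ⊔ Subgroup.zpowers x := by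
  obtain ⟨K, hK⟩ := IsPGroup.iff_card.1 hG
  set N := K + 1 with hNdef
  have hN : ∀ x : G, x ^ p ^ N = 1 := fun x => by
    rw [hNdef, pow_succ, pow_mul, ← hK, pow_card_eq_one', one_pow]
  let c' : ℕ → Subgroup G := fun t => D p G (t / N) (N - t % N)
  have hstep : ∀ t, ∃ j i, c' t = D p G j (i + 1) ∧ c' (t + 1) = D p G j i := by
    intro t
    have hlt := Nat.mod_lt t (show 0 < N by omega)
    refine ⟨t / N, N - t % N - 1, ?_, ?_⟩
    · show D p G _ _ = _
      congr 1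
      omega
    · show D p G _ _ = _
      rcases Nat.lt_or_ge (t % N + 1) N with h | h
      · have h0 := Nat.div_add_mod t N
        have h1 : (t + 1) / N = t / N := Nat.div_eq_of_lt_le
          (by rw [mul_comm]; omega) (by rw [Nat.succ_mul, mul_comm]; omega)
        have h2 : (t + 1) % N = t % N + 1 := by
          rw [Nat.add_mod, Nat.one_mod_eq_one.2 (by omega), Nat.mod_eq_of_lt h]
        rw [h1, h2]; congr 1
      · have h0 := Nat.div_add_mod t N
        have hd : t + 1 = (t / N + 1) * N := by rw [Nat.succ_mul, mul_comm]; omega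
        rw [hd, Nat.mul_div_cancel _ (show 0 < N by omega), Nat.mul_mod_left, Nat.sub_zero,
          show N - t % N - 1 = 0 by omega, D_zero_eq hN]
  refine ⟨N * N, fun t => c' t, ?_, ?_, fun t g x hx => map_mem_D g hx, fun t => ?_⟩
  · rw [eq_bot_iff]
    rintro x ⟨-, w, hw⟩
    rw [Fin.val_zero, Nat.zero_div, pow_zero, pow_one, Nat.zero_mod, Nat.sub_zero, hN] at hw
    exact hw ▸ one_mem _
  · rw [eq_top_iff]
    intro x _
    show x ∈ D p G ((Fin.last (N * N) : ℕ) / N) (N - (Fin.last (N * N) : ℕ) % N)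
    rw [Fin.val_last, Nat.mul_div_cancel _ (show 0 < N by omega), Nat.mul_mod_left, Nat.sub_zero]
    exact ⟨by rw [pow_succ, pow_mul, hN, one_pow], 1, by rw [one_pow, hN]⟩
  · obtain ⟨j, i, h1, h2⟩ := hstep t
    show c' t ≤ c' ((t : ℕ) + 1) ∧ ∃ x, c' ((t : ℕ) + 1) = c' t ⊔ Subgroup.zpowers x
    rw [h1, h2]
    refine ⟨D_succ_le j i, ?_⟩
    by_cases he : D p G j i ≤ D p G j (i + 1)
    · exact ⟨1, by rw [Subgroup.zpowers_one_eq_bot, sup_bot_eq]; exact le_antisymm he (D_succ_le j i)⟩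
    obtain ⟨x, hx, hx'⟩ := SetLike.not_le_iff_exists.1 he
    refine ⟨x, le_antisymm (fun y hy => ?_) (sup_le (D_succ_le j i) (Subgroup.zpowers_le.2 hx))⟩
    have hp1 : ∀ z ∈ D p G j i, (z ^ p ^ j) ^ p = 1 := fun z hz => by rw [← pow_mul, ← pow_succ, hz.1]
    obtain ⟨k, w, hw⟩ := exists_layer_generator hG hrep i (x ^ p ^ j) (y ^ p ^ j) (hp1 x hx) (hp1 y hy) hx.2 hy.2
      (fun h => hx' ⟨hx.1, h⟩)
    have h3 : y * (x ^ k)⁻¹ ∈ D p G j (i + 1) :=
      ⟨((D p G j i).mul_mem hy ((D p G j i).inv_mem ((D p G j i).pow_mem hx k))).1,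
        w, by rw [hw, mul_pow, inv_pow, ← pow_mul, ← pow_mul, mul_comm k]⟩
    have h4 := Subgroup.mul_mem_sup h3 (pow_mem (Subgroup.mem_zpowers x) k)
    rwa [inv_mul_cancel_right] at h4

end Chain

section Twist

variable {G : Type*} [CommGroup G] {p : ℕ} [Fact p.Prime]

/-- an automorphism of order prime to `p` without invariant subgroup of order `p` in a repeated factor -/
theorem exists_twist {n : ℕ} (hn : 0 < n) {H : Type} [CommGroup H]
    (e : G ≃* (Multiplicative (ZMod (p ^ n)) × Multiplicative (ZMod (p ^ n))) × H) :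
    ∃ γ : MulAut G, (orderOf γ).Coprime p ∧ (∀ v, (e (γ v)).2 = (e v).2) ∧
      ∀ v, v ^ p = 1 → (e v).2 = 1 → γ v ∈ Subgroup.zpowers v → v = 1 := by
  classical
  have hp := (Fact.out : p.Prime)
  haveI : NeZero (p ^ n) := ⟨pow_ne_zero _ hp.ne_zero⟩
  let C := Multiplicative (ZMod (p ^ n))
  have hC : ∀ a : C, a ^ p ^ n = 1 := fun a => by
    have h := pow_card_eq_one' (x := a)
    rwa [Nat.card_congr Multiplicative.toAdd, Nat.card_zmod] at h
  -- from an automorphism of the repeated factor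
  have lift : ∀ (T : C × C →* C × C) (m : ℕ), 0 < m → m.Coprime p → (∀ x, T^[m] x = x) →
      (∀ (a : C × C), a ^ p = 1 → T a ∈ Subgroup.zpowers a → a = 1) →
      ∃ γ : MulAut G, (orderOf γ).Coprime p ∧ (∀ v, (e (γ v)).2 = (e v).2) ∧
        ∀ v, v ^ p = 1 → (e v).2 = 1 → γ v ∈ Subgroup.zpowers v → v = 1 := by
    intro T m hm hmp hTm hline
    let U : G →* G := e.symm.toMonoidHom.comp ((T.prodMap (MonoidHom.id H)).comp e.toMonoidHom)
    have hU : ∀ v, e (U v) = (T (e v).1, (e v).2) := fun v => e.apply_symm_apply _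
    have hiter : ∀ (k : ℕ) v, e (U^[k] v) = (T^[k] (e v).1, (e v).2) := by
      intro k
      induction k with
      | zero => intro v; rfl
      | succ k ih => intro v; rw [Function.iterate_succ_apply', hU, ih, Function.iterate_succ_apply']
    have hUm : ∀ v, U^[m] v = v := fun v => e.injective (by rw [hiter, hTm])
    have hbij : Function.Bijective U := by
      obtain ⟨k, rfl⟩ : ∃ k, m = k + 1 := ⟨m - 1, by omega⟩
      exact Function.bijective_iff_has_inverse.2 ⟨U^[k],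
        fun v => by rw [← Function.iterate_succ_apply, hUm],
        fun v => by rw [← Function.iterate_succ_apply' U, hUm]⟩
    refine ⟨MulEquiv.ofBijective U hbij, ?_, fun v => show (e (U v)).2 = (e v).2 by rw [hU], fun v hv hv2 hmem => ?_⟩
    · refine Nat.Coprime.coprime_dvd_left (orderOf_dvd_of_pow_eq_one (MulEquiv.ext fun v => ?_)) hmp
      have hk : ∀ k : ℕ, ((MulEquiv.ofBijective U hbij : MulAut G) ^ k) v = U^[k] v := by
        intro k
        induction k with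
        | zero => rfl
        | succ k ih => rw [pow_succ', MulAut.mul_apply, ih, Function.iterate_succ_apply']; rfl
      rw [hk, hUm]; rfl
    · obtain ⟨z, hz⟩ := Subgroup.mem_zpowers_iff.1 hmem
      have h1 : (e v).1 ^ z = T (e v).1 := by
        have h := congrArg (fun g => (e g).1) hz
        simp only [map_zpow, Prod.pow_fst] at h
        exact h.trans (congrArg Prod.fst (hU v))
      have h2 := hline (e v).1 (by rw [← Prod.pow_fst, ← map_pow, hv, map_one, Prod.fst_one])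
        (Subgroup.mem_zpowers_iff.2 ⟨z, h1⟩)
      exact e.injective (by rw [map_one]; exact Prod.ext h2 hv2)
  rcases hp.eq_two_or_odd' with rfl | hodd
  · let T : C × C →* C × C := MonoidHom.mk' (fun x => (x.2⁻¹, x.1 * x.2⁻¹)) fun x y => by
      simp only [Prod.fst_mul, Prod.snd_mul, mul_inv, Prod.mk_mul_mk]
      rw [mul_mul_mul_comm]
    refine lift T 3 (by norm_num) (by decide) (fun x => ?_) fun a ha hmem => ?_
    · obtain ⟨a, b⟩ := x
      show ((((a * b⁻¹)⁻¹, b⁻¹ * (a * b⁻¹)⁻¹).2)⁻¹, ((a * b⁻¹)⁻¹, b⁻¹ * (a * b⁻¹)⁻¹).1 * (((a * b⁻¹)⁻¹, b⁻¹ * (a * b⁻¹)⁻¹).2)⁻¹) = (a, b)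
      refine Prod.ext ?_ ?_ <;> dsimp only
      · rw [mul_inv_rev, inv_inv, inv_inv, inv_mul_cancel_right]
      · rw [mul_inv_rev b⁻¹, inv_inv, inv_inv, inv_mul_cancel_left]
    · have h1 : a.1⁻¹ = a.1 := inv_eq_of_mul_eq_one_right (by rw [← sq, ← Prod.pow_fst, ha, Prod.fst_one])
      have h2 : a.2⁻¹ = a.2 := inv_eq_of_mul_eq_one_right (by rw [← sq, ← Prod.pow_snd, ha, Prod.snd_one])
      obtain ⟨z, hz⟩ := Subgroup.mem_zpowers_iff.1 hmem
      have ha2 : ∀ z : ℤ, a ^ z = 1 ∨ a ^ z = a := fun z => by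
        rcases Int.even_or_odd z with ⟨r, rfl⟩ | ⟨r, rfl⟩
        · left; rw [← two_mul, zpow_mul, zpow_two, ← sq, ha, one_zpow]
        · right; rw [zpow_add_one, zpow_mul, zpow_two, ← sq, ha, one_zpow, one_mul]
      change a ^ z = (a.2⁻¹, a.1 * a.2⁻¹) at hz
      rw [h2] at hz
      rcases ha2 z with h | h <;> rw [h] at hz
      · have e1 : a.2 = 1 := (congrArg Prod.fst hz).symm
        have e2 : a.1 * a.2 = 1 := (congrArg Prod.snd hz).symm
        rw [e1, mul_one] at e2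
        exact Prod.ext e2 e1
      · have e1 : a.1 = a.2 := congrArg Prod.fst hz
        have e2 : a.2 = a.1 * a.2 := congrArg Prod.snd hz
        have e3 : a.1 = 1 := by simpa using e2
        exact Prod.ext e3 (e1.symm.trans e3)
  · have hp2 : p ≠ 2 := fun h => by rw [h] at hodd; exact absurd hodd (by decide)
    obtain ⟨d0, hd0⟩ := FiniteField.exists_nonsquare (F := ZMod p) (by rwa [ZMod.ringChar_zmod_n])
    obtain ⟨d, hd⟩ : ∃ d, d = d0.val ^ p ^ (n - 1) := ⟨_, rfl⟩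
    have hd0z : d0 ≠ 0 := fun h => hd0 (h ▸ IsSquare.zero)
    have hdp : (d : ZMod p) = d0 := by
      rw [hd, Nat.cast_pow, ZMod.natCast_rightInverse, ZMod.pow_card_pow]
    have hcop : d0.val.Coprime (p ^ n) := by
      refine Nat.Coprime.pow_right _ (Nat.Coprime.symm (hp.coprime_iff_not_dvd.2 fun h => hd0z ?_))
      rw [← ZMod.natCast_rightInverse d0]; exact (ZMod.natCast_eq_zero_iff _ _).2 h
    have hord : ∀ x : C, x ^ (d ^ (p - 1)) = x := fun x => by
      have h := Nat.ModEq.pow_totient hcop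
      rw [Nat.totient_prime_pow hp hn, pow_mul, ← hd] at h
      rw [pow_eq_pow_mod _ (hC x), h, ← pow_eq_pow_mod _ (hC x), pow_one]
    let T : C × C →* C × C := MonoidHom.mk' (fun x => (x.2 ^ d, x.1)) fun x y => by
      simp only [Prod.fst_mul, Prod.snd_mul, mul_pow, Prod.mk_mul_mk]
    have hT2 : ∀ (k : ℕ) (x : C × C), T^[2 * k] x = (x.1 ^ d ^ k, x.2 ^ d ^ k) := by
      intro k
      induction k with
      | zero => intro x; simp
      | succ k ih =>
        intro x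
        rw [Nat.mul_succ, add_comm, Function.iterate_add_apply, ih]
        show ((x.1 ^ d ^ k) ^ d, (x.2 ^ d ^ k) ^ d) = _
        rw [← pow_mul, ← pow_mul, ← pow_succ]
    refine lift T (2 * (p - 1)) (by have := hp.two_le; omega) ?_ (fun x => ?_) fun a ha hmem => ?_
    · refine Nat.Coprime.mul_left ((Nat.coprime_primes Nat.prime_two hp).2 (Ne.symm hp2)) ?_
      refine Nat.Coprime.symm (hp.coprime_iff_not_dvd.2 fun h => ?_)
      have h2 := hp.two_le
      have := Nat.le_of_dvd (by omega) h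
      omega
    · rw [hT2, hord, hord]
    · have ha1 : a.1 ^ p = 1 := by rw [← Prod.pow_fst, ha, Prod.fst_one]
      have ha2 : a.2 ^ p = 1 := by rw [← Prod.pow_snd, ha, Prod.snd_one]
      obtain ⟨z, hz⟩ := Subgroup.mem_zpowers_iff.1 hmem
      change a ^ z = (a.2 ^ d, a.1) at hz
      have e1 : a.1 ^ z = a.2 ^ d := congrArg Prod.fst hz
      have e2 : a.2 ^ z = a.1 := congrArg Prod.snd hz
      by_contra hne
      have hb : a.2 ≠ 1 := fun h => hne (Prod.ext (by rw [← e2, h, one_zpow]; rfl) h)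
      have e3 : a.2 ^ (z * z) = a.2 ^ (d : ℤ) := by rw [zpow_mul, e2, zpow_natCast]; exact e1
      rw [zpow_eq_zpow_iff_modEq, orderOf_eq_prime ha2 hb, ← ZMod.intCast_eq_intCast_iff] at e3
      push_cast at e3
      rw [hdp] at e3
      exact hd0 ⟨(z : ZMod p), e3.symm⟩

end Twist

end CfsgLib.Fusion.AbelianSupersoluble
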