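import Mathlib.GroupTheory.Perm.Centralizer
import Mathlib.GroupTheory.SpecificGroups.Alternating

/-!
# Centralizers of elements of order four in the alternating group of degree eight
-/

set_option autoImplicit false

open Equiv Equiv.Perm

namespace CfsgLib.Fusion

/-- An element of odd order commuting with an even permutation of order four of eight letters is
trivial. -/
theorem eq_one_of_odd_commute_four {y g : Perm (Fin 8)} (hy : sign y = 1) (hy4 : orderOf y = 4)
    (hc : g * y = y * g) (hg : (orderOf g).Coprime 2) : g = 1 := by
  have hdvd : ∀ n ∈ y.cycleType, n = 2 ∨ n = 4 := by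
    intro n hn
    have h1 := hy4 ▸ dvd_of_mem_cycleType hn
    have h2 := two_le_of_mem_cycleType hn
    have h3 := Nat.le_of_dvd (by norm_num) h1
    interval_cases n <;> omega
  have hform : y.cycleType = Multiset.replicate (y.cycleType.count 4) 4 +
      Multiset.replicate (y.cycleType.count 2) 2 := by
    ext n
    rw [Multiset.count_add, Multiset.count_replicate, Multiset.count_replicate]
    by_cases hn : n ∈ y.cycleType
    · rcases hdvd n hn with rfl | rfl <;> simp
    · rw [Multiset.count_eq_zero.2 hn]
      split_ifs with h1 h2 h2 <;> simp_all
  have h4 : 4 ∈ y.cycleType := by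
    by_contra h
    have h2 : y.cycleType.lcm ∣ 2 := Multiset.lcm_dvd.2 fun n hn => by
      rcases hdvd n hn with rfl | rfl
      · rfl
      · exact absurd hn h
    rw [lcm_cycleType, hy4] at h2
    norm_num at h2
  have hpos := Multiset.count_pos.2 h4
  have hsum := sum_cycleType_le y
  have hsign := sign_of_cycleType y
  have hcard := nat_card_centralizer y
  rw [hy] at hsign
  set a := y.cycleType.count 4
  set b := y.cycleType.count 2
  rw [hform] at hsum hsign hcard
  simp only [Multiset.sum_add, Multiset.sum_replicate, smul_eq_mul, Fintype.card_fin] at hsum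
  have hord : orderOf g ∣ 2 ^ 5 := by
    have hmem : g ∈ Subgroup.centralizer ({y} : Set (Perm (Fin 8))) :=
      Subgroup.mem_centralizer_singleton_iff.2 hc
    refine (Subgroup.orderOf_dvd_natCard _ hmem).trans ?_
    rw [hcard]
    have ha : a ≤ 2 := by omega
    have hb : b ≤ 2 := by omega
    interval_cases a <;> interval_cases b <;>
      first
        | omega
        | decide +kernel
        | (exact absurd hsign (by decide +kernel))
  exact orderOf_eq_one_iff.1 (Nat.eq_one_of_dvd_coprimes (Nat.Coprime.pow_right 5 hg)
    dvd_rfl hord)

end CfsgLib.Fusion
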