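import Cfsg.Agent.Lib.Fusion.System.Basic

/-!
# Automizers, extenders, receptive and fully automized subgroups
-/

set_option autoImplicit false

open Subgroup
open scoped Classical

namespace CfsgLib.Fusion

open Cfsg (FusionSystem autInducedBy)
open Cfsg.FusionSystem (normalizerIn centralizerIn)

variable {Ω : Type*} [Group Ω] {S : Subgroup Ω} {F : FusionSystem S} {P Q : Subgroup Ω}
  {f g : Ω → Ω} {p : ℕ}

theorem finite_of_le [Finite S] (h : P ≤ S) : Finite P :=
  Finite.of_injective _ (Subgroup.inclusion_injective h)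

theorem finite_mulAut [Finite P] : Finite (MulAut P) :=
  Finite.of_injective (fun α : MulAut P => (α : P → P)) fun _ _ h => MulEquiv.ext (congrFun h)

/-- An automorphism of `P` as a function on `Ω`. -/
noncomputable def autFun (α : MulAut P) : Ω → Ω := toFun (P.subtype.comp α.toMonoidHom)

theorem autFun_apply (α : MulAut P) {x : Ω} (hx : x ∈ P) :
    autFun α x = ((α ⟨x, hx⟩ : P) : Ω) := toFun_apply _ hx

theorem autFun_mem (α : MulAut P) {x : Ω} (hx : x ∈ P) : autFun α x ∈ P := by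
  rw [autFun_apply α hx]; exact SetLike.coe_mem _

theorem autFun_coe (α : MulAut P) (x : P) : autFun α x = (α x : Ω) := autFun_apply α x.2

theorem img_autFun (α : MulAut P) : img P (autFun α) = P := by
  rw [autFun, img_toFun, MonoidHom.range_comp, MonoidHom.range_eq_top.2 (show
    Function.Surjective α.toMonoidHom from α.surjective), ← MonoidHom.range_eq_map,
    Subgroup.range_subtype]

theorem autFun_mul (α β : MulAut P) {x : Ω} (hx : x ∈ P) :
    autFun (α * β) x = autFun α (autFun β x) := by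
  rw [autFun_apply _ hx, autFun_apply _ (autFun_mem β hx)]
  rw [MulAut.mul_apply]
  congr 2
  exact Subtype.ext (autFun_apply β hx).symm

theorem autFun_one {x : Ω} (hx : x ∈ P) : autFun (1 : MulAut P) x = x := autFun_apply _ hx

theorem autFun_ext {α β : MulAut P} (h : ∀ x ∈ P, autFun α x = autFun β x) : α = β :=
  MulEquiv.ext fun x => Subtype.ext (by rw [← autFun_coe α x, ← autFun_coe β x]; exact h x x.2)

theorem mem_autGroup_iff (hP : P ≤ S) {α : MulAut P} :
    α ∈ F.autGroup P ↔ IsMap F P (autFun α) := by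
  let A : Subgroup (MulAut P) :=
    { carrier := {β | IsMap F P (autFun β)}
      one_mem' := (isMap_id hP).congr fun x hx => autFun_one hx
      mul_mem' := fun {a b} ha hb =>
        (hb.comp ha fun x hx => autFun_mem b hx).congr fun x hx => autFun_mul a b hx
      inv_mem' := fun {a} ha => by
        obtain ⟨f', hf', h1, h2⟩ := IsMap.exists_inv ha
        rw [img_autFun] at hf' h2
        refine hf'.congr fun x hx => ?_
        refine ha.inj (autFun_mem _ hx) (h2 x hx).1 ?_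
        rw [(h2 x hx).2, ← autFun_mul _ _ hx, mul_inv_cancel, autFun_one hx] }
  have h : F.autGroup P = A := by
    rw [FusionSystem.autGroup, show {α : MulAut P | P.subtype.comp α.toMonoidHom ∈ F.Hom P} =
      (A : Set (MulAut P)) from Set.ext fun β => mem_hom_iff, Subgroup.closure_eq]
  rw [h]
  exact Iff.rfl

/-- The automorphism of `P` given by a map carrying `P` onto itself. -/
noncomputable def autOf (hf : IsMap F P f) (himg : img P f = P) : MulAut P :=
  MulEquiv.ofBijective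
    (MonoidHom.mk' (fun x : P => (⟨f x, himg.le (hf.mem_img.2 ⟨x, x.2, rfl⟩)⟩ : P))
      fun x y => Subtype.ext (hf.map_mul x.2 y.2))
    ⟨fun x y h => Subtype.ext (hf.inj x.2 y.2 (congrArg Subtype.val h)), fun y => by
      obtain ⟨x, hx, hxy⟩ := hf.mem_img.1 (himg.ge y.2)
      exact ⟨⟨x, hx⟩, Subtype.ext hxy⟩⟩

theorem autFun_autOf (hf : IsMap F P f) (himg : img P f = P) {x : Ω} (hx : x ∈ P) :
    autFun (autOf hf himg) x = f x := autFun_apply _ hx

theorem autOf_mem (hf : IsMap F P f) (himg : img P f = P) :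
    autOf hf himg ∈ F.autGroup P :=
  (mem_autGroup_iff hf.le).2 (hf.congr fun _ hx => autFun_autOf hf himg hx)

theorem mem_autInducedBy_iff {K : Subgroup Ω} {α : MulAut P} :
    α ∈ autInducedBy K P ↔ ∃ g ∈ K, ∀ x ∈ P, autFun α x = g * x * g⁻¹ := by
  let A : Subgroup (MulAut P) :=
    { carrier := {β | ∃ g ∈ K, ∀ x ∈ P, autFun β x = g * x * g⁻¹}
      one_mem' := ⟨1, one_mem K, fun x hx => by rw [autFun_one hx]; simp⟩
      mul_mem' := fun {a b} ⟨g, hg, ha⟩ ⟨k, hk, hb⟩ => ⟨g * k, mul_mem hg hk, fun x hx => by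
        rw [autFun_mul a b hx, ha _ (autFun_mem b hx), hb x hx]; group⟩
      inv_mem' := fun {a} ⟨g, hg, ha⟩ => ⟨g⁻¹, inv_mem hg, fun x hx => by
        have h1 := ha _ (autFun_mem a⁻¹ hx)
        rw [← autFun_mul _ _ hx, mul_inv_cancel, autFun_one hx] at h1
        calc autFun a⁻¹ x = g⁻¹ * (g * autFun a⁻¹ x * g⁻¹) * g := by group
          _ = g⁻¹ * x * g⁻¹⁻¹ := by rw [← h1]; group⟩ }
  have h : autInducedBy K P = A := by
    rw [autInducedBy, show {α : MulAut P | ∃ g ∈ K, ∀ x : P, ((α x : P) : Ω) = g * (x : Ω) * g⁻¹} =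
      (A : Set (MulAut P)) from ?_, Subgroup.closure_eq]
    ext β
    refine exists_congr fun g => and_congr_right fun _ => ?_
    exact ⟨fun h x hx => (autFun_apply β hx).trans (h ⟨x, hx⟩),
      fun h x => (autFun_coe β x).symm.trans (h x x.2)⟩
  rw [h]
  exact Iff.rfl

theorem mem_normalizer_of_autFun {α : MulAut P} {g : Ω}
    (h : ∀ x ∈ P, autFun α x = g * x * g⁻¹) : g ∈ Subgroup.normalizer (P : Set Ω) := by
  rw [← conjBy_eq_iff, ← img_conj, ← IsMap.img_congr h, img_autFun]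

/-- Conjugation by an element of the normalizer, as an automorphism. -/
noncomputable def conjAut (g : Ω) (hg : g ∈ Subgroup.normalizer (P : Set Ω)) : MulAut P :=
  P.normalizerMonoidHom ⟨g, hg⟩

theorem autFun_conjAut {g : Ω} (hg : g ∈ Subgroup.normalizer (P : Set Ω)) {x : Ω} (hx : x ∈ P) :
    autFun (conjAut g hg) x = g * x * g⁻¹ := autFun_apply _ hx

theorem conjAut_mem {K : Subgroup Ω} {g : Ω} (hgK : g ∈ K)
    (hg : g ∈ Subgroup.normalizer (P : Set Ω)) : conjAut g hg ∈ autInducedBy K P :=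
  mem_autInducedBy_iff.2 ⟨g, hgK, fun _ hx => autFun_conjAut hg hx⟩

theorem autInducedBy_le_autGroup (hP : P ≤ S) : autInducedBy S P ≤ F.autGroup P := by
  intro α hα
  obtain ⟨g, hg, h⟩ := mem_autInducedBy_iff.1 hα
  exact (mem_autGroup_iff hP).2 ((isMap_conj hP hg).congr h)

theorem autInducedBy_eq_map (K : Subgroup Ω) : autInducedBy K P =
    (K.subgroupOf (Subgroup.normalizer (P : Set Ω))).map P.normalizerMonoidHom := by
  ext α
  rw [mem_autInducedBy_iff]
  constructor
  · rintro ⟨g, hg, h⟩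
    exact ⟨⟨g, mem_normalizer_of_autFun h⟩, hg,
      autFun_ext fun x hx => ((h x hx).trans (autFun_conjAut _ hx).symm).symm⟩
  · rintro ⟨⟨g, hgN⟩, hg, rfl⟩
    exact ⟨g, hg, fun x hx => autFun_conjAut hgN hx⟩

theorem isPGroup_autInducedBy (hS : IsPGroup p S) : IsPGroup p (autInducedBy S P) := by
  rw [autInducedBy_eq_map]
  refine IsPGroup.map ?_ _
  exact hS.of_injective ((Subgroup.normalizer (P : Set Ω)).subtype.subgroupComap S)
    fun a b hab => Subtype.ext (Subtype.ext (congrArg Subtype.val hab :))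

/-- `|Aut_K(P)| * |C_K(P)| = |N_K(P)|`. -/
theorem card_autInducedBy_mul (K : Subgroup Ω) :
    Nat.card (autInducedBy K P) * Nat.card (centralizerIn K P) = Nat.card (normalizerIn K P) := by
  have hle : centralizerIn K P ≤ normalizerIn K P :=
    inf_le_inf_left _ (Subgroup.centralizer_le_normalizer _)
  have e := Subgroup.relIndex_mul_relIndex ⊥ (centralizerIn K P) (normalizerIn K P) bot_le hle
  simp only [Subgroup.relIndex_bot_left] at e
  rw [← e, mul_comm]
  congr 1
  rw [autInducedBy_eq_map, ← Subgroup.relIndex_ker, Subgroup.normalizerMonoidHom_ker,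
    ← Subgroup.relIndex_subgroupOf (H := centralizerIn K P) (K := normalizerIn K P)
      (L := Subgroup.normalizer (P : Set Ω)) inf_le_right,
    ← Subgroup.inf_relIndex_right]
  congr 1
  · ext x
    simp [centralizerIn, Subgroup.mem_subgroupOf]
    tauto
  · ext x
    simp [normalizerIn, Subgroup.mem_subgroupOf]

/-! ### Extenders -/

/-- The extender of `f` on `P`, with its elements described directly. -/
def extSub (S P : Subgroup Ω) (f : Ω → Ω) : Subgroup Ω where
  carrier := {g | g ∈ normalizerIn S P ∧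
    ∃ h ∈ S, ∀ x ∈ P, f (g * x * g⁻¹) = h * f x * h⁻¹}
  one_mem' := ⟨one_mem _, 1, one_mem S, fun x _ => by simp⟩
  mul_mem' := fun {a b} ⟨ha, h, hh, hha⟩ ⟨hb, k, hk, hkb⟩ => by
    refine ⟨mul_mem ha hb, h * k, mul_mem hh hk, fun x hx => ?_⟩
    rw [show a * b * x * (a * b)⁻¹ = a * (b * x * b⁻¹) * a⁻¹ by group,
      hha _ ((Subgroup.mem_normalizer_iff.1 hb.2 x).1 hx), hkb x hx]
    group
  inv_mem' := fun {a} ⟨ha, h, hh, hha⟩ => by
    refine ⟨inv_mem ha, h⁻¹, inv_mem hh, fun x hx => ?_⟩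
    have hx' : a⁻¹ * x * a⁻¹⁻¹ ∈ P := (Subgroup.mem_normalizer_iff.1 (inv_mem ha.2) x).1 hx
    have h1 := hha _ hx'
    rw [show a * (a⁻¹ * x * a⁻¹⁻¹) * a⁻¹ = x by group] at h1
    rw [h1]
    group

theorem mem_extSub {g : Ω} : g ∈ extSub S P f ↔ g ∈ normalizerIn S P ∧
    ∃ h ∈ S, ∀ x ∈ P, f (g * x * g⁻¹) = h * f x * h⁻¹ := Iff.rfl

theorem extSub_le : extSub S P f ≤ normalizerIn S P := fun _ hg => hg.1

theorem extSub_congr (h : ∀ x ∈ P, f x = g x) : extSub S P f = extSub S P g := by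
  ext a
  rw [mem_extSub, mem_extSub]
  refine and_congr_right fun ha => exists_congr fun k => and_congr_right fun _ => ?_
  refine forall₂_congr fun x hx => ?_
  rw [h x hx, h _ ((Subgroup.mem_normalizer_iff.1 ha.2 x).1 hx)]

theorem extender_eq (φ : P →* Ω) : FusionSystem.extender S P φ = extSub S P (toFun φ) := by
  rw [FusionSystem.extender, show {g : Ω | g ∈ S ∧ g ∈ Subgroup.normalizer (P : Set Ω) ∧
      ∃ h ∈ S, ∀ (x : P) (hx : g * (x : Ω) * g⁻¹ ∈ P), φ ⟨g * x * g⁻¹, hx⟩ = h * φ x * h⁻¹} =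
    (extSub S P (toFun φ) : Set Ω) from ?_, Subgroup.closure_eq]
  ext g
  constructor
  · rintro ⟨hgS, hgN, h, hh, hx⟩
    refine ⟨⟨hgS, hgN⟩, h, hh, fun x hxP => ?_⟩
    rw [toFun_apply φ hxP, toFun_apply φ ((Subgroup.mem_normalizer_iff.1 hgN x).1 hxP)]
    exact hx ⟨x, hxP⟩ _
  · rintro ⟨⟨hgS, hgN⟩, h, hh, hx⟩
    refine ⟨hgS, hgN, h, hh, fun x hxP => ?_⟩
    have h1 := hx x x.2
    rwa [toFun_coe, toFun_apply φ hxP] at h1

theorem le_extSub (hf : IsMap F P f) : P ≤ extSub S P f := fun x hx =>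
  ⟨⟨hf.le hx, Subgroup.le_normalizer hx⟩, f x, hf.mem_S hx, fun _ hy => hf.map_conj hx hy⟩

theorem centralizerIn_le_extSub : centralizerIn S P ≤ extSub S P f := fun x hx =>
  ⟨⟨hx.1, Subgroup.centralizer_le_normalizer _ hx.2⟩, 1, one_mem S, fun y hy => by
    rw [← Subgroup.mem_centralizer_iff.1 hx.2 y hy, mul_inv_cancel_right]; simp⟩

/-- Receptivity, in terms of `IsMap`. -/
theorem isReceptive_iff : F.IsReceptive Q ↔ Q ≤ S ∧ ∀ (P : Subgroup Ω) (f : Ω → Ω),
    IsMap F P f → img P f = Q → ∃ g, IsMap F (extSub S P f) g ∧ ∀ x ∈ P, g x = f x := by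
  refine and_congr_right fun _ => ⟨fun h P f hf himg => ?_, fun h P φ hφ hr => ?_⟩
  · obtain ⟨φ, hφ, hφf⟩ := hf
    have hf' : IsMap F P f := ⟨φ, hφ, hφf⟩
    obtain ⟨ψ, hψ, hψφ⟩ := h P φ hφ ((hf'.img_eq_range hφf).trans himg)
    have he : FusionSystem.extender S P φ = extSub S P f :=
      (extender_eq φ).trans (extSub_congr fun x hx => (toFun_apply φ hx).trans (hφf ⟨x, hx⟩))
    refine ⟨toFun ψ, he ▸ isMap_toFun hψ, fun x hx => ?_⟩
    have hx' : x ∈ FusionSystem.extender S P φ := he.ge (le_extSub hf' hx)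
    rw [toFun_apply ψ hx', hψφ x hx hx', hφf]
  · obtain ⟨g, ⟨ψ, hψ, hψg⟩, hg⟩ := h P (toFun φ) (isMap_toFun hφ) ((img_toFun φ).trans hr)
    suffices hs : ∀ E : Subgroup Ω, E = extSub S P (toFun φ) → ∃ ψ ∈ F.Hom E,
        ∀ (x : Ω) (hP : x ∈ P) (hN : x ∈ E), ψ ⟨x, hN⟩ = φ ⟨x, hP⟩ from hs _ (extender_eq φ)
    rintro E rfl
    exact ⟨ψ, hψ, fun x hP hN => by rw [hψg, hg x hP, toFun_apply φ hP]⟩

/-- Full automization as an index condition. -/
theorem isFullyAutomized_iff [Finite S] [Fact p.Prime] (hS : IsPGroup p S) :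
    F.IsFullyAutomized p P ↔
      P ≤ S ∧ ¬ p ∣ (autInducedBy S P).relIndex (F.autGroup P) := by
  refine and_congr_right fun hP => ?_
  haveI := finite_of_le hP
  haveI := finite_mulAut (P := P)
  constructor
  · rintro ⟨R, hR⟩
    have h := R.not_dvd_index
    rwa [hR] at h
  · intro h
    exact ⟨((isPGroup_autInducedBy hS).of_equiv
      (Subgroup.subgroupOfEquivOfLe (autInducedBy_le_autGroup hP)).symm).toSylow h, rfl⟩

/-- A map as an isomorphism onto its image. -/
noncomputable def mapEquiv (hf : IsMap F P f) : P ≃* img P f :=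
  MulEquiv.ofBijective
    (MonoidHom.mk' (fun x : P => (⟨f x, hf.mem_img.2 ⟨x, x.2, rfl⟩⟩ : img P f))
      fun x y => Subtype.ext (hf.map_mul x.2 y.2))
    ⟨fun x y h => Subtype.ext (hf.inj x.2 y.2 (congrArg Subtype.val h)), fun y => by
      obtain ⟨x, hx, hxy⟩ := hf.mem_img.1 y.2
      exact ⟨⟨x, hx⟩, Subtype.ext hxy⟩⟩

theorem autFun_congr (hf : IsMap F P f) (α : MulAut P) {x : Ω} (hx : x ∈ P) :
    autFun (MulAut.congr (mapEquiv hf) α) (f x) = f (autFun α x) := by
  have hfx : f x ∈ img P f := hf.mem_img.2 ⟨x, hx, rfl⟩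
  rw [autFun_apply _ hfx, autFun_apply α hx]
  show ((mapEquiv hf (α ((mapEquiv hf).symm ⟨f x, hfx⟩)) : img P f) : Ω) = _
  rw [show (mapEquiv hf).symm ⟨f x, hfx⟩ = ⟨x, hx⟩ from (MulEquiv.symm_apply_eq _).2 rfl]
  rfl

theorem congr_mem_autGroup_iff (hf : IsMap F P f) (α : MulAut P) :
    MulAut.congr (mapEquiv hf) α ∈ F.autGroup (img P f) ↔ α ∈ F.autGroup P := by
  rw [mem_autGroup_iff hf.img_le, mem_autGroup_iff hf.le]
  obtain ⟨f', hf', h1, h2⟩ := hf.exists_inv
  constructor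
  · intro h
    have hc := (hf.comp h fun x hx => hf.mem_img.2 ⟨x, hx, rfl⟩).comp hf' fun x hx =>
      autFun_mem (MulAut.congr (mapEquiv hf) α) (hf.mem_img.2 ⟨x, hx, rfl⟩)
    refine hc.congr fun x hx => ?_
    show autFun α x = f' (autFun (MulAut.congr (mapEquiv hf) α) (f x))
    rw [autFun_congr hf α hx, h1 _ (autFun_mem α hx)]
  · intro h
    have hc := (hf'.comp h fun y hy => (h2 y hy).1).comp hf fun y hy => autFun_mem α (h2 y hy).1
    refine hc.congr fun y hy => ?_
    show autFun (MulAut.congr (mapEquiv hf) α) y = f (autFun α (f' y))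
    rw [← autFun_congr hf α (h2 y hy).1, (h2 y hy).2]

theorem autGroup_congr (hf : IsMap F P f) :
    (F.autGroup P).map (MulAut.congr (mapEquiv hf)).toMonoidHom = F.autGroup (img P f) := by
  ext β
  rw [Subgroup.mem_map_equiv, ← congr_mem_autGroup_iff hf, MulEquiv.apply_symm_apply]

end CfsgLib.Fusion
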