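import Cfsg.Agent.Lib.Fusion.System.ZJControl

/-!
# Stable local subgroups give a stable fusion system
-/

set_option autoImplicit false
set_option linter.style.haveILetI false
set_option linter.unusedSectionVars false

open Subgroup
open scoped Classical commutatorElement

namespace CfsgLib.Fusion

open Cfsg (groupFusionSystem)
open Cfsg.FusionSystem (normalizerIn)

universe u

variable {G : Type u} [Group G] [Finite G] {p : ℕ} [Fact p.Prime]

/-- An automorphism fixing each `x⁻¹ * α x` of a `p`-group has `p`-power order. -/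
theorem quadratic_pow_eq_one {R : Type*} [Group R] [Finite R] (hR : IsPGroup p R) (α : MulAut R)
    (hq : ∀ x : R, α (x⁻¹ * α x) = x⁻¹ * α x) : ∃ e : ℕ, α ^ p ^ e = 1 := by
  obtain ⟨n, hn⟩ := IsPGroup.iff_card.1 hR
  refine ⟨n, MulEquiv.ext fun x => ?_⟩
  have key : ∀ i : ℕ, (α ^ i) x = x * (x⁻¹ * α x) ^ i := by
    intro i
    induction i with
    | zero => simp
    | succ i hi =>
      rw [pow_succ', MulAut.mul_apply, hi, map_mul, map_pow, hq]
      rw [pow_succ' (x⁻¹ * α x), ← mul_assoc x, mul_inv_cancel_left]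
  rw [key, ← hn, pow_card_eq_one', mul_one]
  rfl

/-- Stability of all local subgroups. -/
theorem autStable_of_localPStable (S : Sylow p G)
    (hloc : ∀ Q : Subgroup G, IsPGroup p Q → Q ≠ ⊥ →
      Cfsg.pPrimeCore p ↥(Subgroup.normalizer (Q : Set G)) = ⊥ ∧
        Cfsg.IsPStable p ↥(Subgroup.normalizer (Q : Set G))) :
    AutStable p (groupFusionSystem (S : Subgroup G)) := by
  intro P hP α hq
  haveI := finite_of_le (S := (S : Subgroup G)) hP
  haveI := finite_mulAut (P := P)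
  by_cases hP1 : P = ⊥
  · have : α = 1 := Subtype.ext (autFun_ext fun x hx => by
      subst hP1
      rw [Subgroup.mem_bot.1 hx, autFun_map_one, autFun_map_one])
    rw [this]
    exact one_mem _
  have hPp : IsPGroup p P := S.2.to_le hP
  obtain ⟨hO, hst⟩ := hloc P hPp hP1
  set H := Subgroup.normalizer (P : Set G) with hH
  obtain ⟨Φ, hΦs, hΦ, hΦk⟩ := exists_autHom S hP
  obtain ⟨n, rfl⟩ := hΦs α
  -- replace `n` by an element of `p`-power order
  obtain ⟨e, he⟩ := quadratic_pow_eq_one hPp _ hq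
  obtain ⟨k, m, hm, hkm⟩ := Nat.exists_eq_pow_mul_and_not_dvd (orderOf_pos n).ne' p
    (Fact.out : p.Prime).ne_one
  obtain ⟨b, c, hbc⟩ : IsCoprime ((m : ℕ) : ℤ) ((p ^ e : ℕ) : ℤ) :=
    Int.isCoprime_iff_gcd_eq_one.2 ((Nat.Coprime.pow_right e
      ((Fact.out : p.Prime).coprime_iff_not_dvd.2 hm).symm))
  set a : H := n ^ ((m : ℤ) * b) with ha
  have hap : a ^ p ^ k = 1 := by
    rw [ha, ← zpow_natCast, ← zpow_mul, show (m : ℤ) * b * ((p ^ k : ℕ) : ℤ) =
      ((orderOf n : ℕ) : ℤ) * b by rw [hkm]; push_cast; ring, zpow_mul, zpow_natCast,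
      pow_orderOf_eq_one, one_zpow]
  have hΦa : Φ a = Φ n := by
    have h1 : Φ n ^ ((p ^ e : ℕ) : ℤ) = 1 := by
      rw [zpow_natCast]; exact Subtype.ext (by rw [Subgroup.coe_pow]; exact he)
    rw [ha, map_zpow, show (m : ℤ) * b = 1 - ((p ^ e : ℕ) : ℤ) * c by linarith [hbc],
      zpow_sub, zpow_one, zpow_mul, h1, one_zpow, inv_one, mul_one]
  rw [← hΦa]
  refine mem_pCore_of_quotient Φ hΦs _ hΦk ?_
  -- the hypothesis on `H`
  set P' := P.subgroupOf H with hP'
  have hPH : P ≤ H := Subgroup.le_normalizer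
  haveI hP'n : P'.Normal := Subgroup.normal_in_normalizer
  have hP'p : IsPGroup p P' := hPp.of_equiv (Subgroup.subgroupOfEquivOfLe hPH).symm
  have hA : IsPGroup p (Subgroup.zpowers a) := by
    rintro ⟨y, hy⟩
    obtain ⟨i, rfl⟩ := Subgroup.mem_zpowers_iff.1 hy
    refine ⟨k, Subtype.ext ?_⟩
    show (a ^ i) ^ p ^ k = 1
    rw [← zpow_natCast, ← zpow_mul, mul_comm, zpow_mul, zpow_natCast, hap, one_zpow]
  have hq' : ⁅⁅P', Subgroup.zpowers a⁆, Subgroup.zpowers a⁆ = ⊥ := by
    have h := commutator_eq_bot_of_quadratic (α := (Φ a : MulAut P)) (g := (a : G)) (hΦ a)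
      (by rw [hΦa]; exact hq)
    apply Subgroup.map_injective H.subtype_injective
    rw [Subgroup.map_commutator, Subgroup.map_commutator, Subgroup.map_subgroupOf_eq_of_le hPH,
      MonoidHom.map_zpowers, Subgroup.map_bot]
    exact h
  have hPO : P' ≤ Cfsg.pPrimePCore p H := by
    haveI : (Cfsg.pPrimeCore p H).Normal := Subgroup.sSup_normal _ fun _ h => h.1
    rw [Cfsg.pPrimePCore, ← Subgroup.map_le_iff_le_comap]
    haveI : (P'.map (QuotientGroup.mk' (Cfsg.pPrimeCore p H))).Normal :=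
      hP'n.map _ (QuotientGroup.mk'_surjective _)
    exact CfsgLib.Coprime.le_pCore (hP'p.map _)
  have h3 := hst.2.2 (Subgroup.zpowers a) P' hA hP'p
    (fun z _ x hx => hP'n.conj_mem x hx z) hPO (by rw [hO, bot_sup_eq]; exact hP'n) hq'
  have htop : a ∈ Subgroup.normalizer (P' : Set H) := by
    rw [Subgroup.normalizer_eq_top]; exact Subgroup.mem_top a
  have hmem := h3 ⟨⟨a, htop⟩, Subgroup.mem_subgroupOf.2 (Subgroup.mem_zpowers a), rfl⟩
  -- transport along `N_H(P') = H`
  have hle : (Subgroup.centralizer (P' : Set H)).subgroupOf (Subgroup.normalizer (P' : Set H)) ≤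
      (((QuotientGroup.mk' ((Subgroup.centralizer (P : Set G)).subgroupOf H))).comp
        (Subgroup.normalizer (P' : Set H)).subtype).ker := by
    intro c hc
    refine (QuotientGroup.eq_one_iff _).2 (Subgroup.mem_subgroupOf.2 ?_)
    refine Subgroup.mem_centralizer_iff.2 fun x hx => ?_
    exact congrArg Subtype.val
      (Subgroup.mem_centralizer_iff.1 (Subgroup.mem_subgroupOf.1 hc) ⟨x, hPH hx⟩ hx)
  exact mem_pCore_of_quotient _ (fun y => by
    obtain ⟨x, rfl⟩ := QuotientGroup.mk'_surjective _ y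
    exact ⟨⟨x, by rw [Subgroup.normalizer_eq_top]; exact Subgroup.mem_top x⟩, rfl⟩) _ hle hmem

/-- In a group of local characteristic `p` the normalizer of a normal subgroup of the fusion
system contains all local subgroups. -/
theorem normalizer_le_of_localCharacteristic (S : Sylow p G) {W : Subgroup G}
    (hW : (groupFusionSystem (S : Subgroup G)).IsNormal W)
    (hloc : ∀ Q : Subgroup G, IsPGroup p Q → Q ≠ ⊥ →
      Cfsg.pPrimeCore p ↥(Subgroup.normalizer (Q : Set G)) = ⊥ ∧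
        Cfsg.IsPConstrained p ↥(Subgroup.normalizer (Q : Set G)))
    {Q : Subgroup G} (hQ : Q ≤ (S : Subgroup G)) (hQ1 : Q ≠ ⊥) :
    Subgroup.normalizer (Q : Set G) ≤ Subgroup.normalizer (W : Set G) := by
  have hSW : (S : Subgroup G) ≤ Subgroup.normalizer (W : Set G) :=
    (le_normalizerIn_of_stronglyClosed (stronglyClosed_of_isNormal hW)).trans inf_le_right
  suffices hfn : ∀ Q' : Subgroup G,
      (groupFusionSystem (S : Subgroup G)).IsFullyNormalized Q' → Q' ≠ ⊥ →
        Subgroup.centralizer (Q' : Set G) ≤ Subgroup.normalizer (W : Set G) by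
    refine normalizer_le_normalizer_of_isNormal S hW hQ ?_
    obtain ⟨Q', hQQ', hQ'⟩ := exists_fullyNormalized
      (F := groupFusionSystem (S : Subgroup G)) hQ
    obtain ⟨-, hQ'S, g, hg⟩ := isConj_group_iff.1 hQQ'
    obtain ⟨x, hx, hxg⟩ := (controlsStrongFusionOf_of_isNormal S hW (Q : Set G) hQ).2 g (by
      rintro _ ⟨q, hq, rfl⟩
      exact hQ'S (hg ▸ conj_mem_conjBy hq))
    have hQ'1 : Q' ≠ ⊥ := fun h => hQ1 (Subgroup.eq_bot_of_card_eq _ (by
      rw [← card_conjBy g Q, hg, h, Subgroup.card_bot]))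
    intro c hc
    have h1 : x * c * x⁻¹ ∈ Subgroup.centralizer (Q' : Set G) := by
      refine Subgroup.mem_centralizer_iff.2 fun y hy => ?_
      rw [← hg] at hy
      obtain ⟨q, hq, rfl⟩ := hy
      show g * q * g⁻¹ * (x * c * x⁻¹) = x * c * x⁻¹ * (g * q * g⁻¹)
      rw [hxg q hq]
      calc x * q * x⁻¹ * (x * c * x⁻¹) = x * (q * c) * x⁻¹ := by group
        _ = x * (c * q) * x⁻¹ := by rw [Subgroup.mem_centralizer_iff.1 hc q hq]
        _ = x * c * x⁻¹ * (x * q * x⁻¹) := by group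
    have h2 := mul_mem (mul_mem (inv_mem hx) (hfn Q' hQ' hQ'1 h1)) hx
    simpa [mul_assoc] using h2
  intro Q' hQ' hQ'1
  set H := Subgroup.normalizer (Q' : Set G) with hH
  obtain ⟨hO, hcon⟩ := hloc Q' (S.2.to_le hQ'.1) hQ'1
  have hcl := (CfsgLib.Invol.pClean_of_pCons (CfsgLib.Invol.isPConstrained_iff.1 hcon) hO).centralizer_le
  set R := (Cfsg.pCore p H).map H.subtype with hR
  have hTH : normalizerIn (S : Subgroup G) Q' ≤ H := inf_le_right
  let T : Sylow p H := (((isPGroup_normalizerIn S Q')).of_equiv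
    (Subgroup.subgroupOfEquivOfLe hTH).symm).toSylow ((isFullyNormalized_group_iff S hQ'.1).1 hQ')
  haveI := CfsgLib.Coprime.pCore_normal' (G := H) p
  have hRS : R ≤ (S : Subgroup G) := by
    rintro _ ⟨y, hy, rfl⟩
    exact (Subgroup.mem_subgroupOf.1
      ((CfsgLib.Coprime.pCore_isPGroup (G := H) p).le_sylow_of_normal T hy)).1
  have hQ'H : Q' ≤ H := Subgroup.le_normalizer
  have hQ'R : Q' ≤ R := by
    haveI : (Q'.subgroupOf H).Normal := Subgroup.normal_in_normalizer
    rw [hR, ← Subgroup.map_subgroupOf_eq_of_le hQ'H]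
    exact Subgroup.map_mono (CfsgLib.Coprime.le_pCore
      ((S.2.to_le hQ'.1).of_equiv (Subgroup.subgroupOfEquivOfLe hQ'H).symm))
  intro c hc
  have hcH : c ∈ H := Subgroup.centralizer_le_normalizer _ hc
  have hCR : Subgroup.centralizer (R : Set G) ≤ Subgroup.normalizer (W : Set G) := by
    intro z hz
    have hzH : z ∈ H :=
      Subgroup.centralizer_le_normalizer _ (Subgroup.centralizer_le hQ'R hz)
    have hzO : (⟨z, hzH⟩ : H) ∈ Cfsg.pCore p H := hcl (Subgroup.mem_centralizer_iff.2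
      fun y hy => Subtype.ext (Subgroup.mem_centralizer_iff.1 hz _ ⟨y, hy, rfl⟩))
    exact hSW (hRS ⟨_, hzO, rfl⟩)
  refine normalizer_le_normalizer_of_isNormal S hW hRS hCR (Subgroup.mem_normalizer_iff.2 fun y => ?_)
  constructor
  · rintro ⟨z, hz, rfl⟩
    exact ⟨⟨c, hcH⟩ * z * ⟨c, hcH⟩⁻¹, Subgroup.Normal.conj_mem inferInstance z hz _, rfl⟩
  · rintro ⟨z, hz, hzy⟩
    refine ⟨⟨c, hcH⟩⁻¹ * z * ⟨c, hcH⟩, ?_, ?_⟩
    · simpa using Subgroup.Normal.conj_mem inferInstance z hz (⟨c, hcH⟩⁻¹ : H)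
    · show c⁻¹ * (z : G) * c = y
      rw [show (z : G) = c * y * c⁻¹ from hzy]
      group

end CfsgLib.Fusion
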