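import Cfsg.Agent.Lib.Fusion.System.AutStableNormal
import Cfsg.Agent.Lib.Fusion.System.AutStableLocal

/-!
# Criteria for stability of a fusion system
-/

set_option autoImplicit false
set_option linter.style.haveILetI false
set_option linter.unusedSectionVars false

open Subgroup
open scoped Classical

namespace CfsgLib.Fusion

open Cfsg (FusionSystem)
open Cfsg.FusionSystem (normalizerIn centralizerIn)

universe u

variable {Ω : Type u} [Group Ω] {S : Subgroup Ω} {F : FusionSystem S} {p : ℕ} [Fact p.Prime]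

/-- The elementwise form of stability over fully normalized subgroups used in the statements. -/
theorem autStable_iff [Finite S] :
    (∀ Q : Subgroup Ω, F.IsFullyNormalized Q → ∀ χ : MulAut Q, χ ∈ F.autGroup Q →
      (∀ a : Q, (χ a⁻¹) * a * (χ a⁻¹) * (χ (χ a)) = 1) →
        χ ∈ ((Cfsg.pCore p (F.autGroup Q)).map (F.autGroup Q).subtype : Subgroup (MulAut Q))) ↔
      AutStable p F := by
  constructor
  · intro h
    refine autStable_of_fullyNormalized fun Q hQ χ hq => ?_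
    obtain ⟨χ', hχ', he⟩ := h Q hQ (χ : MulAut Q) χ.2 fun a => by
      have h := hq a
      rw [map_mul, map_inv] at h
      rw [map_inv, mul_assoc, mul_assoc, h]
      group
    exact (Subtype.ext he : χ' = χ) ▸ hχ'
  · intro h Q hQ χ hχ hq
    refine ⟨⟨χ, hχ⟩, h Q hQ.1 ⟨χ, hχ⟩ fun a => ?_, rfl⟩
    show χ (a⁻¹ * χ a) = a⁻¹ * χ a
    have h1 : (χ a⁻¹) * (a * ((χ a⁻¹) * (χ (χ a)))) = 1 := by simpa [mul_assoc] using hq a
    rw [map_inv] at h1
    have h2 : a * ((χ a)⁻¹ * χ (χ a)) = χ a := by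
      rwa [inv_mul_eq_one, eq_comm] at h1
    rw [map_mul, map_inv]
    exact eq_inv_mul_of_mul_eq h2

variable [Finite S]

/-- Stability at a cyclic subgroup is automatic. -/
theorem stableAt_of_isCyclic (hS : IsPGroup p S) {P : Subgroup Ω} (hP : P ≤ S) (hc : IsCyclic P) :
    StableAt p F P := by
  haveI := finite_of_le hP
  haveI := finite_mulAut (P := P)
  haveI := hc
  intro α hq
  obtain ⟨e, he⟩ := quadratic_pow_eq_one (hS.to_le hP) _ hq
  have hcomm : ∀ a b : F.autGroup P, a * b = b * a := fun a b => Subtype.ext (MulEquiv.ext fun x => by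
    show (a : MulAut P) ((b : MulAut P) x) = (b : MulAut P) ((a : MulAut P) x)
    obtain ⟨i, hi⟩ := MonoidHom.map_cyclic (a : MulAut P).toMonoidHom
    obtain ⟨j, hj⟩ := MonoidHom.map_cyclic (b : MulAut P).toMonoidHom
    simp only [MulEquiv.coe_toMonoidHom] at hi hj
    rw [hj x, map_zpow, hi x, map_zpow, hj x, ← zpow_mul, ← zpow_mul,
      mul_comm i j])
  haveI : (Subgroup.zpowers α).Normal := ⟨fun x hx g => by
    rwa [hcomm g x, mul_inv_cancel_right]⟩
  refine CfsgLib.Coprime.le_pCore (N := Subgroup.zpowers α) ?_ (Subgroup.mem_zpowers α)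
  have hα : α ^ p ^ e = 1 := Subtype.ext (by rw [Subgroup.coe_pow]; exact he)
  rintro ⟨y, hy⟩
  obtain ⟨i, rfl⟩ := Subgroup.mem_zpowers_iff.1 hy
  refine ⟨e, Subtype.ext ?_⟩
  show (α ^ i) ^ p ^ e = 1
  rw [← zpow_natCast, ← zpow_mul, mul_comm, zpow_mul, zpow_natCast, hα, one_zpow]

/-- Stability is detected by the normalizer systems of the noncyclic subgroups. -/
theorem autStable_of_noncyclic (hS : IsPGroup p S)
    (h : ∀ R : Subgroup Ω, F.IsFullyNormalized R → ¬ IsCyclic R →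
      ∀ N : FusionSystem (normalizerIn S R), F.IsNormalizerSystem R N → AutStable p N) :
    AutStable p F := by
  refine autStable_of_fullyNormalized fun Q hQ => ?_
  by_cases hc : IsCyclic Q
  · exact stableAt_of_isCyclic hS hQ.1 hc
  obtain ⟨N, hN⟩ := exists_normalizerSystem (F := F) hQ.1
  exact stableAt_congr (autGroup_normalizerSystem_self hQ.1 hN)
    (h Q hQ hc N hN Q (le_normalizerIn hQ.1))

/-- A centric subgroup that is the `p`-core of its model is radical. -/
theorem isRadical_of_imgι_eq {L : Type u} [Group L] [Finite L] {V : Subgroup Ω}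
    {ι : normalizerIn S V →* L} (hS : IsPGroup p S) (hV : V ≤ S) (hι : Function.Injective ι)
    (hc : Subgroup.centralizer ((Cfsg.pCore p L : Subgroup L) : Set L) ≤ Cfsg.pCore p L)
    (heq : imgι ι V = Cfsg.pCore p L)
    (hlift : ∀ α ∈ F.autGroup V, ∃ l : L, ∀ x ∈ V, ext1 ι (autFun α x) = l * ext1 ι x * l⁻¹)
    (hmap : ∀ l : L, ∃ f, IsMap F V f ∧ img V f = V ∧
      ∀ x ∈ V, ext1 ι (f x) = l * ext1 ι x * l⁻¹) :
    F.IsRadical p V := by
  haveI := finite_of_le hV
  haveI := finite_mulAut (P := V)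
  haveI := CfsgLib.Coprime.pCore_normal' (G := F.autGroup V) p
  have hVT : V ≤ normalizerIn S V := le_normalizerIn hV
  choose f hf himg hfl using hmap
  have hu : ∀ (l : L) (α : F.autGroup V),
      (∀ x ∈ V, ext1 ι (autFun (α : MulAut V) x) = l * ext1 ι x * l⁻¹) →
        α = ⟨autOf (hf l) (himg l), autOf_mem (hf l) (himg l)⟩ := fun l α hα =>
    Subtype.ext (autFun_ext fun x hx => ext1_inj hι (hVT (autFun_mem _ hx))
      (hVT (autFun_mem _ hx)) (by rw [hα x hx, autFun_autOf (hf l) (himg l) hx, hfl l x hx]))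
  let Φ : L →* F.autGroup V := MonoidHom.mk'
    (fun l => ⟨autOf (hf l) (himg l), autOf_mem (hf l) (himg l)⟩) fun l m =>
      (hu (l * m) _ fun x hx => by
        rw [Subgroup.coe_mul, autFun_mul _ _ hx, autFun_autOf (hf m) (himg m) hx,
          autFun_autOf (hf l) (himg l) (mem_of_img_eq (hf m) le_rfl (himg m) hx), hfl l,
          hfl m x hx]
        · group
        · exact mem_of_img_eq (hf m) le_rfl (himg m) hx).symm
  have hΦ : ∀ l, ∀ x ∈ V, ext1 ι (autFun (Φ l : MulAut V) x) = l * ext1 ι x * l⁻¹ := fun l x hx => by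
    show ext1 ι (autFun (autOf (hf l) (himg l)) x) = _
    rw [autFun_autOf (hf l) (himg l) hx, hfl l x hx]
  refine ⟨hV, le_antisymm ?_ ?_⟩
  · rintro _ ⟨α, hα, rfl⟩
    obtain ⟨l, hl⟩ := hlift _ α.2
    obtain rfl : α = Φ l := hu l α hl
    set D := (Cfsg.pCore p (F.autGroup V)).comap Φ
    haveI : D.Normal := Subgroup.Normal.comap inferInstance Φ
    have hker : ∀ k ∈ Φ.ker, k ∈ Subgroup.centralizer ((Cfsg.pCore p L : Subgroup L) : Set L) := by
      intro k hk
      rw [← heq]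
      refine Subgroup.mem_centralizer_iff.2 fun y hy => ?_
      obtain ⟨x, hx, rfl⟩ := (mem_imgι hVT).1 hy
      have h := hΦ k x hx
      rw [show Φ k = 1 from hk, Subgroup.coe_one, autFun_one hx] at h
      conv_lhs => rw [h]
      group
    have hD : IsPGroup p D := (CfsgLib.Coprime.pCore_isPGroup p).comap_of_ker_isPGroup Φ
      ((CfsgLib.Coprime.pCore_isPGroup p).to_le fun k hk => hc (hker k hk))
    have hlV : l ∈ imgι ι V := heq ▸ CfsgLib.Coprime.le_pCore hD hα
    obtain ⟨v, hv, rfl⟩ := (mem_imgι hVT).1 hlV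
    refine ⟨⟨v, hv⟩, autFun_ext fun x hx => ext1_inj hι (hVT (autFun_mem _ hx))
      (hVT (autFun_mem _ hx)) ?_⟩
    rw [Subgroup.coe_subtype, hΦ _ x hx, ← ext1_conj ι (hVT hv) (hVT hx)]
    congr 1
    rw [autFun, toFun_apply _ hx]
    rfl
  · rintro _ ⟨v, rfl⟩
    have hv : MulAut.conj v ∈ F.autGroup V := inn_le_autGroup hV ⟨v, rfl⟩
    haveI : ((Cfsg.Inn V).subgroupOf (F.autGroup V)).Normal :=
      ⟨fun β ⟨w, hw⟩ γ => ⟨(γ : MulAut V) w, by
        show MulAut.conj ((γ : MulAut V) w) = ((γ * β * γ⁻¹ : F.autGroup V) : MulAut V)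
        rw [Subgroup.coe_mul, Subgroup.coe_mul, Subgroup.coe_inv,
          show (β : MulAut V) = MulAut.conj w from hw.symm]
        exact MulEquiv.ext fun x => by simp⟩⟩
    refine ⟨⟨_, hv⟩, CfsgLib.Coprime.le_pCore (N := (Cfsg.Inn V).subgroupOf (F.autGroup V)) ?_
      ⟨v, rfl⟩, rfl⟩
    intro β
    obtain ⟨w, hw⟩ := β.2
    obtain ⟨e, he⟩ := (hS.to_le hV) w
    refine ⟨e, Subtype.ext (Subtype.ext ?_)⟩
    rw [SubgroupClass.coe_pow, SubgroupClass.coe_pow,
      show ((β : F.autGroup V) : MulAut V) = MulAut.conj w from hw.symm, ← map_pow, he, map_one]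
    rfl

/-- Stability is detected by the normalizer systems of the centric radical subgroups. -/
theorem autStable_of_centric_radical (hS : IsPGroup p S) (hF : F.IsSaturated p)
    (h : ∀ R : Subgroup Ω, F.IsFullyNormalized R → F.IsCentric R → F.IsRadical p R →
      ∀ N : FusionSystem (normalizerIn S R), F.IsNormalizerSystem R N → AutStable p N) :
    AutStable p F := by
  suffices key : ∀ (j : ℕ) (Q V : Subgroup Ω), Nat.card S - Nat.card V = j → Q ≤ V →
      F.IsCentric V → (∀ α ∈ F.autGroup Q, ∃ f, IsMap F V f ∧ img V f = V ∧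
        ∀ x ∈ Q, f x = autFun α x) → StableAt p F Q by
    refine autStable_of_fullyNormalized fun Q hQ => ?_
    obtain ⟨-, h₂⟩ := IsSaturated.automized_receptive hS hF hQ
    set V := Q ⊔ centralizerIn S Q with hV
    have hVc : F.IsCentric V :=
      isCentric_sup_centralizerIn (IsSaturated.isFullyCentralized hS hF hQ)
    refine key _ Q V rfl le_sup_left hVc fun α hα => ?_
    have hα' := (mem_autGroup_iff hQ.1).1 hα
    obtain ⟨e, he, hee⟩ := (isReceptive_iff.1 h₂).2 Q _ hα' (img_autFun α)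
    have he' := he.mono (sup_le (le_extSub hα') centralizerIn_le_extSub : V ≤ _)
    have heQ : img Q e = Q := (IsMap.img_congr hee).trans (img_autFun α)
    refine ⟨e, he', img_eq_of_map_le hVc.1 he' le_rfl fun y hy => he'.map_mem_of_sup
      (fun x hx => ?_) (fun x hx => ?_) hy, hee⟩
    · exact (le_sup_left : Q ≤ V) (mem_of_img_eq he' le_sup_left heQ hx)
    · have h := map_mem_centralizerIn he' (le_sup_left : Q ≤ V)
        ((le_sup_right : centralizerIn S Q ≤ V) hx) hx.2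
      rw [heQ] at h
      exact (le_sup_right : centralizerIn S Q ≤ V) h
  intro j
  induction j using Nat.strong_induction_on with
  | _ j ih =>
  intro Q V hj hQV hVc hext
  have hVS := hVc.1
  obtain ⟨V₂, hVV₂, hV₂⟩ := exists_fullyNormalized (F := F) hVS
  obtain ⟨k₁, k₂⟩ := IsSaturated.automized_receptive hS hF hV₂
  obtain ⟨η, hη, hηimg, -⟩ := exists_map_normalizer hS k₁ k₂ hVV₂
  have hηV : IsMap F V η := hη.mono (le_normalizerIn hVS)
  obtain ⟨η', hη', hη1, hη2⟩ := hηV.exists_inv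
  have hηQ := hηV.mono hQV
  refine stableAt_of_img hηQ ?_
  set Q₂ := img Q η with hQ₂
  have hQ₂V : Q₂ ≤ V₂ := hηimg ▸ IsMap.img_mono hηV hQV
  have hV₂c : F.IsCentric V₂ := isCentric_of_isConj hVc hVV₂
  have hext₂ : ∀ α ∈ F.autGroup Q₂, ∃ f, IsMap F V₂ f ∧ img V₂ f = V₂ ∧
      ∀ x ∈ Q₂, f x = autFun α x := by
    intro α hα
    obtain ⟨β, rfl⟩ := (MulAut.congr (mapEquiv hηQ)).surjective α
    obtain ⟨f, hf, hfV, hfe⟩ := hext β ((congr_mem_autGroup_iff hηQ β).1 hα)
    have hc : IsMap F V₂ (η ∘ f ∘ η') := by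
      rw [← hηimg]
      exact (hη'.comp hf fun y hy => (hη2 y hy).1).comp hηV fun y hy =>
        mem_of_img_eq hf le_rfl hfV (hη2 y hy).1
    refine ⟨η ∘ f ∘ η', hc, img_eq_of_map_le hV₂.1 hc le_rfl fun y hy => ?_, fun y hy => ?_⟩
    · rw [← hηimg] at hy ⊢
      exact hηV.mem_img.2 ⟨_, mem_of_img_eq hf le_rfl hfV (hη2 y hy).1, rfl⟩
    · obtain ⟨x, hx, rfl⟩ := hηQ.mem_img.1 hy
      show η (f (η' (η x))) = _
      rw [hη1 x (hQV hx), hfe x hx, autFun_congr hηQ β hx]
  obtain ⟨L, hL, hfin, ι, hι, ⟨T, hT⟩, hcore, hVO, hlift, hmap⟩ :=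
    exists_local_group hS hF hV₂ hV₂c
  haveI := hfin
  haveI hcn := CfsgLib.Coprime.pCore_normal' (G := L) p
  obtain ⟨R, hR, hRimg⟩ :=
    exists_imgι_eq hι ((CfsgLib.Coprime.pCore_le_sylow T).trans hT.le)
  have hRS : R ≤ S := hR.trans inf_le_left
  have hV₂T : V₂ ≤ normalizerIn S V₂ := le_normalizerIn hV₂.1
  have hVR : V₂ ≤ R := (imgι_le_iff hι hV₂T hR).1 (hRimg.symm ▸ hVO)
  have hmapR : ∀ l : L, ∃ f, IsMap F R f ∧ img R f = R ∧
      ∀ x ∈ R, ext1 ι (f x) = l * ext1 ι x * l⁻¹ := fun l =>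
    hmap R hR l (by rw [hRimg, Subgroup.normalizer_eq_top]; exact Subgroup.mem_top l)
  by_cases heq : V₂ = R
  · have hrad : F.IsRadical p V₂ := isRadical_of_imgι_eq hS hV₂.1 hι hcore (heq ▸ hRimg) hlift
      (heq ▸ hmapR)
    obtain ⟨N, hN⟩ := exists_normalizerSystem (F := F) hV₂.1
    have hQT : Q₂ ≤ normalizerIn S V₂ := hQ₂V.trans hV₂T
    refine stableAt_congr ?_ (h V₂ hV₂ hV₂c hrad N hN Q₂ hQT)
    ext α
    rw [mem_autGroup_iff hQT, mem_autGroup_iff (hQT.trans inf_le_left)]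
    refine ⟨fun hα => ((isMap_of_isNormalizerSystem hN).1 hα).isMap, fun hα => ?_⟩
    obtain ⟨f, hf, hfV, hfe⟩ := hext₂ α ((mem_autGroup_iff (hQT.trans inf_le_left)).2 hα)
    exact (isMap_of_isNormalizerSystem hN).2 ⟨hQT, fun x hx => hQT (autFun_mem α hx), f,
      by rwa [sup_eq_right.2 hQ₂V], fun x hx => hfe x hx, hfV⟩
  · have h1 : Nat.card V₂ < Nat.card R := card_lt_of_lt hRS (lt_of_le_of_ne hVR heq)
    have h2 : Nat.card R ≤ Nat.card S := card_le_of_le' le_rfl hRS
    have h3 : Nat.card V₂ = Nat.card V := by rw [← hηimg, hηV.card_img]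
    refine ih _ (by omega) Q₂ R rfl (hQ₂V.trans hVR) (isCentric_mono hV₂c hVR hRS) fun α hα => ?_
    obtain ⟨f, hf, hfV, hfe⟩ := hext₂ α hα
    obtain ⟨l, hl⟩ := hlift _ (autOf_mem hf hfV)
    obtain ⟨g, hg, hgR, hgl⟩ := hmapR l
    refine ⟨g, hg, hgR, fun x hx => ?_⟩
    rw [← hfe x hx]
    refine ext1_inj hι (hR (mem_of_img_eq hg le_rfl hgR (hVR (hQ₂V hx))))
      (hV₂T (mem_of_img_eq hf le_rfl hfV (hQ₂V hx))) ?_
    rw [hgl x (hVR (hQ₂V hx)), ← hl x (hQ₂V hx), autFun_autOf hf hfV (hQ₂V hx)]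

open scoped commutatorElement in
/-- A group with a stable fusion system is stable in the normalizer form. -/
theorem normalizerPStable_of_autStable {G : Type u} [Group G] [Finite G] (P : Sylow p G)
    (h : AutStable p (Cfsg.groupFusionSystem (P : Subgroup G))) : Cfsg.IsNormalizerPStable p G := by
  intro U hU g hg hq
  obtain ⟨P', hP'⟩ := hU.exists_le_sylow
  obtain ⟨c, hc⟩ := MulAction.exists_smul_eq G P' P
  set U₁ := conjBy c U with hU₁
  have hU₁P : U₁ ≤ (P : Subgroup G) := conjBy_le_iff.2 fun x hx => by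
    rw [← hc, Sylow.smul_def, Sylow.pointwise_smul_def]
    exact ⟨x, hP' hx, rfl⟩
  obtain ⟨Φ, hΦs, hΦ, -⟩ := exists_autHom P hU₁P
  set H := Subgroup.normalizer (U : Set G) with hH
  have hmem : ∀ n : H, c * (n : G) * c⁻¹ ∈ Subgroup.normalizer (U₁ : Set G) := fun n => by
    refine conjBy_eq_iff.1 ?_
    rw [hU₁, conjBy_conjBy, show c * (n : G) * c⁻¹ * c = c * (n : G) by group, ← conjBy_conjBy,
      conjBy_eq_iff.2 n.2]
  let τ : H →* Subgroup.normalizer (U₁ : Set G) :=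
    ((MulAut.conj c).toMonoidHom.comp H.subtype).codRestrict _ hmem
  have hΨ : Function.Surjective (Φ.comp τ) := fun β => by
    obtain ⟨m, rfl⟩ := hΦs β
    have hm : c⁻¹ * (m : G) * c ∈ H := by
      refine conjBy_eq_iff.1 (conjBy_eq_of_le (conjBy_le_iff.2 fun x hx => ?_))
      have h1 := (Subgroup.mem_normalizer_iff.1 m.2 _).1 (conj_mem_conjBy (g := c) hx)
      obtain ⟨y, hy, hye⟩ := h1
      replace hye : c * y * c⁻¹ = _ := hye
      rw [show c⁻¹ * (m : G) * c * x * (c⁻¹ * (m : G) * c)⁻¹ =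
        c⁻¹ * ((m : G) * (c * x * c⁻¹) * (m : G)⁻¹) * c by group, ← hye]
      simpa [mul_assoc] using hy
    refine ⟨⟨_, hm⟩, congrArg Φ (Subtype.ext ?_)⟩
    show c * (c⁻¹ * (m : G) * c) * c⁻¹ = m
    group
  set C := (Subgroup.centralizer (U : Set G)).subgroupOf H with hC
  have hker : (Φ.comp τ).ker = C := by
    ext n
    have hn : ∀ x ∈ U, autFun ((Φ.comp τ) n : MulAut U₁) (c * x * c⁻¹) =
        c * ((n : G) * x * (n : G)⁻¹) * c⁻¹ := fun x hx => by
      rw [show (Φ.comp τ) n = Φ (τ n) from rfl, hΦ (τ n) _ (conj_mem_conjBy hx)]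
      show c * (n : G) * c⁻¹ * (c * x * c⁻¹) * (c * (n : G) * c⁻¹)⁻¹ = _
      group
    constructor
    · intro h1
      refine Subgroup.mem_subgroupOf.2 (Subgroup.mem_centralizer_iff.2 fun x hx => ?_)
      have h2 := hn x hx
      rw [show (Φ.comp τ) n = 1 from h1, Subgroup.coe_one, autFun_one (conj_mem_conjBy hx),
        mul_left_inj, mul_right_inj] at h2
      conv_lhs => rw [h2]
      group
    · intro h1
      refine Subtype.ext (autFun_ext fun y hy => ?_)
      obtain ⟨x, hx, hxy⟩ := hy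
      obtain rfl : c * x * c⁻¹ = y := hxy
      have hy : c * x * c⁻¹ ∈ U₁ := conj_mem_conjBy hx
      rw [hn x hx, Subgroup.coe_one, autFun_one hy,
        ← Subgroup.mem_centralizer_iff.1 (Subgroup.mem_subgroupOf.1 h1) x hx, mul_inv_cancel_right]
  let e := (QuotientGroup.quotientMulEquivOfEq hker.symm).trans
    (QuotientGroup.quotientKerEquivOfSurjective (Φ.comp τ) hΨ)
  have h1 : e (QuotientGroup.mk ⟨g, hg⟩) ∈ Cfsg.pCore p _ := by
    refine h U₁ hU₁P (Φ (τ ⟨g, hg⟩)) fun y => Subtype.ext ?_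
    obtain ⟨x, hx, hxy⟩ := y.2
    replace hxy : c * x * c⁻¹ = (y : G) := hxy
    have hv : ∀ v : U₁, ((((Φ (τ ⟨g, hg⟩)) : MulAut U₁) v : U₁) : G) =
        (c * g * c⁻¹) * v * (c * g * c⁻¹)⁻¹ := fun v => by
      rw [← autFun_coe]; exact hΦ _ v v.2
    simp only [Subgroup.coe_mul, Subgroup.coe_inv, hv, ← hxy]
    rw [Subgroup.commutator_eq_bot_iff_le_centralizer] at hq
    have h2 := Subgroup.mem_centralizer_iff.1 (hq (Subgroup.commutator_mem_commutator (inv_mem hx)
      (Subgroup.mem_zpowers g))) g (Subgroup.mem_zpowers g)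
    rw [commutatorElement_def, inv_inv] at h2
    calc _ = c * (g * (x⁻¹ * g * x * g⁻¹) * g⁻¹) * c⁻¹ := by group
      _ = c * (x⁻¹ * g * x * g⁻¹) * c⁻¹ := by rw [h2]; group
      _ = _ := by group
  have h2 := CfsgLib.Coprime.map_pCore_le (f := e.symm.toMonoidHom) e.symm.surjective p
    ⟨_, h1, rfl⟩
  simpa using h2

end CfsgLib.Fusion
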