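import Cfsg.Agent.Lib.Fusion.System.QdConstrained
import Cfsg.Agent.Lib.Fusion.System.AutStable
import Cfsg.Agent.Lib.Qd.QuadraticLift

/-!
# Stable systems at odd primes: `Z(J)` is normal
-/

set_option autoImplicit false
set_option linter.style.haveILetI false
set_option linter.unusedSectionVars false

open Subgroup
open scoped Classical

namespace CfsgLib.Fusion

open Cfsg (FusionSystem)
open Cfsg.FusionSystem (normalizerIn centralizerIn preimageAlong)

universe u

variable {Ω : Type u} [Group Ω] {S : Subgroup Ω} [Finite S] {F : FusionSystem S} {p : ℕ}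
  [Fact p.Prime]

/-- Every quadratic member of the automizer of `P` lies in its largest normal `p`-subgroup. -/
def StableAt (p : ℕ) (F : FusionSystem S) (P : Subgroup Ω) : Prop :=
  ∀ α : F.autGroup P,
    (∀ x : P, (α : MulAut P) (x⁻¹ * (α : MulAut P) x) = x⁻¹ * (α : MulAut P) x) →
      α ∈ Cfsg.pCore p (F.autGroup P)

/-- Stability passes along isomorphisms. -/
theorem stableAt_of_img {P : Subgroup Ω} {θ : Ω → Ω} (hθ : IsMap F P θ)
    (h : StableAt p F (img P θ)) : StableAt p F P := by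
  intro α hq
  set e := MulAut.congr (mapEquiv hθ)
  let j : F.autGroup P ≃* F.autGroup (img P θ) :=
    ((F.autGroup P).equivMapOfInjective e.toMonoidHom e.injective).trans
      (MulEquiv.subgroupCongr (autGroup_congr hθ))
  have hj : ((j α : F.autGroup (img P θ)) : MulAut (img P θ)) = e α := rfl
  have h1 := h (j α) fun y => by
    obtain ⟨x, rfl⟩ := (mapEquiv hθ).surjective y
    have he : ∀ z : P, ((j α : F.autGroup (img P θ)) : MulAut (img P θ)) (mapEquiv hθ z) =
        mapEquiv hθ ((α : MulAut P) z) := fun z => by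
      rw [hj]
      show mapEquiv hθ ((α : MulAut P) ((mapEquiv hθ).symm (mapEquiv hθ z))) = _
      rw [MulEquiv.symm_apply_apply]
    rw [he, ← map_inv, ← map_mul, he, hq x]
  have h2 := CfsgLib.Coprime.map_pCore_le (f := j.symm.toMonoidHom) j.symm.surjective p
    ⟨_, h1, rfl⟩
  simpa using h2

/-- Stability at a subgroup depends on its automizer only. -/
theorem stableAt_congr {T : Subgroup Ω} {E : FusionSystem T} {P : Subgroup Ω}
    (he : E.autGroup P = F.autGroup P) (h : StableAt p E P) : StableAt p F P := by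
  intro α hq
  set j := MulEquiv.subgroupCongr he
  have h1 := h (j.symm α) hq
  have h2 := CfsgLib.Coprime.map_pCore_le (f := j.toMonoidHom) j.surjective p ⟨_, h1, rfl⟩
  simpa using h2

/-- Stability need only be checked on fully normalized subgroups. -/
theorem autStable_of_fullyNormalized
    (h : ∀ Q : Subgroup Ω, F.IsFullyNormalized Q → ∀ χ : F.autGroup Q,
      (∀ x : Q, (χ : MulAut Q) (x⁻¹ * (χ : MulAut Q) x) = x⁻¹ * (χ : MulAut Q) x) →
        χ ∈ Cfsg.pCore p (F.autGroup Q)) : AutStable p F := by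
  intro P hP
  obtain ⟨P₁, hconj, hP₁⟩ := exists_fullyNormalized (F := F) hP
  obtain ⟨θ, hθ, rfl⟩ := isConj_iff.1 hconj
  exact stableAt_of_img hθ (h _ hP₁)

/-- Stability passes to quotients by kernels fixed by all maps, at odd primes. -/
theorem AutStable.quotient (hp : p ≠ 2) (hS : IsPGroup p S) (hF : AutStable p F) {Ω' : Type u}
    [Group Ω'] {α : S →* Ω'} (hK : F.IsNormal (preimageAlong α ⊥))
    (hfix : ∀ P f, IsMap F P f → ∀ x ∈ preimageAlong α ⊥, x ∈ P → f x = x) :
    AutStable p (quotientSystem hK) := by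
  intro P' hP' abar hquad
  by_contra hnot
  haveI : Finite α.range := Finite.of_surjective _ α.rangeRestrict_surjective
  haveI := finite_of_le hP'
  haveI := finite_mulAut (P := P')
  obtain ⟨xbar, ybar, hybar, hne⟩ :=
    CfsgLib.Qd.exists_pair_of_not_mem (MonoidHom.id ((quotientSystem hK).autGroup P'))
      (fun b => ⟨b, rfl⟩) (a := abar) hnot
  set R := preimageAlong α P' with hR
  set K := preimageAlong α ⊥ with hKdef
  have hRS : R ≤ S := preimageAlong_le α P'
  have hKR : K ≤ R := preimageAlong_mono bot_le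
  haveI := finite_of_le hRS
  haveI := finite_mulAut (P := R)
  have hext : ∀ x ∈ R, ext1 α x ∈ P' := fun x hx => (mem_preimageAlong.1 hx).2
  let Comp : F.autGroup R → (quotientSystem hK).autGroup P' → Prop := fun γ β =>
    ∀ x ∈ R, ext1 α (autFun (γ : MulAut R) x) = autFun (β : MulAut P') (ext1 α x)
  have hlift : ∀ β, ∃ γ, Comp γ β := by
    intro β
    obtain ⟨φ', hφ', hφ'e⟩ := (mem_autGroup_iff hP').1 β.2
    obtain ⟨-, f, hf, hfe⟩ := (mem_quotientSystem_iff hK).1 hφ'
    have he : ∀ x ∈ R, ext1 α (f x) = autFun (β : MulAut P') (ext1 α x) := fun x hx => by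
      rw [← hfe x hx, toFun_apply φ' (hext x hx), hφ'e]
    have himg : img R f = R := img_eq_of_map_le hRS hf le_rfl fun x hx =>
      mem_preimageAlong.2 ⟨hf.mem_S hx, he x hx ▸ autFun_mem _ (hext x hx)⟩
    exact ⟨⟨autOf hf himg, autOf_mem hf himg⟩, fun x hx => by rw [autFun_autOf hf himg hx, he x hx]⟩
  have hmul : ∀ γ δ β ε, Comp γ β → Comp δ ε → Comp (γ * δ) (β * ε) := fun γ δ β ε h1 h2 x hx => by
    rw [Subgroup.coe_mul, Subgroup.coe_mul, autFun_mul _ _ hx, h1 _ (autFun_mem _ hx), h2 x hx,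
      autFun_mul _ _ (hext x hx)]
  have hinv : ∀ γ β, Comp γ β → Comp γ⁻¹ β⁻¹ := fun γ β h x hx => by
    have h1 := h _ (autFun_mem ((γ⁻¹ : F.autGroup R) : MulAut R) hx)
    rw [← autFun_mul _ _ hx, ← Subgroup.coe_mul, mul_inv_cancel, Subgroup.coe_one,
      autFun_one hx] at h1
    rw [h1, ← autFun_mul _ _ (hext _ (autFun_mem _ hx)), ← Subgroup.coe_mul, inv_mul_cancel,
      Subgroup.coe_one, autFun_one (hext _ (autFun_mem _ hx))]
  have hone : Comp 1 1 := fun x hx => by
    simp only [Subgroup.coe_one]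
    rw [autFun_one hx, autFun_one (hext x hx)]
  obtain ⟨ga, hga⟩ := hlift abar
  obtain ⟨gx, hgx⟩ := hlift xbar
  set gb := gx * ga * gx⁻¹ with hgb
  -- the semidirect product
  let G := ↥R ⋊[(F.autGroup R).subtype] ↥(F.autGroup R)
  haveI : Finite G := Finite.of_equiv _ SemidirectProduct.equivProd.symm
  let i : R →* G := SemidirectProduct.inl
  let r : F.autGroup R →* G := SemidirectProduct.inr
  have hi : Function.Injective i := SemidirectProduct.inl_injective
  have hconj : ∀ (γ : F.autGroup R) (z : Ω), z ∈ R →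
      r γ * ext1 i z * (r γ)⁻¹ = ext1 i (autFun (γ : MulAut R) z) := by
    intro γ z hz
    rw [ext1_apply i hz, ext1_apply i (autFun_mem _ hz)]
    show SemidirectProduct.inr γ * SemidirectProduct.inl _ * (SemidirectProduct.inr γ)⁻¹ = _
    rw [← map_inv, ← SemidirectProduct.inl_aut]
    exact congrArg i (Subtype.ext (autFun_apply _ hz).symm)
  set R₀ := imgι i R with hR₀
  set K₀ := imgι i K with hK₀
  have hR₀r : R₀ ≤ i.range := imgι_le_range R
  have hR₀p : IsPGroup p R₀ := ((hS.to_le hRS).to_subgroup _).map i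
  have hnorm : ∀ γ : F.autGroup R, r γ ∈ Subgroup.normalizer (R₀ : Set G) := fun γ =>
    conjBy_eq_iff.1 (conjBy_eq_of_le (conjBy_le_iff.2 fun y hy => by
      obtain ⟨z, hz, rfl⟩ := (mem_imgι le_rfl).1 hy
      rw [hconj γ z hz]
      exact ext1_mem_imgι le_rfl (autFun_mem _ hz)))
  have hfixK : ∀ γ : F.autGroup R, ∀ y ∈ K₀, r γ * y * (r γ)⁻¹ = y := by
    intro γ y hy
    obtain ⟨z, hz, rfl⟩ := (mem_imgι hKR).1 hy
    rw [hconj γ z (hKR hz), hfix R _ ((mem_autGroup_iff hRS).1 γ.2) z hz (hKR hz)]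
  have hR₀K : R₀ ≤ Subgroup.normalizer (K₀ : Set G) := fun y hy => by
    obtain ⟨s, hs, rfl⟩ := (mem_imgι le_rfl).1 hy
    refine conjBy_eq_iff.1 (conjBy_eq_of_le (conjBy_le_iff.2 fun w hw => ?_))
    obtain ⟨z, hz, rfl⟩ := (mem_imgι hKR).1 hw
    rw [← ext1_conj i hs (hKR hz), hfix R _ (isMap_conj hRS (hRS hs)) z hz (hKR hz)]
    exact ext1_mem_imgι hKR hz
  have hqm : ∀ γ β, Comp γ β →
      (∀ x : P', (β : MulAut P') (x⁻¹ * (β : MulAut P') x) = x⁻¹ * (β : MulAut P') x) →
      CfsgLib.Qd.QuadMod K₀ R₀ (r γ) := by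
    intro γ β hc hq y hy
    obtain ⟨z, hz, rfl⟩ := (mem_imgι le_rfl).1 hy
    set w := z⁻¹ * autFun (γ : MulAut R) z with hw
    have hwR : w ∈ R := mul_mem (inv_mem hz) (autFun_mem _ hz)
    rw [hconj γ z hz, ← ext1_inv i hz, ← ext1_mul i (inv_mem hz) (autFun_mem _ hz), ← hw,
      hconj γ w hwR, ← ext1_inv i hwR, ← ext1_mul i (inv_mem hwR) (autFun_mem _ hwR)]
    refine ext1_mem_imgι hKR ((ext1_eq_iff (hRS hwR) (hRS (autFun_mem _ hwR))).1 ?_)
    rw [hc w hwR]
    have h1 := congrArg Subtype.val (hq ⟨ext1 α z, hext z hz⟩)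
    simp only [Subgroup.coe_mul, Subgroup.coe_inv, ← autFun_coe] at h1
    rw [← hc z hz] at h1
    rw [hw, ext1_mul α (inv_mem (hRS hz)) (hRS (autFun_mem _ hz)), ext1_inv α (hRS hz)]
    exact h1.symm
  have hqb : ∀ x : P', ((xbar * abar * xbar⁻¹ : (quotientSystem hK).autGroup P') : MulAut P')
      (x⁻¹ * ((xbar * abar * xbar⁻¹ : (quotientSystem hK).autGroup P') : MulAut P') x) =
      x⁻¹ * ((xbar * abar * xbar⁻¹ : (quotientSystem hK).autGroup P') : MulAut P') x := by
    intro x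
    simp only [Subgroup.coe_mul, Subgroup.coe_inv, MulAut.mul_apply]
    obtain ⟨w, rfl⟩ := (xbar : MulAut P').surjective x
    rw [MulAut.inv_apply_self, ← map_inv, ← map_mul, MulAut.inv_apply_self, hquad w]
  -- lift of `ybar`
  have hcl : ∀ β ∈ Subgroup.closure ({abar, xbar * abar * xbar⁻¹} : Set _),
      ∃ γ ∈ Subgroup.closure ({ga, gb} : Set (F.autGroup R)), Comp γ β := by
    intro β hβ
    induction hβ using Subgroup.closure_induction with
    | mem z hz =>
      rcases hz with hz | hz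
      · exact ⟨ga, Subgroup.subset_closure (Or.inl rfl), by rw [show z = _ from hz]; exact hga⟩
      · exact ⟨gb, Subgroup.subset_closure (Or.inr rfl), by
          rw [show z = _ from hz]
          exact hmul _ _ _ _ (hmul _ _ _ _ hgx hga) (hinv _ _ hgx)⟩
    | one => exact ⟨1, one_mem _, hone⟩
    | mul b c _ _ hb hc =>
      obtain ⟨γ, hγ, hγc⟩ := hb
      obtain ⟨δ, hδ, hδc⟩ := hc
      exact ⟨γ * δ, mul_mem hγ hδ, hmul _ _ _ _ hγc hδc⟩
    | inv b _ hb =>
      obtain ⟨γ, hγ, hγc⟩ := hb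
      exact ⟨γ⁻¹, inv_mem hγ, hinv _ _ hγc⟩
  obtain ⟨gy, hgy, hgyc⟩ := hcl ybar hybar
  have hmap : (Subgroup.closure ({ga, gb} : Set (F.autGroup R))).map r =
      Subgroup.closure {r ga, r gb} := by
    rw [MonoidHom.map_closure, Set.image_pair]
  obtain ⟨P₀, a₀, b₀, hP₀, ha₀, hb₀, ha₀N, hb₀N, ha₀q, hb₀q, y₀, hy₀, hy₀ne⟩ :=
    CfsgLib.Qd.exists_quadratic_pair hp hR₀p (imgι_mono hKR) hR₀K (hnorm ga) (hnorm gb)
      (hfixK ga) (hfixK gb) (hqm ga abar hga hquad)
      (hqm gb _ (hmul _ _ _ _ (hmul _ _ _ _ hgx hga) (hinv _ _ hgx)) hqb)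
      ⟨r gy, hmap ▸ Subgroup.mem_map_of_mem r hgy, fun e => by
        by_contra hno
        push Not at hno
        have hpow : ∀ n : ℕ, Comp (gy ^ n) (ybar ^ n) := fun n => by
          induction n with
          | zero => simpa only [pow_zero] using hone
          | succ n ih => rw [pow_succ, pow_succ]; exact hmul _ _ _ _ ih hgyc
        refine hne e (Subtype.ext (autFun_ext fun x' hx' => ?_))
        simp only [MonoidHom.id_apply, Subgroup.coe_one]
        rw [autFun_one hx']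
        obtain ⟨x, hx, rfl⟩ := exists_preimage hP' hx'
        rw [← hpow _ x hx]
        have h1 := hno _ (ext1_mem_imgι le_rfl hx)
        rw [← map_pow, hconj _ x hx] at h1
        rw [ext1_inj hi (autFun_mem _ hx) hx h1]⟩
  obtain ⟨P₁, hP₁, hP₁e⟩ := exists_imgι_eq hi (hP₀.trans hR₀r)
  subst hP₁e
  have hP₁S : P₁ ≤ S := hP₁.trans hRS
  haveI := finite_of_le hP₁S
  haveI := finite_mulAut (P := P₁)
  haveI := CfsgLib.Coprime.pCore_normal' (G := F.autGroup P₁) p
  -- restriction to `P₁`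
  let Rel : G → F.autGroup P₁ → Prop := fun z β =>
    ∀ x ∈ P₁, z * ext1 i x * z⁻¹ = ext1 i (autFun (β : MulAut P₁) x)
  have hRmul : ∀ z w β ε, Rel z β → Rel w ε → Rel (z * w) (β * ε) := fun z w β ε h1 h2 x hx => by
    rw [Subgroup.coe_mul, autFun_mul _ _ hx, ← h1 _ (autFun_mem _ hx), ← h2 x hx]
    simp only [mul_inv_rev, mul_assoc]
  have hRone : Rel 1 1 := fun x hx => by simp [autFun_one hx]
  have hres : ∀ z ∈ Subgroup.closure ({r ga, r gb} : Set G),
      z ∈ Subgroup.normalizer (imgι i P₁ : Set G) → CfsgLib.Qd.QuadMod ⊥ (imgι i P₁) z →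
      ∃ β ∈ Cfsg.pCore p (F.autGroup P₁), Rel z β := by
    intro z hz hzN hzq
    rw [← hmap] at hz
    obtain ⟨γ, -, rfl⟩ := hz
    have hm : IsMap F P₁ (autFun (γ : MulAut R)) := ((mem_autGroup_iff hRS).1 γ.2).mono hP₁
    have himg : img P₁ (autFun (γ : MulAut R)) = P₁ := img_eq_of_map_le hP₁S hm le_rfl fun x hx => by
      refine mem_of_ext1_mem_imgι hi hP₁ (autFun_mem _ (hP₁ hx)) ?_
      rw [← hconj γ x (hP₁ hx)]
      exact (Subgroup.mem_normalizer_iff.1 hzN _).1 (ext1_mem_imgι hP₁ hx)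
    set β : F.autGroup P₁ := ⟨autOf hm himg, autOf_mem hm himg⟩ with hβ
    have hrel : Rel (r γ) β := fun x hx => by
      rw [hconj γ x (hP₁ hx)]
      show _ = ext1 i (autFun (autOf hm himg) x)
      rw [autFun_autOf hm himg hx]
    refine ⟨β, hF P₁ hP₁S β fun x => Subtype.ext ?_, hrel⟩
    have e : ∀ v : P₁, r γ * ext1 i (v : Ω) * (r γ)⁻¹ = ext1 i (((β : MulAut P₁) v : P₁) : Ω) :=
      fun v => by rw [hrel v v.2, autFun_coe]
    have h := hzq _ (ext1_mem_imgι hP₁ x.2)
    rw [e x, ← ext1_inv i (hP₁ x.2), ← ext1_mul i (inv_mem (hP₁ x.2)) (hP₁ (SetLike.coe_mem _))]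
      at h
    rw [show ((x : Ω)⁻¹ * (((β : MulAut P₁) x : P₁) : Ω)) =
      ((x⁻¹ * (β : MulAut P₁) x : P₁) : Ω) from rfl, e, Subgroup.mem_bot, inv_mul_eq_one] at h
    exact ext1_inj hi (hP₁ (SetLike.coe_mem _)) (hP₁ (SetLike.coe_mem _)) h.symm
  have hgen : ∀ z ∈ Subgroup.closure ({a₀, b₀} : Set G),
      ∃ β ∈ Cfsg.pCore p (F.autGroup P₁), Rel z β := by
    intro z hz
    induction hz using Subgroup.closure_induction with
    | mem z hz =>
      rcases hz with hz | hz <;> rw [show z = _ from hz]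
      · exact hres a₀ ha₀ ha₀N ha₀q
      · exact hres b₀ hb₀ hb₀N hb₀q
    | one => exact ⟨1, one_mem _, hRone⟩
    | mul b c _ _ hb hc =>
      obtain ⟨γ, hγ, hγc⟩ := hb
      obtain ⟨δ, hδ, hδc⟩ := hc
      exact ⟨γ * δ, mul_mem hγ hδ, hRmul _ _ _ _ hγc hδc⟩
    | inv b _ hb =>
      obtain ⟨γ, hγ, hγc⟩ := hb
      refine ⟨γ⁻¹, inv_mem hγ, fun x hx => ?_⟩
      have h1 := hγc _ (autFun_mem ((γ⁻¹ : F.autGroup P₁) : MulAut P₁) hx)
      rw [← autFun_mul _ _ hx, ← Subgroup.coe_mul, mul_inv_cancel, Subgroup.coe_one,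
        autFun_one hx] at h1
      have h2 := congrArg (fun t => b⁻¹ * t * b⁻¹⁻¹) h1
      simpa [mul_assoc] using h2.symm
  obtain ⟨β, hβ, hβr⟩ := hgen y₀ hy₀
  obtain ⟨e, he⟩ := CfsgLib.Coprime.pCore_isPGroup p ⟨β, hβ⟩
  obtain ⟨x, hx, hxne⟩ := hy₀ne e
  obtain ⟨z, hz, rfl⟩ := (mem_imgι hP₁).1 hx
  have hpow : ∀ n : ℕ, Rel (y₀ ^ n) (β ^ n) := fun n => by
    induction n with
    | zero => simpa only [pow_zero] using hRone
    | succ n ih => rw [pow_succ, pow_succ]; exact hRmul _ _ _ _ ih hβr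
  refine hxne ?_
  rw [hpow _ z hz, show β ^ p ^ e = 1 from congrArg Subtype.val he, Subgroup.coe_one, autFun_one hz]

/-- At an odd prime `Z(J)` is normal in a stable saturated system. -/
theorem isNormal_zj_of_autStable (hp : p ≠ 2) :
    ∀ (n : ℕ) (Ω : Type u) [Group Ω] (S : Subgroup Ω) [Finite S], Nat.card S < n → IsPGroup p S →
      ∀ F : FusionSystem S, F.IsSaturated p → AutStable p F → F.IsNormal (wSub zjFun S) := by
  intro n
  induction n with
  | zero => intro Ω _ S _ h; exact absurd h (Nat.not_lt_zero _)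
  | succ n ih =>
  intro Ω _ S _ hn hS
  suffices H : ∀ (k : ℕ) (F : FusionSystem S), {z : Subgroup S × (S → S) | ∃ f,
      IsMap F (z.1.map S.subtype) f ∧ ∀ x ∈ z.1, f x = z.2 x}.ncard = k →
      F.IsSaturated p → AutStable p F → F.IsNormal (wSub zjFun S) from
    fun F hF hst => H _ F rfl hF hst
  intro k
  induction k using Nat.strong_induction_on with
  | _ k ihk =>
  intro F hk hF hst
  have hW := qdFunctor_zjFun.{u} hp
  by_cases hS1 : S = ⊥
  · rw [show wSub zjFun S = ⊥ from le_bot_iff.1 ((wSub_le zjFun S).trans hS1.le)]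
    exact isNormal_bot
  by_cases hcore : F.core = ⊥
  · refine isNormal_of_local hS hF (wSub zjFun) (fun T _ => wSub_le zjFun T) (fun P hP hP1 => ?_)
      (fun T hT => normalizerIn_le_normalizerIn_wSub zjFun hW.natural hS hT) fun P hP hP1 N hN => ?_
    · haveI : Finite (normalizerIn S P) := finite_of_le inf_le_left
      exact wSub_ne_bot hW (hS.to_le inf_le_left)
        fun h => hP1 (le_bot_iff.1 ((le_normalizerIn hP.1).trans h.le))
    haveI : Finite (normalizerIn S P) := finite_of_le inf_le_left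
    have hsub : ∀ R f, IsMap N R f → IsMap F R f := fun R f hf =>
      ((isMap_of_isNormalizerSystem hN).1 hf).isMap
    by_cases hTS : normalizerIn S P = S
    · have hn' : S ≤ normalizerIn S P := hTS.ge
      set E := nSystem F S P hn' hP.1 with hE
      have hEF : ∀ R f, IsMap E R f → IsMap F R f := fun R f h => (isMap_nSystem_iff.1 h).isMap
      obtain ⟨R, f, hf, hfE⟩ : ∃ R f, IsMap F R f ∧ ¬ IsMap E R f := by
        by_contra hall
        push Not at hall
        have hnormal : F.IsNormal P := isNormal_iff.2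
          ⟨hP.1, fun R f hf => (isMap_nSystem_iff.1 (hall R f hf)).2.2⟩
        exact hP1 (eq_bot_iff.2 (hcore ▸ le_core hnormal))
      have hnor := ihk _ (hk ▸ ncard_maps_lt (le_of_isMap hEF) hf hfE) E rfl
        (isSaturated_nSystem_over hS hF hP.1 hn') (hst.mono le_rfl hEF)
      refine isNormal_iff.2 ⟨wSub_le _ _, fun R g hg => ?_⟩
      have hg' := (isMap_of_isNormalizerSystem hN).1 hg
      obtain ⟨h, hh, hhg, hhW⟩ := (isNormal_iff.1 hnor).2 R g (isMap_nSystem_iff.2
        ⟨hg'.1.trans hTS.le, fun x hx => hTS.le (hg'.2.1 x hx), hg'.2.2⟩)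
      obtain ⟨h1, h2, h3⟩ := isMap_nSystem_iff.1 hh
      rw [show wSub zjFun (normalizerIn S P) = wSub zjFun S by
        congr 1 <;> first | exact hTS | rfl]
      exact ⟨h, (isMap_of_isNormalizerSystem hN).2
        ⟨h1.trans hTS.ge, fun x hx => hTS.ge (h2 x hx), h3⟩, hhg, hhW⟩
    · exact @ih Ω _ (normalizerIn S P) (finite_of_le inf_le_left) (lt_of_lt_of_le (card_lt_of_lt le_rfl (lt_of_le_of_ne inf_le_left hTS))
        (Nat.le_of_lt_succ hn)) (hS.to_le inf_le_left) N
        (isSaturated_normalizerSystem hS hF hP hN) (hst.mono inf_le_left hsub)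
  obtain ⟨-, Q, hQ, hQc⟩ := isConstrained_of_quotient_normal hp hS hF
    fun C _ CF Ω' _ _ α hK hCS hCFs hsub hfix hsmall => by
      haveI : Finite α.range := Finite.of_surjective _ α.rangeRestrict_surjective
      exact ih Ω' α.range (lt_of_lt_of_le (hsmall hcore) (Nat.le_of_lt_succ hn))
        ((hS.to_le hCS).of_surjective _ α.rangeRestrict_surjective) _
        (isSaturated_quotientSystem hK (hS.to_le hCS) hCFs)
        ((hst.mono hCS hsub).quotient hp (hS.to_le hCS) hK hfix)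
  obtain ⟨L, hL, ι, hfin, hreal, ⟨T, hT⟩, hc⟩ := exists_model_of_normal_centric hS hF hQ hQc
  haveI := hfin
  refine isNormal_of_imgι_normal hreal (wSub_le _ _) ?_
  rw [imgι_wSub zjFun ι, ← map_wSub zjFun hW.natural hS ι hreal.1 hT,
    map_zjFun (T : Subgroup L).subtype (T : Subgroup L).subtype_injective, Subgroup.range_subtype]
  exact centerThompsonAOf_normal hp hc (fun P hPn hP => hst.isPStableOn hreal.1 T hT
      (fun R hR g hg => exists_map_of_conj hreal hR hg) P hP) T le_rfl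
    (fun Q hQ g hg y hy => hQ ((Subgroup.mem_normalizer_iff.1 hg y).1 hy.2))

/-- A nontrivial stable system at an odd prime has a nontrivial core. -/
theorem core_ne_bot_of_autStable (hp : p ≠ 2) (hS : IsPGroup p S) (hF : F.IsSaturated p)
    (hst : AutStable p F) (hS1 : S ≠ ⊥) : F.core ≠ ⊥ := fun h =>
  wSub_ne_bot (qdFunctor_zjFun.{u} hp) hS hS1 (le_bot_iff.1
    (h ▸ le_core (isNormal_zj_of_autStable hp (Nat.card S + 1) Ω S (Nat.lt_succ_self _) hS F hF hst)))

end CfsgLib.Fusion
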