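import Cfsg.Agent.Lib.Fusion.System.Factor
import Cfsg.Agent.Lib.Fusion.System.Group
import Cfsg.Agent.Lib.Fusion.System.Normal
import Mathlib.GroupTheory.SemidirectProduct

/-!
# The saturated system of a group of automorphisms of order prime to `p`
-/

set_option autoImplicit false
set_option maxHeartbeats 1000000

open scoped Classical

namespace CfsgLib.Fusion.AutSystem

open Cfsg (FusionSystem groupFusionSystem)
open Cfsg.FusionSystem (normalizerIn centralizerIn preimageAlong imageAlong InducedAlong)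

variable {Ω : Type*} [Group Ω] {S : Subgroup Ω} {F : FusionSystem S} {p : ℕ} {P : Subgroup Ω}

/-- The maps of the system: an automorphism from `A` followed by a conjugation. -/
def AMap (F : FusionSystem S) (P : Subgroup Ω) (A : Subgroup (MulAut P)) (Q : Subgroup Ω) (f : Ω → Ω) : Prop :=
  IsMap F Q f ∧ Q ≤ P ∧ ∃ u ∈ P, ∃ a ∈ A, ∀ x ∈ Q, f x = u * autFun a x * u⁻¹

/-- A saturated subsystem over `P` for each group of automorphisms of order prime to `p`. -/
theorem exists_autSystem [Finite S] [Fact p.Prime] (hS : IsPGroup p S) (hP : P ≤ S) (A : Subgroup (MulAut P))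
    (hA : A ≤ F.autGroup P) (hcop : (Nat.card A).Coprime p) :
    ∃ E : FusionSystem P, E.IsSaturated p ∧ E.IsSubsystemOf F ∧ A ≤ E.autGroup P ∧
      ∀ (Q : Subgroup Ω) (f : Ω → Ω), IsMap E Q f ↔
        Q ≤ P ∧ ∃ u ∈ P, ∃ a ∈ A, ∀ x ∈ Q, f x = u * autFun a x * u⁻¹ := by
  haveI := finite_of_le hP
  haveI := finite_mulAut (P := P)
  have hmapA : ∀ a ∈ A, IsMap F P (autFun a) := fun a ha => (mem_autGroup_iff hP).1 (hA ha)
  have hF : ∀ (Q : Subgroup Ω) (f : Ω → Ω), Q ≤ P →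
      (∃ u ∈ P, ∃ a ∈ A, ∀ x ∈ Q, f x = u * autFun a x * u⁻¹) → IsMap F Q f := by
    rintro Q f hQ ⟨u, hu, a, ha, hf⟩
    exact ((((hmapA a ha).comp (isMap_conj hP (hP hu)) fun x hx => autFun_mem a hx).mono hQ)).congr hf
  have hconjP : ∀ {u x : Ω}, u ∈ P → x ∈ P → u * x * u⁻¹ ∈ P := fun hu hx =>
    mul_mem (mul_mem hu hx) (inv_mem hu)
  let E : FusionSystem P := mkSystem F P (AMap F P A)
    (fun Q f h => ⟨h.1, h.2.1, fun x hx => by
      obtain ⟨-, hQ, u, hu, a, -, hf⟩ := h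
      rw [hf x hx]; exact hconjP hu (autFun_mem a (hQ hx))⟩)
    (fun Q f g h he => ⟨h.1.congr he, h.2.1, by
      obtain ⟨-, -, u, hu, a, ha, hf⟩ := h
      exact ⟨u, hu, a, ha, fun x hx => by rw [he x hx, hf x hx]⟩⟩)
    (fun Q t hQ ht => ⟨isMap_conj (hQ.trans hP) (hP ht), hQ, t, ht, 1, one_mem A, fun x hx => by
      rw [autFun_one (hQ hx)]⟩)
    (fun Q R f g hf hg h => ⟨hf.1.comp hg.1 h, hf.2.1, by
      obtain ⟨-, hQ, u, hu, a, ha, hfe⟩ := hf
      obtain ⟨-, hR, v, hv, b, hb, hge⟩ := hg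
      refine ⟨v * autFun b u, mul_mem hv (autFun_mem b hu), b * a, mul_mem hb ha, fun x hx => ?_⟩
      have hax := autFun_mem a (hQ hx)
      rw [Function.comp_apply, hge _ (h x hx), hfe x hx, (hmapA b hb).map_mul (mul_mem hu hax) (inv_mem hu),
        (hmapA b hb).map_mul hu hax, (hmapA b hb).map_inv hu, autFun_mul b a (hQ hx)]
      group⟩)
    (fun Q f f' hf hf' h => ⟨hf', by
      obtain ⟨hfm, hQ, u, hu, a, ha, hfe⟩ := hf
      refine ⟨fun y hy => ?_, autFun a⁻¹ u⁻¹, autFun_mem _ (inv_mem hu), a⁻¹, inv_mem ha, fun y hy => ?_⟩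
      · obtain ⟨x, hx, rfl⟩ := hfm.mem_img.1 hy
        rw [hfe x hx]; exact hconjP hu (autFun_mem a (hQ hx))
      · obtain ⟨x, hx, rfl⟩ := hfm.mem_img.1 hy
        have hi := hmapA _ (inv_mem ha)
        have hax := autFun_mem a (hQ hx)
        rw [h x hx, hfe x hx, hi.map_mul (mul_mem hu hax) (inv_mem hu), hi.map_mul hu hax, hi.map_inv hu,
          ← autFun_mul a⁻¹ a (hQ hx), inv_mul_cancel, autFun_one (hQ hx)]
        group⟩)
  have hE : ∀ (Q : Subgroup Ω) (f : Ω → Ω), IsMap E Q f ↔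
      Q ≤ P ∧ ∃ u ∈ P, ∃ a ∈ A, ∀ x ∈ Q, f x = u * autFun a x * u⁻¹ := fun Q f =>
    (isMap_mkSystem_iff _).trans ⟨fun h => h.2, fun h => ⟨hF Q f h.1 h.2, h⟩⟩
  refine ⟨E, ?_, fun Q φ hφ => mem_hom_iff.2 (hF Q _ ((hE Q _).1 (isMap_toFun hφ)).1
    ((hE Q _).1 (isMap_toFun hφ)).2), fun a ha => (mem_autGroup_iff le_rfl).2 ((hE P _).2
      ⟨le_rfl, 1, one_mem P, a, ha, fun x _ => by group⟩), hE⟩
  -- saturation, from the semidirect product
  let G := P ⋊[A.subtype] A
  haveI : Finite G := Finite.of_equiv _ SemidirectProduct.equivProd.symm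
  let L : Subgroup G := (SemidirectProduct.inl : P →* G).range
  have hLp : IsPGroup p L := (hS.to_le hP).of_surjective _ (MonoidHom.rangeRestrict_surjective _)
  have hLi : ¬ p ∣ L.index := by
    have hk : L = (SemidirectProduct.rightHom : G →* A).ker := SemidirectProduct.range_inl_eq_ker_rightHom
    rw [hk, Subgroup.index_ker, MonoidHom.range_eq_top.2 SemidirectProduct.rightHom_surjective, Subgroup.card_top]
    exact (Fact.out : p.Prime).coprime_iff_not_dvd.1 hcop.symm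
  let T : Sylow p G := hLp.toSylow hLi
  have hT : (T : Subgroup G) = L := rfl
  let θ : (T : Subgroup G) →* Ω := MonoidHom.mk' (fun x => (((x : G).left : P) : Ω)) fun x y => by
    obtain ⟨u, hu⟩ := x.2
    obtain ⟨v, hv⟩ := y.2
    rw [Subgroup.coe_mul, ← hu, ← hv, ← map_mul, SemidirectProduct.left_inl, SemidirectProduct.left_inl,
      SemidirectProduct.left_inl, Subgroup.coe_mul]
  have hθ : ∀ (u : P) (h : SemidirectProduct.inl u ∈ (T : Subgroup G)), θ ⟨_, h⟩ = u := fun u h => rfl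
  have hθr : θ.range = P := by
    ext x
    constructor
    · rintro ⟨y, rfl⟩; exact SetLike.coe_mem _
    · intro hx
      exact ⟨⟨SemidirectProduct.inl ⟨x, hx⟩, ⟨⟨x, hx⟩, rfl⟩⟩, rfl⟩
  have hconjG : ∀ (g : G) (u : P), g * SemidirectProduct.inl u * g⁻¹ =
      SemidirectProduct.inl (g.left * (g.right : MulAut P) u * g.left⁻¹) := fun g u => by
    refine SemidirectProduct.ext ?_ ?_
    · rw [SemidirectProduct.mul_left, SemidirectProduct.mul_left, SemidirectProduct.inv_left, SemidirectProduct.mul_right,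
        SemidirectProduct.left_inl, SemidirectProduct.right_inl, mul_one]
      simp
    · rw [SemidirectProduct.mul_right, SemidirectProduct.mul_right, SemidirectProduct.inv_right,
        SemidirectProduct.right_inl, SemidirectProduct.right_inl, mul_one, mul_inv_cancel]
  have hmor : (groupFusionSystem (T : Subgroup G)).IsSurjectiveMorphism E θ := by
    refine ⟨⟨fun s => hθr.le ⟨s, rfl⟩, fun Q φ hφ => ?_⟩, hθr, fun Q' hQ' φ' hφ' => ?_⟩
    · obtain ⟨hQ, hφS, g, hg⟩ := hφ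
      have hQP : imageAlong θ Q ≤ P := (Subgroup.map_le_range θ _).trans hθr.le
      have hm : IsMap E (imageAlong θ Q) fun x => g.left * autFun (g.right : MulAut P) x * (g.left : Ω)⁻¹ :=
        (hE _ _).2 ⟨hQP, _, g.left.2, _, g.right.2, fun x _ => rfl⟩
      obtain ⟨ψ, hψ, hψe⟩ := id hm
      refine ⟨ψ, hψ, hQ, hφS, fun x => ⟨⟨x, hQ x.2⟩, x.2, rfl⟩, fun x => ?_⟩
      obtain ⟨u, hu⟩ := hQ x.2
      rw [hψe]
      show (g.left : Ω) * autFun (g.right : MulAut P) ((x : G).left : Ω) * (g.left : Ω)⁻¹ = ((φ x : G).left : Ω)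
      rw [hg, ← hu, hconjG, SemidirectProduct.left_inl, SemidirectProduct.left_inl, autFun_coe,
        Subgroup.coe_mul, Subgroup.coe_mul, Subgroup.coe_inv]
    · obtain ⟨-, u, hu, a, ha, hf⟩ := (hE _ _).1 (isMap_toFun hφ')
      let g : G := ⟨⟨u, hu⟩, ⟨a, ha⟩⟩
      have hkey : ∀ x : preimageAlong θ Q', ∃ w : P, (x : G) = SemidirectProduct.inl w ∧ (w : Ω) ∈ Q' := fun x => by
        obtain ⟨s, hs, hsx⟩ := x.2
        obtain ⟨w, hw⟩ := s.2
        refine ⟨w, by rw [← hsx]; exact hw.symm, ?_⟩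
        have h1 : θ s ∈ Q' := hs
        rw [show θ s = (((s : G).left : P) : Ω) from rfl, ← hw, SemidirectProduct.left_inl] at h1
        exact h1
      have hv : ∀ x : preimageAlong θ Q', g * (x : G) * g⁻¹ ∈ (T : Subgroup G) := fun x => by
        obtain ⟨w, hw, -⟩ := hkey x
        rw [hw, hconjG]; exact ⟨_, rfl⟩
      refine ⟨Cfsg.conjHom _ g, ⟨preimageAlong_le θ Q', hv, g, fun _ => rfl⟩, preimageAlong_le θ Q',
        hv, fun x => ?_, fun x => ?_⟩
      · obtain ⟨w, hw, hwQ⟩ := hkey x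
        show (((x : G).left : P) : Ω) ∈ Q'
        rw [hw, SemidirectProduct.left_inl]; exact hwQ
      · obtain ⟨w, hw, hwQ⟩ := hkey x
        rw [← toFun_coe φ']
        show toFun φ' (((x : G).left : P) : Ω) = ((g * (x : G) * g⁻¹).left : Ω)
        rw [hw, hconjG, SemidirectProduct.left_inl, SemidirectProduct.left_inl, hf _ hwQ, autFun_coe,
          Subgroup.coe_mul, Subgroup.coe_mul, Subgroup.coe_inv]
  exact isSaturated_of_surjectiveMorphism hmor T.2 (isSaturated_group T)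

end CfsgLib.Fusion.AutSystem
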