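import Cfsg.Prelude.Def_FusionSystem
import Cfsg.Agent.Lib.Fusion.Sylow

/-!
# Fusion systems: maps as functions `Ω → Ω`

`IsMap F P f` says that `f`, restricted to `P`, is a map of the system with source `P`.
-/

set_option autoImplicit false

open Subgroup
open scoped Classical

namespace CfsgLib.Fusion

open Cfsg (FusionSystem)

variable {Ω : Type*} [Group Ω] {S : Subgroup Ω}

/-- `f` restricted to `P` is a map of `F`. -/
def IsMap (F : FusionSystem S) (P : Subgroup Ω) (f : Ω → Ω) : Prop :=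
  ∃ φ ∈ F.Hom P, ∀ x : P, φ x = f x

/-- A homomorphism on `P`, extended by `1`. -/
noncomputable def toFun {P : Subgroup Ω} (φ : P →* Ω) : Ω → Ω := fun x =>
  if h : x ∈ P then φ ⟨x, h⟩ else 1

theorem toFun_apply {P : Subgroup Ω} (φ : P →* Ω) {x : Ω} (h : x ∈ P) :
    toFun φ x = φ ⟨x, h⟩ := dif_pos h

theorem toFun_coe {P : Subgroup Ω} (φ : P →* Ω) (x : P) : toFun φ x = φ x := toFun_apply φ x.2

/-- The image of `P` under `f`. -/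
def img (P : Subgroup Ω) (f : Ω → Ω) : Subgroup Ω := Subgroup.closure (f '' (P : Set Ω))

variable {F : FusionSystem S} {P Q R : Subgroup Ω} {f g : Ω → Ω}

theorem isMap_toFun {φ : P →* Ω} (h : φ ∈ F.Hom P) : IsMap F P (toFun φ) :=
  ⟨φ, h, fun x => (toFun_coe φ x).symm⟩

theorem mem_hom_of_isMap {φ : P →* Ω} (h : IsMap F P f) (he : ∀ x : P, φ x = f x) :
    φ ∈ F.Hom P := by
  obtain ⟨ψ, hψ, hψf⟩ := h
  rwa [show φ = ψ from MonoidHom.ext fun x => (he x).trans (hψf x).symm]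

theorem mem_hom_iff {φ : P →* Ω} : φ ∈ F.Hom P ↔ IsMap F P (toFun φ) :=
  ⟨isMap_toFun, fun h => mem_hom_of_isMap h fun x => (toFun_coe φ x).symm⟩

theorem img_toFun (φ : P →* Ω) : img P (toFun φ) = φ.range := by
  rw [img, show toFun φ '' (P : Set Ω) = (φ.range : Set Ω) from ?_, Subgroup.closure_eq]
  ext y
  constructor
  · rintro ⟨x, hx, rfl⟩
    exact ⟨⟨x, hx⟩, (toFun_apply φ hx).symm⟩
  · rintro ⟨x, rfl⟩
    exact ⟨x, x.2, toFun_coe φ x⟩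

namespace IsMap

variable (hf : IsMap F P f)
include hf

theorem le : P ≤ S := by
  obtain ⟨φ, hφ, -⟩ := hf
  exact (F.le_of_mem hφ).1

theorem mem_S {x : Ω} (hx : x ∈ P) : f x ∈ S := by
  obtain ⟨φ, hφ, hφf⟩ := hf
  exact hφf ⟨x, hx⟩ ▸ (F.le_of_mem hφ).2 ⟨x, hx⟩

theorem map_mul {x y : Ω} (hx : x ∈ P) (hy : y ∈ P) : f (x * y) = f x * f y := by
  obtain ⟨φ, hφ, hφf⟩ := hf
  have h := φ.map_mul ⟨x, hx⟩ ⟨y, hy⟩
  rw [hφf ⟨x, hx⟩, hφf ⟨y, hy⟩] at h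
  exact ((hφf ⟨x * y, mul_mem hx hy⟩).symm.trans h : _)

theorem map_one : f 1 = 1 := by
  obtain ⟨φ, hφ, hφf⟩ := hf
  exact (hφf 1).symm.trans φ.map_one

theorem map_inv {x : Ω} (hx : x ∈ P) : f x⁻¹ = (f x)⁻¹ := by
  obtain ⟨φ, hφ, hφf⟩ := hf
  have h := φ.map_inv ⟨x, hx⟩
  rw [hφf ⟨x, hx⟩] at h
  exact ((hφf ⟨x⁻¹, inv_mem hx⟩).symm.trans h : _)

theorem map_conj {x y : Ω} (hx : x ∈ P) (hy : y ∈ P) :
    f (x * y * x⁻¹) = f x * f y * (f x)⁻¹ := by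
  rw [hf.map_mul (mul_mem hx hy) (inv_mem hx), hf.map_mul hx hy, hf.map_inv hx]

theorem map_commute {x y : Ω} (hx : x ∈ P) (hy : y ∈ P) (h : Commute x y) :
    Commute (f x) (f y) := by
  show f x * f y = f y * f x
  rw [← hf.map_mul hx hy, ← hf.map_mul hy hx, h.eq]

theorem inj {x y : Ω} (hx : x ∈ P) (hy : y ∈ P) (h : f x = f y) : x = y := by
  obtain ⟨φ, hφ, hφf⟩ := hf
  have h2 : φ ⟨x, hx⟩ = φ ⟨y, hy⟩ := by rw [hφf, hφf]; exact h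
  exact congrArg Subtype.val (F.injective_of_mem hφ h2)

theorem eq_one_iff {x : Ω} (hx : x ∈ P) : f x = 1 ↔ x = 1 :=
  ⟨fun h => hf.inj hx (one_mem P) (h.trans hf.map_one.symm), fun h => h ▸ hf.map_one⟩

theorem congr (h : ∀ x ∈ P, g x = f x) : IsMap F P g := by
  obtain ⟨φ, hφ, hφf⟩ := hf
  exact ⟨φ, hφ, fun x => (hφf x).trans (h x x.2).symm⟩

theorem mono (h : Q ≤ P) : IsMap F Q f := by
  obtain ⟨φ, hφ, hφf⟩ := hf
  have h1 := F.conj_mem (P := Q) (h.trans (F.le_of_mem hφ).1) (one_mem S)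
  have h2 := F.comp_mem h1 hφ (fun x => show 1 * (x : Ω) * 1⁻¹ ∈ P by simpa using h x.2)
  refine ⟨_, h2, fun x => ?_⟩
  show φ ⟨1 * (x : Ω) * 1⁻¹, _⟩ = f x
  rw [hφf]
  simp

theorem comp (hg : IsMap F Q g) (h : ∀ x ∈ P, f x ∈ Q) : IsMap F P (g ∘ f) := by
  obtain ⟨φ, hφ, hφf⟩ := hf
  obtain ⟨ψ, hψ, hψg⟩ := hg
  have h' : ∀ x : P, φ x ∈ Q := fun x => hφf x ▸ h x x.2
  refine ⟨_, F.comp_mem hφ hψ h', fun x => ?_⟩
  show ψ ⟨φ x, h' x⟩ = g (f x)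
  rw [hψg]
  show g (φ x) = _
  rw [hφf]

theorem coe_img : (img P f : Set Ω) = f '' (P : Set Ω) := by
  obtain ⟨φ, hφ, hφf⟩ := hf
  have h : f '' (P : Set Ω) = (φ.range : Set Ω) := by
    ext y
    constructor
    · rintro ⟨x, hx, rfl⟩
      exact ⟨⟨x, hx⟩, hφf ⟨x, hx⟩⟩
    · rintro ⟨x, rfl⟩
      exact ⟨x, x.2, (hφf x).symm⟩
  rw [img, h, Subgroup.closure_eq]

theorem mem_img {y : Ω} : y ∈ img P f ↔ ∃ x ∈ P, f x = y := by
  rw [← SetLike.mem_coe, hf.coe_img]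
  rfl

theorem img_le : img P f ≤ S := fun y hy => by
  obtain ⟨x, hx, rfl⟩ := hf.mem_img.1 hy
  exact hf.mem_S hx

theorem img_eq_range {φ : P →* Ω} (h : ∀ x : P, φ x = f x) : φ.range = img P f := by
  ext y
  rw [hf.mem_img]
  exact ⟨fun ⟨x, hx⟩ => ⟨x, x.2, (h x).symm.trans hx⟩, fun ⟨x, hx, hxy⟩ => ⟨⟨x, hx⟩, (h _).trans hxy⟩⟩

theorem card_img : Nat.card (img P f) = Nat.card P := by
  obtain ⟨φ, hφ, hφf⟩ := hf
  rw [← (show IsMap F P f from ⟨φ, hφ, hφf⟩).img_eq_range hφf]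
  exact Nat.card_congr (MonoidHom.ofInjective (F.injective_of_mem hφ)).toEquiv.symm

theorem exists_inv : ∃ f' : Ω → Ω, IsMap F (img P f) f' ∧ (∀ x ∈ P, f' (f x) = x) ∧
    ∀ y ∈ img P f, f' y ∈ P ∧ f (f' y) = y := by
  obtain ⟨φ, hφ, hφf⟩ := hf
  have hf' : IsMap F P f := ⟨φ, hφ, hφf⟩
  obtain ⟨ψ, hψ, hψφ⟩ := F.inv_mem hφ
  have hr := hf'.img_eq_range hφf
  have key : ∀ x ∈ P, toFun ψ (f x) = x := by
    intro x hx
    have hm : f x ∈ φ.range := ⟨⟨x, hx⟩, hφf ⟨x, hx⟩⟩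
    rw [toFun_apply ψ hm]
    refine Eq.trans ?_ (hψφ ⟨x, hx⟩)
    congr 1
    exact Subtype.ext (hφf ⟨x, hx⟩).symm
  refine ⟨toFun ψ, hr ▸ isMap_toFun hψ, key, fun y hy => ?_⟩
  obtain ⟨x, hx, rfl⟩ := hf'.mem_img.1 hy
  rw [key x hx]
  exact ⟨hx, rfl⟩

theorem img_mono (h : Q ≤ P) : img Q f ≤ img P f :=
  Subgroup.closure_mono (Set.image_mono h)

omit hf in
theorem img_congr (h : ∀ x ∈ P, f x = g x) : img P f = img P g := by
  rw [img, img, Set.image_congr h]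

omit hf in
theorem img_comp : img P (g ∘ f) = Subgroup.closure (g '' (f '' (P : Set Ω))) := by
  rw [img, Set.image_comp]

end IsMap

theorem img_img (hf : IsMap F P f) : img (img P f) g = img P (g ∘ f) := by
  rw [IsMap.img_comp, img, hf.coe_img]

theorem isMap_conj (hP : P ≤ S) {s : Ω} (hs : s ∈ S) : IsMap F P (fun x => s * x * s⁻¹) :=
  ⟨_, F.conj_mem hP hs, fun _ => rfl⟩

theorem isMap_id (hP : P ≤ S) : IsMap F P id :=
  (isMap_conj hP (one_mem S)).congr fun x _ => by simp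

theorem img_id : img P id = P := by
  rw [img, Set.image_id, Subgroup.closure_eq]

theorem img_conj (P : Subgroup Ω) (s : Ω) : img P (fun x => s * x * s⁻¹) = conjBy s P := by
  rw [img, show (fun x => s * x * s⁻¹) '' (P : Set Ω) = (conjBy s P : Set Ω) from ?_,
    Subgroup.closure_eq]
  ext y
  constructor
  · rintro ⟨x, hx, rfl⟩
    exact conj_mem_conjBy hx
  · intro hy
    exact ⟨_, mem_conjBy.1 hy, by group⟩

theorem isConj_iff : F.IsConj P Q ↔ ∃ f, IsMap F P f ∧ img P f = Q := by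
  constructor
  · rintro ⟨φ, hφ, rfl⟩
    exact ⟨toFun φ, isMap_toFun hφ, img_toFun φ⟩
  · rintro ⟨f, ⟨φ, hφ, hφf⟩, rfl⟩
    exact ⟨φ, hφ, (show IsMap F P f from ⟨φ, hφ, hφf⟩).img_eq_range hφf⟩

theorem isConj_refl (hP : P ≤ S) : F.IsConj P P := isConj_iff.2 ⟨id, isMap_id hP, img_id⟩

theorem isConj_symm (h : F.IsConj P Q) : F.IsConj Q P := by
  obtain ⟨f, hf, rfl⟩ := isConj_iff.1 h
  obtain ⟨f', hf', h1, h2⟩ := hf.exists_inv
  refine isConj_iff.2 ⟨f', hf', ?_⟩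
  ext x
  rw [hf'.mem_img]
  exact ⟨fun ⟨y, hy, e⟩ => e ▸ (h2 y hy).1, fun hx => ⟨f x, hf.mem_img.2 ⟨x, hx, rfl⟩, h1 x hx⟩⟩

theorem isConj_trans (h : F.IsConj P Q) (h' : F.IsConj Q R) : F.IsConj P R := by
  obtain ⟨f, hf, rfl⟩ := isConj_iff.1 h
  obtain ⟨g, hg, rfl⟩ := isConj_iff.1 h'
  exact isConj_iff.2 ⟨g ∘ f, hf.comp hg fun x hx => hf.mem_img.2 ⟨x, hx, rfl⟩, (img_img hf).symm⟩

theorem isConj_le (h : F.IsConj P Q) : P ≤ S ∧ Q ≤ S := by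
  obtain ⟨f, hf, rfl⟩ := isConj_iff.1 h
  exact ⟨hf.le, hf.img_le⟩

theorem isConj_card (h : F.IsConj P Q) : Nat.card Q = Nat.card P := by
  obtain ⟨f, hf, rfl⟩ := isConj_iff.1 h
  exact hf.card_img

end CfsgLib.Fusion
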