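import Cfsg.Agent.Lib.Fusion.System.Hyperfocal
import Cfsg.Agent.Lib.Fusion.System.TopCriterion
import Mathlib.Algebra.Group.Action.Sum
import Mathlib.GroupTheory.GroupAction.Quotient

/-!
# The characteristic biset of a saturated system (Broto–Levi–Oliver)

A finite `S × S`-set all of whose stabilizers are twisted diagonals of maps of the system, whose
fixed-point counts on twisted diagonals only depend on the class of the source, and of order
`n * |S|` with `n` prime to `p`.
-/

set_option autoImplicit false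
set_option maxHeartbeats 1000000
set_option linter.style.haveILetI false

open Subgroup
open scoped Classical

namespace CfsgLib.Fusion.Biset

open Cfsg (FusionSystem autInducedBy)
open Cfsg.FusionSystem (normalizerIn centralizerIn)

universe u

section Fix

variable {G : Type*} [Group G] {X : Type*} [MulAction G X]

/-- The number of points fixed by a subgroup. -/
noncomputable def nfix (X : Type*) [MulAction G X] (D : Subgroup G) : ℕ :=
  Nat.card {w : X // ∀ d ∈ D, d • w = w}

theorem nfix_conjBy (g : G) (D : Subgroup G) : nfix X (conjBy g D) = nfix X D := by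
  refine Nat.card_congr
    { toFun := fun w => ⟨g⁻¹ • w.1, fun d hd => ?_⟩
      invFun := fun w => ⟨g • w.1, fun d hd => ?_⟩
      left_inv := fun w => Subtype.ext (smul_inv_smul g w.1)
      right_inv := fun w => Subtype.ext (inv_smul_smul g w.1) }
  · have h := w.2 _ (conj_mem_conjBy (g := g) hd)
    rw [← mul_smul, show d * g⁻¹ = g⁻¹ * (g * d * g⁻¹) by group, mul_smul, h]
  · have h := w.2 _ (mem_conjBy.1 hd)
    rw [← mul_smul, show d * g = g * (g⁻¹ * d * g) by group, mul_smul, h]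

/-- Burnside's congruence for a group normalizing `D`, acting on the fixed points of `D`. -/
theorem dvd_sum_nfix [Finite X] (M D : Subgroup G) [Fintype M]
    (hn : M ≤ Subgroup.normalizer (D : Set G)) :
    Nat.card M ∣ ∑ m : M, nfix X (D ⊔ Subgroup.zpowers (m : G)) := by
  let act : M → {w : X // ∀ d ∈ D, d • w = w} → {w : X // ∀ d ∈ D, d • w = w} :=
    fun m w => ⟨(m : G) • w.1, fun d hd => by
      have h : (m : G)⁻¹ * d * m ∈ D := by
        simpa using (Subgroup.mem_normalizer_iff.1 (inv_mem (hn m.2)) d).1 hd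
      rw [← mul_smul, show d * (m : G) = m * ((m : G)⁻¹ * d * m) by group, mul_smul, w.2 _ h]⟩
  letI : SMul M {w : X // ∀ d ∈ D, d • w = w} := ⟨act⟩
  letI : MulAction M {w : X // ∀ d ∈ D, d • w = w} :=
    { one_smul := fun w => Subtype.ext (one_smul G w.1)
      mul_smul := fun a b w => Subtype.ext (mul_smul (a : G) (b : G) w.1) }
  letI : ∀ m : M, Fintype (MulAction.fixedBy {w : X // ∀ d ∈ D, d • w = w} m) :=
    fun m => Fintype.ofFinite _
  letI : Fintype (MulAction.orbitRel.Quotient M {w : X // ∀ d ∈ D, d • w = w}) :=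
    Fintype.ofFinite _
  have hfix : ∀ m : M, nfix X (D ⊔ Subgroup.zpowers (m : G)) =
      Fintype.card (MulAction.fixedBy {w : X // ∀ d ∈ D, d • w = w} m) := by
    intro m
    rw [← Nat.card_eq_fintype_card]
    refine Nat.card_congr
      { toFun := fun w => ⟨⟨w.1, fun d hd => w.2 d (Subgroup.mem_sup_left hd)⟩,
          Subtype.ext (w.2 _ (Subgroup.mem_sup_right (Subgroup.mem_zpowers _)))⟩
        invFun := fun w => ⟨w.1.1, fun d hd => ?_⟩
        left_inv := fun w => rfl
        right_inv := fun w => rfl }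
    have h1 : D ⊔ Subgroup.zpowers (m : G) ≤ MulAction.stabilizer G w.1.1 :=
      sup_le (fun e he => w.1.2 e he) (Subgroup.zpowers_le.2 (congrArg Subtype.val w.2))
    exact h1 hd
  rw [Finset.sum_congr rfl fun m _ => hfix m,
    MulAction.sum_card_fixedBy_eq_card_orbits_mul_card_group, Nat.card_eq_fintype_card]
  exact Dvd.intro_left _ rfl

/-- Fixed points on `G ⧸ D` of subgroups at least as large as `D`. -/
theorem nfix_quotient [Finite G] (D D' : Subgroup G) (h : Nat.card D ≤ Nat.card D') :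
    (∃ g, D' = conjBy g D ∧
      nfix (G ⧸ D) D' * Nat.card D = Nat.card (Subgroup.normalizer (D : Set G))) ∨
    ((∀ g, D' ≠ conjBy g D) ∧ nfix (G ⧸ D) D' = 0) := by
  have key : ∀ (E : Subgroup G) (g : G), (∀ d ∈ E, d • (g : G ⧸ D) = (g : G ⧸ D)) ↔
      conjBy g⁻¹ E ≤ D := by
    intro E g
    rw [conjBy_le_iff]
    refine forall_congr' fun d => imp_congr_right fun _ => ?_
    rw [MulAction.Quotient.smul_coe, QuotientGroup.eq, smul_eq_mul, ← Subgroup.inv_mem_iff]
    simp [mul_assoc]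
  by_cases hg : ∃ g, D' = conjBy g D
  · left
    obtain ⟨g, rfl⟩ := hg
    refine ⟨g, rfl, ?_⟩
    rw [nfix_conjBy]
    have e := QuotientGroup.preimageMkEquivSubgroupProdSet D
      {w : G ⧸ D | ∀ d ∈ D, d • w = w}
    have hpre : (QuotientGroup.mk ⁻¹' {w : G ⧸ D | ∀ d ∈ D, d • w = w} : Set G) =
        (Subgroup.normalizer (D : Set G) : Set G) := by
      ext g
      simp only [Set.mem_preimage, Set.mem_setOf_eq, SetLike.mem_coe]
      rw [key D g]
      constructor
      · intro hle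
        have := (Subgroup.normalizer (D : Set G)).inv_mem (conjBy_eq_iff.1 (conjBy_eq_of_le hle))
        rwa [inv_inv] at this
      · exact fun hn => (conjBy_eq_iff.2 (inv_mem hn)).le
    have hc := Nat.card_congr e
    rw [Nat.card_prod, hpre] at hc
    rw [mul_comm]
    exact hc.symm
  · right
    push Not at hg
    refine ⟨hg, ?_⟩
    rw [nfix, Nat.card_eq_zero]
    left
    refine ⟨fun w => ?_⟩
    obtain ⟨w, hw⟩ := w
    induction w using QuotientGroup.induction_on with
    | H g =>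
      have hle := (key D' g).1 hw
      refine hg g ?_
      have he : conjBy g⁻¹ D' = D :=
        Subgroup.eq_of_le_of_card_ge hle (by rwa [card_conjBy])
      rw [← he, conjBy_conjBy_inv]

theorem nfix_sum {Y : Type*} [MulAction G Y] [Finite X] [Finite Y] (D : Subgroup G) :
    nfix (X ⊕ Y) D = nfix X D + nfix Y D := by
  rw [nfix, nfix, nfix, ← Nat.card_sum]
  exact Nat.card_congr
    { toFun := fun w => match w with
        | ⟨Sum.inl a, h⟩ => Sum.inl ⟨a, fun d hd => Sum.inl_injective (h d hd)⟩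
        | ⟨Sum.inr b, h⟩ => Sum.inr ⟨b, fun d hd => Sum.inr_injective (h d hd)⟩
      invFun := fun w => match w with
        | Sum.inl a => ⟨Sum.inl a.1, fun d hd => congrArg Sum.inl (a.2 d hd)⟩
        | Sum.inr b => ⟨Sum.inr b.1, fun d hd => congrArg Sum.inr (b.2 d hd)⟩
      left_inv := fun w => by rcases w with ⟨a | b, h⟩ <;> rfl
      right_inv := fun w => by rcases w with a | b <;> rfl }

end Fix

variable {Ω : Type u} [Group Ω] {S : Subgroup Ω} {F : FusionSystem S} {p : ℕ}
variable {P Q A B : Subgroup Ω} {f u v : Ω → Ω}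

/-- The source of a subgroup of `S × S`. -/
def src (D : Subgroup (S × S)) : Subgroup Ω := D.map (S.subtype.comp (MonoidHom.fst S S))

theorem mem_src {D : Subgroup (S × S)} {x : Ω} : x ∈ src D ↔ ∃ d ∈ D, ((d.1 : S) : Ω) = x :=
  Subgroup.mem_map

theorem fst_mem_src {D : Subgroup (S × S)} {d : S × S} (hd : d ∈ D) :
    ((d.1 : S) : Ω) ∈ src D := mem_src.2 ⟨d, hd, rfl⟩

theorem src_le (D : Subgroup (S × S)) : src D ≤ S := fun x hx => by
  obtain ⟨d, -, rfl⟩ := mem_src.1 hx
  exact d.1.2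

theorem src_mono {D D' : Subgroup (S × S)} (h : D ≤ D') : src D ≤ src D' := Subgroup.map_mono h

/-- `D` is the twisted diagonal of a map of the system. -/
def IsTwist (F : FusionSystem S) (D : Subgroup (S × S)) : Prop :=
  ∃ f, IsMap F (src D) f ∧ ∀ d ∈ D, ((d.2 : S) : Ω) = f (d.1 : S)

theorem IsTwist.mono {D D' : Subgroup (S × S)} (h : IsTwist F D) (hle : D' ≤ D) :
    IsTwist F D' := by
  obtain ⟨f, hf, he⟩ := h
  exact ⟨f, hf.mono (src_mono hle), fun d hd => he d (hle hd)⟩

theorem IsTwist.fst_inj {D : Subgroup (S × S)} (h : IsTwist F D) {d d' : S × S} (hd : d ∈ D)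
    (hd' : d' ∈ D) (he : d.1 = d'.1) : d = d' := by
  obtain ⟨f, -, hfe⟩ := h
  refine Prod.ext he (Subtype.ext ?_)
  rw [hfe d hd, hfe d' hd', he]

theorem IsTwist.card_src {D : Subgroup (S × S)} (h : IsTwist F D) :
    Nat.card (src D) = Nat.card D :=
  (Nat.card_congr (Equiv.ofBijective (fun d : D => (⟨((d.1.1 : S) : Ω), fst_mem_src d.2⟩ : src D))
    ⟨fun d d' he => Subtype.ext (h.fst_inj d.2 d'.2 (Subtype.ext (congrArg Subtype.val he :))),
      fun x => by
        obtain ⟨d, hd, hdx⟩ := mem_src.1 x.2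
        exact ⟨⟨d, hd⟩, Subtype.ext hdx⟩⟩)).symm

/-- The twisted diagonal of a map. -/
def diag (hf : IsMap F P f) : Subgroup (S × S) where
  carrier := {d | ((d.1 : S) : Ω) ∈ P ∧ ((d.2 : S) : Ω) = f (d.1 : S)}
  one_mem' := ⟨one_mem P, by simp [hf.map_one]⟩
  mul_mem' := fun {a b} ha hb => ⟨P.mul_mem ha.1 hb.1, by
    show ((a.2 : S) : Ω) * (b.2 : S) = f ((a.1 : S) * (b.1 : S))
    rw [hf.map_mul ha.1 hb.1, ← ha.2, ← hb.2]⟩
  inv_mem' := fun {a} ha => ⟨P.inv_mem ha.1, by
    show ((a.2 : S) : Ω)⁻¹ = f ((a.1 : S) : Ω)⁻¹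
    rw [hf.map_inv ha.1, ← ha.2]⟩

theorem mem_diag {hf : IsMap F P f} {d : S × S} :
    d ∈ diag hf ↔ ((d.1 : S) : Ω) ∈ P ∧ ((d.2 : S) : Ω) = f (d.1 : S) := Iff.rfl

theorem src_diag (hf : IsMap F P f) : src (diag hf) = P := by
  ext x
  rw [mem_src]
  constructor
  · rintro ⟨d, hd, rfl⟩; exact hd.1
  · intro hx
    exact ⟨(⟨x, hf.le hx⟩, ⟨f x, hf.mem_S hx⟩), ⟨hx, rfl⟩, rfl⟩

theorem isTwist_diag (hf : IsMap F P f) : IsTwist F (diag hf) :=
  ⟨f, by rw [src_diag]; exact hf, fun _ hd => hd.2⟩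

theorem eq_diag {D : Subgroup (S × S)} (hf : IsMap F (src D) f)
    (he : ∀ d ∈ D, ((d.2 : S) : Ω) = f (d.1 : S)) : D = diag hf := by
  ext d
  refine ⟨fun hd => ⟨fst_mem_src hd, he d hd⟩, fun hd => ?_⟩
  obtain ⟨d', hd', hdd⟩ := mem_src.1 hd.1
  have : d' = d := Prod.ext (Subtype.ext hdd) (Subtype.ext (by rw [he d' hd', hdd, ← hd.2]))
  exact this ▸ hd'

/-- Moving both coordinates by maps of the system. -/
theorem transport (hu : IsMap F A u) (hv : IsMap F B v) {D D' : Subgroup (S × S)}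
    (hDA : ∀ d ∈ D, ((d.1 : S) : Ω) ∈ A ∧ ((d.2 : S) : Ω) ∈ B)
    (hD' : ∀ d', d' ∈ D' ↔ ∃ d ∈ D, ((d'.1 : S) : Ω) = u (d.1 : S) ∧
      ((d'.2 : S) : Ω) = v (d.2 : S)) :
    (IsTwist F D ↔ IsTwist F D') ∧ F.IsConj (src D) (src D') ∧ Nat.card D' = Nat.card D := by
  have hsA : src D ≤ A := fun x hx => by
    obtain ⟨d, hd, rfl⟩ := mem_src.1 hx
    exact (hDA d hd).1
  have hu' := hu.mono hsA
  have hmk : ∀ d ∈ D, ∃ d' ∈ D', ((d'.1 : S) : Ω) = u (d.1 : S) ∧
      ((d'.2 : S) : Ω) = v (d.2 : S) := fun d hd =>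
    ⟨(⟨_, hu.mem_S (hDA d hd).1⟩, ⟨_, hv.mem_S (hDA d hd).2⟩), (hD' _).2 ⟨d, hd, rfl, rfl⟩,
      rfl, rfl⟩
  have hsrc : img (src D) u = src D' := by
    ext y
    rw [hu'.mem_img, mem_src]
    constructor
    · rintro ⟨x, hx, rfl⟩
      obtain ⟨d, hd, rfl⟩ := mem_src.1 hx
      obtain ⟨d', hd', h1, -⟩ := hmk d hd
      exact ⟨d', hd', h1⟩
    · rintro ⟨d', hd', rfl⟩
      obtain ⟨d, hd, h1, -⟩ := (hD' d').1 hd'
      exact ⟨_, fst_mem_src hd, h1.symm⟩
  refine ⟨⟨?_, ?_⟩, isConj_iff.2 ⟨u, hu', hsrc⟩, ?_⟩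
  · rintro ⟨g, hg, he⟩
    obtain ⟨u', hu'', h1, h2⟩ := hu'.exists_inv
    rw [hsrc] at hu'' h2
    refine ⟨v ∘ g ∘ u', (hu''.comp hg fun y hy => (h2 y hy).1).comp hv fun y hy => ?_,
      fun d' hd' => ?_⟩
    · obtain ⟨d, hd, hdy⟩ := mem_src.1 (h2 y hy).1
      show g (u' y) ∈ B
      rw [← hdy, ← he d hd]
      exact (hDA d hd).2
    · obtain ⟨d, hd, e1, e2⟩ := (hD' d').1 hd'
      show _ = v (g (u' (d'.1 : S)))
      rw [e1, h1 _ (fst_mem_src hd), e2, he d hd]
  · rintro ⟨h, hh, he⟩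
    obtain ⟨v', hv', h1, -⟩ := hv.exists_inv
    have hcomp : IsMap F (src D) (h ∘ u) :=
      hu'.comp hh fun x hx => hsrc.le (hu'.mem_img.2 ⟨x, hx, rfl⟩)
    refine ⟨v' ∘ (h ∘ u), hcomp.comp hv' fun x hx => ?_, fun d hd => ?_⟩
    · obtain ⟨d, hd, rfl⟩ := mem_src.1 hx
      obtain ⟨d', hd', e1, e2⟩ := hmk d hd
      show h (u _) ∈ img B v
      rw [← e1, ← he d' hd', e2]
      exact hv.mem_img.2 ⟨_, (hDA d hd).2, rfl⟩
    · obtain ⟨d', hd', e1, e2⟩ := hmk d hd
      show _ = v' (h (u _))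
      rw [← e1, ← he d' hd', e2, h1 _ (hDA d hd).2]
  · choose g hg hg1 hg2 using hmk
    refine (Nat.card_congr (Equiv.ofBijective (fun d : D => (⟨g d d.2, hg d d.2⟩ : D')) ⟨?_, ?_⟩)).symm
    · intro a b hab
      have hab' : g a a.2 = g b b.2 := congrArg Subtype.val hab
      refine Subtype.ext (Prod.ext (Subtype.ext ?_) (Subtype.ext ?_))
      · exact hu.inj (hDA _ a.2).1 (hDA _ b.2).1 (by rw [← hg1 a a.2, ← hg1 b b.2, hab'])
      · exact hv.inj (hDA _ a.2).2 (hDA _ b.2).2 (by rw [← hg2 a a.2, ← hg2 b b.2, hab'])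
    · intro d'
      obtain ⟨d, hd, e1, e2⟩ := (hD' d').1 d'.2
      exact ⟨⟨d, hd⟩, Subtype.ext (Prod.ext (Subtype.ext (by rw [hg1, e1]))
        (Subtype.ext (by rw [hg2, e2])))⟩

theorem conjBy_transport (g : S × S) (D : Subgroup (S × S)) :
    (IsTwist F D ↔ IsTwist F (conjBy g D)) ∧ F.IsConj (src D) (src (conjBy g D)) := by
  refine ⟨?_, ?_⟩
  all_goals
    have h := transport (F := F) (D := D) (D' := conjBy g D)
      (isMap_conj (le_refl S) g.1.2) (isMap_conj (le_refl S) g.2.2)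
      (fun d _ => ⟨d.1.2, d.2.2⟩) fun d' => by
        constructor
        · intro hd
          refine ⟨g⁻¹ * d' * g, mem_conjBy.1 hd, ?_, ?_⟩ <;> simp [mul_assoc]
        · rintro ⟨d, hd, e1, e2⟩
          have : d' = g * d * g⁻¹ := Prod.ext (Subtype.ext (by simpa using e1))
            (Subtype.ext (by simpa using e2))
          exact this ▸ conj_mem_conjBy hd
  · exact h.1
  · exact h.2.1

/-- Every stabilizer is a twisted diagonal. -/
def Twisted (F : FusionSystem S) (X : Type u) [MulAction (S × S) X] : Prop :=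
  ∀ w : X, IsTwist F (MulAction.stabilizer (S × S) w)

/-- The fixed-point counts are constant on the classes in `Cl`. -/
def Stable (F : FusionSystem S) (X : Type u) [MulAction (S × S) X]
    (Cl : Set (Subgroup Ω)) : Prop :=
  ∀ D D' : Subgroup (S × S), IsTwist F D → IsTwist F D' → src D ∈ Cl →
    F.IsConj (src D) (src D') → nfix X D = nfix X D'

theorem nfix_eq_zero {X : Type u} [MulAction (S × S) X] (hX : Twisted F X)
    {D : Subgroup (S × S)} (hD : ¬ IsTwist F D) : nfix X D = 0 := by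
  rw [nfix, Nat.card_eq_zero]
  exact Or.inl ⟨fun w => hD ((hX w.1).mono fun d hd => w.2 d hd)⟩

variable [Finite S] [Fact p.Prime]

/-- The congruence between the count at `D` and at the diagonal of a fully normalized conjugate of
its source. -/
theorem congr_mod (hS : IsPGroup p S) (hF : F.IsSaturated p) {X : Type u} [MulAction (S × S) X]
    [Finite X] (hX : Twisted F X) {Cl : Set (Subgroup Ω)} (hst : Stable F X Cl)
    (hP : F.IsFullyNormalized P) (hbig : ∀ Q, Q ≤ S → Nat.card P < Nat.card Q → Q ∈ Cl)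
    {D : Subgroup (S × S)} (hD : IsTwist F D) (hc : F.IsConj (src D) P) :
    Nat.ModEq (Nat.card (Subgroup.normalizer (D : Set (S × S))))
        (Nat.card P * nfix X D) (Nat.card P * nfix X (diag (isMap_id (F := F) hP.1))) ∧
      Nat.card (Subgroup.normalizer (D : Set (S × S))) ∣
        Nat.card (Subgroup.normalizer ((diag (isMap_id (F := F) hP.1)) : Set (S × S))) := by
  set D₀ := diag (isMap_id (F := F) hP.1) with hD₀
  obtain ⟨f, hf, he⟩ := id hD
  obtain ⟨hauto, hrec⟩ := IsSaturated.automized_receptive hS hF hP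
  set R := src D with hR
  have hfR : F.IsConj (img R f) P :=
    isConj_trans (isConj_symm (isConj_iff.2 ⟨f, hf, rfl⟩)) hc
  obtain ⟨β, hβ, hβimg, hβN⟩ := exists_map_normalizer hS hauto hrec hfR
  have hfimg : ∀ x ∈ R, f x ∈ img R f := fun x hx => hf.mem_img.2 ⟨x, hx, rfl⟩
  have hβf : IsMap F R (β ∘ f) := hf.comp (hβ.mono (le_normalizerIn hf.img_le)) hfimg
  have hβfimg : img R (β ∘ f) = P := by rw [← img_img hf, hβimg]
  obtain ⟨ψ, hψ, hψe⟩ := (isReceptive_iff.1 hrec).2 R (β ∘ f) hβf hβfimg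
  set M := Subgroup.normalizer (D : Set (S × S)) with hM
  have hMN : ∀ m ∈ M, ((m.1 : S) : Ω) ∈ extSub S R (β ∘ f) ∧
      ((m.2 : S) : Ω) ∈ normalizerIn S (img R f) := by
    intro m hm
    have key : ∀ x ∈ R, (m.1 : Ω) * x * (m.1 : Ω)⁻¹ ∈ R ∧
        f ((m.1 : Ω) * x * (m.1 : Ω)⁻¹) = (m.2 : Ω) * f x * (m.2 : Ω)⁻¹ := by
      intro x hx
      obtain ⟨d, hd, rfl⟩ := mem_src.1 hx
      have h1 := (Subgroup.mem_normalizer_iff.1 hm d).1 hd
      refine ⟨fst_mem_src h1, ?_⟩
      have h2 := he _ h1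
      simp only [Prod.fst_mul, Prod.snd_mul, Prod.fst_inv, Prod.snd_inv, Subgroup.coe_mul,
        Subgroup.coe_inv] at h2
      rw [← h2, he d hd]
    have key' : ∀ x ∈ R, (m.1 : Ω)⁻¹ * x * (m.1 : Ω) ∈ R := by
      intro x hx
      obtain ⟨d, hd, rfl⟩ := mem_src.1 hx
      have h1 := (Subgroup.mem_normalizer_iff.1 (M.inv_mem hm) d).1 hd
      simpa using fst_mem_src h1
    have h1 : (m.1 : Ω) ∈ Subgroup.normalizer (R : Set Ω) :=
      Subgroup.mem_normalizer_iff.2 fun x => ⟨fun hx => (key x hx).1, fun hx => by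
        simpa [mul_assoc] using key' _ hx⟩
    have h2 : (m.2 : Ω) ∈ Subgroup.normalizer (img R f : Set Ω) :=
      mem_normalizer_img hf h1 fun x hx => (key x hx).2
    refine ⟨⟨⟨m.1.2, h1⟩, β (m.2 : Ω), hβ.mem_S ⟨m.2.2, h2⟩, fun x hx => ?_⟩, m.2.2, h2⟩
    show β (f _) = _ * β (f x) * _
    rw [(key x hx).2, hβ.map_conj ⟨m.2.2, h2⟩ (le_normalizerIn hf.img_le (hfimg x hx))]
  let θ : M →* S × S := MonoidHom.mk'
    (fun m => (⟨ψ (m.1.1 : S), hψ.mem_S (hMN m m.2).1⟩, ⟨β (m.1.2 : S), hβ.mem_S (hMN m m.2).2⟩))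
    fun a b => Prod.ext (Subtype.ext (hψ.map_mul (hMN a a.2).1 (hMN b b.2).1))
      (Subtype.ext (hβ.map_mul (hMN a a.2).2 (hMN b b.2).2))
  have hθ : Function.Injective θ := fun a b hab => by
    refine Subtype.ext (Prod.ext (Subtype.ext ?_) (Subtype.ext ?_))
    · exact hψ.inj (hMN a a.2).1 (hMN b b.2).1 (congrArg (fun z : S × S => ((z.1 : S) : Ω)) hab)
    · exact hβ.inj (hMN a a.2).2 (hMN b b.2).2 (congrArg (fun z : S × S => ((z.2 : S) : Ω)) hab)
  have hθmem : ∀ E : Subgroup (S × S), E ≤ M → ∀ d', d' ∈ (E.subgroupOf M).map θ ↔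
      ∃ d ∈ E, ((d'.1 : S) : Ω) = ψ (d.1 : S) ∧ ((d'.2 : S) : Ω) = β (d.2 : S) := by
    intro E hE d'
    constructor
    · rintro ⟨m, hm, rfl⟩
      exact ⟨m, hm, rfl, rfl⟩
    · rintro ⟨d, hd, e1, e2⟩
      exact ⟨⟨d, hE hd⟩, hd, Prod.ext (Subtype.ext e1.symm) (Subtype.ext e2.symm)⟩
  have hθtr : ∀ E : Subgroup (S × S), E ≤ M →
      (IsTwist F E ↔ IsTwist F ((E.subgroupOf M).map θ)) ∧
        F.IsConj (src E) (src ((E.subgroupOf M).map θ)) ∧
          Nat.card ((E.subgroupOf M).map θ) = Nat.card E := fun E hE =>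
    transport hψ hβ (fun d hd => hMN d (hE hd)) (hθmem E hE)
  have hDM : D ≤ M := Subgroup.le_normalizer
  have hcard : Nat.card D = Nat.card P := by rw [← hD.card_src, isConj_card hc]
  have hθD : (D.subgroupOf M).map θ = D₀ := by
    refine Subgroup.eq_of_le_of_card_ge ?_ ?_
    · intro d' hd'
      obtain ⟨d, hd, e1, e2⟩ := (hθmem D hDM d').1 hd'
      have hdR := fst_mem_src hd
      refine ⟨?_, ?_⟩
      · rw [e1, hψe _ hdR, ← hβfimg]
        exact hβf.mem_img.2 ⟨_, hdR, rfl⟩
      · show _ = id _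
        rw [id, e1, e2, he d hd, hψe _ hdR]
        rfl
    · rw [(hθtr D hDM).2.2, hcard, ← (isTwist_diag (isMap_id (F := F) hP.1)).card_src, src_diag]
  have hrange : θ.range ≤ Subgroup.normalizer (D₀ : Set (S × S)) := by
    rintro _ ⟨m, rfl⟩
    rw [← hθD]
    refine (Subgroup.le_normalizer_map θ) ⟨m, ?_, rfl⟩
    rw [SetLike.mem_coe, Subgroup.mem_normalizer_iff]
    intro x
    simp only [Subgroup.mem_subgroupOf, Subgroup.coe_mul, Subgroup.coe_inv]
    exact Subgroup.mem_normalizer_iff.1 m.2 x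
  have hcardM : Nat.card θ.range = Nat.card M :=
    Nat.card_congr (MonoidHom.ofInjective hθ).toEquiv.symm
  refine ⟨?_, hcardM ▸ Subgroup.card_dvd_of_le hrange⟩
  haveI : Fintype M := Fintype.ofFinite M
  haveI : Fintype θ.range := Fintype.ofFinite θ.range
  have h1 := dvd_sum_nfix (X := X) M D le_rfl
  have h2 := dvd_sum_nfix (X := X) θ.range D₀ hrange
  rw [hcardM, ← (MonoidHom.ofInjective hθ).toEquiv.sum_comp] at h2
  rw [← Finset.sum_filter_add_sum_filter_not Finset.univ (fun m : M => (m : S × S) ∈ D)] at h1 h2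
  have hD₀m : ∀ m : M, (m : S × S) ∈ D → θ m ∈ D₀ := fun m hm => hθD.le ⟨m, hm, rfl⟩
  have hA : ∀ m ∈ Finset.univ.filter (fun m : M => (m : S × S) ∈ D),
      nfix X (D ⊔ Subgroup.zpowers (m : S × S)) = nfix X D := by
    intro m hm
    rw [sup_eq_left.2 (Subgroup.zpowers_le.2 (Finset.mem_filter.1 hm).2)]
  have hB : ∀ m ∈ Finset.univ.filter (fun m : M => (m : S × S) ∈ D),
      nfix X (D₀ ⊔ Subgroup.zpowers (((MonoidHom.ofInjective hθ).toEquiv m : θ.range) : S × S)) =
        nfix X D₀ := by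
    intro m hm
    show nfix X (D₀ ⊔ Subgroup.zpowers (θ m)) = _
    rw [sup_eq_left.2 (Subgroup.zpowers_le.2 (hD₀m m (Finset.mem_filter.1 hm).2))]
  have hC : ∀ m ∈ Finset.univ.filter (fun m : M => ¬ (m : S × S) ∈ D),
      nfix X (D₀ ⊔ Subgroup.zpowers (((MonoidHom.ofInjective hθ).toEquiv m : θ.range) : S × S)) =
        nfix X (D ⊔ Subgroup.zpowers (m : S × S)) := by
    intro m hm
    set E := D ⊔ Subgroup.zpowers (m : S × S) with hE
    have hEM : E ≤ M := sup_le hDM (Subgroup.zpowers_le.2 m.2)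
    have himg : (E.subgroupOf M).map θ = D₀ ⊔ Subgroup.zpowers (θ m) := by
      rw [hE, Subgroup.subgroupOf_sup hDM (Subgroup.zpowers_le.2 m.2), Subgroup.map_sup, hθD]
      congr 1
      rw [← MonoidHom.map_zpowers]
      congr 1
      ext x
      rw [Subgroup.mem_subgroupOf, Subgroup.mem_zpowers_iff, Subgroup.mem_zpowers_iff]
      simp only [Subtype.ext_iff, Subgroup.coe_zpow]
    obtain ⟨ht, hconj, -⟩ := hθtr E hEM
    rw [himg] at ht hconj
    show nfix X (D₀ ⊔ Subgroup.zpowers (θ m)) = _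
    by_cases hEt : IsTwist F E
    · refine (hst _ _ hEt (ht.1 hEt) (hbig _ (src_le E) ?_) hconj).symm
      rw [hEt.card_src, ← hcard]
      have hlt : D < E := lt_of_le_of_ne le_sup_left fun h =>
        (Finset.mem_filter.1 hm).2 (h.ge (Subgroup.mem_sup_right (Subgroup.mem_zpowers _)))
      refine lt_of_le_of_ne (Subgroup.card_le_of_le hlt.le) fun h => hlt.ne ?_
      exact Subgroup.eq_of_le_of_card_ge hlt.le h.ge
    · rw [nfix_eq_zero hX hEt, nfix_eq_zero hX fun h => hEt (ht.2 h)]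
  rw [Finset.sum_congr rfl hA, Finset.sum_const, smul_eq_mul] at h1
  rw [Finset.sum_congr rfl hB, Finset.sum_const, smul_eq_mul, Finset.sum_congr rfl hC] at h2
  have hcf : (Finset.univ.filter (fun m : M => (m : S × S) ∈ D)).card = Nat.card P := by
    rw [← hcard, ← Nat.card_congr (Subgroup.subgroupOfEquivOfLe hDM).toEquiv,
      Nat.card_eq_fintype_card, ← Fintype.card_subtype]
    exact Fintype.card_congr (Equiv.refl _)
  rw [hcf] at h1 h2
  exact Nat.ModEq.add_right_cancel' _
    ((Nat.modEq_zero_iff_dvd.2 h1).trans (Nat.modEq_zero_iff_dvd.2 h2).symm)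

/-- Adding orbits to make the counts on the class of `P` equal to `c`. -/
theorem exists_fill (hS : IsPGroup p S) (hF : F.IsSaturated p) (hP : F.IsFullyNormalized P)
    (Cl : Set (Subgroup Ω)) (hbig : ∀ Q, Q ≤ S → Nat.card P < Nat.card Q → Q ∈ Cl)
    (hge : ∀ Q ∈ Cl, Q ≤ S → Nat.card P ≤ Nat.card Q) (hnc : ∀ Q ∈ Cl, ¬ F.IsConj Q P) (c : ℕ) :
    ∀ (N : ℕ) (X : Type u) [MulAction (S × S) X] [Finite X], Twisted F X → Stable F X Cl →
      (∀ D, IsTwist F D → F.IsConj (src D) P → nfix X D ≤ c) →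
      Nat.ModEq (Nat.card (Subgroup.normalizer ((diag (isMap_id (F := F) hP.1)) : Set (S × S))))
        (Nat.card P * c) (Nat.card P * nfix X (diag (isMap_id (F := F) hP.1))) →
      (∑ᶠ D ∈ {D : Subgroup (S × S) | IsTwist F D ∧ F.IsConj (src D) P}, (c - nfix X D)) ≤ N →
      ∃ (X' : Type u) (_ : MulAction (S × S) X') (_ : Finite X'), Twisted F X' ∧
        (∀ D, IsTwist F D → src D ∈ Cl → nfix X' D = nfix X D) ∧
        (∀ D, IsTwist F D → F.IsConj (src D) P → nfix X' D = c) ∧
        (∃ k, Nat.card X' * Nat.card P = Nat.card X * Nat.card P + k * Nat.card S * Nat.card S) ∧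
        ((∀ w : X, Nat.card (MulAction.stabilizer (S × S) w) = Nat.card P) →
          ∀ w : X', Nat.card (MulAction.stabilizer (S × S) w) = Nat.card P) := by
  intro N
  induction N with
  | zero =>
      intro X _ _ hX _ hle _ hsum
      refine ⟨X, inferInstance, inferInstance, hX, fun D _ _ => rfl, fun D hD hc => ?_,
        ⟨0, by simp⟩, fun h => h⟩
      have h0 := Nat.le_zero.1 hsum
      rw [finsum_mem_eq_finite_toFinset_sum _ (Set.toFinite _)] at h0
      have := Finset.sum_eq_zero_iff.1 h0 D ((Set.toFinite _).mem_toFinset.2 ⟨hD, hc⟩)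
      have := hle D hD hc
      omega
  | succ N ih =>
      intro X _ _ hX hst hle hmod hsum
      set D₀ := diag (isMap_id (F := F) hP.1) with hD₀
      by_cases hall : ∀ D, IsTwist F D → F.IsConj (src D) P → nfix X D = c
      · exact ⟨X, inferInstance, inferInstance, hX, fun D _ _ => rfl, hall, ⟨0, by simp⟩,
          fun h => h⟩
      push Not at hall
      obtain ⟨D, hD, hDc, hne⟩ := hall
      set M := Subgroup.normalizer (D : Set (S × S)) with hM
      have hcD : Nat.card D = Nat.card P := by rw [← hD.card_src, isConj_card hDc]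
      -- the deficit at `D` is a multiple of the increment
      have hcong : Nat.ModEq (Nat.card M) (Nat.card P * c) (Nat.card P * nfix X D) := by
        obtain ⟨h1, h2⟩ := congr_mod hS hF hX hst hP hbig hD hDc
        exact (hmod.of_dvd h2).trans h1.symm
      haveI := finite_of_le hP.1
      have hlt : nfix X D < c := lt_of_le_of_ne (hle D hD hDc) hne
      have hdvd : Nat.card M ∣ Nat.card P * (c - nfix X D) := by
        rw [Nat.mul_sub]
        exact (Nat.modEq_iff_dvd' (Nat.mul_le_mul_left _ hlt.le)).1 hcong.symm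
      obtain ⟨t, ht⟩ := hdvd
      have htpos : 0 < t := by
        rcases Nat.eq_zero_or_pos t with rfl | h
        · exfalso
          rw [mul_zero] at ht
          rcases Nat.mul_eq_zero.1 ht with h | h
          · have := Nat.card_pos (α := D)
            omega
          · omega
        · exact h
      -- the new set
      let X₁ := X ⊕ ((S × S) ⧸ D)
      have hn0 : ∀ E : Subgroup (S × S), IsTwist F E → (src E ∈ Cl ∨ F.IsConj (src E) P) →
          Nat.card D ≤ Nat.card E := by
        intro E hE h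
        rw [hcD, ← hE.card_src]
        rcases h with h | h
        · exact hge _ h (src_le E)
        · exact (isConj_card h).le
      have hinc : ∀ E : Subgroup (S × S), IsTwist F E → F.IsConj (src E) P →
          nfix ((S × S) ⧸ D) E = 0 ∨ (nfix ((S × S) ⧸ D) E * Nat.card P = Nat.card M ∧
            nfix X E = nfix X D) := by
        intro E hE hEc
        rcases nfix_quotient D E (hn0 E hE (Or.inr hEc)) with ⟨g, rfl, hg⟩ | ⟨-, h0⟩
        · exact Or.inr ⟨by rw [← hcD]; exact hg, nfix_conjBy g D⟩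
        · exact Or.inl h0
      have hle₁ : ∀ E, IsTwist F E → F.IsConj (src E) P → nfix X₁ E ≤ c := by
        intro E hE hEc
        rw [nfix_sum]
        rcases hinc E hE hEc with h0 | ⟨h1, h2⟩
        · rw [h0, add_zero]; exact hle E hE hEc
        · have h3 : nfix ((S × S) ⧸ D) E * Nat.card P ≤ Nat.card P * (c - nfix X D) := by
            rw [h1, ht]
            exact Nat.le_mul_of_pos_right _ htpos
          rw [mul_comm (nfix ((S × S) ⧸ D) E)] at h3
          have := Nat.le_of_mul_le_mul_left h3 Nat.card_pos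
          omega
      have hstab : ∀ q : (S × S) ⧸ D, ∃ g, MulAction.stabilizer (S × S) q = conjBy g D := by
        intro q
        induction q using QuotientGroup.induction_on with
        | H g =>
          refine ⟨g, ?_⟩
          ext d
          rw [MulAction.mem_stabilizer_iff, MulAction.Quotient.smul_coe, QuotientGroup.eq,
            mem_conjBy, ← Subgroup.inv_mem_iff]
          simp [mul_assoc]
      have hX₁ : Twisted F X₁ := by
        rintro (w | q)
        · refine (hX w).mono fun d hd => ?_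
          exact Sum.inl_injective hd
        · obtain ⟨g, hg⟩ := hstab q
          refine ((conjBy_transport g D).1.1 hD).mono fun d hd => ?_
          rw [← hg]
          exact Sum.inr_injective hd
      have hkeep : ∀ E, IsTwist F E → src E ∈ Cl → nfix X₁ E = nfix X E := by
        intro E hE hmem
        rw [nfix_sum]
        rcases nfix_quotient D E (hn0 E hE (Or.inl hmem)) with ⟨g, hg, -⟩ | ⟨-, h0⟩
        · exfalso
          subst hg
          exact hnc _ hmem (isConj_trans (isConj_symm (conjBy_transport g D).2) hDc)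
        · rw [h0, add_zero]
      have hmem_conj : ∀ {E E' : Subgroup (S × S)}, src E ∈ Cl → F.IsConj (src E) (src E') →
          IsTwist F E' → ¬ F.IsConj (src E') P := fun hm hc _ h =>
        hnc _ hm (isConj_trans hc h)
      have hst₁ : Stable F X₁ Cl := by
        intro E E' hE hE' hm hc
        rw [hkeep E hE hm, nfix_sum]
        rcases nfix_quotient D E' (by
          rw [hcD, ← hE'.card_src, isConj_card hc]; exact hge _ hm (src_le E)) with
          ⟨g, hg, -⟩ | ⟨-, h0⟩
        · exfalso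
          subst hg
          exact hmem_conj hm hc hE'
            (isConj_trans (isConj_symm (conjBy_transport g D).2) hDc)
        · rw [h0, add_zero]; exact hst E E' hE hE' hm hc
      have hD₀t : IsTwist F D₀ := isTwist_diag _
      have hD₀c : F.IsConj (src D₀) P := by rw [hD₀, src_diag]; exact isConj_refl hP.1
      have hmod₁ : Nat.ModEq (Nat.card (Subgroup.normalizer (D₀ : Set (S × S))))
          (Nat.card P * c) (Nat.card P * nfix X₁ D₀) := by
        rw [nfix_sum, mul_add]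
        rcases hinc D₀ hD₀t hD₀c with h0 | ⟨h1, -⟩
        · rw [h0, mul_zero, add_zero]; exact hmod
        · rcases nfix_quotient D D₀ (hn0 D₀ hD₀t (Or.inr hD₀c)) with ⟨g, hg, -⟩ | ⟨-, h0⟩
          · have hMM : Nat.card (Subgroup.normalizer (D₀ : Set (S × S))) = Nat.card M := by
              rw [hg, ← conjBy_normalizer, card_conjBy]
            rw [mul_comm (Nat.card P) (nfix ((S × S) ⧸ D) D₀), h1, ← hMM]
            refine hmod.trans ?_
            simp [Nat.ModEq]
          · rw [h0, mul_zero, add_zero]; exact hmod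
      have hfin : ({D : Subgroup (S × S) | IsTwist F D ∧ F.IsConj (src D) P}).Finite :=
        Set.toFinite _
      have hsum₁ : (∑ᶠ E ∈ {D : Subgroup (S × S) | IsTwist F D ∧ F.IsConj (src D) P},
          (c - nfix X₁ E)) ≤ N := by
        rw [finsum_mem_eq_finite_toFinset_sum _ hfin] at hsum ⊢
        refine Nat.le_of_lt_succ (lt_of_lt_of_le (Finset.sum_lt_sum (fun E _ => ?_)
          ⟨D, hfin.mem_toFinset.2 ⟨hD, hDc⟩, ?_⟩) hsum)
        · rw [nfix_sum]; omega
        · rw [nfix_sum]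
          have hpos : 0 < nfix ((S × S) ⧸ D) D := by
            rw [nfix, Nat.card_pos_iff]
            refine ⟨⟨⟨((1 : S × S) : (S × S) ⧸ D), fun d hd => ?_⟩⟩, inferInstance⟩
            rw [MulAction.Quotient.smul_coe, QuotientGroup.eq]
            simpa using hd
          omega
      obtain ⟨X', i1, i2, hX', hk1, hk2, ⟨k, hk3⟩, hk4⟩ := ih X₁ hX₁ hst₁ hle₁ hmod₁ hsum₁
      refine ⟨X', i1, i2, hX', fun E hE hm => by rw [hk1 E hE hm, hkeep E hE hm], hk2,
        ⟨k + 1, ?_⟩, fun hold => hk4 ?_⟩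
      · have hq : Nat.card ((S × S) ⧸ D) * Nat.card P = Nat.card S * Nat.card S := by
          rw [← hcD, ← Subgroup.card_eq_card_quotient_mul_card_subgroup, Nat.card_prod]
        rw [hk3, Nat.card_sum, add_mul, hq, add_mul (k) 1, add_mul, one_mul]
        ring
      · rintro (w | q)
        · rw [show MulAction.stabilizer (S × S) (Sum.inl w : X₁) =
            MulAction.stabilizer (S × S) w from Subgroup.ext fun d =>
              ⟨fun h => Sum.inl_injective h, fun h => congrArg Sum.inl h⟩]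
          exact hold w
        · obtain ⟨g, hg⟩ := hstab q
          rw [show MulAction.stabilizer (S × S) (Sum.inr q : X₁) =
            MulAction.stabilizer (S × S) q from Subgroup.ext fun d =>
              ⟨fun h => Sum.inr_injective h, fun h => congrArg Sum.inr h⟩, hg, card_conjBy, hcD]

theorem card_normalizer_diag_top :
    Nat.card (Subgroup.normalizer
      ((diag (isMap_id (F := F) (le_refl S))) : Set (S × S))) =
    Nat.card S * Nat.card (centralizerIn S S) := by
  rw [← Nat.card_prod]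
  refine Nat.card_congr (Equiv.ofBijective (fun m => (m.1.1, (⟨(m.1.1 : Ω)⁻¹ * m.1.2,
    S.mul_mem (S.inv_mem m.1.1.2) m.1.2.2, ?_⟩ : centralizerIn S S))) ⟨?_, ?_⟩)
  · refine Subgroup.mem_centralizer_iff.2 fun x hx => ?_
    have h := (Subgroup.mem_normalizer_iff.1 m.2 (⟨x, hx⟩, ⟨x, hx⟩)).1 ⟨hx, rfl⟩
    have h2 : (m.1.2 : Ω) * x * (m.1.2 : Ω)⁻¹ = (m.1.1 : Ω) * x * (m.1.1 : Ω)⁻¹ := by
      simpa using h.2
    calc x * ((m.1.1 : Ω)⁻¹ * m.1.2)
        = (m.1.1 : Ω)⁻¹ * ((m.1.1 : Ω) * x * (m.1.1 : Ω)⁻¹) * m.1.2 := by group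
      _ = (m.1.1 : Ω)⁻¹ * m.1.2 * x := by rw [← h2]; group
  · intro a b hab
    have h1 := congrArg (fun z : S × centralizerIn S S => (z.1 : Ω)) hab
    have h2 := congrArg (fun z : S × centralizerIn S S => (z.2 : Ω)) hab
    simp only at h1 h2
    refine Subtype.ext (Prod.ext (Subtype.ext h1) (Subtype.ext ?_))
    rw [h1] at h2
    exact mul_left_cancel h2
  · rintro ⟨a, z, hzS, hz⟩
    have hz' := Subgroup.mem_centralizer_iff.1 hz
    refine ⟨⟨(a, ⟨(a : Ω) * z, S.mul_mem a.2 hzS⟩), ?_⟩, ?_⟩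
    · rw [Subgroup.mem_normalizer_iff]
      intro d
      have key : ∀ y : Ω, y ∈ S → z * y * z⁻¹ = y := fun y hy => by
        rw [← hz' y hy, mul_inv_cancel_right]
      constructor
      · intro hd
        have hd2 : ((d.2 : S) : Ω) = d.1 := hd.2
        refine ⟨SetLike.coe_mem _, ?_⟩
        show ((a : Ω) * z) * (d.2 : S) * ((a : Ω) * z)⁻¹ = (a : Ω) * (d.1 : S) * (a : Ω)⁻¹
        rw [hd2]
        calc (a : Ω) * z * (d.1 : S) * ((a : Ω) * z)⁻¹
            = (a : Ω) * (z * (d.1 : S) * z⁻¹) * (a : Ω)⁻¹ := by group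
          _ = _ := by rw [key _ d.1.2]
      · intro hd
        have hd2 : (a : Ω) * z * (d.2 : S) * ((a : Ω) * z)⁻¹ =
            (a : Ω) * (d.1 : S) * (a : Ω)⁻¹ := hd.2
        refine ⟨d.1.2, ?_⟩
        show ((d.2 : S) : Ω) = d.1
        rw [show (a : Ω) * z * (d.2 : S) * ((a : Ω) * z)⁻¹ =
          (a : Ω) * (z * (d.2 : S) * z⁻¹) * (a : Ω)⁻¹ by group, key _ d.2.2] at hd2
        exact mul_left_cancel (mul_right_cancel hd2)
    · exact Prod.ext rfl (Subtype.ext (inv_mul_cancel_left _ _))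

/-- The first step: the orbits with source `S`. -/
theorem exists_base (hS : IsPGroup p S) (hF : F.IsSaturated p) :
    ∃ (X : Type u) (_ : MulAction (S × S) X) (_ : Finite X), Twisted F X ∧
      Stable F X {Q | F.IsConj Q S} ∧ ∃ n, ¬ p ∣ n ∧ Nat.card X = n * Nat.card S := by
  letI : MulAction (S × S) PEmpty.{u + 1} :=
    { smul := fun _ e => e, one_smul := fun e => e.elim, mul_smul := fun _ _ e => e.elim }
  have h0 : ∀ D : Subgroup (S × S), nfix PEmpty.{u + 1} D = 0 := fun D => by simp [nfix]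
  have hZ : centralizerIn S S ≤ S := inf_le_left
  have hSn : F.IsFullyNormalized S := isFullyNormalized_self
  haveI := finite_of_le hZ
  obtain ⟨X, i1, i2, hX, -, hc, ⟨k, hk⟩, hst⟩ := exists_fill hS hF hSn ∅
    (fun Q hQ hlt => absurd hlt (not_lt.2 (card_le_of_le' le_rfl hQ)))
    (fun Q hQ => absurd hQ (Set.notMem_empty Q)) (fun Q hQ => absurd hQ (Set.notMem_empty Q))
    (Nat.card (centralizerIn S S)) _ PEmpty.{u + 1} (fun w => w.elim)
    (fun D D' _ _ h => absurd h (Set.notMem_empty _)) (fun D _ _ => by rw [h0]; exact Nat.zero_le _)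
    (by
      rw [h0, mul_zero, card_normalizer_diag_top]
      exact Nat.modEq_zero_iff_dvd.2 dvd_rfl) le_rfl
  refine ⟨X, i1, i2, hX, fun D D' hD hD' hm hconj => ?_, ?_⟩
  · rw [hc D hD hm, hc D' hD' (isConj_trans (isConj_symm hconj) hm)]
  have hstS : ∀ w : X, Nat.card (MulAction.stabilizer (S × S) w) = Nat.card S :=
    hst fun w => w.elim
  have hsrcS : ∀ {D : Subgroup (S × S)}, IsTwist F D → Nat.card D = Nat.card S → src D = S :=
    fun {D} hD h => eq_of_le_of_card_le le_rfl (src_le D) (by rw [hD.card_src, h])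
  let T := {D : Subgroup (S × S) // IsTwist F D ∧ src D = S}
  haveI := finite_mulAut (P := S)
  let e : X ≃ Σ D : T, {w : X // ∀ d ∈ (D : Subgroup (S × S)), d • w = w} :=
    { toFun := fun w => ⟨⟨MulAction.stabilizer (S × S) w, hX w, hsrcS (hX w) (hstS w)⟩,
        ⟨w, fun d hd => hd⟩⟩
      invFun := fun z => z.2.1
      left_inv := fun w => rfl
      right_inv := fun z => by
        obtain ⟨⟨D, hD, hDS⟩, w, hw⟩ := z
        have hle : D ≤ MulAction.stabilizer (S × S) w := fun d hd => hw d hd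
        have heq : MulAction.stabilizer (S × S) w = D := (Subgroup.eq_of_le_of_card_ge hle (by
          rw [hstS w, ← hD.card_src, hDS])).symm
        subst heq
        rfl }
  have hcard : Nat.card X = Nat.card T * Nat.card (centralizerIn S S) := by
    haveI : Fintype T := Fintype.ofFinite T
    rw [Nat.card_congr e, Nat.card_sigma, Finset.sum_congr rfl fun D _ => hc D.1 D.2.1 (by
      rw [D.2.2]; exact isConj_refl le_rfl), Finset.sum_const, smul_eq_mul, Finset.card_univ,
      Nat.card_eq_fintype_card (α := T)]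
  have hT : Nat.card T = Nat.card (F.autGroup S) := by
    refine (Nat.card_congr (Equiv.ofBijective (fun a : F.autGroup S =>
      (⟨diag ((mem_autGroup_iff le_rfl).1 a.2), isTwist_diag _, src_diag _⟩ : T)) ⟨?_, ?_⟩)).symm
    · intro a b hab
      refine Subtype.ext (autFun_ext fun x hx => ?_)
      have h : ((⟨x, hx⟩ : S), (⟨autFun (a : MulAut S) x, autFun_mem _ hx⟩ : S)) ∈
          diag ((mem_autGroup_iff le_rfl).1 b.2) :=
        (congrArg Subtype.val hab).le ⟨hx, rfl⟩
      exact h.2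
    · rintro ⟨D, hD, hDS⟩
      obtain ⟨f, hf, he⟩ := id hD
      have hf' : IsMap F S f := by rwa [hDS] at hf
      have himg : img S f = S := eq_of_le_of_card_le le_rfl hf'.img_le hf'.card_img.ge
      refine ⟨⟨autOf hf' himg, autOf_mem hf' himg⟩, Subtype.ext ?_⟩
      refine Eq.trans ?_ (eq_diag hf he).symm
      ext d
      rw [mem_diag, mem_diag, hDS]
      exact and_congr_right fun hd => by rw [autFun_autOf hf' himg hd]
  obtain ⟨-, hi⟩ := (isFullyAutomized_iff hS).1 (IsSaturated.automized_receptive hS hF hSn).1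
  refine ⟨(autInducedBy S S).relIndex (F.autGroup S), hi, ?_⟩
  have hI := card_autInducedBy_mul (P := S) S
  rw [show normalizerIn S S = S from inf_eq_left.2 Subgroup.le_normalizer] at hI
  have hA : Nat.card (F.autGroup S) =
      (autInducedBy S S).relIndex (F.autGroup S) * Nat.card (autInducedBy S S) := by
    have h := Subgroup.relIndex_mul_relIndex ⊥ (autInducedBy S S) (F.autGroup S) bot_le
      (autInducedBy_le_autGroup le_rfl)
    rw [Subgroup.relIndex_bot_left, Subgroup.relIndex_bot_left] at h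
    rw [← h, mul_comm]
  rw [hcard, hT, hA, mul_assoc, hI]

/-- The characteristic biset of a saturated system. -/
theorem exists_biset (hS : IsPGroup p S) (hF : F.IsSaturated p) :
    ∃ (X : Type u) (_ : MulAction (S × S) X) (_ : Finite X), Twisted F X ∧
      Stable F X Set.univ ∧ ∃ n, ¬ p ∣ n ∧ Nat.card X = n * Nat.card S := by
  suffices key : ∀ (m : ℕ) (Cl : Set (Subgroup Ω)), S ∈ Cl →
      (∀ Q R, Q ∈ Cl → F.IsConj Q R → R ∈ Cl) →
      (∀ Q ∈ Cl, ∀ R, R ≤ S → R ∉ Cl → Nat.card R ≤ Nat.card Q) →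
      {Q : Subgroup S | Q.map S.subtype ∉ Cl}.ncard ≤ m →
      ∀ (X : Type u) [MulAction (S × S) X] [Finite X], Twisted F X → Stable F X Cl →
        (∃ n, ¬ p ∣ n ∧ Nat.card X = n * Nat.card S) →
        ∃ (X : Type u) (_ : MulAction (S × S) X) (_ : Finite X), Twisted F X ∧
          Stable F X Set.univ ∧ ∃ n, ¬ p ∣ n ∧ Nat.card X = n * Nat.card S by
    obtain ⟨X, i1, i2, hX, hst, hn⟩ := exists_base hS hF
    refine key _ {Q | F.IsConj Q S} (isConj_refl le_rfl)
      (fun Q R h hQR => isConj_trans (isConj_symm hQR) h) (fun Q hQ R hR _ => ?_) le_rfl X hX hst hn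
    rw [← isConj_card hQ]
    exact card_le_of_le' le_rfl hR
  intro m
  induction m using Nat.strong_induction_on with
  | _ m ih =>
  intro Cl hSC hcl hord hm X _ _ hX hst hn
  have hback : ∀ Q, Q ≤ S → (Q.subgroupOf S).map S.subtype = Q := fun Q hQ =>
    Subgroup.map_subgroupOf_eq_of_le hQ
  by_cases hall : ∀ Q, Q ≤ S → Q ∈ Cl
  · exact ⟨X, inferInstance, inferInstance, hX,
      fun D D' h h' _ hc => hst D D' h h' (hall _ (src_le D)) hc, hn⟩
  push Not at hall
  obtain ⟨Q₀', hQ₀', hmax⟩ := Set.exists_max_image {Q : Subgroup S | Q.map S.subtype ∉ Cl}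
    (fun Q => Nat.card (Q.map S.subtype)) (Set.toFinite _) (by
      obtain ⟨Q, hQ, hQC⟩ := hall
      exact ⟨Q.subgroupOf S, by simpa [hback Q hQ] using hQC⟩)
  obtain ⟨P, hQP, hP⟩ := exists_fullyNormalized (F := F) (Subgroup.map_subtype_le Q₀')
  have hPC : P ∉ Cl := fun h => hQ₀' (hcl _ _ h (isConj_symm hQP))
  have hmax' : ∀ R, R ≤ S → R ∉ Cl → Nat.card R ≤ Nat.card P := fun R hR hRC => by
    have := hmax (R.subgroupOf S) (by simpa [hback R hR] using hRC)
    rw [hback R hR] at this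
    rw [isConj_card hQP]
    exact this
  have hPS : Nat.card P < Nat.card S := by
    refine lt_of_le_of_ne (card_le_of_le' le_rfl hP.1) fun h => hPC ?_
    rw [eq_of_le_of_card_le le_rfl hP.1 h.ge]
    exact hSC
  set D₀ := diag (isMap_id (F := F) hP.1) with hD₀
  haveI := finite_of_le hP.1
  let B := ∑ᶠ D : Subgroup (S × S), nfix X D
  let c := nfix X D₀ + B * Nat.card (Subgroup.normalizer (D₀ : Set (S × S)))
  have hcl' : ∀ Q, Q ∈ Cl → ¬ F.IsConj Q P := fun Q hQ h => hPC (hcl Q P hQ h)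
  obtain ⟨X', i1, i2, hX', hkeep, hfill, ⟨k, hk⟩, -⟩ := exists_fill hS hF hP Cl
    (fun Q hQ hlt => by_contra fun h => absurd (hmax' Q hQ h) (not_le.2 hlt))
    (fun Q hQ _ => hord Q hQ P hP.1 hPC) hcl' c _ X hX hst
    (fun D _ _ => by
      have h1 : nfix X D ≤ B := single_le_finsum D (Set.toFinite _) fun _ => Nat.zero_le _
      have h2 : B * 1 ≤ B * Nat.card (Subgroup.normalizer (D₀ : Set (S × S))) :=
        Nat.mul_le_mul_left _ Nat.card_pos
      show nfix X D ≤ nfix X D₀ + _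
      omega)
    (by
      show Nat.ModEq _ (Nat.card P * (nfix X D₀ + B * _)) _
      rw [mul_add, ← mul_assoc]
      simp [Nat.ModEq, hD₀]) le_rfl
  refine ih {Q : Subgroup S | Q.map S.subtype ∉ Cl ∪ {R | F.IsConj R P}}.ncard ?_
    (Cl ∪ {R | F.IsConj R P}) (Or.inl hSC) ?_ ?_ le_rfl X' hX' ?_ ?_
  · refine lt_of_lt_of_le ?_ hm
    refine Set.ncard_lt_ncard ⟨fun Q hQ h => hQ (Or.inl h), fun h => ?_⟩ (Set.toFinite _)
    exact h (show P.subgroupOf S ∈ _ by simpa [hback P hP.1] using hPC)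
      (Or.inr (by rw [hback P hP.1]; exact isConj_refl hP.1))
  · rintro Q R (hQ | hQ) hQR
    · exact Or.inl (hcl Q R hQ hQR)
    · exact Or.inr (isConj_trans (isConj_symm hQR) hQ)
  · rintro Q (hQ | hQ) R hR hRC
    · exact hord Q hQ R hR fun h => hRC (Or.inl h)
    · rw [← isConj_card hQ]
      exact hmax' R hR fun h => hRC (Or.inl h)
  · rintro D D' hD hD' (hm' | hm') hc
    · rw [hkeep D hD hm', hkeep D' hD' (hcl _ _ hm' hc)]
      exact hst D D' hD hD' hm' hc
    · rw [hfill D hD hm', hfill D' hD' (isConj_trans (isConj_symm hc) hm')]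
  · obtain ⟨n, hn1, hn2⟩ := hn
    obtain ⟨a, ha⟩ := (hS.to_le hP.1).exists_card_eq
    obtain ⟨b, hb⟩ := hS.exists_card_eq
    have hab : a < b := by
      rw [ha, hb] at hPS
      exact (Nat.pow_lt_pow_iff_right (Fact.out : p.Prime).one_lt).1 hPS
    obtain ⟨e, rfl⟩ := Nat.exists_eq_add_of_lt hab
    refine ⟨n + k * p ^ (e + 1), fun h => hn1 ?_, ?_⟩
    · exact (Nat.dvd_add_left (dvd_mul_of_dvd_right (dvd_pow_self p e.succ_ne_zero) k)).1 h
    · refine Nat.eq_of_mul_eq_mul_right (Nat.card_pos (α := P)) ?_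
      rw [hk, hn2, hb, ha]
      ring

end CfsgLib.Fusion.Biset
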