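import Cfsg.Agent.Lib.Fusion.System.Biset
import Cfsg.Agent.Lib.Fusion.Marks
import Mathlib.GroupTheory.Abelianization.Defs
import Mathlib.Dynamics.PeriodicPts.Lemmas

/-!
# Transfer through the characteristic biset
-/

set_option autoImplicit false
set_option maxHeartbeats 1000000
set_option linter.style.haveILetI false

open Subgroup
open scoped Classical

namespace CfsgLib.Fusion.Biset

open Cfsg (FusionSystem)
open Cfsg.FusionSystem (normalizerIn centralizerIn)

universe u

/-- Two functions with the same products along every cycle have the same product. -/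
theorem prod_eq_of_cycles {O A : Type*} [CommMonoid A] [Fintype O] (σ : O ≃ O) (a b : O → A)
    (h : ∀ o, ∏ i ∈ Finset.range (Function.minimalPeriod σ o), a (σ^[i] o) =
      ∏ i ∈ Finset.range (Function.minimalPeriod σ o), b (σ^[i] o)) :
    ∏ o, a o = ∏ o, b o := by
  suffices key : ∀ (m : ℕ) (s : Finset O), s.card = m → (∀ o, o ∈ s ↔ σ o ∈ s) →
      ∏ o ∈ s, a o = ∏ o ∈ s, b o from
    key _ Finset.univ rfl fun o => by simp
  intro m
  induction m using Nat.strong_induction_on with
  | _ m ih =>
  intro s hs hinv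
  rcases s.eq_empty_or_nonempty with rfl | ⟨o, ho⟩
  · simp
  set k := Function.minimalPeriod σ o
  have hper : o ∈ Function.periodicPts σ := Function.Injective.mem_periodicPts σ.injective o
  have hk : 0 < k := Function.minimalPeriod_pos_of_mem_periodicPts hper
  set c := (Finset.range k).image fun i => σ^[i] o with hc
  have hcs : c ⊆ s := by
    intro x hx
    obtain ⟨i, -, rfl⟩ := Finset.mem_image.1 hx
    clear hx
    induction i with
    | zero => exact ho
    | succ i ih' => rw [Function.iterate_succ_apply']; exact (hinv _).1 ih'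
  have hinj : Set.InjOn (fun i => σ^[i] o) (Finset.range k : Set ℕ) := by
    intro i hi j hj hij
    exact Function.iterate_injOn_Iio_minimalPeriod (by simpa using hi) (by simpa using hj) hij
  have hcinv : ∀ x, x ∈ c ↔ σ x ∈ c := by
    have hmem : ∀ i, σ^[i] o ∈ c := fun i => by
      rw [← Function.iterate_mod_minimalPeriod_eq]
      exact Finset.mem_image.2 ⟨_, Finset.mem_range.2 (Nat.mod_lt _ hk), rfl⟩
    intro x
    constructor
    · intro hx
      obtain ⟨i, -, rfl⟩ := Finset.mem_image.1 hx
      rw [← Function.iterate_succ_apply' σ i o]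
      exact hmem _
    · intro hx
      obtain ⟨i, hi, hix⟩ := Finset.mem_image.1 hx
      have hx' : x = σ^[i + (k - 1)] o := by
        apply σ.injective
        rw [← hix, ← Function.iterate_succ_apply' σ (i + (k - 1)) o,
          show (i + (k - 1)).succ = i + k by omega, Function.iterate_add_apply,
          Function.iterate_minimalPeriod]
      rw [hx']
      exact hmem _
  rw [← Finset.prod_sdiff hcs, ← Finset.prod_sdiff hcs (f := b)]
  congr 1
  · refine ih _ ?_ (s \ c) rfl fun x => by
      rw [Finset.mem_sdiff, Finset.mem_sdiff, hinv x, hcinv x]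
    rw [← hs]
    refine Finset.card_lt_card (Finset.ssubset_iff_of_subset Finset.sdiff_subset |>.2
      ⟨o, ho, fun h => (Finset.mem_sdiff.1 h).2 ?_⟩)
    exact Finset.mem_image.2 ⟨0, Finset.mem_range.2 hk, rfl⟩
  · rw [hc, Finset.prod_image hinj, Finset.prod_image hinj]
    exact h o

/-- A divisor of every orbit length divides the cardinality. -/
theorem dvd_card_of_dvd_orbit {G : Type*} [Group G] {Y : Type*} [MulAction G Y] [Finite Y]
    (d c : ℕ) (h : ∀ y : Y, d ∣ c * Nat.card (MulAction.orbit G y)) : d ∣ c * Nat.card Y := by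
  haveI : Fintype (MulAction.orbitRel.Quotient G Y) := Fintype.ofFinite _
  rw [Nat.card_congr (MulAction.selfEquivSigmaOrbits G Y), Nat.card_sigma, Finset.mul_sum]
  exact Finset.dvd_sum fun q _ => h _

variable {Ω : Type u} [Group Ω] {S : Subgroup Ω} {F : FusionSystem S} {p : ℕ}
variable {X : Type u} [MulAction (S × S) X]

/-- The right orbits. -/
def rsetoid (X : Type u) [MulAction (S × S) X] : Setoid X where
  r w w' := ∃ s : S, ((1 : S), s) • w = w'
  iseqv := ⟨fun w => ⟨1, one_smul _ w⟩,
    fun {w w'} ⟨s, hs⟩ => ⟨s⁻¹, by rw [← hs, ← mul_smul]; simp [← Prod.one_eq_mk]⟩,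
    fun {a b c} ⟨s, hs⟩ ⟨t, ht⟩ => ⟨t * s, by rw [← ht, ← hs, ← mul_smul]; simp⟩⟩

/-- The set of right orbits. -/
def Orb (X : Type u) [MulAction (S × S) X] : Type u := Quotient (rsetoid (S := S) X)

/-- The orbit of a point. -/
def cls (w : X) : Orb (S := S) X := Quotient.mk _ w

instance [Finite X] : Finite (Orb (S := S) X) := Quotient.finite _

noncomputable instance [Finite X] : Fintype (Orb (S := S) X) := Fintype.ofFinite _

theorem cls_eq_iff {w w' : X} :
    cls (S := S) w = cls w' ↔ ∃ s : S, ((1 : S), s) • w = w' := Quotient.eq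

theorem cls_smul_right (s : S) (w : X) : cls (S := S) (((1 : S), s) • w) = cls w :=
  (cls_eq_iff.2 ⟨s, rfl⟩).symm

/-- Left multiplication on right orbits. -/
def lact (x : S) : Orb (S := S) X → Orb (S := S) X :=
  Quotient.map (fun w => (x, (1 : S)) • w) fun w w' ⟨s, hs⟩ =>
    ⟨s, by rw [← hs, ← mul_smul, ← mul_smul]; simp⟩

theorem lact_cls (x : S) (w : X) : lact x (cls (S := S) w) = cls ((x, (1 : S)) • w) := rfl

theorem lact_mul (x y : S) (o : Orb (S := S) X) : lact (x * y) o = lact x (lact y o) := by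
  obtain ⟨w, rfl⟩ := Quotient.exists_rep o
  show cls ((x * y, (1 : S)) • w) = cls ((x, (1 : S)) • (y, (1 : S)) • w)
  rw [← mul_smul]
  simp

theorem lact_one (o : Orb (S := S) X) : lact 1 o = o := by
  obtain ⟨w, rfl⟩ := Quotient.exists_rep o
  show cls (((1 : S), (1 : S)) • w) = cls w
  rw [← Prod.one_eq_mk, one_smul]

theorem lact_pow (x : S) (o : Orb (S := S) X) (i : ℕ) : (lact x)^[i] o = lact (x ^ i) o := by
  induction i with
  | zero => simp [lact_one]
  | succ i ih => rw [Function.iterate_succ_apply', ih, pow_succ', lact_mul]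

/-- Left multiplication as an equivalence. -/
def lequiv (x : S) : Orb (S := S) X ≃ Orb (S := S) X where
  toFun := lact x
  invFun := lact x⁻¹
  left_inv o := by rw [← lact_mul, inv_mul_cancel, lact_one]
  right_inv o := by rw [← lact_mul, mul_inv_cancel, lact_one]

/-- A section of the projection to right orbits. -/
structure Sec (X : Type u) [MulAction (S × S) X] where
  r : Orb (S := S) X → X
  cls_r : ∀ o, cls (S := S) (r o) = o

/-- Some section. -/
noncomputable def sec (X : Type u) [MulAction (S × S) X] : Sec (S := S) X :=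
  ⟨fun o => Quotient.out o, fun o => Quotient.out_eq o⟩

variable (hX : Twisted F X)
include hX

theorem eq_one_of_fix {s : S} {w : X} (h : ((1 : S), s) • w = w) : s = 1 := by
  have h' : ((1 : S), s) ∈ MulAction.stabilizer (S × S) w := h
  have := (hX w).fst_inj h' (Subgroup.one_mem _) rfl
  exact congrArg Prod.snd this

theorem right_inj {s t : S} {w : X} (h : ((1 : S), s) • w = ((1 : S), t) • w) : s = t := by
  have h1 : ((1 : S), t⁻¹ * s) • w = w := by
    rw [show ((1 : S), t⁻¹ * s) = ((1 : S), t)⁻¹ * ((1 : S), s) by simp, mul_smul, h, inv_smul_smul]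
  exact (inv_mul_eq_one.1 (eq_one_of_fix hX h1)).symm

omit hX in
theorem exists_val (r : Sec (S := S) X) (x : S) (o : Orb (S := S) X) :
    ∃ s : S, (x, s) • r.r o = r.r (lact x o) := by
  have h : cls (S := S) ((x, (1 : S)) • r.r o) = cls (r.r (lact x o)) := by
    rw [r.cls_r, ← lact_cls, r.cls_r]
  obtain ⟨s, hs⟩ := cls_eq_iff.1 h
  exact ⟨s, by rw [← hs, ← mul_smul]; simp⟩

omit hX in
/-- The second component of left multiplication by `x` on a representative. -/
noncomputable def val (r : Sec (S := S) X) (x : S) (o : Orb (S := S) X) : S :=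
  (exists_val r x o).choose

omit hX in
theorem val_spec (r : Sec (S := S) X) (x : S) (o : Orb (S := S) X) :
    (x, val r x o) • r.r o = r.r (lact x o) := (exists_val r x o).choose_spec

theorem val_eq {r : Sec (S := S) X} {x s : S} {o : Orb (S := S) X}
    (h : (x, s) • r.r o = r.r (lact x o)) : val r x o = s := by
  refine right_inj hX (w := (x, (1 : S)) • r.r o) ?_
  rw [← mul_smul, ← mul_smul]
  simpa using (val_spec r x o).trans h.symm

theorem val_mul (r : Sec (S := S) X) (x y : S) (o : Orb (S := S) X) :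
    val r (x * y) o = val r x (lact y o) * val r y o := by
  refine val_eq hX ?_
  rw [show (x * y, val r x (lact y o) * val r y o) = (x, val r x (lact y o)) * (y, val r y o)
    from rfl, mul_smul, val_spec, val_spec, lact_mul]

theorem val_one (r : Sec (S := S) X) (o : Orb (S := S) X) : val r 1 o = 1 := by
  refine val_eq hX ?_
  rw [← Prod.one_eq_mk, one_smul, lact_one]

variable {A : Type*} [CommGroup A] [Finite X]

omit hX in
/-- The transfer of `χ` through `X`. -/
noncomputable def transferFun (r : Sec (S := S) X) (χ : S →* A) (x : S) : A :=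
  ∏ o, χ (val r x o)

/-- The transfer of `χ` through `X`, as a homomorphism. -/
noncomputable def transfer (r : Sec (S := S) X) (χ : S →* A) : S →* A :=
  MonoidHom.mk' (transferFun r χ) fun x y => by
    simp only [transferFun]
    rw [← Equiv.prod_comp (lequiv y) (fun o => χ (val r x o)), ← Finset.prod_mul_distrib]
    exact Finset.prod_congr rfl fun o _ => by rw [val_mul hX r x y o, map_mul]; rfl

theorem transfer_apply (r : Sec (S := S) X) (χ : S →* A) (x : S) :
    transfer hX r χ x = ∏ o, χ (val r x o) := rfl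

theorem transfer_sec (r r' : Sec (S := S) X) (χ : S →* A) :
    transfer hX r χ = transfer hX r' χ := by
  refine MonoidHom.ext fun x => ?_
  rw [transfer_apply, transfer_apply]
  have hc : ∀ o, ∃ c : S, ((1 : S), c) • r.r o = r'.r o := fun o =>
    cls_eq_iff.1 ((r.cls_r o).trans (r'.cls_r o).symm)
  choose c hc using hc
  have hv : ∀ o, val r' x o = c (lact x o) * val r x o * (c o)⁻¹ := fun o => by
    refine val_eq hX ?_
    rw [← hc o, ← hc (lact x o), ← mul_smul, ← val_spec r x o, ← mul_smul]
    congr 1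
    simp
  simp only [hv, map_mul, map_inv]
  have hperm : ∏ o, χ (c (lact x o)) = ∏ o, χ (c o) :=
    Equiv.prod_comp (lequiv x) (fun o => χ (c o))
  rw [Finset.prod_mul_distrib, Finset.prod_mul_distrib, Finset.prod_inv_distrib, hperm]
  rw [mul_comm (∏ o, χ (c o)), mul_assoc, mul_inv_cancel, mul_one]

theorem prod_cycle (r : Sec (S := S) X) (χ : S →* A) (x : S) (o : Orb (S := S) X) :
    ∀ k : ℕ, ∏ i ∈ Finset.range k, χ (val r x ((lact x)^[i] o)) = χ (val r (x ^ k) o) := by
  intro k
  induction k with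
  | zero => rw [pow_zero, val_one hX]; simp
  | succ k ih =>
      rw [Finset.prod_range_succ, ih, pow_succ', val_mul hX, map_mul, lact_pow, mul_comm]

/-- The value on a fixed orbit is the image of a map of the system. -/
theorem exists_map_val {r : Sec (S := S) X} {x : S} {o : Orb (S := S) X} (h : lact x o = o) :
    ∃ f, IsMap F (Subgroup.zpowers (x : Ω)) f ∧ f x = val r x o := by
  have hst : (x, val r x o) ∈ MulAction.stabilizer (S × S) (r.r o) := by
    rw [MulAction.mem_stabilizer_iff, val_spec, h]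
  obtain ⟨f, hf, he⟩ := hX (r.r o)
  exact ⟨f, hf.mono (Subgroup.zpowers_le.2 (fst_mem_src hst)), (he _ hst).symm⟩

theorem card_eq_orb_mul (r : Sec (S := S) X) :
    Nat.card X = Nat.card (Orb (S := S) X) * Nat.card S := by
  rw [← Nat.card_prod]
  refine (Nat.card_congr (Equiv.ofBijective (fun z : Orb (S := S) X × S =>
    ((1 : S), z.2) • r.r z.1) ⟨?_, ?_⟩)).symm
  · rintro ⟨o, s⟩ ⟨o', s'⟩ h
    simp only at h
    have ho : o = o' := by
      have := congrArg (cls (S := S)) h
      rwa [cls_smul_right, cls_smul_right, r.cls_r, r.cls_r] at this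
    subst ho
    rw [right_inj hX h]
  · intro w
    obtain ⟨s, hs⟩ := cls_eq_iff.1 (r.cls_r (cls (S := S) w))
    exact ⟨(cls w, s), hs⟩

theorem transfer_eq_pow (r : Sec (S := S) X) (χ : S →* A) (x : S)
    (h : ∀ (k : ℕ) (f : Ω → Ω) (hf : IsMap F (Subgroup.zpowers (((x ^ k : S) : Ω))) f),
      χ ⟨f (x ^ k : S), hf.mem_S (Subgroup.mem_zpowers _)⟩ = χ (x ^ k)) :
    transfer hX r χ x = χ x ^ Nat.card (Orb (S := S) X) := by
  rw [transfer_apply, Nat.card_eq_fintype_card, ← Finset.card_univ, ← Finset.prod_const]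
  refine prod_eq_of_cycles (lequiv x) _ _ fun o => ?_
  show ∏ i ∈ Finset.range (Function.minimalPeriod (lact x) o), χ (val r x ((lact x)^[i] o)) =
    ∏ i ∈ Finset.range (Function.minimalPeriod (lact x) o), χ x
  rw [prod_cycle hX, Finset.prod_const, Finset.card_range, ← map_pow]
  have hfix := Function.iterate_minimalPeriod (f := lact x) (x := o)
  rw [lact_pow] at hfix
  obtain ⟨f, hf, hfe⟩ := exists_map_val hX (r := r) hfix
  rw [← h _ f hf]
  exact congrArg χ (Subtype.ext hfe.symm)

variable [Finite S] (hst : Stable F X Set.univ)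
include hst

/-- Restricting along a map of the system gives an isomorphic biset. -/
theorem exists_twist_equiv {P : Subgroup Ω} {f : Ω → Ω} (hf : IsMap F P f) :
    ∃ e : X ≃ X, ∀ (x y : S), ((x : S) : Ω) ∈ P → ((y : S) : Ω) = f x → ∀ (s : S) (w : X),
      e ((x, s) • w) = (y, s) • e w := by
  let H := P.subgroupOf S × S
  let ι : H →* S × S := MonoidHom.prodMap (P.subgroupOf S).subtype (MonoidHom.id S)
  let κ : H →* S × S := MonoidHom.mk' (fun h => (⟨f (h.1.1 : S), hf.mem_S h.1.2⟩, h.2))
    fun a b => Prod.ext (Subtype.ext (hf.map_mul a.1.2 b.1.2)) rfl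
  have hcount : ∀ K : Subgroup H,
      Nat.card {w : X // ∀ k ∈ K, ι k • w = w} = Nat.card {w : X // ∀ k ∈ K, κ k • w = w} := by
    intro K
    have hconv : ∀ η : H →* S × S,
        Nat.card {w : X // ∀ k ∈ K, η k • w = w} = nfix X (K.map η) := fun η =>
      Nat.card_congr (Equiv.subtypeEquivRight fun w =>
        ⟨fun h d hd => by obtain ⟨k, hk, rfl⟩ := hd; exact h k hk,
          fun h k hk => h _ ⟨k, hk, rfl⟩⟩)
    rw [hconv, hconv]
    obtain ⟨ht, hc, -⟩ := transport (F := F) (D := K.map ι) (D' := K.map κ) hf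
      (isMap_id (le_refl S))
      (fun d hd => by obtain ⟨k, hk, rfl⟩ := hd; exact ⟨k.1.2, k.2.2⟩)
      fun d' => by
        constructor
        · rintro ⟨k, hk, rfl⟩
          exact ⟨ι k, ⟨k, hk, rfl⟩, rfl, rfl⟩
        · rintro ⟨_, ⟨k, hk, rfl⟩, e1, e2⟩
          exact ⟨k, hk, Prod.ext (Subtype.ext e1.symm) (Subtype.ext e2.symm)⟩
    by_cases h : IsTwist F (K.map ι)
    · exact hst _ _ h (ht.1 h) (Set.mem_univ _) hc
    · rw [nfix_eq_zero hX h, nfix_eq_zero hX fun h' => h (ht.2 h')]
  obtain ⟨e, he⟩ := @Marks.exists_equiv H _ X X (MulAction.compHom X ι) (MulAction.compHom X κ)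
    ‹_› ‹_› hcount
  refine ⟨e, fun x y hx hy s w => ?_⟩
  have h1 := he (⟨x, hx⟩, s) w
  have h2 : κ (⟨x, hx⟩, s) = (y, s) := Prod.ext (Subtype.ext hy.symm) rfl
  rw [← h2]
  exact h1

/-- The transfer is invariant under the maps of the system. -/
theorem transfer_map (r : Sec (S := S) X) (χ : S →* A) {P : Subgroup Ω} {f : Ω → Ω}
    (hf : IsMap F P f) {x y : S} (hx : (x : Ω) ∈ P) (hy : (y : Ω) = f x) :
    transfer hX r χ y = transfer hX r χ x := by
  obtain ⟨e, he⟩ := exists_twist_equiv hX hst hf
  have he1 : ∀ (s : S) (w : X), e (((1 : S), s) • w) = ((1 : S), s) • e w := fun s w =>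
    he 1 1 (one_mem P) hf.map_one.symm s w
  let ē : Orb (S := S) X ≃ Orb (S := S) X :=
    Quotient.congr e fun w w' =>
      ⟨fun ⟨s, hs⟩ => ⟨s, by rw [← hs, he1]⟩,
        fun ⟨s, hs⟩ => ⟨s, e.injective (by rw [he1, hs])⟩⟩
  have hē : ∀ w, ē (cls (S := S) w) = cls (e w) := fun w => rfl
  let r' : Sec (S := S) X := ⟨fun o => e (r.r (ē.symm o)), fun o => by
    rw [← hē, r.cls_r, Equiv.apply_symm_apply]⟩
  have hl : ∀ o, lact y (ē o) = ē (lact x o) := fun o => by
    obtain ⟨w, rfl⟩ := Quotient.exists_rep o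
    show lact y (cls (e w)) = ē (cls _)
    rw [hē, lact_cls, he x y hx hy]
  rw [transfer_sec hX r r' χ]
  conv_rhs => rw [transfer_sec hX r' r χ]
  rw [transfer_apply, transfer_apply]
  rw [← Equiv.prod_comp ē (fun o => χ (val r' y o))]
  refine Finset.prod_congr rfl fun o _ => congrArg χ ?_
  refine val_eq hX ?_
  show (y, val r x o) • e (r.r (ē.symm (ē o))) = e (r.r (ē.symm (lact y (ē o))))
  rw [hl, Equiv.symm_apply_apply, Equiv.symm_apply_apply, ← he x y hx hy, val_spec]

omit hst
variable [Fact p.Prime]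

/-- The focal subgroup is killed by every transfer. -/
theorem transfer_focal (hst : Stable F X Set.univ) (r : Sec (S := S) X) (χ : S →* A) {x : S}
    (hx : (x : Ω) ∈ F.focalSubgroup) : transfer hX r χ x = 1 := by
  have hle : F.focalSubgroup ≤ (transfer hX r χ).ker.map S.subtype := by
    refine (Subgroup.closure_le _).2 ?_
    rintro y ⟨P, φ, u, hφ, rfl⟩
    have hP := (F.le_of_mem hφ).1
    have hφS := (F.le_of_mem hφ).2 u
    refine ⟨(⟨u, hP u.2⟩ : S)⁻¹ * ⟨φ u, hφS⟩, ?_, rfl⟩
    show transfer hX r χ _ = 1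
    rw [map_mul, map_inv, transfer_map hX hst r χ (isMap_toFun hφ) (x := ⟨u, hP u.2⟩)
      (y := ⟨φ u, hφS⟩) u.2 (toFun_coe φ u).symm, inv_mul_cancel]
  obtain ⟨z, hz, hzx⟩ := hle hx
  rw [← Subtype.ext hzx]
  exact hz

end CfsgLib.Fusion.Biset
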