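import Mathlib.GroupTheory.Transfer
import Mathlib.GroupTheory.PGroup
import Mathlib.GroupTheory.NoncommCoprod

/-!
# A central kernel avoiding a strongly closed subgroup is trivial
-/

set_option autoImplicit false

namespace CfsgLib.Fusion

variable {G : Type*} [Group G] [Finite G] {p : ℕ} [Fact p.Prime]

/-- A central `p`-subgroup `K` meeting `A` trivially is trivial, if `A ⊔ K` has index prime to
`p` and `G` is generated by elements all of whose conjugates of powers in `A ⊔ K` lie in `A`. -/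
theorem eq_bot_of_central_avoid {A K : Subgroup G} (hK : K ≤ Subgroup.center G)
    (hKp : IsPGroup p K) (hAK : A ⊓ K = ⊥) (hi : ¬ p ∣ (A ⊔ K).index) (gens : Set G)
    (hgen : Subgroup.closure gens = ⊤)
    (hcl : ∀ g ∈ gens, ∀ (x : G) (m : ℕ), x⁻¹ * g ^ m * x ∈ A ⊔ K → x⁻¹ * g ^ m * x ∈ A) :
    K = ⊥ := by
  classical
  letI : CommGroup K :=
    { (inferInstance : Group K) with
      mul_comm := fun a b => Subtype.ext ((Subgroup.mem_center_iff.1 (hK b.2) a).trans rfl) }
  have hcomm : ∀ (a : A) (k : K), Commute (A.subtype a) (K.subtype k) := fun a k =>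
    Subgroup.mem_center_iff.1 (hK k.2) a
  set π : A × K →* G := MonoidHom.noncommCoprod A.subtype K.subtype hcomm with hπ
  have hinj : Function.Injective π := by
    rw [injective_iff_map_eq_one]
    rintro ⟨a, k⟩ h
    have h' : (a : G) * (k : G) = 1 := h
    have ha : (a : G) ∈ A ⊓ K :=
      Subgroup.mem_inf.2 ⟨a.2, by rw [eq_inv_of_mul_eq_one_left h']; exact inv_mem k.2⟩
    rw [hAK, Subgroup.mem_bot] at ha
    rw [ha, one_mul] at h'
    exact Prod.ext (Subtype.ext ha) (Subtype.ext h')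
  have hrange : π.range = A ⊔ K := by
    rw [hπ, MonoidHom.noncommCoprod_range, Subgroup.range_subtype, Subgroup.range_subtype]
  let e : (A × K) ≃* (A ⊔ K : Subgroup G) :=
    (MonoidHom.ofInjective hinj).trans (MulEquiv.subgroupCongr hrange)
  let ϕ : (A ⊔ K : Subgroup G) →* K := (MonoidHom.snd A K).comp e.symm.toMonoidHom
  have hval : ∀ (u : (A ⊔ K : Subgroup G)) (a : A) (k : K), (u : G) = a * k → ϕ u = k := by
    intro u a k h
    have h1 : u = e (a, k) := Subtype.ext h
    show (e.symm u).2 = k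
    rw [h1, MulEquiv.symm_apply_apply]
  haveI : (A ⊔ K).FiniteIndex := inferInstance
  set V := MonoidHom.transfer ϕ with hV
  have hgens : ∀ g ∈ gens, V g = 1 := by
    intro g hg
    letI : Fintype (Quotient (MulAction.orbitRel (Subgroup.zpowers g) (G ⧸ (A ⊔ K)))) :=
      Fintype.ofFinite _
    rw [hV, MonoidHom.transfer_eq_prod_quotient_orbitRel_zpowers_quot]
    refine Finset.prod_eq_one fun q _ => ?_
    exact hval _ ⟨_, hcl g hg _ _ (QuotientGroup.out_conj_pow_minimalPeriod_mem _ g q.out)⟩ 1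
      (by simp)
  have hVall : ∀ g, V g = 1 := by
    intro g
    have hg : g ∈ Subgroup.closure gens := hgen ▸ Subgroup.mem_top g
    have hle : Subgroup.closure gens ≤ V.ker := (Subgroup.closure_le _).2 hgens
    exact hle hg
  refine (Subgroup.eq_bot_iff_forall _).2 fun k hk => ?_
  have h1 := hVall k
  rw [hV, MonoidHom.transfer_eq_pow ϕ k fun m g₀ _ => by
    rw [mul_assoc, ← Subgroup.mem_center_iff.1 (pow_mem (hK hk) m) g₀, inv_mul_cancel_left]] at h1
  have hkP : k ^ (A ⊔ K).index ∈ A ⊔ K := Subgroup.mem_sup_right (pow_mem hk _)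
  have h2 := hval ⟨k ^ (A ⊔ K).index, hkP⟩ 1 ⟨k ^ (A ⊔ K).index, pow_mem hk _⟩ (by simp)
  rw [h2] at h1
  have h3 : k ^ (A ⊔ K).index = 1 := congrArg Subtype.val h1
  obtain ⟨j, hj⟩ := hKp ⟨k, hk⟩
  have h4 : k ^ p ^ j = 1 := congrArg Subtype.val hj
  have hcop : Nat.gcd (p ^ j) (A ⊔ K).index = 1 :=
    Nat.Coprime.pow_left j ((Fact.out : p.Prime).coprime_iff_not_dvd.2 hi)
  have h5 := pow_gcd_eq_one.2 ⟨h4, h3⟩
  rwa [hcop, pow_one] at h5

end CfsgLib.Fusion
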