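import Mathlib.GroupTheory.Coset.Card
import Mathlib.GroupTheory.Index
import Mathlib.GroupTheory.PGroup
import Mathlib.Algebra.BigOperators.GroupWithZero.Action

/-!
# Cocycles with values in an abelian `p`-group
-/

set_option autoImplicit false

namespace CfsgLib.Fusion.Cocycle

variable {Γ : Type*} [Group Γ] [Finite Γ] {Z : Type*} [CommGroup Z] [Finite Z] {p : ℕ}
  [Fact p.Prime]

/-- A cocycle which is trivial modulo an invariant subgroup on a subgroup of index prime to `p`
is a coboundary modulo that subgroup. -/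
theorem exists_boundary (act : Γ →* MulAut Z) (D : Γ → Z)
    (hD : ∀ g h, D (g * h) = D g * act g (D h)) (W : Subgroup Z)
    (hW : ∀ g, ∀ w ∈ W, act g w ∈ W) (hZ : IsPGroup p Z) (A : Subgroup Γ) (hi : ¬ p ∣ A.index)
    (hA : ∀ a ∈ A, D a ∈ W) :
    ∃ z : Z, ∀ g, D g * act g z * z⁻¹ ∈ W := by
  classical
  haveI : Fintype (Γ ⧸ A) := Fintype.ofFinite _
  set m := Fintype.card (Γ ⧸ A) with hm
  have hmi : m = A.index := by rw [hm, ← Nat.card_eq_fintype_card]; rfl
  have hcop : (Nat.card Z).Coprime m := by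
    obtain ⟨k, hk⟩ := hZ.exists_card_eq
    rw [hk]
    exact Nat.Coprime.pow_left k ((Fact.out : p.Prime).coprime_iff_not_dvd.2 (hmi ▸ hi))
  let π : Z →* Z ⧸ W := QuotientGroup.mk' W
  set r : Γ ⧸ A → Γ := fun q => q.out with hr
  set z₀ : Z := ∏ q, D (r q) with hz₀
  obtain ⟨z, hz⟩ := (powCoprime hcop).surjective z₀
  refine ⟨z, fun g => ?_⟩
  have key : π (D g ^ m * act g z₀) = π z₀ := by
    have h1 : ∀ q, π (D g * act g (D (r q))) = π (D (r (g • q))) := by
      intro q
      rw [← hD]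
      have ha : (r (g • q))⁻¹ * (g * r q) ∈ A := by
        refine QuotientGroup.eq.1 ?_
        rw [show ((r (g • q) : Γ) : Γ ⧸ A) = g • q from QuotientGroup.out_eq' _,
          show ((g * r q : Γ) : Γ ⧸ A) = g • ((r q : Γ) : Γ ⧸ A) from rfl]
        rw [show ((r q : Γ) : Γ ⧸ A) = q from QuotientGroup.out_eq' _]
      rw [show g * r q = r (g • q) * ((r (g • q))⁻¹ * (g * r q)) by group, hD, map_mul]
      rw [(QuotientGroup.eq_one_iff (N := W) _).2 (hW _ _ (hA _ ha)) |> fun h =>
        (show π (act (r (g • q)) (D ((r (g • q))⁻¹ * (g * r q)))) = 1 from h), mul_one]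
    calc π (D g ^ m * act g z₀) = ∏ q, π (D g * act g (D (r q))) := by
          rw [← map_prod, Finset.prod_mul_distrib, Finset.prod_const, Finset.card_univ, ← hm,
            hz₀, map_prod (act g)]
      _ = ∏ q, π (D (r (g • q))) := Finset.prod_congr rfl fun q _ => h1 q
      _ = ∏ q, π (D (r q)) := Equiv.prod_comp (MulAction.toPerm g) fun q => π (D (r q))
      _ = π z₀ := by rw [hz₀, map_prod]
  have h2 : z ^ m = z₀ := hz
  rw [← h2, map_pow, ← mul_pow] at key
  have h3 : (D g * act g z * z⁻¹) ^ m ∈ W := by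
    refine (QuotientGroup.eq_one_iff (N := W) _).1 ?_
    show π _ = 1
    rw [mul_pow, map_mul, key, inv_pow, ← map_mul, mul_inv_cancel, map_one]
  obtain ⟨k, hk⟩ := hZ.exists_card_eq
  have hpm : (Nat.card W).Coprime m := Nat.Coprime.coprime_dvd_left W.card_subgroup_dvd_card hcop
  obtain ⟨w, hw⟩ := (powCoprime hpm).surjective ⟨_, h3⟩
  have h4 : (w : Z) ^ m = (D g * act g z * z⁻¹) ^ m := congrArg Subtype.val hw
  rw [← (powCoprime hcop).injective (show powCoprime hcop (w : Z) = powCoprime hcop _ from h4)]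
  exact w.2

/-- A homomorphism into a `p`-group which is trivial on a subgroup of index prime to `p` is
trivial. -/
theorem eq_one_of_index {Y : Type*} [Group Y] (hY : IsPGroup p Y) (f : Γ →* Y) (A : Subgroup Γ)
    (hi : ¬ p ∣ A.index) (hA : ∀ a ∈ A, f a = 1) (g : Γ) : f g = 1 := by
  have hle : A ≤ f.ker := fun a ha => hA a ha
  have hd : ¬ p ∣ f.ker.index := fun h => hi (h.trans (Subgroup.index_dvd_of_le hle))
  rw [Subgroup.index_ker] at hd
  haveI : Finite f.range := Finite.of_surjective f.rangeRestrict f.rangeRestrict_surjective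
  obtain ⟨k, hk⟩ := (hY.to_subgroup f.range).exists_card_eq
  have h1 : Nat.card f.range = 1 := by
    rcases Nat.eq_zero_or_pos k with rfl | hk0
    · rw [hk, pow_zero]
    · exact absurd (hk ▸ dvd_pow_self p hk0.ne') hd
  have h2 : f g ∈ (⊥ : Subgroup Y) := Subgroup.eq_bot_of_card_eq f.range h1 ▸ ⟨g, rfl⟩
  exact Subgroup.mem_bot.1 h2

/-- A cocycle with fixed values, trivial on a subgroup of index prime to `p`, is trivial. -/
theorem eq_one_of_fixed (act : Γ →* MulAut Z) (D : Γ → Z)
    (hD : ∀ g h, D (g * h) = D g * act g (D h)) (hfix : ∀ g h, act g (D h) = D h)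
    (hZ : IsPGroup p Z) (A : Subgroup Γ) (hi : ¬ p ∣ A.index) (hA : ∀ a ∈ A, D a = 1) (g : Γ) :
    D g = 1 :=
  eq_one_of_index hZ (MonoidHom.mk' D fun a b => by rw [hD, hfix]) A hi hA g

end CfsgLib.Fusion.Cocycle
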