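import Cfsg.Agent.Lib.Fusion.System.CentralizerFocalMain
import Cfsg.Agent.Lib.Fusion.System.CentralKernel
import Cfsg.Agent.Lib.Fusion.System.CocycleAverage

/-!
# The canonical lift of the automizer of a self-centralizing subgroup of a normal subsystem

For `Q ≤ T` fully normalized in `F` with `C_T(Q) ≤ Q`, the automorphisms of `Q C_S(Q)` generated by
the conjugates of the conjugations by `N_T(Q)` map isomorphically onto their restrictions to `Q`.
-/

set_option autoImplicit false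
set_option maxHeartbeats 1000000
set_option linter.style.haveILetI false
set_option linter.unusedSectionVars false

open Subgroup
open scoped Classical Pointwise

namespace CfsgLib.Fusion.CentLift

open Cfsg (FusionSystem autInducedBy)
open Cfsg.FusionSystem (normalizerIn centralizerIn)
open CfsgLib.Fusion

universe u

variable {Ω : Type u} [Group Ω] {S T : Subgroup Ω} {F : FusionSystem S} {E : FusionSystem T}
  {p : ℕ} {Q J P : Subgroup Ω} {c : Ω}

/-- `Q C_S(Q)`. -/
abbrev base (S Q : Subgroup Ω) : Subgroup Ω := Q ⊔ centralizerIn S Q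

/-- The centre of `Q`, inside the ambient group. -/
abbrev zof (Q : Subgroup Ω) : Subgroup Ω := Q ⊓ Subgroup.centralizer (Q : Set Ω)

/-- The restriction of a group of automorphisms to an invariant subgroup. -/
noncomputable def restrictHom {R : Subgroup Ω} (Y : Subgroup (MulAut R)) (J : Subgroup Ω)
    (hJR : J ≤ R) (h : ∀ a ∈ Y, ∀ x ∈ J, autFun a x ∈ J) : Y →* MulAut J :=
  MonoidHom.mk'
    (fun a =>
      { toFun := fun x => ⟨autFun (a : MulAut R) x, h _ a.2 x x.2⟩
        invFun := fun x => ⟨autFun (a : MulAut R)⁻¹ x, h _ (inv_mem a.2) x x.2⟩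
        left_inv := fun x => Subtype.ext (by
          show autFun (a : MulAut R)⁻¹ (autFun (a : MulAut R) x) = x
          rw [autFun_map_inv _ (hJR x.2)])
        right_inv := fun x => Subtype.ext (by
          show autFun (a : MulAut R) (autFun (a : MulAut R)⁻¹ x) = x
          rw [autFun_inv_apply _ (hJR x.2)])
        map_mul' := fun x y => Subtype.ext (autFun_map_mul _ (hJR x.2) (hJR y.2)) })
    fun a b => MulEquiv.ext fun x => Subtype.ext (autFun_mul _ _ (hJR x.2))

theorem autFun_restrictHom {R : Subgroup Ω} {Y : Subgroup (MulAut R)} {hJR : J ≤ R}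
    {h : ∀ a ∈ Y, ∀ x ∈ J, autFun a x ∈ J} (a : Y) {x : Ω} (hx : x ∈ J) :
    autFun (restrictHom Y J hJR h a) x = autFun (a : MulAut R) x :=
  autFun_apply _ hx

/-- The automorphisms of `Q C_S(Q)` in `F` stabilizing `Q`. -/
noncomputable def stabR (F : FusionSystem S) (Q : Subgroup Ω) :
    Subgroup (MulAut (base S Q)) where
  carrier := {a | a ∈ F.autGroup (base S Q) ∧ ∀ x ∈ base S Q, (x ∈ Q ↔ autFun a x ∈ Q)}
  one_mem' := ⟨one_mem _, fun x hx => by rw [autFun_one hx]⟩
  mul_mem' := fun {a b} ha hb => ⟨mul_mem ha.1 hb.1, fun x hx => by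
    rw [autFun_mul _ _ hx, ← ha.2 _ (autFun_mem b hx)]; exact hb.2 x hx⟩
  inv_mem' := fun {a} ha => ⟨inv_mem ha.1, fun x hx => by
    rw [ha.2 _ (autFun_mem a⁻¹ hx), autFun_inv_apply a hx]⟩

variable {a b : MulAut (base S Q)}

theorem stab_mem (ha : a ∈ stabR F Q) {x : Ω} (hx : x ∈ Q) : autFun a x ∈ Q :=
  (ha.2 x (Subgroup.mem_sup_left hx)).1 hx

theorem stab_cent (ha : a ∈ stabR F Q) {y : Ω} (hy : y ∈ centralizerIn S Q) :
    autFun a y ∈ centralizerIn S Q := by
  have hyR : y ∈ base S Q := Subgroup.mem_sup_right hy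
  have hS : base S Q ≤ S ⊔ Q := sup_le le_sup_right (inf_le_left.trans le_sup_left)
  have hRS : autFun a y ∈ S := by
    by_cases hR : base S Q ≤ S
    · exact hR (autFun_mem a hyR)
    · have : F.autGroup (base S Q) = ⊥ := by
        rw [FusionSystem.autGroup, Subgroup.closure_eq_bot_iff]
        intro α hα
        exact absurd (F.le_of_mem hα).1 hR
      have h1 : a = 1 := Subgroup.mem_bot.1 (this ▸ ha.1)
      rw [h1, autFun_one hyR]
      exact hy.1
  refine ⟨hRS, Subgroup.mem_centralizer_iff.2 fun x hx => ?_⟩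
  have hxR : x ∈ base S Q := Subgroup.mem_sup_left hx
  have hx' : autFun a⁻¹ x ∈ Q := stab_mem ((stabR F Q).inv_mem ha) hx
  have h1 := Subgroup.mem_centralizer_iff.1 hy.2 _ hx'
  have h2 := congrArg (autFun a) h1
  rwa [autFun_map_mul a (autFun_mem _ hxR) hyR, autFun_map_mul a hyR (autFun_mem _ hxR),
    autFun_inv_apply a hxR] at h2

theorem zof_le_cent (hQS : Q ≤ S) : zof Q ≤ centralizerIn S Q := fun z hz => ⟨hQS hz.1, hz.2⟩

theorem stab_zof (hQS : Q ≤ S) (ha : a ∈ stabR F Q) {z : Ω} (hz : z ∈ zof Q) :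
    autFun a z ∈ zof Q :=
  ⟨stab_mem ha hz.1, (stab_cent ha (zof_le_cent hQS hz)).2⟩

theorem base_le (hQS : Q ≤ S) : base S Q ≤ S := sup_le hQS inf_le_left

theorem zof_comm {z x : Ω} (hz : z ∈ zof Q) (hx : x ∈ base S Q) : x * z = z * x := by
  have h : base S Q ≤ Subgroup.centralizer {z} := sup_le
    (fun q hq => Subgroup.mem_centralizer_singleton_iff.2
      (Subgroup.mem_centralizer_iff.1 hz.2 q hq))
    (fun y hy => Subgroup.mem_centralizer_singleton_iff.2
      (Subgroup.mem_centralizer_iff.1 hy.2 z hz.1).symm)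
  exact Subgroup.mem_centralizer_singleton_iff.1 (h hx)

theorem zof_le_centralizer : zof Q ≤ Subgroup.centralizer (base S Q : Set Ω) := fun _ hz =>
  Subgroup.mem_centralizer_iff.2 fun _ hx => zof_comm hz hx

/-- The automorphisms moving `C_S(Q)` only by the centre of `Q`. -/
noncomputable def dispR (F : FusionSystem S) (Q : Subgroup Ω) (hQS : Q ≤ S) :
    Subgroup (MulAut (base S Q)) where
  carrier := {a | a ∈ stabR F Q ∧ ∀ y ∈ centralizerIn S Q, y⁻¹ * autFun a y ∈ zof Q}
  one_mem' := ⟨one_mem _, fun y hy => by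
    rw [autFun_one (Subgroup.mem_sup_right hy), inv_mul_cancel]; exact one_mem _⟩
  mul_mem' := fun {a b} ha hb => ⟨mul_mem ha.1 hb.1, fun y hy => by
    have hyR : y ∈ base S Q := Subgroup.mem_sup_right hy
    have hz := hb.2 y hy
    rw [autFun_mul _ _ hyR, show autFun b y = y * (y⁻¹ * autFun b y) by group,
      autFun_map_mul a hyR (Subgroup.mem_sup_left hz.1), ← mul_assoc]
    exact mul_mem (ha.2 y hy) (stab_zof hQS ha.1 hz)⟩
  inv_mem' := fun {a} ha => ⟨inv_mem ha.1, fun y hy => by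
    have h := ha.2 _ (stab_cent (inv_mem ha.1) hy)
    rw [autFun_inv_apply a (Subgroup.mem_sup_right hy)] at h
    have h' := inv_mem h
    rwa [mul_inv_rev, inv_inv] at h'⟩

theorem dispR_conj {hQS : Q ≤ S} (hn : a ∈ stabR F Q) (hk : b ∈ dispR F Q hQS) :
    a * b * a⁻¹ ∈ dispR F Q hQS := by
  refine ⟨mul_mem (mul_mem hn hk.1) (inv_mem hn), fun y hy => ?_⟩
  have hyR : y ∈ base S Q := Subgroup.mem_sup_right hy
  have hy' := stab_cent (inv_mem hn) hy
  have hz := hk.2 _ hy'
  have hyR' : autFun a⁻¹ y ∈ base S Q := autFun_mem _ hyR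
  rw [autFun_mul _ _ hyR, autFun_mul _ _ hyR',
    show autFun b (autFun a⁻¹ y) = autFun a⁻¹ y * ((autFun a⁻¹ y)⁻¹ * autFun b (autFun a⁻¹ y)) by
      group,
    autFun_map_mul a hyR' (Subgroup.mem_sup_left hz.1), autFun_inv_apply a hyR,
    inv_mul_cancel_left]
  exact stab_zof hQS hn hz

theorem mem_normalizer_base (hTS : T ≤ S) {t : Ω} (ht : t ∈ normalizerIn T Q) :
    t ∈ Subgroup.normalizer (base S Q : Set Ω) := by
  have key : ∀ s ∈ normalizerIn T Q, ∀ x ∈ base S Q, s * x * s⁻¹ ∈ base S Q := by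
    intro s hs x hx
    have h : base S Q ≤ (base S Q).comap (MulAut.conj s).toMonoidHom := by
      refine sup_le (fun q hq => Subgroup.mem_sup_left ((Subgroup.mem_normalizer_iff.1 hs.2 q).1 hq))
        (fun y hy => Subgroup.mem_sup_right ⟨S.mul_mem (S.mul_mem (hTS hs.1) hy.1)
          (S.inv_mem (hTS hs.1)), Subgroup.mem_centralizer_iff.2 fun q hq => ?_⟩)
      have hq' := (Subgroup.mem_normalizer_iff.1 (inv_mem hs.2) q).1 hq
      have h1 := Subgroup.mem_centralizer_iff.1 hy.2 _ hq'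
      rw [inv_inv] at h1
      show q * (s * y * s⁻¹) = s * y * s⁻¹ * q
      calc q * (s * y * s⁻¹) = s * (s⁻¹ * q * s * y) * s⁻¹ := by group
        _ = s * (y * (s⁻¹ * q * s)) * s⁻¹ := by rw [h1]
        _ = _ := by group
    exact h hx
  rw [Subgroup.mem_normalizer_iff]
  refine fun x => ⟨key t ht x, fun hx => ?_⟩
  have h := key t⁻¹ (inv_mem ht) _ hx
  simpa [mul_assoc] using h

/-- `a` is conjugation by `t`. -/
def IsConjBy {R : Subgroup Ω} (a : MulAut R) (t : Ω) : Prop :=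
  ∀ x ∈ R, autFun a x = t * x * t⁻¹

theorem isConjBy_conjAut {R : Subgroup Ω} {t : Ω} (h : t ∈ Subgroup.normalizer (R : Set Ω)) :
    IsConjBy (conjAut t h) t := fun _ hx => autFun_conjAut h hx

/-- The displacement of `y` by `a`. -/
noncomputable def disp {R : Subgroup Ω} (a : MulAut R) (y : Ω) : Ω := y⁻¹ * autFun a y

theorem IsConjBy.pow {R : Subgroup Ω} {a : MulAut R} {t : Ω} (h : IsConjBy a t) :
    ∀ m : ℕ, IsConjBy (a ^ m) (t ^ m)
  | 0 => fun x hx => by rw [pow_zero, pow_zero, autFun_one hx]; simp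
  | m + 1 => fun x hx => by
    rw [pow_succ', pow_succ', autFun_mul _ _ hx, h _ (autFun_mem _ hx), IsConjBy.pow h m x hx]
    group

theorem cent_mem_normal (hTS : T ≤ S) (hT : F.StronglyClosed T) {t y : Ω}
    (ht : t ∈ normalizerIn T Q) (hy : y ∈ centralizerIn S Q) :
    y⁻¹ * (t * y * t⁻¹) ∈ centralizerIn T Q := by
  refine ⟨?_, ?_⟩
  · rw [show y⁻¹ * (t * y * t⁻¹) = (y⁻¹ * t * y⁻¹⁻¹) * t⁻¹ by group]
    exact mul_mem ((Subgroup.mem_normalizer_iff.1
      (le_normalizerIn_of_stronglyClosed hT (S.inv_mem hy.1)).2 t).1 ht.1) (T.inv_mem ht.1)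
  · have hconj : t * y * t⁻¹ ∈ Subgroup.centralizer (Q : Set Ω) := by
      refine Subgroup.mem_centralizer_iff.2 fun q hq => ?_
      have hq' := (Subgroup.mem_normalizer_iff.1 (inv_mem ht.2) q).1 hq
      have h1 := Subgroup.mem_centralizer_iff.1 hy.2 _ hq'
      rw [inv_inv] at h1
      calc q * (t * y * t⁻¹) = t * (t⁻¹ * q * t * y) * t⁻¹ := by group
        _ = t * (y * (t⁻¹ * q * t)) * t⁻¹ := by rw [h1]
        _ = _ := by group
    exact Subgroup.mul_mem _ (Subgroup.inv_mem _ hy.2) hconj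

/-- The hypotheses on `Q`. -/
structure Local (F : FusionSystem S) (E : FusionSystem T) (p : ℕ) (Q : Subgroup Ω) : Prop where
  isPGroup : IsPGroup p S
  sat : F.IsSaturated p
  satE : E.IsSaturated p
  closed : F.StronglyClosed T
  sub : E.IsSubsystemOf F
  strong : StrongInv E F
  le : Q ≤ T
  normalized : F.IsFullyNormalized Q
  selfCent : centralizerIn T Q ≤ Q

/-- The generators: conjugates of conjugations by `N_T(Q)`. -/
def liftGens (F : FusionSystem S) (T Q : Subgroup Ω) : Set (MulAut (base S Q)) :=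
  {a | ∃ n ∈ stabR F Q, ∃ t ∈ normalizerIn T Q, ∃ b, IsConjBy b t ∧ a = n * b * n⁻¹}

/-- The canonical lift. -/
noncomputable def lift (F : FusionSystem S) (T Q : Subgroup Ω) :
    Subgroup (MulAut (base S Q)) :=
  Subgroup.closure (liftGens F T Q)

section Facts

variable [Finite S] [Fact p.Prime] (h : Local F E p Q)

include h

theorem Local.hTS : T ≤ S := h.closed.1

theorem Local.hQS : Q ≤ S := h.le.trans h.hTS

theorem Local.cent_le_zof : centralizerIn T Q ≤ zof Q := le_inf h.selfCent inf_le_right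

theorem Local.conj_mem {t : Ω} (ht : t ∈ normalizerIn T Q) (hb : IsConjBy b t) :
    b ∈ dispR F Q h.hQS := by
  refine ⟨⟨?_, fun x hx => ?_⟩, fun y hy => ?_⟩
  · exact (mem_autGroup_iff (base_le h.hQS)).2
      ((isMap_conj (base_le h.hQS) (h.hTS ht.1)).congr hb)
  · rw [hb x hx]
    exact Subgroup.mem_normalizer_iff.1 ht.2 x
  · rw [hb y (Subgroup.mem_sup_right hy)]
    exact h.cent_le_zof (cent_mem_normal h.hTS h.closed ht hy)

theorem Local.lift_le : lift F T Q ≤ dispR F Q h.hQS := by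
  refine (Subgroup.closure_le _).2 ?_
  rintro a ⟨n, hn, t, ht, b, hb, rfl⟩
  exact dispR_conj hn (h.conj_mem ht hb)

theorem Local.lift_stab {γ : MulAut (base S Q)} (hγ : γ ∈ lift F T Q) : γ ∈ stabR F Q :=
  (h.lift_le hγ).1

theorem Local.tAut_exists {t : Ω} (ht : t ∈ normalizerIn T Q) :
    ∃ b ∈ lift F T Q, IsConjBy b t :=
  ⟨_, Subgroup.subset_closure ⟨1, one_mem _, t, ht, _,
      isConjBy_conjAut (mem_normalizer_base h.hTS ht), by group⟩,
    isConjBy_conjAut (mem_normalizer_base h.hTS ht)⟩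

/-- An automorphism fixing `Q` moving `C_S(Q)` by the centre is conjugation by `C_S(Q)`. -/
theorem Local.exists_conj_of_fix (ha : a ∈ dispR F Q h.hQS) (hfix : ∀ x ∈ Q, autFun a x = x) :
    ∃ y ∈ centralizerIn S Q, IsConjBy a y := by
  have hQR : Q ≤ base S Q := le_sup_left
  have hCR : centralizerIn S Q ≤ base S Q := le_sup_right
  have hRS := base_le h.hQS
  haveI := finite_of_le hRS
  haveI := finite_mulAut (P := base S Q)
  have hall : ∀ x ∈ base S Q, x⁻¹ * autFun a x ∈ zof Q := by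
    let L : Subgroup Ω :=
      { carrier := {x | x ∈ base S Q ∧ x⁻¹ * autFun a x ∈ zof Q}
        one_mem' := ⟨one_mem _, by
          rw [((mem_autGroup_iff hRS).1 ha.1.1).map_one, inv_mul_cancel]; exact one_mem _⟩
        mul_mem' := fun {u v} ⟨hu, hu'⟩ ⟨hv, hv'⟩ => ⟨mul_mem hu hv, by
          have e : (u * v)⁻¹ * autFun a (u * v) = v⁻¹ * (u⁻¹ * autFun a u) * autFun a v := by
            rw [autFun_map_mul a hu hv]; group
          rw [e, zof_comm hu' (inv_mem hv), mul_assoc]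
          exact mul_mem hu' hv'⟩
        inv_mem' := fun {u} ⟨hu, hu'⟩ => ⟨inv_mem hu, by
          rw [((mem_autGroup_iff hRS).1 ha.1.1).map_inv hu, inv_inv]
          have e : u * (autFun a u)⁻¹ = u * ((u⁻¹ * autFun a u)⁻¹ * u⁻¹) := by group
          rw [e, ← zof_comm (inv_mem hu') (inv_mem hu), ← mul_assoc, mul_inv_cancel, one_mul]
          exact inv_mem hu'⟩ }
    have hL : base S Q ≤ L := sup_le (fun x hx => ⟨hQR hx, by
      rw [hfix x hx, inv_mul_cancel]; exact one_mem _⟩) (fun x hx => ⟨hCR hx, ha.2 x hx⟩)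
    exact fun x hx => (hL hx).2
  obtain ⟨j, hj⟩ := CentFocal.isPGroup_stab (F := F) (hQW := hQR) (hZ := zof_le_centralizer)
    h.isPGroup hRS ⟨a, ha.1.1, hfix, hall⟩
  obtain ⟨θ, hθ, -, hθA⟩ := exists_conj_pAut h.isPGroup h.sat hRS
    (isPGroup_zpowers_of_pow (congrArg Subtype.val hj)) (Subgroup.zpowers_le.2 ha.1.1)
  obtain ⟨s, ⟨hsS, -⟩, hs⟩ := hθA a (Subgroup.mem_zpowers a)
  have hθQ := hθ.mono hQR
  have hθC := hθ.mono hCR
  have hfc := IsSaturated.isFullyCentralized h.isPGroup h.sat h.normalized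
  have hCimg : img (centralizerIn S Q) θ = centralizerIn S (img Q θ) := by
    refine eq_of_le_of_card_le inf_le_left (fun w hw => ?_)
      (hθC.card_img.symm ▸ hfc.2 _ (isConj_iff.2 ⟨θ, hθQ, rfl⟩))
    obtain ⟨y, hy, rfl⟩ := hθC.mem_img.1 hw
    exact map_mem_centralizerIn hθ hQR (hCR hy) hy.2
  have hsC : s ∈ centralizerIn S (img Q θ) := by
    refine ⟨hsS, Subgroup.mem_centralizer_iff.2 fun w hw => ?_⟩
    obtain ⟨q, hq, rfl⟩ := hθQ.mem_img.1 hw
    have h1 := hs q (hQR hq)
    rw [hfix q hq] at h1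
    conv_lhs => rw [h1]
    group
  rw [← hCimg] at hsC
  obtain ⟨y, hy, rfl⟩ := hθC.mem_img.1 hsC
  refine ⟨y, hy, fun x hx => hθ.inj (autFun_mem a hx) ?_ ?_⟩
  · exact mul_mem (mul_mem (hCR hy) hx) (inv_mem (hCR hy))
  · rw [hs x hx, hθ.map_conj (hCR hy) hx]

theorem Local.comm_conj {y t : Ω} (hy : y ∈ centralizerIn S Q) (ha : IsConjBy a y)
    (ht : t ∈ normalizerIn T Q) (hb : IsConjBy b t) : Commute a b := by
  refine autFun_ext fun x hx => ?_
  rw [autFun_mul _ _ hx, autFun_mul _ _ hx, ha _ (autFun_mem b hx), hb x hx,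
    hb _ (autFun_mem a hx), ha x hx]
  set z := y⁻¹ * (t * y * t⁻¹) with hz
  have hzZ := h.cent_le_zof (cent_mem_normal h.hTS h.closed ht hy)
  have hw := zof_comm hzZ (((Subgroup.mem_normalizer_iff.1
    (mem_normalizer_base h.hTS ht)) x).1 hx)
  rw [← hz] at hw
  calc y * (t * x * t⁻¹) * y⁻¹ = y * (t * x * t⁻¹ * z) * z⁻¹ * y⁻¹ := by group
    _ = y * (z * (t * x * t⁻¹)) * z⁻¹ * y⁻¹ := by rw [hw]
    _ = t * (y * x * y⁻¹) * t⁻¹ := by rw [hz]; group

theorem Local.comm_lift (ha : a ∈ dispR F Q h.hQS) (hfix : ∀ x ∈ Q, autFun a x = x)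
    {γ : MulAut (base S Q)} (hγ : γ ∈ lift F T Q) : Commute a γ := by
  have hle : lift F T Q ≤ Subgroup.centralizer {a} := by
    refine (Subgroup.closure_le _).2 ?_
    rintro g ⟨n, hn, t, ht, b, hb, rfl⟩
    have hn' : n⁻¹ ∈ stabR F Q := inv_mem hn
    have hmem : n⁻¹ * a * n ∈ dispR F Q h.hQS := by
      have := dispR_conj hn' ha
      rwa [inv_inv] at this
    have hfix' : ∀ x ∈ Q, autFun (n⁻¹ * a * n) x = x := fun x hx => by
      have hxR : x ∈ base S Q := Subgroup.mem_sup_left hx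
      rw [autFun_mul _ _ hxR, autFun_mul _ _ (autFun_mem n hxR), hfix _ (stab_mem hn hx),
        autFun_map_inv n hxR]
    obtain ⟨y, hy, hya⟩ := h.exists_conj_of_fix hmem hfix'
    have hc := (h.comm_conj hy hya ht hb).eq
    refine Subgroup.mem_centralizer_singleton_iff.2 ?_
    calc n * b * n⁻¹ * a = n * (b * (n⁻¹ * a * n)) * n⁻¹ := by group
      _ = n * (n⁻¹ * a * n * b) * n⁻¹ := by rw [hc]
      _ = a * (n * b * n⁻¹) := by group
  exact (Subgroup.mem_centralizer_singleton_iff.1 (hle hγ)).symm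

theorem Local.isFullyCentralized_base : F.IsFullyCentralized (base S Q) := by
  have hRS := base_le (S := S) h.hQS
  have hfc := IsSaturated.isFullyCentralized h.isPGroup h.sat h.normalized
  refine isFullyCentralized_of_isCentric ⟨hRS, fun R hR => ?_⟩
  obtain ⟨θ, hθ, rfl⟩ := isConj_iff.1 hR
  have hθQ := hθ.mono (le_sup_left : Q ≤ base S Q)
  have hθC := hθ.mono (le_sup_right : centralizerIn S Q ≤ base S Q)
  have hCimg : img (centralizerIn S Q) θ = centralizerIn S (img Q θ) := by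
    refine eq_of_le_of_card_le inf_le_left (fun w hw => ?_)
      (hθC.card_img.symm ▸ hfc.2 _ (isConj_iff.2 ⟨θ, hθQ, rfl⟩))
    obtain ⟨y, hy, rfl⟩ := hθC.mem_img.1 hw
    exact map_mem_centralizerIn hθ le_sup_left (Subgroup.mem_sup_right hy) hy.2
  intro w hw
  have : w ∈ img (centralizerIn S Q) θ := hCimg.ge ⟨hw.1, Subgroup.centralizer_le
    (hθ.img_mono (le_sup_left : Q ≤ base S Q)) hw.2⟩
  exact hθ.img_mono (le_sup_right : centralizerIn S Q ≤ base S Q) this

/-- The conjugations by `N_T(Q)` are strongly closed among those by `S`. -/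
theorem Local.closed_conj {n : MulAut (base S Q)} (hn : n ∈ stabR F Q) {t s : Ω}
    (ht : t ∈ normalizerIn T Q) (hb : IsConjBy b t) (hs : s ∈ S)
    (hconj : IsConjBy (n * b * n⁻¹) s) :
    ∃ t' ∈ normalizerIn T Q, IsConjBy (n * b * n⁻¹) t' := by
  have hRS := base_le (S := S) h.hQS
  have hm := (mem_autGroup_iff hRS).1 hn.1
  obtain ⟨g, hg, hgn⟩ := (isReceptive_iff.1 (IsSaturated.isReceptive h.isPGroup h.sat
    h.isFullyCentralized_base)).2 _ (autFun n) hm (img_autFun n)
  have hN := mem_normalizer_base (Q := Q) h.hTS ht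
  have htext : t ∈ extSub S (base S Q) (autFun n) := by
    refine ⟨⟨h.hTS ht.1, hN⟩, s, hs, fun x hx => ?_⟩
    rw [← hb x hx, ← hconj _ (autFun_mem n hx), autFun_mul _ _ (autFun_mem n hx),
      autFun_mul _ _ (autFun_mem _ (autFun_mem n hx)), autFun_map_inv n hx]
  have hgT : g t ∈ T := (stronglyClosed_iff.1 h.closed).2 (Subgroup.zpowers t) g
    (Subgroup.zpowers_le.2 ht.1) (hg.mono (Subgroup.zpowers_le.2 htext)) t
    (Subgroup.mem_zpowers t)
  have hRe : base S Q ≤ extSub S (base S Q) (autFun n) := le_extSub hm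
  have hQe : Q ≤ extSub S (base S Q) (autFun n) := le_sup_left.trans hRe
  have hgQ : img Q g = Q := img_eq_of_map_le h.hQS hg hQe fun x hx => by
    rw [hgn x (Subgroup.mem_sup_left hx)]; exact stab_mem hn hx
  refine ⟨g t, ⟨hgT, ?_⟩, fun x hx => ?_⟩
  · have := map_mem_normalizerIn hg hQe htext ht.2
    rw [hgQ] at this
    exact this.2
  · have hx' : autFun n⁻¹ x ∈ base S Q := autFun_mem _ hx
    rw [autFun_mul _ _ hx, autFun_mul _ _ hx', hb _ hx',
      ← hgn _ ((Subgroup.mem_normalizer_iff.1 hN _).1 hx'), hg.map_conj htext (hRe hx'),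
      hgn _ hx', autFun_inv_apply n hx]

end Facts

section Image

variable [Finite S] [Fact p.Prime] (h : Local F E p Q)

include h

/-- Restriction of the lift to `Q`. -/
noncomputable def Local.res : lift F T Q →* MulAut Q :=
  restrictHom (lift F T Q) Q le_sup_left fun _ ha _ hx => stab_mem (h.lift_stab ha) hx

theorem Local.autFun_res (γ : lift F T Q) {x : Ω} (hx : x ∈ Q) :
    autFun (h.res γ) x = autFun (γ : MulAut (base S Q)) x :=
  autFun_restrictHom γ hx

theorem Local.res_mem (γ : lift F T Q) : h.res γ ∈ F.autGroup Q :=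
  (mem_autGroup_iff h.hQS).2
    ((((mem_autGroup_iff (base_le h.hQS)).1 (h.lift_stab γ.2).1).mono le_sup_left).congr
      fun _ hx => h.autFun_res γ hx)

/-- Restrictions of the lift lie in the automizer of `E`. -/
theorem Local.res_range : h.res.range ≤ E.autGroup Q := by
  rintro δ ⟨⟨γ, hγ⟩, rfl⟩
  have hQS := h.hQS
  have hRS := base_le (S := S) hQS
  induction hγ using Subgroup.closure_induction with
  | mem g hg =>
    obtain ⟨n, hn, t, ht, b, hb, rfl⟩ := hg
    have hnQ : ∀ x ∈ Q, autFun n x ∈ Q := fun x hx => stab_mem hn hx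
    have hnm := ((mem_autGroup_iff hRS).1 hn.1).mono (le_sup_left : Q ≤ base S Q)
    have hn0 := autOf_mem hnm (img_eq_of_map_le hQS hnm le_rfl hnQ)
    have hc : conjAut t ht.2 ∈ E.autGroup Q := (mem_autGroup_iff h.le).2
      ((isMap_conj (F := E) h.le ht.1).congr fun x hx => autFun_conjAut ht.2 hx)
    have hEs := h.strong Q Q (autFun (conjAut t ht.2)) _ le_rfl h.le
      ((mem_autGroup_iff h.le).1 hc) (fun x hx => autFun_mem _ hx) hnm
    obtain ⟨k, hk, hke⟩ := hEs
    rw [img_eq_of_map_le hQS hnm le_rfl hnQ] at hk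
    refine (mem_autGroup_iff h.le).2 (hk.congr fun x hx => ?_)
    have hxR : x ∈ base S Q := Subgroup.mem_sup_left hx
    have hx' : autFun n⁻¹ x ∈ Q := stab_mem (inv_mem hn) hx
    have e := hke _ hx'
    rw [autFun_inv_apply n hxR] at e
    rw [e, autFun_conjAut ht.2 hx', h.autFun_res _ hx]
    show autFun (n * b * n⁻¹) x = _
    rw [autFun_mul _ _ hxR, autFun_mul _ _ (autFun_mem _ hxR), hb _ (autFun_mem _ hxR)]
  | one => rw [show (⟨1, _⟩ : lift F T Q) = 1 from rfl, map_one]; exact one_mem _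
  | mul u v hu hv ihu ihv =>
    rw [show (⟨u * v, _⟩ : lift F T Q) = ⟨u, hu⟩ * ⟨v, hv⟩ from rfl, map_mul]
    exact mul_mem ihu ihv
  | inv u hu ihu =>
    rw [show (⟨u⁻¹, _⟩ : lift F T Q) = (⟨u, hu⟩ : lift F T Q)⁻¹ from rfl, map_inv]
    exact inv_mem ihu

theorem Local.autInducedBy_le_range : autInducedBy T Q ≤ h.res.range := by
  intro δ hδ
  obtain ⟨t, ht, hte⟩ := mem_autInducedBy_iff.1 hδ
  obtain ⟨b, hb, hbt⟩ := h.tAut_exists ⟨ht, mem_normalizer_of_autFun hte⟩
  refine ⟨⟨b, hb⟩, autFun_ext fun x hx => ?_⟩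
  rw [h.autFun_res _ hx, hte x hx]
  exact hbt x (Subgroup.mem_sup_left hx)

theorem Local.not_dvd_relIndex : ¬ p ∣ (autInducedBy T Q).relIndex h.res.range := by
  haveI := finite_of_le h.hTS
  obtain ⟨-, hi⟩ := (isFullyAutomized_iff (h.isPGroup.to_le h.hTS)).1
    (IsSaturated.automized_receptive (h.isPGroup.to_le h.hTS) h.satE
      (isFullyNormalized_of_stronglyClosed h.isPGroup h.sat h.closed h.sub h.le h.normalized)).1
  intro hd
  apply hi
  rw [← Subgroup.relIndex_mul_relIndex _ _ _ h.autInducedBy_le_range h.res_range]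
  exact hd.mul_right _

/-- The lift has no nontrivial element fixing `Q`. -/
theorem Local.res_injective : Function.Injective h.res := by
  haveI := finite_of_le h.hTS
  haveI := finite_of_le (base_le (S := S) h.hQS)
  haveI := finite_mulAut (P := base S Q)
  have hfix : ∀ γ : lift F T Q, γ ∈ h.res.ker → ∀ x ∈ Q, autFun (γ : MulAut (base S Q)) x = x :=
    fun γ hγ x hx => by rw [← h.autFun_res γ hx, MonoidHom.mem_ker.1 hγ, autFun_one hx]
  have hKc : h.res.ker ≤ Subgroup.center (lift F T Q) := fun γ hγ =>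
    Subgroup.mem_center_iff.2 fun g =>
      Subtype.ext (h.comm_lift (h.lift_le γ.2) (hfix γ hγ) g.2).eq.symm
  -- the conjugations by `N_T(Q)`
  let A : Subgroup (lift F T Q) :=
    { carrier := {γ | ∃ t ∈ normalizerIn T Q, IsConjBy (γ : MulAut (base S Q)) t}
      one_mem' := ⟨1, one_mem _, fun x hx => by
        rw [Subgroup.coe_one, autFun_one hx]; simp⟩
      mul_mem' := fun {u v} ⟨t, ht, hu⟩ ⟨s, hs, hv⟩ => ⟨t * s, mul_mem ht hs, fun x hx => by
        rw [Subgroup.coe_mul, autFun_mul _ _ hx, hu _ (autFun_mem _ hx), hv x hx]; group⟩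
      inv_mem' := fun {u} ⟨t, ht, hu⟩ => ⟨t⁻¹, inv_mem ht, fun x hx => by
        have hx' := autFun_mem (u : MulAut (base S Q))⁻¹ hx
        have e := hu _ hx'
        rw [autFun_inv_apply _ hx] at e
        rw [Subgroup.coe_inv]
        conv_rhs => rw [e]
        group⟩ }
  have hAK : A ⊓ h.res.ker = ⊥ := by
    refine (Subgroup.eq_bot_iff_forall _).2 fun γ hγ => ?_
    obtain ⟨t, ht, htγ⟩ := (Subgroup.mem_inf.1 hγ).1
    have htC : t ∈ centralizerIn T Q := ⟨ht.1, Subgroup.mem_centralizer_iff.2 fun q hq => by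
      have e := htγ q (Subgroup.mem_sup_left hq)
      rw [hfix γ (Subgroup.mem_inf.1 hγ).2 q hq] at e
      conv_lhs => rw [e]
      group⟩
    refine Subtype.ext (autFun_ext fun x hx => ?_)
    rw [htγ x hx, Subgroup.coe_one, autFun_one hx, ← zof_comm (h.cent_le_zof htC) hx]
    group
  have hP : A ⊔ h.res.ker = (autInducedBy T Q).comap h.res := by
    refine le_antisymm (sup_le ?_ ?_) ?_
    · rintro γ ⟨t, ht, htγ⟩
      refine mem_autInducedBy_iff.2 ⟨t, ht.1, fun x hx => ?_⟩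
      rw [h.autFun_res γ hx]
      exact htγ x (Subgroup.mem_sup_left hx)
    · intro γ hγ
      show h.res γ ∈ autInducedBy T Q
      rw [MonoidHom.mem_ker.1 hγ]
      exact one_mem _
    · intro γ hγ
      obtain ⟨t, ht, hte⟩ := mem_autInducedBy_iff.1 hγ
      obtain ⟨b, hb, hbt⟩ := h.tAut_exists ⟨ht, mem_normalizer_of_autFun hte⟩
      have h1 : (⟨b, hb⟩ : lift F T Q) ∈ A := ⟨t, ⟨ht, mem_normalizer_of_autFun hte⟩, hbt⟩
      have h2 : (⟨b, hb⟩ : lift F T Q)⁻¹ * γ ∈ h.res.ker := by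
        rw [MonoidHom.mem_ker, map_mul, map_inv, inv_mul_eq_one]
        refine autFun_ext fun x hx => ?_
        rw [h.autFun_res _ hx, hte x hx]
        exact hbt x (Subgroup.mem_sup_left hx)
      rw [show γ = ⟨b, hb⟩ * ((⟨b, hb⟩ : lift F T Q)⁻¹ * γ) by group]
      exact Subgroup.mul_mem_sup h1 h2
  have hi : ¬ p ∣ (A ⊔ h.res.ker).index := by
    rw [hP, Subgroup.index_comap]
    exact h.not_dvd_relIndex
  have hKp : IsPGroup p h.res.ker := by
    have hRS := base_le (S := S) h.hQS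
    intro k
    obtain ⟨y, hy, hky⟩ := h.exists_conj_of_fix (h.lift_le (k : lift F T Q).2) (hfix _ k.2)
    obtain ⟨j, hj⟩ := h.isPGroup ⟨y, hy.1⟩
    refine ⟨j, Subtype.ext (Subtype.ext (autFun_ext fun x hx => ?_))⟩
    have key : ∀ m : ℕ, autFun (((k : lift F T Q) : MulAut (base S Q)) ^ m) x =
        y ^ m * x * (y ^ m)⁻¹ := by
      intro m
      induction m with
      | zero => simp [autFun_one hx]
      | succ m ih =>
        rw [pow_succ', autFun_mul _ _ hx, ih, hky _ (ih ▸ autFun_mem _ hx), pow_succ']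
        group
    simp only [SubmonoidClass.coe_pow, Subgroup.coe_one]
    rw [key, autFun_one hx, show y ^ p ^ j = 1 from congrArg Subtype.val hj]
    simp
  let gens : Set (lift F T Q) := (Subtype.val : lift F T Q → MulAut (base S Q)) ⁻¹' liftGens F T Q
  have hgen : Subgroup.closure gens = ⊤ := Subgroup.closure_closure_coe_preimage
  have hbot : h.res.ker = ⊥ := by
    refine eq_bot_of_central_avoid hKc hKp hAK hi gens hgen ?_
    rintro g ⟨n, hn, t, ht, b, hb, hg⟩ x m hmem
    -- write the conjugate of the power as a conjugate of a conjugation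
    have hx := h.lift_stab x.2
    set n' := (x : MulAut (base S Q))⁻¹ * n with hn'
    have hn'm : n' ∈ stabR F Q := mul_mem (inv_mem hx) hn
    have htm : t ^ m ∈ normalizerIn T Q := pow_mem ht m
    have hbm : IsConjBy (b ^ m) (t ^ m) := hb.pow m
    have e : ((x⁻¹ * g ^ m * x : lift F T Q) : MulAut (base S Q)) = n' * b ^ m * n'⁻¹ := by
      rw [Subgroup.coe_mul, Subgroup.coe_mul, Subgroup.coe_inv, SubmonoidClass.coe_pow, hg,
        conj_pow, hn']
      group
    obtain ⟨t', ht', hk⟩ : ∃ t' ∈ normalizerIn T Q,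
        ∃ k ∈ h.res.ker, ∃ a ∈ A, IsConjBy (a : MulAut (base S Q)) t' ∧
          x⁻¹ * g ^ m * x = a * k := by
      haveI : h.res.ker.Normal := inferInstance
      have : (x⁻¹ * g ^ m * x) ∈ ((A : Set (lift F T Q)) * (h.res.ker : Set (lift F T Q))) := by
        rw [← Subgroup.mul_normal]; exact hmem
      obtain ⟨a, ⟨t', ht', hat⟩, k, hk, hak⟩ := Set.mem_mul.1 this
      exact ⟨t', ht', k, hk, a, ⟨t', ht', hat⟩, hat, hak.symm⟩
    obtain ⟨k, hkK, a, -, hat, hak⟩ := hk
    obtain ⟨y, hy, hky⟩ := h.exists_conj_of_fix (h.lift_le k.2) (hfix k hkK)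
    have hconj : IsConjBy (n' * b ^ m * n'⁻¹) (t' * y) := fun z hz => by
      rw [← e, hak, Subgroup.coe_mul, autFun_mul _ _ hz, hat _ (autFun_mem _ hz), hky z hz]
      group
    obtain ⟨t'', ht'', hc⟩ := h.closed_conj hn'm htm hbm (S.mul_mem (h.hTS ht'.1) hy.1) hconj
    exact ⟨t'', ht'', by rw [e]; exact hc⟩
  exact (MonoidHom.ker_eq_bot_iff _).1 hbot

theorem Local.eq_of_res {γ γ' : MulAut (base S Q)} (hγ : γ ∈ lift F T Q) (hγ' : γ' ∈ lift F T Q)
    (he : ∀ x ∈ Q, autFun γ x = autFun γ' x) : γ = γ' :=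
  congrArg Subtype.val (h.res_injective (a₁ := ⟨γ, hγ⟩) (a₂ := ⟨γ', hγ'⟩)
    (autFun_ext fun x hx => by rw [h.autFun_res _ hx, h.autFun_res _ hx]; exact he x hx))

end Image

end CfsgLib.Fusion.CentLift
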