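import Cfsg.Agent.Lib.Fusion.System.CentricMaps
import Cfsg.Agent.Lib.Fusion.System.Alperin

/-!
# Generation by automizers: essential classes, centralizers
-/

set_option autoImplicit false

open Subgroup
open scoped Classical

namespace CfsgLib.Fusion

open Cfsg (FusionSystem autInducedBy)
open Cfsg.FusionSystem (normalizerIn centralizerIn)

variable {Ω : Type*} [Group Ω] {S : Subgroup Ω} [Finite S] {F : FusionSystem S} {p : ℕ}
  [Fact p.Prime] {Q : Subgroup Ω}

theorem ne_self_of_isEssential (hS : IsPGroup p S) (hF : F.IsSaturated p)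
    (hQ : F.IsEssential p Q) : Q ≠ S := by
  rintro rfl
  obtain ⟨-, -, _, E, hE⟩ := hQ
  have h := ((isFullyAutomized_iff hS).1
    (IsSaturated.automized_receptive hS hF isFullyNormalized_self).1).2
  rw [← inn_eq_autInducedBy] at h
  exact h (by rw [Subgroup.relIndex, Subgroup.index_eq_card]; exact hE.1)

/-- The conjugacy class of an essential subgroup cannot be omitted. -/
theorem exists_omit_essential (hS : IsPGroup p S) (hF : F.IsSaturated p)
    (hQ : F.IsEssential p Q) :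
    ∃ E : FusionSystem S,
      (∀ R : Subgroup Ω, R ≤ S → ¬ F.IsConj Q R → F.autGroup R ≤ E.autGroup R) ∧ ¬ F ≤ E := by
  have hQS : Q ≤ S := hQ.2.1.1
  have hQlt : Q < S := lt_of_le_of_ne hQS (ne_self_of_isEssential hS hF hQ)
  obtain ⟨h₁, h₂⟩ := IsSaturated.automized_receptive hS hF hQ.2.1
  have hkey : ∀ R, F.IsConj Q R → ∃ g, IsMap F (normalizerIn S R) g ∧ img R g = Q ∧
      ∀ x ∈ normalizerIn S R, g x ∈ normalizerIn S Q :=
    fun R hR => exists_map_normalizer hS h₁ h₂ (isConj_symm hR)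
  choose! G hG hGimg hGN using hkey
  let C : Subgroup Ω → (Ω → Ω) → Prop := fun T f => ∃ β ∈ extGroup F Q,
    ∀ x ∈ T, autFun β (G T x) = G (img T f) (f x)
  have hGmem : ∀ T, F.IsConj Q T → ∀ x ∈ T, G T x ∈ Q := fun T hT x hx =>
    (hGimg T hT).le (((hG T hT).mono (le_normalizerIn (isConj_le hT).2)).mem_img.2 ⟨x, hx, rfl⟩)
  -- restrictions of maps from larger subgroups
  have hbig : ∀ {P : Subgroup Ω} {f : Ω → Ω}, IsMap F P f →
      ∀ T, T < P → F.IsConj Q T → C T f := by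
    intro P f hf T hTP hT
    haveI := finite_of_le hf.le
    haveI : Group.IsNilpotent P := (hS.to_le hf.le).isNilpotent
    set N := normalizerIn P T with hN
    have hlt : T < N := lt_inf_normalizer hTP.le hTP.ne
    have hNP : N ≤ P := inf_le_left
    have hNS : N ≤ normalizerIn S T := inf_le_inf_right _ hf.le
    have hT' : F.IsConj Q (img T f) :=
      isConj_trans hT (isConj_iff.2 ⟨f, hf.mono hTP.le, rfl⟩)
    have hfN : ∀ n ∈ N, f n ∈ normalizerIn S (img T f) := fun n hn =>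
      map_mem_normalizerIn hf hTP.le (hNP hn) hn.2
    have hgm := (hG T hT).mono hNS
    obtain ⟨g', hg', hg'1, hg'2⟩ := hgm.exists_inv
    have hfg : IsMap F N (G (img T f) ∘ f) := (hf.mono hNP).comp (hG _ hT') hfN
    have hh : IsMap F (img N (G T)) ((G (img T f) ∘ f) ∘ g') :=
      hg'.comp hfg fun y hy => (hg'2 y hy).1
    have hQle : Q ≤ img N (G T) := (hGimg T hT).ge.trans (hgm.img_mono hlt.le)
    have hQne : Q < img N (G T) := lt_of_le_of_ne hQle fun he => by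
      have h1 := card_lt_of_lt (hNP.trans hf.le) hlt
      rw [← hgm.card_img, ← he, ← hGimg T hT, (hgm.mono hlt.le).card_img] at h1
      exact lt_irrefl _ h1
    have hval : ∀ x ∈ T, ((G (img T f) ∘ f) ∘ g') (G T x) = G (img T f) (f x) := fun x hx => by
      show G (img T f) (f (g' (G T x))) = _
      rw [hg'1 x (hlt.le hx)]
    have himg : img Q ((G (img T f) ∘ f) ∘ g') = Q := by
      refine img_eq_of_map_le hQS (hh.mono hQle) le_rfl fun y hy => ?_
      obtain ⟨x, hx, rfl⟩ := (hgm.mono hlt.le).mem_img.1 ((hGimg T hT).ge hy)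
      rw [hval x hx]
      exact hGmem _ hT' _ ((hf.mono hTP.le).mem_img.2 ⟨x, hx, rfl⟩)
    refine ⟨autOf (hh.mono hQle) himg,
      mem_extGroup hQne hh fun y hy => (autFun_autOf (hh.mono hQle) himg hy).symm, fun x hx => ?_⟩
    rw [autFun_autOf (hh.mono hQle) himg (hGmem T hT x hx), hval x hx]
  let M : Subgroup Ω → (Ω → Ω) → Prop := fun P f =>
    IsMap F P f ∧ ∀ T, T ≤ P → F.IsConj Q T → C T f
  let E : FusionSystem S := mkSystem F S M
    (fun _ _ h => ⟨h.1, h.1.le, fun _ hx => h.1.mem_S hx⟩)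
    (fun P f g h he => ⟨h.1.congr he, fun T hTP hT => by
      obtain ⟨β, hβ, hβe⟩ := h.2 T hTP hT
      refine ⟨β, hβ, fun x hx => ?_⟩
      rw [hβe x hx, IsMap.img_congr (f := g) (g := f) fun y hy => he y (hTP hy), he x (hTP hx)]⟩)
    (fun P t hP ht => ⟨isMap_conj hP ht, fun T hTP hT => hbig (isMap_conj le_rfl ht) T
      (lt_of_le_of_ne (hTP.trans hP) fun he => hQlt.ne
        (eq_of_le_of_card_le le_rfl hQS (by rw [← he, isConj_card hT]))) hT⟩)
    (fun P R f g hf hg h => ⟨hf.1.comp hg.1 h, fun T hTP hT => by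
      have hfT := hf.1.mono hTP
      have hT' : F.IsConj Q (img T f) := isConj_trans hT (isConj_iff.2 ⟨f, hfT, rfl⟩)
      obtain ⟨β, hβ, hβe⟩ := hf.2 T hTP hT
      obtain ⟨γ, hγ, hγe⟩ := hg.2 (img T f)
        (hfT.img_le_of_forall fun x hx => h x (hTP hx)) hT'
      refine ⟨γ * β, mul_mem hγ hβ, fun x hx => ?_⟩
      rw [autFun_mul _ _ (hGmem T hT x hx), hβe x hx, hγe _ (hfT.mem_img.2 ⟨x, hx, rfl⟩),
        img_img hfT]
      rfl⟩)
    (fun P f f' hf hf' h => ⟨hf', fun T hTP hT => by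
      have hf'T := hf'.mono hTP
      have hff : ∀ y ∈ T, f (f' y) = y := fun y hy => by
        obtain ⟨x, hx, rfl⟩ := hf.1.mem_img.1 (hTP hy)
        rw [h x hx]
      have hTP' : img T f' ≤ P := hf'T.img_le_of_forall fun y hy => by
        obtain ⟨x, hx, rfl⟩ := hf.1.mem_img.1 (hTP hy)
        rwa [h x hx]
      have hT' : F.IsConj Q (img T f') := isConj_trans hT (isConj_iff.2 ⟨f', hf'T, rfl⟩)
      obtain ⟨β, hβ, hβe⟩ := hf.2 _ hTP' hT'
      refine ⟨β⁻¹, inv_mem hβ, fun y hy => ?_⟩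
      have h1 := hβe (f' y) (hf'T.mem_img.2 ⟨y, hy, rfl⟩)
      rw [hff y hy, img_img hf'T, IsMap.img_congr (f := f ∘ f') (g := id) hff, img_id] at h1
      rw [← h1, ← autFun_mul _ _ (hGmem _ hT' _ (hf'T.mem_img.2 ⟨y, hy, rfl⟩)),
        inv_mul_cancel, autFun_one (hGmem _ hT' _ (hf'T.mem_img.2 ⟨y, hy, rfl⟩))]⟩)
  refine ⟨E, fun R hR hRQ α hα => ?_, fun hle => ?_⟩
  · have hm := (mem_autGroup_iff hR).1 hα
    refine (mem_autGroup_iff hR).2 ((isMap_mkSystem_iff _).2 ⟨hm, fun T hTR hT =>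
      hbig hm T (lt_of_le_of_ne hTR ?_) hT⟩)
    rintro rfl
    exact hRQ hT
  · refine extGroup_ne_autGroup hS hF hQ (le_antisymm (extGroup_le_autGroup hQS) fun α hα => ?_)
    have hm := (mem_autGroup_iff hQS).1 hα
    obtain ⟨φ, hφ, hφe⟩ := hm
    obtain ⟨-, hC⟩ := (isMap_mkSystem_iff _).1
      (show IsMap E Q (autFun α) from ⟨φ, hle Q hφ, hφe⟩)
    have hself : F.IsConj Q Q := isConj_refl hQS
    obtain ⟨β, hβ, hβe⟩ := hC Q le_rfl hself
    rw [img_autFun] at hβe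
    have hGQ := (hG Q hself).mono (le_normalizerIn hQS)
    set a := autOf hGQ (hGimg Q hself)
    have ha : a ∈ extGroup F Q :=
      mem_extGroup (lt_normalizerIn hS hQS hQlt.ne) (hG Q hself) fun y hy =>
        (autFun_autOf hGQ (hGimg Q hself) hy).symm
    have heq : β * a = a * α := autFun_ext fun x hx => by
      rw [autFun_mul _ _ hx, autFun_mul _ _ hx, autFun_autOf hGQ (hGimg Q hself) hx, hβe x hx,
        autFun_autOf hGQ (hGimg Q hself) (autFun_mem α hx)]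
    rw [show α = a⁻¹ * (β * a) by rw [heq, inv_mul_cancel_left]]
    exact mul_mem (inv_mem ha) (mul_mem hβ ha)

/-- The automizer of `S` cannot be omitted unless it is inner. -/
theorem exists_omit_top (hS : IsPGroup p S) :
    ∃ E : FusionSystem S, (∀ R : Subgroup Ω, R ≤ S → R ≠ S → F.autGroup R ≤ E.autGroup R) ∧
      E.autGroup S ≤ autInducedBy S S := by
  let M : Subgroup Ω → (Ω → Ω) → Prop := fun P f =>
    IsMap F P f ∧ (P = S → ∃ s ∈ S, ∀ x ∈ P, f x = s * x * s⁻¹)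
  let E : FusionSystem S := mkSystem F S M
    (fun _ _ h => ⟨h.1, h.1.le, fun _ hx => h.1.mem_S hx⟩)
    (fun P f g h he => ⟨h.1.congr he, fun hP => by
      obtain ⟨s, hs, hse⟩ := h.2 hP
      exact ⟨s, hs, fun x hx => (he x hx).trans (hse x hx)⟩⟩)
    (fun P t hP ht => ⟨isMap_conj hP ht, fun _ => ⟨t, ht, fun _ _ => rfl⟩⟩)
    (fun P R f g hf hg h => ⟨hf.1.comp hg.1 h, fun hP => by
      obtain ⟨s, hs, hse⟩ := hf.2 hP
      have hR : R = S := le_antisymm hg.1.le fun y hy => by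
        have h1 := h (s⁻¹ * y * s) (hP.symm ▸ S.mul_mem (S.mul_mem (S.inv_mem hs) hy) hs)
        rw [hse _ (hP.symm ▸ S.mul_mem (S.mul_mem (S.inv_mem hs) hy) hs)] at h1
        simpa [mul_assoc] using h1
      obtain ⟨t, ht, hte⟩ := hg.2 hR
      refine ⟨t * s, S.mul_mem ht hs, fun x hx => ?_⟩
      show g (f x) = _
      rw [hte _ (h x hx), hse x hx]
      group⟩)
    (fun P f f' hf hf' h => ⟨hf', fun hP => by
      have hPS : P = S := eq_of_le_of_card_le le_rfl hf.1.le (by rw [← hf.1.card_img, hP])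
      obtain ⟨s, hs, hse⟩ := hf.2 hPS
      refine ⟨s⁻¹, S.inv_mem hs, fun y hy => ?_⟩
      obtain ⟨x, hx, rfl⟩ := hf.1.mem_img.1 hy
      rw [h x hx, hse x hx]
      group⟩)
  refine ⟨E, fun R hR hne α hα => ?_, fun α hα => ?_⟩
  · exact (mem_autGroup_iff hR).2
      ((isMap_mkSystem_iff _).2 ⟨(mem_autGroup_iff hR).1 hα, fun h => absurd h hne⟩)
  · obtain ⟨s, hs, hse⟩ := ((isMap_mkSystem_iff _).1 ((mem_autGroup_iff le_rfl).1 hα)).2 rfl
    exact mem_autInducedBy_iff.2 ⟨s, hs, hse⟩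

omit [Finite S] [Fact p.Prime] in
theorem autGroup_le_of_not_le {E : FusionSystem S} {R : Subgroup Ω} (hR : ¬ R ≤ S) :
    F.autGroup R ≤ E.autGroup R :=
  (Subgroup.closure_le _).2 fun _ hα => absurd (F.le_of_mem hα).1 hR

/-- Conjugation closed generating families contain every essential subgroup. -/
theorem mem_of_generates (hS : IsPGroup p S) (hF : F.IsSaturated p) {𝒬 : Set (Subgroup Ω)}
    (h : ∀ R ∈ 𝒬, ∀ R' : Subgroup Ω, F.IsConj R R' → R' ∈ 𝒬)
    (hg : ∀ E : FusionSystem S, (∀ R ∈ 𝒬, F.autGroup R ≤ E.autGroup R) → F ≤ E) :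
    (∀ R, F.IsEssential p R → R ∈ 𝒬) ∧
      (F.autGroup S ≤ autInducedBy S S ∨ S ∈ 𝒬) := by
  refine ⟨fun R hR => ?_, ?_⟩
  · by_contra hn
    obtain ⟨E, hE, hne⟩ := exists_omit_essential hS hF hR
    refine hne (hg E fun T hT => ?_)
    by_cases hTS : T ≤ S
    · exact hE T hTS fun hc => hn (h T hT R (isConj_symm hc))
    · exact autGroup_le_of_not_le hTS
  · by_cases hm : S ∈ 𝒬
    · exact Or.inr hm
    obtain ⟨E, hE, htop⟩ := exists_omit_top (F := F) hS
    refine Or.inl fun α hα => htop ?_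
    have hle := hg E fun T hT => ?_
    swap
    · by_cases hTS : T ≤ S
      · exact hE T hTS fun he => hm (he ▸ hT)
      · exact autGroup_le_of_not_le hTS
    obtain ⟨φ, hφ, hφe⟩ := (mem_autGroup_iff le_rfl).1 hα
    exact (mem_autGroup_iff le_rfl).2 ⟨φ, hle S hφ, hφe⟩

/-- Generating families are closed under intersection. -/
theorem le_of_autGroup_inter (hS : IsPGroup p S) (hF : F.IsSaturated p)
    {𝒬₁ 𝒬₂ : Set (Subgroup Ω)}
    (h₁ : ∀ R ∈ 𝒬₁, ∀ R' : Subgroup Ω, F.IsConj R R' → R' ∈ 𝒬₁)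
    (h₂ : ∀ R ∈ 𝒬₂, ∀ R' : Subgroup Ω, F.IsConj R R' → R' ∈ 𝒬₂)
    (hg₁ : ∀ E : FusionSystem S, (∀ R ∈ 𝒬₁, F.autGroup R ≤ E.autGroup R) → F ≤ E)
    (hg₂ : ∀ E : FusionSystem S, (∀ R ∈ 𝒬₂, F.autGroup R ≤ E.autGroup R) → F ≤ E)
    {E : FusionSystem S} (hE : ∀ R ∈ 𝒬₁ ∩ 𝒬₂, F.autGroup R ≤ E.autGroup R) : F ≤ E := by
  obtain ⟨he₁, ht₁⟩ := mem_of_generates hS hF h₁ hg₁
  obtain ⟨he₂, ht₂⟩ := mem_of_generates hS hF h₂ hg₂
  refine le_of_autGroup_le hS hF fun P hP => ?_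
  rcases hP with rfl | hP
  · rcases ht₁ with h | hm₁
    · exact h.trans (autInducedBy_le_autGroup le_rfl)
    rcases ht₂ with h | hm₂
    · exact h.trans (autInducedBy_le_autGroup le_rfl)
    exact hE _ ⟨hm₁, hm₂⟩
  · exact hE P ⟨he₁ P hP, he₂ P hP⟩

omit [Fact p.Prime] in
theorem exists_minimal_centric {P : Subgroup Ω} (h : F.IsCentric P) :
    ∃ Q ≤ P, F.IsCentric Q ∧ ∀ R : Subgroup Ω, R < Q → ¬ F.IsCentric R := by
  induction hk : Nat.card P using Nat.strong_induction_on generalizing P with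
  | _ k ih =>
  by_cases hmin : ∀ R : Subgroup Ω, R < P → ¬ F.IsCentric R
  · exact ⟨P, le_rfl, h, hmin⟩
  push Not at hmin
  obtain ⟨R, hR, hRc⟩ := hmin
  obtain ⟨Q, hQR, hQ, hQm⟩ := ih _ (hk ▸ card_lt_of_lt h.1 hR) hRc rfl
  exact ⟨Q, hQR.trans hR.le, hQ, hQm⟩

/-- A saturated subsystem agreeing on minimal centric subgroups is everything. -/
theorem le_of_minimal_centric (hS : IsPGroup p S) (hF : F.IsSaturated p) {E : FusionSystem S}
    (hE : E.IsSaturated p) (hle : E ≤ F)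
    (hmin : ∀ Q : Subgroup Ω, F.IsCentric Q → (∀ R : Subgroup Ω, R < Q → ¬ F.IsCentric R) →
      F.Hom Q = E.Hom Q) : F ≤ E := by
  refine le_of_autGroup_le hS hF fun P hP α hα => ?_
  have hc : F.IsCentric P := by
    rcases hP with rfl | hP
    · exact ⟨le_rfl, fun T hT => by
        rw [eq_of_le_of_card_le le_rfl (isConj_le hT).2 (isConj_card hT).ge]
        exact inf_le_left⟩
    · exact hP.1
  obtain ⟨Q, hQP, hQ, hQm⟩ := exists_minimal_centric hc
  have hm := (mem_autGroup_iff hc.1).1 hα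
  refine (mem_autGroup_iff hc.1).2 (isMap_of_restrict_centric hS hF hE hle hQP hQ hm ?_)
  obtain ⟨φ, hφ, hφe⟩ := hm.mono hQP
  exact ⟨φ, hmin Q hQ hQm ▸ hφ, hφe⟩

omit [Finite S] [Fact p.Prime] in
theorem isMap_of_hom_eq {E : FusionSystem S} {P : Subgroup Ω} {f : Ω → Ω}
    (h : F.Hom P = E.Hom P) (hf : IsMap F P f) : IsMap E P f := by
  obtain ⟨φ, hφ, hφe⟩ := hf
  exact ⟨φ, h ▸ hφ, hφe⟩

/-- A saturated subsystem agreeing on subgroups of order `p` and their centralizers is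
everything. -/
theorem le_of_order_p_centralizers (hS : IsPGroup p S) (hF : F.IsSaturated p) {E : FusionSystem S}
    (hE : E.IsSaturated p) (hle : E ≤ F)
    (hZ : ∀ Z : Subgroup Ω, Z ≤ S → Nat.card Z = p → E.IsFullyCentralized Z →
      F.Hom Z = E.Hom Z ∧ ∀ (C C' : FusionSystem (centralizerIn S Z)),
        F.IsCentralizerSystem Z C → E.IsCentralizerSystem Z C' →
          ∀ P : Subgroup Ω, C.Hom P = C'.Hom P) : F ≤ E := by
  refine le_of_autGroup_le hS hF fun R hR α hα => ?_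
  have hRS : R ≤ S := hR.elim (fun e => e.le) (fun e => e.1.1)
  have hCR : centralizerIn S R ≤ R := by
    rcases hR with rfl | hR
    · exact inf_le_left
    · exact centralizerIn_le_of_isCentric hR.1
  have hm := (mem_autGroup_iff hRS).1 hα
  by_cases hbot : S = ⊥
  · refine (mem_autGroup_iff hRS).2 ((isMap_id hRS).congr fun x hx => ?_)
    have hx1 : x = 1 := Subgroup.mem_bot.1 (hbot ▸ hRS hx)
    rw [hx1, hm.map_one]
    rfl
  haveI : Nontrivial S := (Subgroup.nontrivial_iff_ne_bot S).2 hbot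
  haveI : Nontrivial (Subgroup.center S) := hS.center_nontrivial
  obtain ⟨n, hn0, hn⟩ := (hS.to_subgroup (Subgroup.center S)).nontrivial_iff_card.1 ‹_›
  obtain ⟨⟨⟨a, haS⟩, hac⟩, haord⟩ := exists_prime_orderOf_dvd_card' p (G := Subgroup.center S)
    (hn ▸ dvd_pow_self p hn0.ne')
  rw [Subgroup.orderOf_mk, Subgroup.orderOf_mk] at haord
  set Z := Subgroup.zpowers a
  have hcard : Nat.card Z = p := by rw [Nat.card_zpowers, haord]
  have hcomm : ∀ s ∈ S, s * a = a * s := fun s hs =>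
    congrArg Subtype.val (Subgroup.mem_center_iff.1 hac ⟨s, hs⟩)
  have hSC : S ≤ Subgroup.centralizer (Z : Set Ω) := fun s hs => by
    refine Subgroup.mem_centralizer_iff.2 fun z hz => ?_
    obtain ⟨k, rfl⟩ := Subgroup.mem_zpowers_iff.1 hz
    exact (show Commute a s from (hcomm s hs).symm).zpow_left k |>.eq
  have hCZ : centralizerIn S Z = S := inf_eq_left.2 hSC
  have hZS : Z ≤ S := Subgroup.zpowers_le.2 haS
  have hZR : Z ≤ R := Subgroup.zpowers_le.2 (hCR ⟨haS, Subgroup.mem_centralizer_iff.2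
    fun r hr => hcomm r (hRS hr)⟩)
  have hfc : E.IsFullyCentralized Z :=
    ⟨hZS, fun T _ => by rw [hCZ]; exact card_le_of_le' le_rfl inf_le_left⟩
  obtain ⟨hHom, hC⟩ := hZ Z hZS hcard hfc
  have hmE : IsMap E Z (autFun α) := isMap_of_hom_eq hHom (hm.mono hZR)
  obtain ⟨g₀, hg₀, hg₀1, -⟩ := hmE.exists_inv
  have himg₀ : img (img Z (autFun α)) g₀ = Z := by
    rw [img_img hmE, IsMap.img_congr (f := g₀ ∘ autFun α) (g := id) hg₀1, img_id]
  obtain ⟨e, he, hee⟩ := (isReceptive_iff.1 (IsSaturated.isReceptive hS hE hfc)).2 _ g₀ hg₀ himg₀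
  have hext : R ≤ extSub S (img Z (autFun α)) g₀ := by
    refine fun r hr => centralizerIn_le_extSub ⟨hRS hr, Subgroup.mem_centralizer_iff.2 ?_⟩
    intro y hy
    obtain ⟨z, hz, rfl⟩ := hmE.mem_img.1 hy
    obtain ⟨r', hr', rfl⟩ := hm.mem_img.1 ((img_autFun α).ge hr)
    exact (hm.map_commute (hZR hz) hr'
      (Subgroup.mem_centralizer_iff.1 (hSC (hRS hr')) z hz)).eq
  have heR := he.mono hext
  have heF : IsMap F R e := by
    obtain ⟨φ, hφ, hφe⟩ := heR
    exact ⟨φ, hle R hφ, hφe⟩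
  have hcomp : IsMap F R (e ∘ autFun α) := hm.comp heF fun x hx => autFun_mem α hx
  have hfix : ∀ z ∈ Z, (e ∘ autFun α) z = z := fun z hz => by
    show e (autFun α z) = z
    rw [hee _ (hmE.mem_img.2 ⟨z, hz, rfl⟩), hg₀1 z hz]
  set CF := cSystem F (centralizerIn S Z) Z le_rfl hZS
  set CE := cSystem E (centralizerIn S Z) Z le_rfl hZS
  have hCeq := hC CF CE (fun P => Set.ext fun φ => by rw [mem_centralizerHom_iff]; exact Iff.rfl)
    (fun P => Set.ext fun φ => by rw [mem_centralizerHom_iff]; exact Iff.rfl) R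
  have h1 : IsMap CF R (e ∘ autFun α) := isMap_cSystem_iff.2
    ⟨hRS.trans hCZ.ge, fun x hx => hCZ.ge (hcomp.mem_S hx), e ∘ autFun α,
      hcomp.mono (sup_le le_rfl hZR), fun _ _ => rfl, hfix⟩
  have h2 : IsMap E R (e ∘ autFun α) := by
    obtain ⟨φ, hφ, hφe⟩ := h1
    exact (isMap_cSystem_iff.1 ⟨φ, hCeq ▸ hφ, hφe⟩ : CMap E _ Z R (e ∘ autFun α)).isMap
  obtain ⟨e', he', he'1, -⟩ := heR.exists_inv
  refine (mem_autGroup_iff hRS).2 ((h2.comp he' fun x hx =>
    heR.mem_img.2 ⟨_, autFun_mem α hx, rfl⟩).congr fun x hx => ?_)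
  exact (he'1 _ (autFun_mem α hx)).symm

end CfsgLib.Fusion
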