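import Cfsg.Agent.Lib.Fusion.System.Transvection
import Cfsg.Agent.Lib.Fusion.System.Generation
import Cfsg.Agent.Lib.Fusion.System.AbelianSimple
import Cfsg.Agent.Lib.Fusion.System.Model

/-!
# Essential subgroups when the centre has index `p²`
-/

set_option autoImplicit false
set_option linter.style.haveILetI false
set_option linter.unusedSectionVars false

open Subgroup
open scoped Classical commutatorElement IsMulCommutative

namespace CfsgLib.Fusion.CenterIndex

open Cfsg (FusionSystem autInducedBy)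
open Cfsg.FusionSystem (normalizerIn centralizerIn)
open CfsgLib.Fusion.Transvection (dlt IsTrv)

variable {Ω : Type*} [Group Ω] {S : Subgroup Ω} [Finite S] {F : FusionSystem S} {p : ℕ}
  [Fact p.Prime]

omit [Fact p.Prime] in
theorem centralizerIn_subgroupOf : (centralizerIn S S).subgroupOf S = Subgroup.center S := by
  ext x
  rw [Subgroup.mem_center_iff]
  refine ⟨fun h y => Subtype.ext (Subgroup.mem_centralizer_iff.1 h.2 y y.2), fun h => ?_⟩
  exact ⟨x.2, Subgroup.mem_centralizer_iff.2 fun y hy => congrArg Subtype.val (h ⟨y, hy⟩)⟩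

/-- A nonabelian `S` with central index at most `p²` has central index `p²`. -/
theorem relIndex_eq (hS : IsPGroup p S) (hab : ¬ ∀ x ∈ S, ∀ y ∈ S, x * y = y * x)
    (hZ : (Subgroup.center S).index ≤ p ^ 2) : (centralizerIn S S).relIndex S = p ^ 2 := by
  have hp := (Fact.out : p.Prime)
  rw [Subgroup.relIndex, centralizerIn_subgroupOf]
  obtain ⟨k, hk⟩ := hS.index (Subgroup.center S)
  rw [hk] at hZ ⊢
  have hk2 : k ≤ 2 := (Nat.pow_le_pow_iff_right hp.one_lt).1 hZ
  have hcard : Nat.card (S ⧸ Subgroup.center S) = p ^ k := hk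
  interval_cases k
  case «2» => rfl
  all_goals
    exfalso
    refine hab fun x hx y hy => ?_
    haveI : IsCyclic (S ⧸ Subgroup.center S) := by
      first
      | exact isCyclic_of_prime_card (p := p) (by rw [hcard, pow_one])
      | (haveI : Subsingleton (S ⧸ Subgroup.center S) :=
          (Nat.card_eq_one_iff_unique.1 (by rw [hcard, pow_zero])).1
         exact isCyclic_of_subsingleton)
    exact congrArg Subtype.val (commutative_of_cyclic_center_quotient
      (QuotientGroup.mk' (Subgroup.center S)) (QuotientGroup.ker_mk' _).le ⟨x, hx⟩ ⟨y, hy⟩)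

/-- Commutators are central. -/
theorem commutator_mem (hidx : (centralizerIn S S).relIndex S = p ^ 2) {x y : Ω} (hx : x ∈ S)
    (hy : y ∈ S) : ⁅x, y⁆ ∈ centralizerIn S S := by
  rw [Subgroup.relIndex, centralizerIn_subgroupOf] at hidx
  have hcomm := IsPGroup.commutative_of_card_eq_prime_sq (G := S ⧸ Subgroup.center S) (p := p) hidx
  have h : (⁅(⟨x, hx⟩ : S), ⟨y, hy⟩⁆ : S) ∈ Subgroup.center S := by
    rw [← QuotientGroup.eq_one_iff, ← QuotientGroup.mk'_apply, map_commutatorElement,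
      commutatorElement_eq_one_iff_mul_comm]
    exact hcomm _ _
  rw [← centralizerIn_subgroupOf] at h
  exact h

theorem le_normalizer_of_center_le (hidx : (centralizerIn S S).relIndex S = p ^ 2) {R : Subgroup Ω}
    (hR : R ≤ S) (hZR : centralizerIn S S ≤ R) : S ≤ normalizerIn S R := by
  intro s hs
  have key : ∀ t ∈ S, ∀ r ∈ R, t * r * t⁻¹ ∈ R := fun t ht r hr => by
    have := R.mul_mem (hZR (commutator_mem hidx ht (hR hr))) hr
    rwa [commutatorElement_def, inv_mul_cancel_right] at this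
  refine ⟨hs, Subgroup.mem_normalizer_iff.2 fun r => ⟨key s hs r, fun h => ?_⟩⟩
  have := key s⁻¹ (S.inv_mem hs) _ h
  simpa [mul_assoc] using this

/-- An abelian maximal subgroup `R` containing the centre and an element `a` outside it. -/
structure Frame (S R : Subgroup Ω) (p : ℕ) (a : Ω) : Prop where
  le : R ≤ S
  zle : centralizerIn S S ≤ R
  comm : ∀ x ∈ R, ∀ y ∈ R, x * y = y * x
  mem : a ∈ S
  notMem : a ∉ R
  relR : R.relIndex S = p
  relZ : (centralizerIn S S).relIndex R = p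

theorem exists_frame (hS : IsPGroup p S) (hF : F.IsSaturated p)
    (hidx : (centralizerIn S S).relIndex S = p ^ 2) {R : Subgroup Ω} (hR : F.IsEssential p R) :
    ∃ a, Frame S R p a := by
  have hp := (Fact.out : p.Prime)
  have hc := hR.1
  have hRS : R ≤ S := hc.1
  have hne : R ≠ S := ne_self_of_isEssential hS hF hR
  have hcR := centralizerIn_le_of_isCentric hc
  have hZR : centralizerIn S S ≤ R := (inf_le_inf_left _ (Subgroup.centralizer_le hRS)).trans hcR
  have hmul := Subgroup.relIndex_mul_relIndex _ R S hZR hRS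
  rw [hidx] at hmul
  have h1 : R.relIndex S ≠ 1 := fun h => hne (le_antisymm hRS (Subgroup.relIndex_eq_one.1 h))
  have h2 : (centralizerIn S S).relIndex R ≠ 1 := fun h => hne <| by
    have hRe : R = centralizerIn S S := le_antisymm (Subgroup.relIndex_eq_one.1 h) hZR
    refine le_antisymm hRS fun s hs => hcR ⟨hs, Subgroup.mem_centralizer_iff.2 fun y hy => ?_⟩
    rw [hRe] at hy
    exact (Subgroup.mem_centralizer_iff.1 hy.2 s hs).symm
  obtain ⟨i, hi2, hi⟩ := (Nat.dvd_prime_pow hp).1 ⟨_, hmul.symm⟩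
  rw [hi] at hmul h2
  interval_cases i
  · simp at h2
  swap
  · exact absurd (by
      rwa [mul_eq_left₀ (pow_ne_zero 2 hp.ne_zero)] at hmul) h1
  rw [pow_one] at hi hmul
  have hrR : R.relIndex S = p := by
    rw [sq] at hmul
    exact Nat.eq_of_mul_eq_mul_left hp.pos hmul
  obtain ⟨a, ha, hna⟩ := SetLike.exists_of_lt (lt_of_le_of_ne hRS hne)
  refine ⟨a, hRS, hZR, fun x hx y hy => ?_, ha, hna, hrR, hi⟩
  have hle : (centralizerIn S S).subgroupOf R ≤ Subgroup.center R := fun z hz =>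
    Subgroup.mem_center_iff.2 fun w => Subtype.ext
      (Subgroup.mem_centralizer_iff.1 (Subgroup.mem_subgroupOf.1 hz).2 w (hRS w.2))
  haveI : ((centralizerIn S S).subgroupOf R).Normal :=
    ⟨fun n hn g => by
      rw [Subgroup.mem_center_iff.1 (hle hn) g, mul_inv_cancel_right]; exact hn⟩
  haveI : IsCyclic (R ⧸ (centralizerIn S S).subgroupOf R) := isCyclic_of_prime_card (p := p) hi
  exact congrArg Subtype.val (commutative_of_cyclic_center_quotient
    (QuotientGroup.mk' ((centralizerIn S S).subgroupOf R))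
    ((QuotientGroup.ker_mk' _).le.trans hle) ⟨x, hx⟩ ⟨y, hy⟩)

variable {R : Subgroup Ω} {a : Ω} (hfr : Frame S R p a)
include hfr

theorem Frame.mulComm : IsMulCommutative R :=
  ⟨⟨fun x y => Subtype.ext (hfr.comm x x.2 y y.2)⟩⟩

theorem Frame.sup_eq : R ⊔ Subgroup.zpowers a = S := by
  have hp := (Fact.out : p.Prime)
  refine le_antisymm (sup_le hfr.le (Subgroup.zpowers_le.2 hfr.mem)) ?_
  have hle : R ⊔ Subgroup.zpowers a ≤ S := sup_le hfr.le (Subgroup.zpowers_le.2 hfr.mem)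
  have hmul := Subgroup.relIndex_mul_relIndex R (R ⊔ Subgroup.zpowers a) S le_sup_left hle
  rw [hfr.relR] at hmul
  rcases (Nat.dvd_prime hp).1 ⟨_, hmul.symm⟩ with h | h
  · exact absurd ((Subgroup.relIndex_eq_one.1 h) (Subgroup.mem_sup_right (Subgroup.mem_zpowers a)))
      hfr.notMem
  · rw [h] at hmul
    exact Subgroup.relIndex_eq_one.1 ((mul_eq_left₀ hp.ne_zero).1 hmul)

variable (hidx : (centralizerIn S S).relIndex S = p ^ 2)
include hidx

theorem Frame.normal : S ≤ normalizerIn S R := le_normalizer_of_center_le hidx hfr.le hfr.zle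

/-- Conjugation by `a` on `R`. -/
noncomputable def Frame.tv : MulAut R := conjAut a (hfr.normal hidx hfr.mem).2

theorem Frame.tv_apply (r : R) : ((hfr.tv hidx r : R) : Ω) = a * r * a⁻¹ := rfl

theorem Frame.tv_mem : hfr.tv hidx ∈ F.autGroup R :=
  autInducedBy_le_autGroup hfr.le (conjAut_mem hfr.mem _)

theorem Frame.autInducedBy_le : autInducedBy S R ≤ Subgroup.zpowers (hfr.tv hidx) := by
  intro α hα
  obtain ⟨s, hs, hse⟩ := mem_autInducedBy_iff.1 hα
  have hsN : Subgroup.zpowers a ≤ Subgroup.normalizer (R : Set Ω) :=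
    Subgroup.zpowers_le.2 (hfr.normal hidx hfr.mem).2
  have hs' : s ∈ ((R ⊔ Subgroup.zpowers a : Subgroup Ω) : Set Ω) := hfr.sup_eq.ge hs
  rw [Subgroup.coe_mul_of_right_le_normalizer_left R (Subgroup.zpowers a) hsN] at hs'
  obtain ⟨r, hr, b, hb, rfl : r * b = s⟩ := Set.mem_mul.1 hs'
  obtain ⟨k, rfl⟩ := Subgroup.mem_zpowers_iff.1 hb
  refine Subgroup.mem_zpowers_iff.2 ⟨k, autFun_ext fun x hx => ?_⟩
  have e : hfr.tv hidx ^ k = conjAut (a ^ k) (hsN hb) := by
    show (R.normalizerMonoidHom ⟨a, _⟩) ^ k = R.normalizerMonoidHom ⟨a ^ k, _⟩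
    rw [← map_zpow]
    rfl
  have hm : a ^ k * x * (a ^ k)⁻¹ ∈ R := (Subgroup.mem_normalizer_iff.1 (hsN hb) x).1 hx
  rw [e, autFun_conjAut _ hx, hse x hx, mul_inv_rev, show r * a ^ k * x * ((a ^ k)⁻¹ * r⁻¹) =
    r * (a ^ k * x * (a ^ k)⁻¹) * r⁻¹ by group, hfr.comm r hr _ hm, mul_inv_cancel_right]

theorem Frame.le_autInducedBy : Subgroup.zpowers (hfr.tv hidx) ≤ autInducedBy S R :=
  Subgroup.zpowers_le.2 (conjAut_mem hfr.mem _)

variable [IsMulCommutative R]

theorem Frame.dlt_coe (r : R) :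
    ((dlt (hfr.tv hidx) r : R) : Ω) = (r : Ω)⁻¹ * (a * r * a⁻¹) := rfl

theorem Frame.dlt_eq_one_iff (r : R) :
    dlt (hfr.tv hidx) r = 1 ↔ (r : Ω) ∈ centralizerIn S S := by
  rw [← OneMemClass.coe_eq_one, hfr.dlt_coe, inv_mul_eq_one]
  constructor
  · intro h
    refine ⟨hfr.le r.2, Subgroup.mem_centralizer_iff.2 fun y hy => ?_⟩
    have hle : R ⊔ Subgroup.zpowers a ≤ Subgroup.centralizer {(r : Ω)} := by
      refine sup_le (fun z hz => ?_) (Subgroup.zpowers_le.2 ?_)
      · exact Subgroup.mem_centralizer_iff.2 fun w hw => by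
          rw [Set.mem_singleton_iff.1 hw]; exact hfr.comm r r.2 z hz
      · exact Subgroup.mem_centralizer_iff.2 fun w hw => by
          rw [Set.mem_singleton_iff.1 hw]; exact (mul_inv_eq_iff_eq_mul.1 h.symm).symm
    exact ((Subgroup.mem_centralizer_iff.1 (hle (hfr.sup_eq.ge hy))) _ rfl).symm
  · intro h
    rw [Subgroup.mem_centralizer_iff.1 h.2 a hfr.mem, mul_inv_cancel_right]

theorem Frame.isTrv : IsTrv p (hfr.tv hidx) := by
  refine ⟨?_, fun r => ?_⟩
  · refine Eq.trans ?_ hfr.relZ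
    rw [← Subgroup.index_ker, show (dlt (hfr.tv hidx)).ker =
      (centralizerIn S S).subgroupOf R from Subgroup.ext fun x => by
        rw [MonoidHom.mem_ker, hfr.dlt_eq_one_iff hidx, Subgroup.mem_subgroupOf]]
    rfl
  · rw [hfr.dlt_eq_one_iff hidx, hfr.dlt_coe]
    have h := commutator_mem hidx (S.inv_mem (hfr.le r.2)) hfr.mem
    simpa [commutatorElement_def, mul_assoc] using h

/-- The image of the transvection is the derived subgroup of `S`. -/
theorem Frame.range_eq : (dlt (hfr.tv hidx)).range.map R.subtype = ⁅S, S⁆ := by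
  refine le_antisymm ?_ ?_
  · rintro _ ⟨_, ⟨r, rfl⟩, rfl⟩
    show ((dlt (hfr.tv hidx) r : R) : Ω) ∈ _
    rw [hfr.dlt_coe]
    have h := Subgroup.commutator_mem_commutator (S.inv_mem (hfr.le r.2)) hfr.mem
    simpa [commutatorElement_def, mul_assoc] using h
  set T := (dlt (hfr.tv hidx)).range.map R.subtype with hT
  have hTc : T ≤ centralizerIn S S := by
    rintro _ ⟨_, ⟨r, rfl⟩, rfl⟩
    exact (hfr.dlt_eq_one_iff hidx _).1 ((hfr.isTrv hidx).fix r)
  -- elements commuting modulo `T` with a given set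
  have hsub : ∀ A : Set Ω, A ⊆ S → ∃ H : Subgroup Ω,
      ∀ x, x ∈ H ↔ x ∈ S ∧ ∀ y ∈ A, ⁅x, y⁆ ∈ T := by
    intro A hA
    refine ⟨{ carrier := {x | x ∈ S ∧ ∀ y ∈ A, ⁅x, y⁆ ∈ T}
              one_mem' := ⟨S.one_mem, fun y _ => by simp⟩
              mul_mem' := ?_
              inv_mem' := ?_ }, fun x => Iff.rfl⟩
    · rintro x z ⟨hx, hx'⟩ ⟨hz, hz'⟩
      refine ⟨S.mul_mem hx hz, fun y hy => ?_⟩
      have hc : x * ⁅z, y⁆ * x⁻¹ = ⁅z, y⁆ := by
        rw [Subgroup.mem_centralizer_iff.1 (hTc (hz' y hy)).2 x hx, mul_inv_cancel_right]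
      rw [show ⁅x * z, y⁆ = x * ⁅z, y⁆ * x⁻¹ * ⁅x, y⁆ by
        simp only [commutatorElement_def]; group, hc]
      exact mul_mem (hz' y hy) (hx' y hy)
    · rintro x ⟨hx, hx'⟩
      refine ⟨S.inv_mem hx, fun y hy => ?_⟩
      have hc : x⁻¹ * ⁅x, y⁆⁻¹ * x = ⁅x, y⁆⁻¹ := by
        rw [mul_assoc, ← Subgroup.mem_centralizer_iff.1 (hTc (inv_mem (hx' y hy))).2 x hx,
          inv_mul_cancel_left]
      rw [show ⁅x⁻¹, y⁆ = x⁻¹ * ⁅x, y⁆⁻¹ * x by simp only [commutatorElement_def]; group, hc]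
      exact inv_mem (hx' y hy)
  have hsymm : ∀ x y : Ω, ⁅x, y⁆ ∈ T → ⁅y, x⁆ ∈ T := fun x y h =>
    commutatorElement_inv x y ▸ inv_mem h
  have haR : ∀ r ∈ R, ⁅r⁻¹, a⁆ ∈ T := fun r hr => ⟨_, ⟨⟨r, hr⟩, rfl⟩, by
    show ((dlt (hfr.tv hidx) ⟨r, hr⟩ : R) : Ω) = _
    rw [hfr.dlt_coe, commutatorElement_def]
    group⟩
  have haR' : ∀ r ∈ R, ⁅r, a⁆ ∈ T := fun r hr => by simpa using haR r⁻¹ (inv_mem hr)
  obtain ⟨H₁, h₁⟩ := hsub R hfr.le
  have hS1 : S ≤ H₁ := hfr.sup_eq.ge.trans (sup_le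
    (fun x hx => (h₁ x).2 ⟨hfr.le hx, fun y hy => by
      rw [commutatorElement_eq_one_iff_mul_comm.2 (hfr.comm x hx y hy)]; exact one_mem _⟩)
    (Subgroup.zpowers_le.2 ((h₁ a).2 ⟨hfr.mem, fun y hy => hsymm _ _ (haR' y hy)⟩)))
  obtain ⟨H₂, h₂⟩ := hsub S subset_rfl
  obtain ⟨H₃, h₃⟩ := hsub {a} (Set.singleton_subset_iff.2 hfr.mem)
  have hS3 : S ≤ H₃ := hfr.sup_eq.ge.trans (sup_le
    (fun x hx => (h₃ x).2 ⟨hfr.le hx, fun y hy => by
      rw [Set.mem_singleton_iff.1 hy]; exact haR' x hx⟩)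
    (Subgroup.zpowers_le.2 ((h₃ a).2 ⟨hfr.mem, fun y hy => by
      rw [Set.mem_singleton_iff.1 hy, commutatorElement_self]; exact one_mem _⟩)))
  have hS2 : S ≤ H₂ := hfr.sup_eq.ge.trans (sup_le
    (fun x hx => (h₂ x).2 ⟨hfr.le hx, fun y hy => hsymm _ _ (((h₁ y).1 (hS1 hy)).2 x hx)⟩)
    (Subgroup.zpowers_le.2 ((h₂ a).2 ⟨hfr.mem, fun y hy =>
      hsymm _ _ (((h₃ y).1 (hS3 hy)).2 a rfl)⟩)))
  exact Subgroup.commutator_le.2 fun x hx y hy => ((h₂ x).1 (hS2 hx)).2 y hy

/-- The `p`-subgroups of the automizer of `R` have order at most `p`. -/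
theorem Frame.sylow (hS : IsPGroup p S) (hF : F.IsSaturated p) (hR : F.IsEssential p R) :
    ∀ H : Subgroup (MulAut R), H ≤ F.autGroup R → IsPGroup p H → Nat.card H ≤ p := by
  intro H hH hHp
  obtain ⟨-, hi⟩ := (isFullyAutomized_iff hS).1 (IsSaturated.automized_receptive hS hF hR.2.1).1
  haveI := finite_of_le hfr.le
  haveI := finite_mulAut (P := R)
  obtain ⟨h, -, hle⟩ := exists_conj_le_of_not_dvd_relIndex (isPGroup_autInducedBy hS)
    (autInducedBy_le_autGroup hfr.le) hi hHp hH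
  calc Nat.card H = Nat.card (conjBy h H) := (card_conjBy h H).symm
    _ ≤ Nat.card (Subgroup.zpowers (hfr.tv hidx)) :=
      Subgroup.card_le_of_le (hle.trans (hfr.autInducedBy_le hidx))
    _ = p := by rw [Nat.card_zpowers, (hfr.isTrv hidx).orderOf]

/-- An automorphism of `R` normalizing the automorphisms from `S` extends to `S`. -/
theorem Frame.extends_top (hS : IsPGroup p S) (hF : F.IsSaturated p) (hR : F.IsEssential p R)
    {β : MulAut R} (hβ : β ∈ F.autGroup R)
    (hn : β * hfr.tv hidx * β⁻¹ ∈ Subgroup.zpowers (hfr.tv hidx)) :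
    ∃ φ ∈ F.autGroup S, ∀ x ∈ R, autFun φ x = autFun β x := by
  have hβm := (mem_autGroup_iff hfr.le).1 hβ
  obtain ⟨g, hg, hge⟩ := (isReceptive_iff.1 (IsSaturated.automized_receptive hS hF hR.2.1).2).2 R
    (autFun β) hβm (img_autFun β)
  have hext : S ≤ extSub S R (autFun β) := by
    refine hfr.sup_eq.ge.trans (sup_le (le_extSub hβm) (Subgroup.zpowers_le.2 ?_))
    obtain ⟨b, hb, hbe⟩ := mem_autInducedBy_iff.1 (hfr.le_autInducedBy hidx hn)
    refine mem_extSub.2 ⟨hfr.normal hidx hfr.mem, b, hb, fun x hx => ?_⟩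
    have h1 := hbe _ (autFun_mem β hx)
    rw [← autFun_mul _ _ hx, inv_mul_cancel_right, autFun_mul _ _ hx] at h1
    rw [← h1, show autFun (hfr.tv hidx) x = a * x * a⁻¹ from autFun_conjAut _ hx]
  have hgS := hg.mono hext
  have himg : img S g = S := eq_of_le_of_card_le le_rfl hgS.img_le hgS.card_img.ge
  exact ⟨autOf hgS himg, autOf_mem hgS himg, fun x hx => by
    rw [autFun_autOf hgS himg (hfr.le hx), hge x hx]⟩

/-- Some automorphism does not normalize the automorphisms from `S`. -/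
theorem Frame.exists_moving (hS : IsPGroup p S) (hR : F.IsEssential p R) :
    ∃ α ∈ F.autGroup R, α * hfr.tv hidx * α⁻¹ ∉ Subgroup.zpowers (hfr.tv hidx) := by
  by_contra hall
  push Not at hall
  haveI := finite_of_le hfr.le
  haveI := finite_mulAut (P := R)
  set U := (Subgroup.zpowers (hfr.tv hidx)).subgroupOf (F.autGroup R) with hU
  haveI hUn : U.Normal := ⟨fun n hn g => by
    rw [hU, Subgroup.mem_subgroupOf] at hn ⊢
    obtain ⟨k, hk⟩ := Subgroup.mem_zpowers_iff.1 hn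
    rw [Subgroup.coe_mul, Subgroup.coe_mul, Subgroup.coe_inv, ← hk, ← conj_zpow]
    exact zpow_mem (hall _ g.2) k⟩
  have hUp : IsPGroup p U := ((isPGroup_autInducedBy hS).to_le (hfr.le_autInducedBy hidx)).of_injective
    ((F.autGroup R).subtype.subgroupComap _) fun x y h => Subtype.ext (Subtype.ext
      (congrArg Subtype.val h :))
  have h1 : hfr.tv hidx ∈ Cfsg.Inn R := by
    rw [← (isRadical_of_isEssential hS hR).2]
    exact ⟨⟨_, hfr.tv_mem hidx⟩, CfsgLib.Coprime.le_pCore hUp (Subgroup.mem_zpowers _), rfl⟩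
  refine (hfr.isTrv hidx).ne_one ?_
  obtain ⟨r, hr⟩ := h1
  rw [← hr]
  refine MulEquiv.ext fun x => ?_
  show r * x * r⁻¹ = x
  rw [mul_comm r x, mul_inv_cancel_right]

end CfsgLib.Fusion.CenterIndex
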