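import Cfsg.Agent.Lib.Fusion.System.CenterIndexSplit
import Cfsg.Agent.Lib.Fusion.System.FunctorFocal
import Cfsg.Agent.Lib.PGroup.FrattiniLe
import Cfsg.Agent.Lib.Coprime.PGroupFrattini
import Cfsg.Agent.Lib.Invol.Basic

/-!
# Systems without normal subgroups whose centre has index `p²`
-/

set_option autoImplicit false
set_option linter.style.haveILetI false
set_option linter.unusedSectionVars false
set_option maxHeartbeats 600000

open Subgroup
open scoped Classical commutatorElement IsMulCommutative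

namespace CfsgLib.Fusion.CenterIndex

open Cfsg (FusionSystem autInducedBy)
open Cfsg.FusionSystem (normalizerIn centralizerIn)
open CfsgLib.Fusion.Transvection (dlt IsTrv)

variable {Ω : Type*} [Group Ω] {S : Subgroup Ω} [Finite S] {F : FusionSystem S} {p : ℕ}
  [Fact p.Prime]

theorem pow_fix_of_dvd {x : Ω} (hp : p ≠ 2) (h2 : x ^ 2 = 1) (hpx : x ^ p = 1) : x = 1 := by
  have h : orderOf x ∣ Nat.gcd 2 p :=
    Nat.dvd_gcd (orderOf_dvd_of_pow_eq_one h2) (orderOf_dvd_of_pow_eq_one hpx)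
  rw [(Nat.coprime_primes Nat.prime_two Fact.out).2 (Ne.symm hp)] at h
  exact orderOf_eq_one_iff.1 (Nat.dvd_one.1 h)

theorem mem_normalizer_of_center {t : Ω} (ht : t ∈ centralizerIn S S) {D : Subgroup Ω}
    (hD : D ≤ S) : t ∈ Subgroup.normalizer (D : Set Ω) := by
  refine Subgroup.mem_normalizer_iff.2 fun y => ⟨fun hy => ?_, fun hy => ?_⟩
  · rwa [← commute_center ht (hD hy), mul_inv_cancel_right]
  · have h2 : y = t * y * t⁻¹ := calc
      y = t⁻¹ * (t * y * t⁻¹) * t := by group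
      _ = t * y * t⁻¹ := by rw [mul_assoc, commute_center ht (hD hy), inv_mul_cancel_left]
    rwa [← h2] at hy

/-- An invariant subgroup inside all essential subgroups is trivial if the core is. -/
theorem eq_bot_of_invariant (hS : IsPGroup p S) (hF : F.IsSaturated p) (hcore : F.core = ⊥)
    {K : Subgroup Ω} (hKS : K ≤ S) (hKess : ∀ R, F.IsEssential p R → K ≤ R)
    (hinvS : ∀ φ ∈ F.autGroup S, ∀ x ∈ K, autFun φ x ∈ K)
    (hinvR : ∀ R, F.IsEssential p R → ∀ β ∈ F.autGroup R, ∀ x ∈ K, autFun β x ∈ K) : K = ⊥ := by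
  have key : ∀ s ∈ S, ∀ y ∈ K, s * y * s⁻¹ ∈ K := fun s hs y hy => by
    have h := hinvS _ (autInducedBy_le_autGroup le_rfl (conjAut_mem hs (Subgroup.le_normalizer hs)))
      y hy
    rwa [autFun_conjAut _ (hKS hy)] at h
  have hn : S ≤ normalizerIn S K := fun s hs => ⟨hs, Subgroup.mem_normalizer_iff.2 fun y =>
    ⟨key s hs y, fun h => by
      have := key s⁻¹ (S.inv_mem hs) _ h
      simpa [mul_assoc] using this⟩⟩
  have hnor : F.IsNormal K := by
    refine isNormal_iff.2 ⟨hKS, fun P f hf => ?_⟩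
    refine (isMap_nSystem_iff.1 (isMap_of_autGroup_le hS hF (E := nSystem F S K hn hKS)
      (fun R hR α hα => ?_) hf)).2.2
    have hRS : R ≤ S := hR.elim (fun e => e.le) fun e => e.1.1
    have hKR : K ≤ R := hR.elim (fun e => e.symm ▸ hKS) (hKess R)
    have hαm := (mem_autGroup_iff hRS).1 hα
    refine (mem_autGroup_iff hRS).2 (isMap_nSystem_iff.2 ⟨hRS, fun x hx => hαm.mem_S hx, autFun α,
      by rwa [sup_eq_left.2 hKR], fun _ _ => rfl, img_eq_of_map_le hKS hαm hKR fun x hx => ?_⟩)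
    rcases hR with rfl | hR
    · exact hinvS α hα x hx
    · exact hinvR R hR α hα x hx
  exact eq_bot_iff.2 (hcore ▸ le_core hnor)

/-- An `Aut_F(S)`-invariant complement of `S'` in the centre. -/
theorem exists_invariant_complement (hS : IsPGroup p S) (hF : F.IsSaturated p)
    (hTZ : ⁅S, S⁆ ≤ centralizerIn S S) {C : Subgroup Ω} (hC : C ≤ centralizerIn S S)
    (hdisj : ⁅S, S⁆ ⊓ C = ⊥) (hsup : centralizerIn S S ≤ ⁅S, S⁆ ⊔ C) :
    ∃ C₀, C₀ ≤ centralizerIn S S ∧ ⁅S, S⁆ ⊓ C₀ = ⊥ ∧ centralizerIn S S ≤ ⁅S, S⁆ ⊔ C₀ ∧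
      ∀ φ ∈ F.autGroup S, ∀ c ∈ C₀, autFun φ c ∈ C₀ := by
  set T := ⁅S, S⁆ with hTdef
  set Z := centralizerIn S S with hZdef
  letI : CommGroup Z :=
    { (inferInstance : Group Z) with
      mul_comm := fun x y => Subtype.ext (commute_center y.2 x.2.1) }
  haveI := finite_mulAut (P := S)
  set A := F.autGroup S
  set P0 : Subgroup A := (autInducedBy S S).subgroupOf A with hP0
  haveI : Fintype (A ⧸ P0) := Fintype.ofFinite _
  set n := Fintype.card (A ⧸ P0) with hnd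
  have hpn : ¬ p ∣ n := by
    rw [hnd, ← Nat.card_eq_fintype_card]
    exact ((isFullyAutomized_iff hS).1
      (IsSaturated.automized_receptive hS hF isFullyNormalized_self).1).2
  -- the projection on `T`
  have huniq : ∀ x y : Ω, x ∈ T → y ∈ T → x⁻¹ * y ∈ C → x = y := fun x y hx hy h =>
    inv_mul_eq_one.1 (Subgroup.mem_bot.1 (hdisj.le (Subgroup.mem_inf.2 ⟨mul_mem (inv_mem hx) hy, h⟩)))
  have hCn : T ≤ Subgroup.normalizer (C : Set Ω) := fun t ht =>
    mem_normalizer_of_center (hTZ ht) (hC.trans inf_le_left)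
  have hdec : ∀ z : Z, ∃ t ∈ T, t⁻¹ * (z : Ω) ∈ C := fun z => by
    have h : (z : Ω) ∈ ((T ⊔ C : Subgroup Ω) : Set Ω) := hsup z.2
    rw [Subgroup.coe_mul_of_left_le_normalizer_right T C hCn] at h
    obtain ⟨t, ht, c, hc, he : t * c = _⟩ := Set.mem_mul.1 h
    exact ⟨t, ht, by rwa [← he, inv_mul_cancel_left]⟩
  choose pr hprT hprC using hdec
  let π : Z →* Z := MonoidHom.mk' (fun z => ⟨pr z, hTZ (hprT z)⟩) fun x y => Subtype.ext <| by
    refine huniq _ _ (hprT _) (mul_mem (hprT x) (hprT y)) ?_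
    have gen : ∀ a b c d e : Z, a⁻¹ * (c * e) = a⁻¹ * (b * d) * ((c⁻¹ * b)⁻¹ * (e⁻¹ * d)⁻¹) := by
      intro a b c d e
      rw [mul_inv_rev, inv_inv, mul_inv_rev, inv_inv, mul_mul_mul_comm b⁻¹ c d⁻¹ e, ← mul_inv,
        mul_assoc, mul_inv_cancel_left]
    have := congrArg Subtype.val
      (gen ⟨pr (x * y), hTZ (hprT _)⟩ x ⟨pr x, hTZ (hprT x)⟩ y ⟨pr y, hTZ (hprT y)⟩)
    simp only [Subgroup.coe_mul, Subgroup.coe_inv] at this
    show (pr (x * y))⁻¹ * (pr x * pr y) ∈ C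
    rw [this]
    exact mul_mem (hprC (x * y)) (mul_mem (inv_mem (hprC x)) (inv_mem (hprC y)))
  have hπT : ∀ z : Z, (z : Ω) ∈ T → π z = z := fun z hz => Subtype.ext <| by
    refine huniq _ _ (hprT z) hz ?_
    exact hprC z
  let φ : A → (Z →* Z) := fun a => MonoidHom.mk'
    (fun z => ⟨_, map_center (a : MulAut S) z.2⟩) fun x y =>
      Subtype.ext (((mem_autGroup_iff le_rfl).1 a.2).map_mul x.2.1 y.2.1)
  have hφmul : ∀ a b z, φ (a * b) z = φ a (φ b z) := fun a b z =>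
    Subtype.ext (autFun_mul (a : MulAut S) b z.2.1)
  have hφ1 : ∀ z, φ 1 z = z := fun z => Subtype.ext (autFun_one z.2.1)
  have hfixP : ∀ b : A, b ∈ P0 → ∀ z : Z, φ b z = z := fun b hb z => by
    obtain ⟨g, hg, hge⟩ := mem_autInducedBy_iff.1 (Subgroup.mem_subgroupOf.1 hb)
    refine Subtype.ext ?_
    show autFun (b : MulAut S) (z : Ω) = z
    rw [hge _ z.2.1, commute_center z.2 hg, mul_inv_cancel_right]
  let term : A → (Z →* Z) := fun a => (φ a).comp (π.comp (φ a⁻¹))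
  have hterm : ∀ (a b : A) (z : Z), a⁻¹ * b ∈ P0 → term b z = term a z := fun a b z h => by
    show φ b (π (φ b⁻¹ z)) = φ a (π (φ a⁻¹ z))
    have h1 : ∀ y, φ b y = φ a y := fun y => by
      conv_lhs => rw [← mul_inv_cancel_left a b, hφmul, hfixP _ h]
    have h2 : φ b⁻¹ z = φ a⁻¹ z := by
      rw [show b⁻¹ = (a⁻¹ * b)⁻¹ * a⁻¹ by group, hφmul, hfixP _ (inv_mem h)]
    rw [h1, h2]
  set θ : Z →* Z := ∏ q : A ⧸ P0, term q.out with hθ
  have hθapp : ∀ z, θ z = ∏ q : A ⧸ P0, term q.out z := fun z => by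
    rw [hθ, MonoidHom.finsetProd_apply]
  have heqv : ∀ (a : A) z, θ (φ a z) = φ a (θ z) := fun a z => by
    rw [hθapp, hθapp, map_prod]
    refine (Fintype.prod_equiv (MulAction.toPerm a) _ _ fun q => ?_).symm
    have hm : (a * q.out)⁻¹ * (a • q).out ∈ P0 := by
      rw [← QuotientGroup.eq, QuotientGroup.out_eq']
      conv_rhs => rw [← QuotientGroup.out_eq' q]
      rfl
    show φ a (term q.out z) = term (a • q).out (φ a z)
    rw [hterm _ _ _ hm]
    show φ a (φ q.out (π (φ q.out⁻¹ z))) = φ (a * q.out) (π (φ (a * q.out)⁻¹ (φ a z)))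
    rw [← hφmul, ← hφmul (a * q.out)⁻¹ a, mul_inv_rev, inv_mul_cancel_right]
  have hθT : ∀ z, (θ z : Ω) ∈ T := fun z => by
    show θ z ∈ T.subgroupOf Z
    rw [hθapp]
    exact Subgroup.prod_mem _ fun q _ => map_derived _ (hprT _)
  have hθn : ∀ z : Z, (z : Ω) ∈ T → θ z = z ^ n := fun z hz => by
    rw [hθapp, Finset.prod_congr rfl (fun q _ => (show term q.out z = z by
      show φ q.out (π (φ q.out⁻¹ z)) = z
      rw [hπT _ (map_derived _ hz), ← hφmul, mul_inv_cancel, hφ1])), Finset.prod_const,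
      Finset.card_univ]
  haveI := finite_of_le (S := S) (P := T) (hTZ.trans inf_le_left)
  have hTp : IsPGroup p T := hS.to_le (hTZ.trans inf_le_left)
  refine ⟨θ.ker.map Z.subtype, Subgroup.map_subtype_le _, ?_, ?_, ?_⟩
  · rw [eq_bot_iff]
    rintro _ ⟨hxT, z, hz, rfl⟩
    have h0 : z ^ n = 1 := (hθn z hxT).symm.trans hz
    have h1 := pow_ne_one_of_not_dvd (hS.to_le inf_le_left) hpn h0
    rw [h1]
    exact one_mem _
  · intro x hx
    have hsurj : Function.Surjective (fun t : T => t ^ n) := by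
      refine Finite.injective_iff_surjective.1 fun c d (h : c ^ n = d ^ n) => ?_
      have hc : Commute c d := Subtype.ext (commute_center (hTZ d.2) (hTZ c.2).1)
      have h2 : (c * d⁻¹) ^ n = 1 := by rw [hc.inv_right.mul_pow, inv_pow, h, mul_inv_cancel]
      exact mul_inv_eq_one.1 (pow_ne_one_of_not_dvd hTp hpn h2)
    obtain ⟨t, ht⟩ := hsurj ⟨_, hθT ⟨x, hx⟩⟩
    set tz : Z := ⟨t, hTZ t.2⟩ with htz
    have hk : θ (tz⁻¹ * ⟨x, hx⟩) = 1 := by
      rw [map_mul, map_inv, hθn tz t.2, inv_mul_eq_one]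
      exact Subtype.ext (by simpa [tz] using congrArg Subtype.val ht)
    have := Subgroup.mul_mem_sup (S := T) t.2 (Subgroup.mem_map_of_mem Z.subtype (MonoidHom.mem_ker.2 hk))
    simpa [tz] using this
  · rintro ψ hψ _ ⟨z, hz, rfl⟩
    exact ⟨φ ⟨ψ, hψ⟩ z, (heqv ⟨ψ, hψ⟩ z).trans (by rw [hz, map_one]), rfl⟩

/-- The fixed complement of an element inverting `S'` is the invariant one. -/
theorem compl_unique (hp : p ≠ 2) {T C C₀ : Subgroup Ω} (hTZ : T ≤ centralizerIn S S)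
    (hC : C ≤ centralizerIn S S) (hC₀ : C₀ ≤ centralizerIn S S) (hdisj : T ⊓ C = ⊥)
    (hdisj₀ : T ⊓ C₀ = ⊥) (hsup : centralizerIn S S ≤ T ⊔ C) (hsup₀ : centralizerIn S S ≤ T ⊔ C₀)
    (hTp : ∀ t ∈ T, t ^ p = 1) {φ : MulAut S} (hφ : φ ∈ F.autGroup S)
    (hinv : ∀ t ∈ T, autFun φ t = t⁻¹) (hfix : ∀ c ∈ C, autFun φ c = c)
    (hC₀inv : ∀ c ∈ C₀, autFun φ c ∈ C₀) : C = C₀ := by
  have hm := (mem_autGroup_iff le_rfl).1 hφ
  have hdecomp : ∀ {D : Subgroup Ω}, D ≤ centralizerIn S S → ∀ x ∈ T ⊔ D,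
      ∃ t ∈ T, ∃ d ∈ D, t * d = x := by
    intro D hD x hx
    have hn : T ≤ Subgroup.normalizer (D : Set Ω) := fun t ht =>
      mem_normalizer_of_center (hTZ ht) (hD.trans inf_le_left)
    have h : x ∈ ((T ⊔ D : Subgroup Ω) : Set Ω) := hx
    rw [Subgroup.coe_mul_of_left_le_normalizer_right T D hn] at h
    obtain ⟨t, ht, d, hd, he : t * d = _⟩ := Set.mem_mul.1 h
    exact ⟨t, ht, d, hd, he⟩
  have h1 : C ≤ C₀ := by
    intro c hc
    obtain ⟨t, ht, d, hd, he⟩ := hdecomp hC₀ c (hsup₀ (hC hc))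
    have h := hfix c hc
    rw [← he, hm.map_mul (hTZ ht).1 (hC₀ hd).1, hinv t ht] at h
    have h2 : t ^ 2 = autFun φ d * d⁻¹ := by
      calc t ^ 2 = t * (t * d) * d⁻¹ := by rw [sq]; group
        _ = t * (t⁻¹ * autFun φ d) * d⁻¹ := by rw [h]
        _ = autFun φ d * d⁻¹ := by rw [mul_inv_cancel_left]
    have h3 : t ^ 2 = 1 := Subgroup.mem_bot.1 (hdisj₀.le (Subgroup.mem_inf.2 ⟨pow_mem ht 2,
      h2 ▸ mul_mem (hC₀inv d hd) (inv_mem hd)⟩))
    have h4 := pow_fix_of_dvd hp h3 (hTp t ht)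
    rw [← he, h4, one_mul]
    exact hd
  refine le_antisymm h1 fun d hd => ?_
  obtain ⟨t, ht, c, hc, he⟩ := hdecomp hC d (hsup (hC₀ hd))
  have h4 : t = 1 := Subgroup.mem_bot.1 (hdisj₀.le (Subgroup.mem_inf.2 ⟨ht, by
    rw [show t = d * c⁻¹ from eq_mul_inv_of_mul_eq he]
    exact mul_mem hd (inv_mem (h1 hc))⟩))
  rwa [← he, h4, one_mul]

/-- For odd `p` the centre is the derived subgroup. -/
theorem center_eq_derived_odd (hp : p ≠ 2) (hS : IsPGroup p S) (hF : F.IsSaturated p)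
    (hcore : F.core = ⊥) (hidx : (centralizerIn S S).relIndex S = p ^ 2) {R₁ : Subgroup Ω}
    (hR₁ : F.IsEssential p R₁) : centralizerIn S S = ⁅S, S⁆ := by
  obtain ⟨a₁, hfr₁⟩ := exists_frame hS hF hidx hR₁
  haveI := hfr₁.mulComm
  obtain ⟨α, hα, hne⟩ := hfr₁.exists_moving hidx hS hR₁
  obtain ⟨hd1, hs1, -⟩ := hfr₁.split hidx hS hF hR₁ hα hne
  have hTZ := derived_le_center hidx
  have hTp : ∀ t ∈ ⁅S, S⁆, t ^ p = 1 := fun t ht => by
    have h : (⟨t, ht⟩ : (⁅S, S⁆ : Subgroup Ω)) ^ p = 1 := by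
      rw [← hfr₁.card_derived hidx]; exact pow_card_eq_one'
    exact congrArg Subtype.val h
  obtain ⟨C₀, hC₀, hd0, hs0, hinv⟩ :=
    exists_invariant_complement hS hF hTZ (hfr₁.compl_le hidx α) hd1 hs1
  have hbot : C₀ = ⊥ := by
    refine eq_bot_of_invariant hS hF hcore (hC₀.trans inf_le_left) (fun R hR => ?_) hinv
      fun R hR β hβ x hx => ?_
    · obtain ⟨a, hfr⟩ := exists_frame hS hF hidx hR
      exact hC₀.trans hfr.zle
    obtain ⟨a, hfr⟩ := exists_frame hS hF hidx hR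
    haveI := hfr.mulComm
    haveI := finite_of_le hfr.le
    haveI := finite_mulAut (P := R)
    by_cases hn : β * hfr.tv hidx * β⁻¹ ∈ Subgroup.zpowers (hfr.tv hidx)
    · obtain ⟨φ, hφ, hφe⟩ := hfr.extends_top hidx hS hF hR hβ hn
      rw [← hφe x (hfr.zle (hC₀ hx))]
      exact hinv φ hφ x hx
    have hceq : ∀ γ ∈ F.autGroup R, γ * hfr.tv hidx * γ⁻¹ ∉ Subgroup.zpowers (hfr.tv hidx) →
        hfr.compl hidx γ = C₀ := by
      intro γ hγ hγn
      obtain ⟨hd, hs, -⟩ := hfr.split hidx hS hF hR hγ hγn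
      obtain ⟨φ, hφ, hφi, hφf⟩ := hfr.exists_inverting hidx hS hF hR hγ hγn
      exact compl_unique hp hTZ (hfr.compl_le hidx γ) hC₀ hd hd0 hs hs0 hTp hφ hφi hφf (hinv φ hφ)
    set u := hfr.tv hidx with hu
    have hu' := hfr.isTrv hidx
    have hn' : β⁻¹ * u * β⁻¹⁻¹ ∉ Subgroup.zpowers u := by
      intro h
      obtain ⟨k, hk⟩ := Subgroup.mem_zpowers_iff.1 h
      have h1 : Subgroup.zpowers (β * u * β⁻¹) = Subgroup.zpowers u := by
        refine (Subgroup.eq_of_le_of_card_ge ?_ ?_).symm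
        · refine Subgroup.zpowers_le.2 (Subgroup.mem_zpowers_iff.2 ⟨k, ?_⟩)
          rw [conj_zpow, hk]
          group
        · rw [Nat.card_zpowers, Nat.card_zpowers, (hu'.conj β).orderOf, hu'.orderOf]
      exact hn (h1 ▸ Subgroup.mem_zpowers _)
    set r : R := ⟨x, hfr.zle (hC₀ hx)⟩
    have hxC : (r : Ω) ∈ hfr.compl hidx β⁻¹ := (hceq _ (inv_mem hβ) hn').ge hx
    obtain ⟨hr1, hr2⟩ := (hfr.mem_compl hidx).1 hxC
    rw [Transvection.dlt_conj, map_eq_one_iff _ (β⁻¹).injective, inv_inv] at hr2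
    rw [← hceq β hβ hn, show autFun β x = ((β r : R) : Ω) from autFun_coe β r, hfr.mem_compl hidx]
    refine ⟨hr2, ?_⟩
    rw [Transvection.dlt_conj, show β⁻¹ (β r) = r from MulEquiv.symm_apply_apply β r, hr1, map_one]
  exact le_antisymm (hs0.trans (by rw [hbot, sup_bot_eq])) hTZ

/-- An involution outside the centre, from each essential subgroup. -/
theorem exists_elem (hS : IsPGroup p S) (hF : F.IsSaturated p)
    (hidx : (centralizerIn S S).relIndex S = p ^ 2) {R : Subgroup Ω} (hR : F.IsEssential p R) :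
    ∃ b ∈ R, b ∉ centralizerIn S S ∧ b ^ p = 1 := by
  obtain ⟨a, hfr⟩ := exists_frame hS hF hidx hR
  haveI := hfr.mulComm
  obtain ⟨α, hα, hne⟩ := hfr.exists_moving hidx hS hR
  obtain ⟨-, -, -, -, -, hER, hexp, b, hb, hbZ⟩ := hfr.split hidx hS hF hR hα hne
  exact ⟨b, hER hb, hbZ, hexp b hb⟩

/-- An essential subgroup is generated by the centre and any other of its elements. -/
theorem essential_eq_of_mem (hS : IsPGroup p S) (hF : F.IsSaturated p)
    (hidx : (centralizerIn S S).relIndex S = p ^ 2) {R : Subgroup Ω} (hR : F.IsEssential p R)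
    {b : Ω} (hb : b ∈ R) (hbZ : b ∉ centralizerIn S S) :
    R = centralizerIn S S ⊔ Subgroup.zpowers b := by
  obtain ⟨a, hfr⟩ := exists_frame hS hF hidx hR
  have hle : centralizerIn S S ⊔ Subgroup.zpowers b ≤ R := sup_le hfr.zle (Subgroup.zpowers_le.2 hb)
  have hmul := Subgroup.relIndex_mul_relIndex _ _ R
    (le_sup_left : centralizerIn S S ≤ centralizerIn S S ⊔ Subgroup.zpowers b) hle
  rw [hfr.relZ] at hmul
  rcases (Nat.dvd_prime (Fact.out : p.Prime)).1 ⟨_, hmul.symm⟩ with h | h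
  · exact absurd (Subgroup.relIndex_eq_one.1 h (Subgroup.mem_sup_right (Subgroup.mem_zpowers b))) hbZ
  · rw [h] at hmul
    exact le_antisymm (Subgroup.relIndex_eq_one.1
      ((mul_eq_left₀ (Fact.out : p.Prime).ne_zero).1 hmul)) hle

theorem inter_essential (hS : IsPGroup p S) (hF : F.IsSaturated p)
    (hidx : (centralizerIn S S).relIndex S = p ^ 2) {R R' : Subgroup Ω} (hR : F.IsEssential p R)
    (hR' : F.IsEssential p R') (hne : R ≠ R') : R ⊓ R' ≤ centralizerIn S S := by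
  intro x hx
  by_contra hxZ
  exact hne ((essential_eq_of_mem hS hF hidx hR hx.1 hxZ).trans
    (essential_eq_of_mem hS hF hidx hR' hx.2 hxZ).symm)

theorem sup_essential (hS : IsPGroup p S) (hF : F.IsSaturated p)
    (hidx : (centralizerIn S S).relIndex S = p ^ 2) {R R' : Subgroup Ω} (hR : F.IsEssential p R)
    (hR' : F.IsEssential p R') (hne : R ≠ R') : R ⊔ R' = S := by
  obtain ⟨a, hfr⟩ := exists_frame hS hF hidx hR
  obtain ⟨b, hb, hbZ, -⟩ := exists_elem hS hF hidx hR'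
  have hbR : b ∉ R := fun h => hbZ (inter_essential hS hF hidx hR hR' hne ⟨h, hb⟩)
  have hle : R ⊔ R' ≤ S := sup_le hfr.le hR'.1.1
  have hmul := Subgroup.relIndex_mul_relIndex R (R ⊔ R') S le_sup_left hle
  rw [hfr.relR] at hmul
  rcases (Nat.dvd_prime (Fact.out : p.Prime)).1 ⟨_, hmul.symm⟩ with h | h
  · exact absurd (Subgroup.relIndex_eq_one.1 h (Subgroup.mem_sup_right hb)) hbR
  · rw [h] at hmul
    exact le_antisymm hle
      (Subgroup.relIndex_eq_one.1 ((mul_eq_left₀ (Fact.out : p.Prime).ne_zero).1 hmul))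

theorem exists_essential (hS : IsPGroup p S) (hF : F.IsSaturated p) (hS1 : S ≠ ⊥)
    (hcore : F.core = ⊥) : ∃ R, F.IsEssential p R := by
  by_contra h
  push Not at h
  exact hS1 (eq_bot_of_invariant hS hF hcore le_rfl (fun R hR => absurd hR (h R))
    (fun φ _ x hx => autFun_mem φ hx) fun R hR => absurd hR (h R))

end CfsgLib.Fusion.CenterIndex
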