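import Cfsg.Agent.Lib.Fusion.System.CenterIndex

/-!
# Complements to the derived subgroup in the centre
-/

set_option autoImplicit false
set_option linter.style.haveILetI false
set_option linter.unusedSectionVars false
set_option maxHeartbeats 400000

open Subgroup
open scoped Classical commutatorElement IsMulCommutative

namespace CfsgLib.Fusion.CenterIndex

open Cfsg (FusionSystem autInducedBy)
open Cfsg.FusionSystem (normalizerIn centralizerIn)
open CfsgLib.Fusion.Transvection (dlt IsTrv)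

variable {Ω : Type*} [Group Ω] {S : Subgroup Ω} [Finite S] {F : FusionSystem S} {p : ℕ}
  [Fact p.Prime]

omit [Fact p.Prime] in
theorem commute_center {z x : Ω} (hz : z ∈ centralizerIn S S) (hx : x ∈ S) : x * z = z * x :=
  Subgroup.mem_centralizer_iff.1 hz.2 x hx

omit [Fact p.Prime] in
theorem map_center (φ : MulAut S) {z : Ω} (hz : z ∈ centralizerIn S S) :
    autFun φ z ∈ centralizerIn S S := by
  refine ⟨autFun_mem φ hz.1, Subgroup.mem_centralizer_iff.2 fun y hy => ?_⟩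
  obtain ⟨x, hx⟩ := φ.surjective ⟨y, hy⟩
  have e : x * (⟨z, hz.1⟩ : S) = ⟨z, hz.1⟩ * x := Subtype.ext (commute_center hz x.2)
  have h := congrArg Subtype.val (congrArg φ e)
  rw [map_mul, map_mul, hx] at h
  rw [autFun_apply φ hz.1]
  exact h

omit [Fact p.Prime] in
theorem derived_eq_map : ⁅S, S⁆ = (commutator S).map S.subtype := by
  rw [commutator_def, Subgroup.map_commutator, ← MonoidHom.range_eq_map, Subgroup.range_subtype]

omit [Fact p.Prime] in
theorem map_derived (φ : MulAut S) {t : Ω} (ht : t ∈ ⁅S, S⁆) : autFun φ t ∈ ⁅S, S⁆ := by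
  rw [derived_eq_map] at ht ⊢
  obtain ⟨x, hx, rfl⟩ := ht
  refine ⟨φ x, ?_, (autFun_coe φ x).symm⟩
  have h := Subgroup.mem_map_of_mem φ.toMonoidHom hx
  rwa [commutator_def, Subgroup.map_commutator, ← MonoidHom.range_eq_map,
    MonoidHom.range_eq_top.2 φ.surjective, ← commutator_def] at h

theorem derived_le_center (hidx : (centralizerIn S S).relIndex S = p ^ 2) :
    ⁅S, S⁆ ≤ centralizerIn S S :=
  Subgroup.commutator_le.2 fun _ hx _ hy => commutator_mem hidx hx hy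

variable {R : Subgroup Ω} {a : Ω} (hfr : Frame S R p a)
  (hidx : (centralizerIn S S).relIndex S = p ^ 2) [IsMulCommutative R]
include hfr hidx

theorem Frame.card_derived : Nat.card (⁅S, S⁆ : Subgroup Ω) = p := by
  rw [← hfr.range_eq hidx, Subgroup.card_map_of_injective R.subtype_injective]
  exact (hfr.isTrv hidx).card

/-- The complement to `S'` in the centre defined by the automorphism `α` of `R`. -/
noncomputable def Frame.compl (α : MulAut R) : Subgroup Ω :=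
  ((dlt (hfr.tv hidx)).ker ⊓ (dlt (α * hfr.tv hidx * α⁻¹)).ker).map R.subtype

/-- The natural module inside `R` defined by the automorphism `α`. -/
noncomputable def Frame.elem (α : MulAut R) : Subgroup Ω :=
  ((dlt (hfr.tv hidx)).range ⊔ (dlt (α * hfr.tv hidx * α⁻¹)).range).map R.subtype

theorem Frame.mem_compl {α : MulAut R} {r : R} :
    (r : Ω) ∈ hfr.compl hidx α ↔
      dlt (hfr.tv hidx) r = 1 ∧ dlt (α * hfr.tv hidx * α⁻¹) r = 1 := by
  rw [Frame.compl]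
  constructor
  · rintro ⟨r', hr', he⟩
    rw [← R.subtype_injective he]
    exact hr'
  · exact fun h => ⟨r, h, rfl⟩

theorem Frame.compl_le (α : MulAut R) : hfr.compl hidx α ≤ centralizerIn S S := by
  rintro _ ⟨r, hr, rfl⟩
  exact (hfr.dlt_eq_one_iff hidx r).1 hr.1

variable (hS : IsPGroup p S) (hF : F.IsSaturated p) (hR : F.IsEssential p R)
include hS hF hR

omit hF in
theorem Frame.isPGroup : IsPGroup p R := hS.to_le hfr.le

theorem Frame.split {α : MulAut R} (hα : α ∈ F.autGroup R)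
    (hne : α * hfr.tv hidx * α⁻¹ ∉ Subgroup.zpowers (hfr.tv hidx)) :
    ⁅S, S⁆ ⊓ hfr.compl hidx α = ⊥ ∧ centralizerIn S S ≤ ⁅S, S⁆ ⊔ hfr.compl hidx α ∧
      R ≤ hfr.elem hidx α ⊔ hfr.compl hidx α ∧ ⁅S, S⁆ ≤ hfr.elem hidx α ∧
      hfr.elem hidx α ⊓ centralizerIn S S ≤ ⁅S, S⁆ ∧ hfr.elem hidx α ≤ R ∧
      (∀ x ∈ hfr.elem hidx α, x ^ p = 1) ∧
      ∃ b ∈ hfr.elem hidx α, b ∉ centralizerIn S S := by
  haveI := finite_of_le hfr.le
  haveI := finite_mulAut (P := R)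
  set u := hfr.tv hidx
  set u' := α * u * α⁻¹ with hu'def
  have hu := hfr.isTrv hidx
  have hu' := hu.conj α
  have huL : u ∈ F.autGroup R := hfr.tv_mem hidx
  have hu'L : u' ∈ F.autGroup R := mul_mem (mul_mem hα huL) (inv_mem hα)
  obtain ⟨τ, τ', e1, e2, e3, e4, hT, hT', hdec⟩ :=
    Transvection.exists_basis (hfr.isPGroup hidx hS hR) (hfr.sylow hidx hS hF hR) hu hu' huL hu'L hne
  have hTS := hfr.range_eq hidx
  have hτ1 : τ ≠ 1 := fun h => e4 (by rw [h, map_one])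
  have hzfix : ∀ i j : ℤ, ∀ c : R, dlt u c = 1 → dlt u (τ ^ i * τ' ^ j * c) = 1 → τ' ^ j = 1 := by
    intro i j c hc h
    rw [map_mul, map_mul, map_zpow, map_zpow, e2, e1, hc, one_zpow, one_mul, mul_one] at h
    have ho : orderOf τ = p := by
      rw [← Nat.card_zpowers, hT]; exact hu.card
    have ho' : orderOf τ' = p := by
      rw [← Nat.card_zpowers, hT']; exact hu'.card
    refine orderOf_dvd_iff_zpow_eq_one.1 ?_
    rw [ho', ← ho]
    exact orderOf_dvd_iff_zpow_eq_one.2 h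
  refine ⟨?_, ?_, ?_, ?_, ?_, Subgroup.map_subtype_le _, ?_, ?_⟩
  · rw [eq_bot_iff]
    rintro x ⟨hxT, hxC⟩
    rw [← hTS] at hxT
    obtain ⟨r, hr, rfl⟩ := hxT
    have hr' := (hfr.mem_compl hidx).1 hxC
    by_contra hx1
    have hr1 : r ≠ 1 := fun h => hx1 (by rw [h]; exact one_mem _)
    have h : τ ∈ Subgroup.zpowers r := by
      rw [hu.zpowers_eq hr hr1, ← hT]
      exact Subgroup.mem_zpowers τ
    obtain ⟨k, hk⟩ := Subgroup.mem_zpowers_iff.1 h
    exact e4 (by rw [← hk, map_zpow, hr'.2, one_zpow])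
  · intro z hz
    obtain ⟨i, j, c, hc, hc', he⟩ := hdec ⟨z, hfr.zle hz⟩
    have h := (hfr.dlt_eq_one_iff hidx ⟨z, hfr.zle hz⟩).2 hz
    rw [he] at h
    rw [show z = ((τ ^ i * τ' ^ j * c : R) : Ω) from congrArg Subtype.val he, hzfix i j c hc h,
      mul_one, Subgroup.coe_mul]
    refine Subgroup.mul_mem_sup ?_ ((hfr.mem_compl hidx).2 ⟨hc, hc'⟩)
    rw [← hTS]
    exact ⟨_, zpow_mem (hT ▸ Subgroup.mem_zpowers τ) i, rfl⟩
  · intro x hx
    obtain ⟨i, j, c, hc, hc', he⟩ := hdec ⟨x, hx⟩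
    rw [show x = ((τ ^ i * τ' ^ j * c : R) : Ω) from congrArg Subtype.val he, Subgroup.coe_mul]
    exact Subgroup.mul_mem_sup ⟨_, Subgroup.mul_mem_sup (zpow_mem (hT ▸ Subgroup.mem_zpowers τ) i)
      (zpow_mem (hT' ▸ Subgroup.mem_zpowers τ') j), rfl⟩ ((hfr.mem_compl hidx).2 ⟨hc, hc'⟩)
  · rw [← hTS]
    exact Subgroup.map_mono le_sup_left
  · rintro _ ⟨⟨r, hr, rfl⟩, hz⟩
    rw [← hT, ← hT'] at hr
    obtain ⟨y, hy, y', hy', rfl⟩ := Subgroup.mem_sup.1 hr
    obtain ⟨i, rfl⟩ := Subgroup.mem_zpowers_iff.1 hy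
    obtain ⟨j, rfl⟩ := Subgroup.mem_zpowers_iff.1 hy'
    have h := (hfr.dlt_eq_one_iff hidx (τ ^ i * τ' ^ j)).2 hz
    have hj := hzfix i j 1 (map_one _) (by rwa [mul_one])
    show ((τ ^ i * τ' ^ j : R) : Ω) ∈ _
    rw [hj, mul_one, ← hTS]
    exact ⟨_, zpow_mem (hT ▸ Subgroup.mem_zpowers τ) i, rfl⟩
  · rintro _ ⟨r, hr, rfl⟩
    obtain ⟨y, hy, y', hy', rfl⟩ := Subgroup.mem_sup.1 hr
    rw [← map_pow, mul_pow, hu.pow_eq_one hy, hu'.pow_eq_one hy', mul_one, map_one]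
  · refine ⟨(τ' : Ω), ⟨τ', Subgroup.mem_sup_right (hT' ▸ Subgroup.mem_zpowers τ'), rfl⟩, fun h => ?_⟩
    exact hτ1 (e1.symm.trans ((hfr.dlt_eq_one_iff hidx τ').2 h))

/-- For odd `p` an automorphism of `S` inverts `S'` and fixes the complement. -/
theorem Frame.exists_inverting {α : MulAut R} (hα : α ∈ F.autGroup R)
    (hne : α * hfr.tv hidx * α⁻¹ ∉ Subgroup.zpowers (hfr.tv hidx)) :
    ∃ φ ∈ F.autGroup S, (∀ t ∈ ⁅S, S⁆, autFun φ t = t⁻¹) ∧
      ∀ c ∈ hfr.compl hidx α, autFun φ c = c := by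
  haveI := finite_of_le hfr.le
  haveI := finite_mulAut (P := R)
  have hu := hfr.isTrv hidx
  obtain ⟨t, ht, htT, htC, htu, -⟩ := Transvection.exists_neg (hfr.isPGroup hidx hS hR)
    (hfr.sylow hidx hS hF hR) hu (hu.conj α) (hfr.tv_mem hidx)
    (mul_mem (mul_mem hα (hfr.tv_mem hidx)) (inv_mem hα)) hne
  obtain ⟨φ, hφ, hφt⟩ := hfr.extends_top hidx hS hF hR ht (by
    rw [htu.eq, mul_inv_cancel_right]; exact Subgroup.mem_zpowers _)
  refine ⟨φ, hφ, fun x hx => ?_, ?_⟩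
  · rw [← hfr.range_eq hidx] at hx
    obtain ⟨r, hr, rfl⟩ := hx
    show autFun φ (r : Ω) = (r : Ω)⁻¹
    rw [hφt _ r.2, autFun_coe, htT r hr, Subgroup.coe_inv]
  · rintro _ ⟨r, hr, rfl⟩
    show autFun φ (r : Ω) = (r : Ω)
    rw [hφt _ r.2, autFun_coe, htC r hr.1 hr.2]

end CfsgLib.Fusion.CenterIndex
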