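import Cfsg.Agent.Lib.Fusion.System.CenterIndexCore
import Cfsg.Agent.Lib.Fusion.ZJElementary
import Cfsg.Agent.Lib.Fusion.System.Alperin

/-!
# Two essential subgroups, and the structure of `S`
-/

set_option autoImplicit false
set_option linter.style.haveILetI false
set_option linter.unusedSectionVars false
set_option maxHeartbeats 600000

open Subgroup
open scoped Classical commutatorElement IsMulCommutative

namespace CfsgLib.Fusion.CenterIndex

open Cfsg (FusionSystem autInducedBy)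
open Cfsg.FusionSystem (normalizerIn centralizerIn)
open CfsgLib.Fusion.Transvection (dlt IsTrv)

variable {Ω : Type*} [Group Ω] {S : Subgroup Ω} [Finite S] {F : FusionSystem S} {p : ℕ}
  [Fact p.Prime]

/-- Images of essential subgroups under automorphisms of `S` are essential. -/
theorem isEssential_image (hS : IsPGroup p S) (hF : F.IsSaturated p)
    (hidx : (centralizerIn S S).relIndex S = p ^ 2) {R : Subgroup Ω} (hR : F.IsEssential p R)
    {φ : MulAut S} (hφ : φ ∈ F.autGroup S) : F.IsEssential p (img R (autFun φ)) := by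
  obtain ⟨a, hfr⟩ := exists_frame hS hF hidx hR
  haveI := hfr.mulComm
  haveI := finite_of_le hfr.le
  haveI := finite_mulAut (P := R)
  set R' := img R (autFun φ) with hR'
  have hφm := (mem_autGroup_iff le_rfl).1 hφ
  have hφi := (mem_autGroup_iff le_rfl).1 (inv_mem hφ)
  have hφR := hφm.mono hfr.le
  have hR'S : R' ≤ S := hφR.img_le
  have hcard : Nat.card R' = Nat.card R := hφR.card_img
  have hcanc : ∀ x ∈ S, autFun φ⁻¹ (autFun φ x) = x := fun x hx => by
    rw [← autFun_mul _ _ hx, inv_mul_cancel, autFun_one hx]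
  have hcanc' : ∀ x ∈ S, autFun φ (autFun φ⁻¹ x) = x := fun x hx => by
    rw [← autFun_mul _ _ hx, mul_inv_cancel, autFun_one hx]
  have hZR' : centralizerIn S S ≤ R' := fun z hz => hφR.mem_img.2
    ⟨autFun φ⁻¹ z, hfr.zle (map_center φ⁻¹ hz), hcanc' z hz.1⟩
  have hn := le_normalizer_of_center_le hidx hR'S hZR'
  have hfn : F.IsFullyNormalized R' :=
    ⟨hR'S, fun Q _ => card_le_of_le' inf_le_left (inf_le_left.trans hn)⟩
  have hlt : R' < S := lt_of_le_of_ne hR'S fun e => hfr.notMem (by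
    have h : R = S := eq_of_le_of_card_le le_rfl hfr.le (by rw [← hcard, e])
    rw [h]; exact hfr.mem)
  refine isEssential_of_extGroup_ne hS hF hlt hfn fun heq => ?_
  -- otherwise every automorphism of `R` extends to `S`
  have hext : ∀ α ∈ extGroup F R', ∃ g, IsMap F S g ∧ ∀ x ∈ R', g x = autFun α x := by
    intro α hα
    induction hα using Subgroup.closure_induction with
    | mem α hα =>
      obtain ⟨Q, g, hQ, hg, hge⟩ := hα
      have hQS : Q = S := by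
        have hmul := Subgroup.relIndex_mul_relIndex R' Q S hQ.le hg.le
        have hidx' : R'.relIndex S = p := by
          have e1 := Subgroup.relIndex_mul_relIndex ⊥ R' S bot_le hR'S
          have e2 := Subgroup.relIndex_mul_relIndex ⊥ R S bot_le hfr.le
          rw [Subgroup.relIndex_bot_left, Subgroup.relIndex_bot_left] at e1 e2
          rw [hcard] at e1
          haveI : Nonempty R := ⟨1⟩
          exact (Nat.eq_of_mul_eq_mul_left Nat.card_pos (e1.trans e2.symm)).trans hfr.relR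
        rw [hidx'] at hmul
        rcases (Nat.dvd_prime (Fact.out : p.Prime)).1 ⟨_, hmul.symm⟩ with h | h
        · exact absurd (le_antisymm hQ.le (Subgroup.relIndex_eq_one.1 h)) hQ.ne
        · rw [h] at hmul
          exact le_antisymm hg.le
            (Subgroup.relIndex_eq_one.1 ((mul_eq_left₀ (Fact.out : p.Prime).ne_zero).1 hmul))
      exact ⟨g, hQS ▸ hg, hge⟩
    | one => exact ⟨id, isMap_id le_rfl, fun x hx => (autFun_one hx).symm⟩
    | mul α β _ _ iα iβ =>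
      obtain ⟨g, hg, hge⟩ := iα
      obtain ⟨h, hh, hhe⟩ := iβ
      refine ⟨g ∘ h, hh.comp hg fun x hx => hh.mem_S hx, fun x hx => ?_⟩
      show g (h x) = _
      rw [hhe x hx, hge _ (autFun_mem _ hx), autFun_mul _ _ hx]
    | inv α _ iα =>
      obtain ⟨g, hg, hge⟩ := iα
      obtain ⟨g', hg', hg'1, -⟩ := hg.exists_inv
      have himg : img S g = S := eq_of_le_of_card_le le_rfl hg.img_le hg.card_img.ge
      rw [himg] at hg'
      refine ⟨g', hg', fun x hx => ?_⟩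
      have h : g (autFun α⁻¹ x) = x := by
        rw [hge _ (autFun_mem _ hx), ← autFun_mul _ _ hx, mul_inv_cancel, autFun_one hx]
      conv_lhs => rw [← h]
      exact hg'1 _ (hR'S (autFun_mem _ hx))
  obtain ⟨β, hβ, hβn⟩ := hfr.exists_moving hidx hS hR
  have hβm := (mem_autGroup_iff hfr.le).1 hβ
  have hmem : ∀ x ∈ R', autFun φ⁻¹ x ∈ R := fun x hx => by
    obtain ⟨y, hy, rfl⟩ := hφR.mem_img.1 hx
    rw [hcanc y (hfr.le hy)]; exact hy
  have hγ : IsMap F R' (autFun φ ∘ autFun β ∘ autFun φ⁻¹) :=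
    ((hφi.mono hR'S).comp hβm hmem).comp hφR fun x hx => autFun_mem _ (hmem x hx)
  have hγimg : img R' (autFun φ ∘ autFun β ∘ autFun φ⁻¹) = R' :=
    img_eq_of_map_le hR'S hγ le_rfl fun x hx => hφR.mem_img.2 ⟨_, autFun_mem _ (hmem x hx), rfl⟩
  obtain ⟨g, hg, hge⟩ := hext _ (heq.ge (autOf_mem hγ hγimg))
  have hh : IsMap F S (autFun φ⁻¹ ∘ g ∘ autFun φ) :=
    ((hφm.comp hg fun x hx => autFun_mem _ hx)).comp hφi fun x hx => hg.mem_S (autFun_mem _ hx)
  set h := autFun φ⁻¹ ∘ g ∘ autFun φ with hhd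
  have hhe : ∀ x ∈ R, h x = autFun β x := fun x hx => by
    show autFun φ⁻¹ (g (autFun φ x)) = _
    have hxR' : autFun φ x ∈ R' := hφR.mem_img.2 ⟨x, hx, rfl⟩
    rw [hge _ hxR', autFun_autOf hγ hγimg hxR']
    show autFun φ⁻¹ (autFun φ (autFun β (autFun φ⁻¹ (autFun φ x)))) = _
    rw [hcanc x (hfr.le hx), hcanc _ (hfr.le (autFun_mem _ hx))]
  refine hβn (hfr.autInducedBy_le hidx (mem_autInducedBy_iff.2 ⟨h a, hh.mem_S hfr.mem,
    fun x hx => ?_⟩))
  have hy : autFun β⁻¹ x ∈ R := autFun_mem _ hx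
  rw [autFun_mul _ _ hx, autFun_mul _ _ hy,
    show autFun (hfr.tv hidx) (autFun β⁻¹ x) = a * autFun β⁻¹ x * a⁻¹ from autFun_conjAut _ hy,
    ← hhe _ ((Subgroup.mem_normalizer_iff.1 (hfr.normal hidx hfr.mem).2 _).1 hy),
    hh.map_conj hfr.mem (hfr.le hy), hhe _ hy, ← autFun_mul _ _ hx, mul_inv_cancel, autFun_one hx]

/-- There are two essential subgroups. -/
theorem exists_two_essential (hS : IsPGroup p S) (hF : F.IsSaturated p) (hS1 : S ≠ ⊥)
    (hcore : F.core = ⊥) (hidx : (centralizerIn S S).relIndex S = p ^ 2) :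
    ∃ R₁ R₂, F.IsEssential p R₁ ∧ F.IsEssential p R₂ ∧ R₁ ≠ R₂ := by
  obtain ⟨R, hR⟩ := exists_essential hS hF hS1 hcore
  by_contra h
  push Not at h
  have hall : ∀ R', F.IsEssential p R' → R' = R := fun R' hR' => h R' R hR' hR
  obtain ⟨b, hb, hbZ, -⟩ := exists_elem hS hF hidx hR
  have hbot := eq_bot_of_invariant hS hF hcore hR.1.1 (fun R' hR' => (hall R' hR').ge)
    (fun φ hφ x hx => (hall _ (isEssential_image hS hF hidx hR hφ)).le
      ((((mem_autGroup_iff le_rfl).1 hφ).mono hR.1.1).mem_img.2 ⟨x, hx, rfl⟩))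
    fun R' hR' β hβ x hx => by
      have e := hall R' hR'
      subst e
      exact autFun_mem β hx
  rw [hbot] at hb
  exact hbZ (Subgroup.mem_bot.1 hb ▸ one_mem _)

/-! ### The prime `2` -/

section Two

variable (hp : p = 2) (hS : IsPGroup p S) (hF : F.IsSaturated p)
  (hidx : (centralizerIn S S).relIndex S = p ^ 2)
include hp hS hF hidx

/-- The data of an essential subgroup for `p = 2`. -/
theorem two_data {R : Subgroup Ω} (hR : F.IsEssential p R) :
    ∃ E C : Subgroup Ω, E ≤ R ∧ C ≤ centralizerIn S S ∧ R ≤ E ⊔ C ∧ ⁅S, S⁆ ≤ E ∧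
      E ⊓ centralizerIn S S ≤ ⁅S, S⁆ ∧ ⁅S, S⁆ ⊓ C = ⊥ ∧ centralizerIn S S ≤ ⁅S, S⁆ ⊔ C ∧
      Nat.card (⁅S, S⁆ : Subgroup Ω) = p ∧
      ∀ β ∈ F.autGroup R, (∀ e ∈ E, autFun β e ∈ E) ∧ (∀ c ∈ C, autFun β c ∈ C) ∧
        ∃ φ ∈ F.autGroup S, ∀ c ∈ C, autFun β c = autFun φ c := by
  obtain ⟨a, hfr⟩ := exists_frame hS hF hidx hR
  haveI := hfr.mulComm
  haveI := finite_of_le hfr.le
  haveI := finite_mulAut (P := R)
  obtain ⟨α, hα, hne⟩ := hfr.exists_moving hidx hS hR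
  obtain ⟨hd, hs, hRle, hTE, hEZ, hER, -, -⟩ := hfr.split hidx hS hF hR hα hne
  refine ⟨hfr.elem hidx α, hfr.compl hidx α, hER, hfr.compl_le hidx α, hRle, hTE, hEZ, hd, hs,
    hfr.card_derived hidx, fun β hβ => ?_⟩
  set u := hfr.tv hidx
  have hne' : α * u * α⁻¹ ≠ u := fun e => hne (by rw [e]; exact Subgroup.mem_zpowers _)
  have hpair := Transvection.two_pair (hfr.isPGroup hidx hS hR) (hfr.sylow hidx hS hF hR) hp
    (hfr.isTrv hidx) (hfr.tv_mem hidx) hα hne'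
  obtain ⟨hC, hE, m, hm, n, hn, hmn, hnu, hmc⟩ := hpair β hβ
  obtain ⟨φ, hφ, hφn⟩ := hfr.extends_top hidx hS hF hR hn (by
    rw [hnu.eq, mul_inv_cancel_right]; exact Subgroup.mem_zpowers _)
  refine ⟨?_, ?_, φ, hφ, ?_⟩
  · rintro _ ⟨e, he, rfl⟩
    exact ⟨β e, hE e he, (autFun_coe β e).symm⟩
  · rintro _ ⟨c, hc, rfl⟩
    exact ⟨β c, hC c hc.1 hc.2, (autFun_coe β c).symm⟩
  · rintro _ ⟨c, hc, rfl⟩
    show autFun β (c : Ω) = autFun φ (c : Ω)
    have h1 := (hpair n hn).1 c hc.1 hc.2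
    rw [hφn _ c.2, autFun_coe, autFun_coe, hmn, MulAut.mul_apply, hmc _ h1.1 h1.2]

/-- There are at most two essential subgroups. -/
theorem not_three {R₁ R₂ R₃ : Subgroup Ω} (h₁ : F.IsEssential p R₁) (h₂ : F.IsEssential p R₂)
    (h₃ : F.IsEssential p R₃) (h12 : R₁ ≠ R₂) (h13 : R₁ ≠ R₃) (h23 : R₂ ≠ R₃) : False := by
  obtain ⟨b₁, hb₁, hb₁Z, hb₁2⟩ := exists_elem hS hF hidx h₁
  obtain ⟨b₂, hb₂, hb₂Z, hb₂2⟩ := exists_elem hS hF hidx h₂
  obtain ⟨b₃, hb₃, hb₃Z, hb₃2⟩ := exists_elem hS hF hidx h₃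
  obtain ⟨E, C, -, hC, -, -, -, hd, hs, hcard, -⟩ := two_data hp hS hF hidx h₁
  subst hp
  obtain ⟨a, hfr⟩ := exists_frame hS hF hidx h₁
  have hb₂R : b₂ ∉ R₁ := fun h => hb₂Z (inter_essential hS hF hidx h₁ h₂ h12 ⟨h, hb₂⟩)
  have hb₃R : b₃ ∉ R₁ := fun h => hb₃Z (inter_essential hS hF hidx h₁ h₃ h13 ⟨h, hb₃⟩)
  have hfr₂ : Frame S R₁ 2 b₂ := ⟨hfr.le, hfr.zle, hfr.comm, h₂.1.1 hb₂, hb₂R, hfr.relR, hfr.relZ⟩
  have hN : Subgroup.zpowers b₂ ≤ Subgroup.normalizer (R₁ : Set Ω) :=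
    Subgroup.zpowers_le.2 (hfr.normal hidx (h₂.1.1 hb₂)).2
  have h : b₃ ∈ ((R₁ ⊔ Subgroup.zpowers b₂ : Subgroup Ω) : Set Ω) := hfr₂.sup_eq.ge (h₃.1.1 hb₃)
  rw [Subgroup.coe_mul_of_right_le_normalizer_left R₁ _ hN] at h
  obtain ⟨r, hr, y, hy, he : r * y = b₃⟩ := Set.mem_mul.1 h
  obtain ⟨k, hk⟩ := Subgroup.mem_zpowers_iff.1 hy
  have hb₂sq : b₂ * b₂ = 1 := by rw [← sq, hb₂2]
  have hy' : y = b₂ := by
    rcases Int.even_or_odd k with ⟨q, rfl⟩ | ⟨q, rfl⟩
    · exfalso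
      rw [← two_mul, zpow_mul, zpow_ofNat, hb₂2, one_zpow] at hk
      rw [← hk, mul_one] at he
      exact hb₃R (he ▸ hr)
    · rw [zpow_add, zpow_mul, zpow_ofNat, hb₂2, one_zpow, one_mul, zpow_one] at hk
      exact hk.symm
  rw [hy'] at he
  have hrZ : r ∉ centralizerIn S S := fun hz => h23 <| by
    have : b₃ ∈ R₂ := by
      obtain ⟨a₂, hf2⟩ := exists_frame hS hF hidx h₂
      rw [← he]; exact mul_mem (hf2.zle hz) hb₂
    exact ((essential_eq_of_mem hS hF hidx h₂ this hb₃Z).trans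
      (essential_eq_of_mem hS hF hidx h₃ hb₃ hb₃Z).symm)
  -- `r = z b₁`
  have hR₁e := essential_eq_of_mem hS hF hidx h₁ hb₁ hb₁Z
  have hN₁ : Subgroup.zpowers b₁ ≤ Subgroup.normalizer (centralizerIn S S : Set Ω) := fun w hw =>
    (le_normalizer_of_center_le hidx inf_le_left le_rfl
      (Subgroup.zpowers_le.2 (h₁.1.1 hb₁) hw)).2
  have hr' : r ∈ ((centralizerIn S S ⊔ Subgroup.zpowers b₁ : Subgroup Ω) : Set Ω) := hR₁e.le hr
  rw [Subgroup.coe_mul_of_right_le_normalizer_left _ _ hN₁] at hr'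
  obtain ⟨z, hz, w, hw, hzw : z * w = r⟩ := Set.mem_mul.1 hr'
  obtain ⟨j, hj⟩ := Subgroup.mem_zpowers_iff.1 hw
  have hw' : w = b₁ := by
    rcases Int.even_or_odd j with ⟨q, rfl⟩ | ⟨q, rfl⟩
    · exfalso
      rw [← two_mul, zpow_mul, zpow_ofNat, hb₁2, one_zpow] at hj
      rw [← hj, mul_one] at hzw
      exact hrZ (hzw ▸ hz)
    · rw [zpow_add, zpow_mul, zpow_ofNat, hb₁2, one_zpow, one_mul, zpow_one] at hj
      exact hj.symm
  rw [hw'] at hzw
  have hb₁S := h₁.1.1 hb₁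
  have hb₂S := h₂.1.1 hb₂
  have hb₁sq : b₁ * b₁ = 1 := by rw [← sq, hb₁2]
  have hi1 : b₁⁻¹ = b₁ := inv_eq_of_mul_eq_one_right hb₁sq
  have hi2 : b₂⁻¹ = b₂ := inv_eq_of_mul_eq_one_right hb₂sq
  have hcT : ⁅b₁, b₂⁆ ∈ ⁅S, S⁆ := Subgroup.commutator_mem_commutator hb₁S hb₂S
  have hcm : z * z * ⁅b₁, b₂⁆ = 1 := by
    have h3 : (z * b₁ * b₂) * (z * b₁ * b₂) = 1 := by rw [hzw, he, ← sq, hb₃2]
    rw [commutatorElement_def, hi1, hi2]
    calc z * z * (b₁ * b₂ * b₁ * b₂) = z * (z * (b₁ * b₂)) * (b₁ * b₂) := by group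
      _ = z * ((b₁ * b₂) * z) * (b₁ * b₂) := by
        rw [commute_center hz (S.mul_mem hb₁S hb₂S)]
      _ = (z * b₁ * b₂) * (z * b₁ * b₂) := by group
      _ = 1 := h3
  have hzz : z * z = 1 := by
    obtain ⟨t, ht, c, hc, htc⟩ : ∃ t ∈ ⁅S, S⁆, ∃ c ∈ C, t * c = z := by
      have h' : z ∈ ((⁅S, S⁆ ⊔ C : Subgroup Ω) : Set Ω) := hs hz
      rw [Subgroup.coe_mul_of_left_le_normalizer_right _ C (fun t ht =>
        mem_normalizer_of_center (derived_le_center hidx ht) (hC.trans inf_le_left))] at h'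
      obtain ⟨t, ht, c, hc, e : t * c = z⟩ := Set.mem_mul.1 h'
      exact ⟨t, ht, c, hc, e⟩
    have ht2 : t * t = 1 := by
      have h' : (⟨t, ht⟩ : (⁅S, S⁆ : Subgroup Ω)) ^ 2 = 1 := by rw [← hcard]; exact pow_card_eq_one'
      have := congrArg Subtype.val h'
      rwa [SubmonoidClass.coe_pow, sq] at this
    have e : z * z = c * c := by
      rw [← htc]
      calc t * c * (t * c) = t * (c * t) * c := by group
        _ = t * (t * c) * c := by rw [← commute_center (hC hc) (derived_le_center hidx ht).1]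
        _ = (t * t) * (c * c) := by group
        _ = c * c := by rw [ht2, one_mul]
    refine Subgroup.mem_bot.1 (hd.le (Subgroup.mem_inf.2 ⟨?_, e ▸ mul_mem hc hc⟩))
    rw [eq_inv_of_mul_eq_one_left hcm]
    exact inv_mem hcT
  rw [hzz, one_mul] at hcm
  -- `b₁` commutes with everything
  refine hb₁Z ⟨hb₁S, Subgroup.mem_centralizer_iff.2 fun s hs' => ?_⟩
  have hle : R₁ ⊔ Subgroup.zpowers b₂ ≤ Subgroup.centralizer {b₁} := by
    refine sup_le (fun w hw => ?_) (Subgroup.zpowers_le.2 ?_)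
    · exact Subgroup.mem_centralizer_iff.2 fun v hv => by
        rw [Set.mem_singleton_iff.1 hv]; exact hfr.comm b₁ hb₁ w hw
    · exact Subgroup.mem_centralizer_iff.2 fun v hv => by
        rw [Set.mem_singleton_iff.1 hv]; exact commutatorElement_eq_one_iff_mul_comm.1 hcm
  exact ((Subgroup.mem_centralizer_iff.1 (hle (hfr₂.sup_eq.ge hs'))) b₁ rfl).symm

/-- Automorphisms of `S` stabilize both essential subgroups. -/
theorem img_essential {R₁ R₂ : Subgroup Ω} (h₁ : F.IsEssential p R₁) (h₂ : F.IsEssential p R₂)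
    (h12 : R₁ ≠ R₂) {φ : MulAut S} (hφ : φ ∈ F.autGroup S) : img R₁ (autFun φ) = R₁ := by
  haveI := finite_mulAut (P := S)
  set A := F.autGroup S with hA
  have him : ∀ {R : Subgroup Ω}, R ≤ S → ∀ g h : A,
      img R (autFun ((g * h : A) : MulAut S)) = img (img R (autFun (h : MulAut S))) (autFun (g : MulAut S)) := by
    intro R hR g h
    rw [img_img (((mem_autGroup_iff le_rfl).1 h.2).mono hR)]
    exact IsMap.img_congr fun x hx => autFun_mul _ _ (hR hx)
  have hone : ∀ {R : Subgroup Ω}, R ≤ S → img R (autFun ((1 : A) : MulAut S)) = R := fun hR =>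
    (IsMap.img_congr fun x hx => autFun_one (hR hx)).trans img_id
  let H : Subgroup A :=
    { carrier := {g | img R₁ (autFun (g : MulAut S)) = R₁}
      one_mem' := hone h₁.1.1
      mul_mem' := fun {g h} (hg : _ = _) (hh : _ = _) => by
        show img R₁ _ = R₁
        rw [him h₁.1.1, hh, hg]
      inv_mem' := fun {g} (hg : _ = _) => by
        show img R₁ _ = R₁
        conv_lhs => rw [← hg, ← him h₁.1.1, inv_mul_cancel, hone h₁.1.1] }
  have hInn : (autInducedBy S S).subgroupOf A ≤ H := by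
    intro g hg
    obtain ⟨s, hs, hse⟩ := mem_autInducedBy_iff.1 (Subgroup.mem_subgroupOf.1 hg)
    obtain ⟨a, hfr⟩ := exists_frame hS hF hidx h₁
    show img R₁ _ = R₁
    rw [IsMap.img_congr fun x hx => hse x (hfr.le hx), img_conj]
    exact conjBy_eq_iff.2 (hfr.normal hidx hs).2
  have hother : ∀ g : A, g ∉ H → img R₁ (autFun (g : MulAut S)) = R₂ := fun g hg => by
    by_contra h
    exact not_three hp hS hF hidx (isEssential_image hS hF hidx h₁ g.2) h₁ h₂ hg h h12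
  by_contra hne
  have hodd : ¬ 2 ∣ H.index := by
    intro h
    have h3 := ((isFullyAutomized_iff hS).1
      (IsSaturated.automized_receptive hS hF isFullyNormalized_self).1).2
    refine h3 ?_
    subst hp
    exact h.trans (Subgroup.index_dvd_of_le hInn)
  apply hodd
  have hmem : (⟨φ, hφ⟩ : A) ∉ H := hne
  rw [Subgroup.index_eq_two_iff.2 ⟨⟨φ, hφ⟩, fun b => ?_⟩]
  by_cases hb : b ∈ H
  · refine Or.inr ⟨hb, fun hm => hmem ?_⟩
    have := H.mul_mem (H.inv_mem hb) hm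
    rwa [inv_mul_cancel_left] at this
  · refine Or.inl ⟨?_, hb⟩
    show img R₁ _ = R₁
    have hg := hother _ hmem
    rw [him h₁.1.1, hg]
    -- `b` sends `R₂` to `R₁`
    by_contra h
    refine not_three hp hS hF hidx (isEssential_image hS hF hidx h₂ b.2) h₁ h₂ h (fun e => ?_) h12
    have e2 := hother b hb
    have hbm := (mem_autGroup_iff le_rfl).1 b.2
    refine h12 (le_antisymm (fun x hx => ?_) fun x hx => ?_)
    · obtain ⟨y, hy, hye⟩ := (hbm.mono h₂.1.1).mem_img.1 (e.ge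
        (e2.le ((hbm.mono h₁.1.1).mem_img.2 ⟨x, hx, rfl⟩)))
      exact hbm.inj (h₂.1.1 hy) (h₁.1.1 hx) hye ▸ hy
    · obtain ⟨y, hy, hye⟩ := (hbm.mono h₁.1.1).mem_img.1 (e2.ge
        (e.le ((hbm.mono h₂.1.1).mem_img.2 ⟨x, hx, rfl⟩)))
      exact hbm.inj (h₁.1.1 hy) (h₂.1.1 hx) hye ▸ hy

omit hp hS hF hidx in
/-- The elements congruent to their images form a subgroup. -/
theorem sub_mem_of_sup {P A B K : Subgroup Ω} {f : Ω → Ω} (hf : IsMap F P f) (hA : A ≤ P)
    (hB : B ≤ P) (hK : K ≤ S) (hTK : ⁅S, S⁆ ≤ K) (ha : ∀ x ∈ A, x⁻¹ * f x ∈ K)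
    (hb : ∀ x ∈ B, x⁻¹ * f x ∈ K) {x : Ω} (hx : x ∈ A ⊔ B) : x⁻¹ * f x ∈ K := by
  have hKn : ∀ s ∈ S, ∀ y ∈ K, s * y * s⁻¹ ∈ K := fun s hs y hy => by
    have h := K.mul_mem (hTK (Subgroup.commutator_mem_commutator hs (hK hy))) hy
    rwa [commutatorElement_def, inv_mul_cancel_right] at h
  let H : Subgroup Ω :=
    { carrier := {x | x ∈ P ∧ x⁻¹ * f x ∈ K}
      one_mem' := ⟨one_mem _, by simp [hf.map_one]⟩
      mul_mem' := fun {x y} hx hy => ⟨mul_mem hx.1 hy.1, by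
        rw [hf.map_mul hx.1 hy.1]
        have h := K.mul_mem (hKn y⁻¹ (S.inv_mem (hf.le hy.1)) _ hx.2) hy.2
        simpa [mul_assoc] using h⟩
      inv_mem' := fun {x} hx => ⟨inv_mem hx.1, by
        rw [hf.map_inv hx.1]
        have h := hKn x (hf.le hx.1) _ (K.inv_mem hx.2)
        simpa [mul_assoc] using h⟩ }
  have hle : A ⊔ B ≤ H := sup_le (fun y hy => ⟨hA hy, ha y hy⟩) fun y hy => ⟨hB hy, hb y hy⟩
  exact (hle hx).2

/-- For `p = 2` the centre is the derived subgroup. -/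
theorem center_eq_derived_two (hS1 : S ≠ ⊥) (hcore : F.core = ⊥) (hfoc : S ≤ F.focalSubgroup) :
    centralizerIn S S = ⁅S, S⁆ := by
  obtain ⟨R₁, R₂, h₁, h₂, h12⟩ := exists_two_essential hS hF hS1 hcore hidx
  obtain ⟨E₁, C₁, hE₁R, hC₁, hR₁le, hTE₁, hE₁Z, hd₁, hs₁, hcard, hdat₁⟩ :=
    two_data hp hS hF hidx h₁
  obtain ⟨E₂, C₂, hE₂R, hC₂, hR₂le, hTE₂, hE₂Z, hd₂, hs₂, -, hdat₂⟩ := two_data hp hS hF hidx h₂
  subst hp
  have hR₁S := h₁.1.1
  have hR₂S := h₂.1.1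
  have hTZ := derived_le_center hidx
  obtain ⟨a₁, hfr₁⟩ := exists_frame hS hF hidx h₁
  obtain ⟨a₂, hfr₂⟩ := exists_frame hS hF hidx h₂
  set W := C₁ ⊓ C₂ with hW
  set K := E₁ ⊔ E₂ ⊔ W with hKd
  have hWZ : W ≤ centralizerIn S S := inf_le_left.trans hC₁
  have hKS : K ≤ S := sup_le (sup_le (hE₁R.trans hR₁S) (hE₂R.trans hR₂S)) (hWZ.trans inf_le_left)
  have hTK : ⁅S, S⁆ ≤ K := hTE₁.trans (le_sup_left.trans le_sup_left)
  -- automorphisms of `S` preserve the pieces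
  have hres : ∀ {R : Subgroup Ω}, R ≤ S → ∀ φ ∈ F.autGroup S, img R (autFun φ) = R →
      ∃ β ∈ F.autGroup R, ∀ x ∈ R, autFun β x = autFun φ x := by
    intro R hR φ hφ hφR
    have hm := ((mem_autGroup_iff le_rfl).1 hφ).mono hR
    exact ⟨autOf hm hφR, autOf_mem hm hφR, fun x hx => autFun_autOf hm hφR hx⟩
  have hinv : ∀ φ ∈ F.autGroup S, (∀ e ∈ E₁, autFun φ e ∈ E₁) ∧ (∀ c ∈ C₁, autFun φ c ∈ C₁) ∧
      (∀ e ∈ E₂, autFun φ e ∈ E₂) ∧ (∀ c ∈ C₂, autFun φ c ∈ C₂) := by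
    intro φ hφ
    obtain ⟨β₁, hβ₁, e₁⟩ := hres hR₁S φ hφ (img_essential rfl hS hF hidx h₁ h₂ h12 hφ)
    obtain ⟨β₂, hβ₂, e₂⟩ := hres hR₂S φ hφ (img_essential rfl hS hF hidx h₂ h₁ h12.symm hφ)
    refine ⟨fun x hx => ?_, fun x hx => ?_, fun x hx => ?_, fun x hx => ?_⟩
    · rw [← e₁ x (hE₁R hx)]; exact (hdat₁ β₁ hβ₁).1 x hx
    · rw [← e₁ x (hfr₁.zle (hC₁ hx))]; exact (hdat₁ β₁ hβ₁).2.1 x hx
    · rw [← e₂ x (hE₂R hx)]; exact (hdat₂ β₂ hβ₂).1 x hx
    · rw [← e₂ x (hfr₂.zle (hC₂ hx))]; exact (hdat₂ β₂ hβ₂).2.1 x hx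
  have hTfix : ∀ φ ∈ F.autGroup S, ∀ t ∈ ⁅S, S⁆, autFun φ t = t := by
    intro φ hφ t ht
    have h' := map_derived φ ht
    haveI := finite_of_le (S := S) (P := ⁅S, S⁆) (hTZ.trans inf_le_left)
    have hm := (mem_autGroup_iff le_rfl).1 hφ
    by_cases h1 : t = 1
    · rw [h1, hm.map_one]
    obtain ⟨x, y, hxy, hxy'⟩ := Nat.card_eq_two_iff.1 hcard
    have hmem : ∀ w : (⁅S, S⁆ : Subgroup Ω), w = x ∨ w = y := fun w => by
      have := hxy'.ge (Set.mem_univ w)
      simpa using this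
    have key : ∀ u v w : (⁅S, S⁆ : Subgroup Ω), u ≠ 1 → v ≠ 1 → w = 1 → u = v := by
      intro u v w hu hv hw
      subst hw
      rcases hmem 1 with h | h <;> rcases hmem u with hu' | hu' <;> rcases hmem v with hv' | hv' <;>
        simp_all
    exact congrArg Subtype.val (key ⟨_, h'⟩ ⟨t, ht⟩ 1
      (fun e => h1 ((hm.eq_one_iff (hTZ ht).1).1 (congrArg Subtype.val e)))
      (fun e => h1 (congrArg Subtype.val e)) rfl)
  have hcW : ∀ φ ∈ F.autGroup S, ∀ {C C' : Subgroup Ω}, C ≤ centralizerIn S S →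
      C' ≤ centralizerIn S S → centralizerIn S S ≤ ⁅S, S⁆ ⊔ C' →
      (∀ c ∈ C', autFun φ c ∈ C') → ∀ c ∈ C, c⁻¹ * autFun φ c ∈ C' := by
    intro φ hφ C C' hC hC' hs hφC c hc
    have hm := (mem_autGroup_iff le_rfl).1 hφ
    have h' : c ∈ ((⁅S, S⁆ ⊔ C' : Subgroup Ω) : Set Ω) := hs (hC hc)
    rw [Subgroup.coe_mul_of_left_le_normalizer_right _ C' (fun t ht =>
      mem_normalizer_of_center (hTZ ht) (hC'.trans inf_le_left))] at h'
    obtain ⟨t, ht, d, hd, e : t * d = c⟩ := Set.mem_mul.1 h'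
    rw [← e, hm.map_mul (hTZ ht).1 (hC' hd).1, hTfix φ hφ t ht,
      show (t * d)⁻¹ * (t * autFun φ d) = d⁻¹ * autFun φ d by group]
    exact mul_mem (inv_mem hd) (hφC d hd)
  have hsame : ∀ {H : Subgroup Ω} {f : Ω → Ω}, H ≤ K → (∀ e ∈ H, f e ∈ H) →
      ∀ e ∈ H, e⁻¹ * f e ∈ K := fun hH hf e he => hH (mul_mem (inv_mem he) (hf e he))
  have hE₁K : E₁ ≤ K := le_sup_left.trans le_sup_left
  have hE₂K : E₂ ≤ K := le_sup_right.trans le_sup_left
  have hcong₁ : ∀ φ ∈ F.autGroup S, ∀ c ∈ C₁, c⁻¹ * autFun φ c ∈ W := fun φ hφ c hc =>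
    Subgroup.mem_inf.2
      ⟨mul_mem (inv_mem hc) ((hinv φ hφ).2.1 c hc), hcW φ hφ hC₁ hC₂ hs₂ (hinv φ hφ).2.2.2 c hc⟩
  have hcong₂ : ∀ φ ∈ F.autGroup S, ∀ c ∈ C₂, c⁻¹ * autFun φ c ∈ W := fun φ hφ c hc =>
    Subgroup.mem_inf.2
      ⟨hcW φ hφ hC₂ hC₁ hs₁ (hinv φ hφ).2.1 c hc, mul_mem (inv_mem hc) ((hinv φ hφ).2.2.2 c hc)⟩
  have hsupRR := sup_essential hS hF hidx h₁ h₂ h12
  have hcongS : ∀ φ ∈ F.autGroup S, ∀ x ∈ S, x⁻¹ * autFun φ x ∈ K := by
    intro φ hφ x hx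
    have hm := (mem_autGroup_iff le_rfl).1 hφ
    have p1 : ∀ y ∈ R₁, y⁻¹ * autFun φ y ∈ K := fun y hy => sub_mem_of_sup hm
      (hE₁R.trans hR₁S) (hC₁.trans inf_le_left) hKS hTK (hsame hE₁K (hinv φ hφ).1)
      (fun c hc => Subgroup.mem_sup_right (hcong₁ φ hφ c hc)) (hR₁le hy)
    have p2 : ∀ y ∈ R₂, y⁻¹ * autFun φ y ∈ K := fun y hy => sub_mem_of_sup hm
      (hE₂R.trans hR₂S) (hC₂.trans inf_le_left) hKS hTK (hsame hE₂K (hinv φ hφ).2.2.1)
      (fun c hc => Subgroup.mem_sup_right (hcong₂ φ hφ c hc)) (hR₂le hy)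
    exact sub_mem_of_sup hm hR₁S hR₂S hKS hTK p1 p2 (hsupRR.ge hx)
  have hess : ∀ R, F.IsEssential 2 R → R = R₁ ∨ R = R₂ := by
    intro R hR
    by_contra h
    push Not at h
    exact not_three rfl hS hF hidx hR h₁ h₂ h.1 h.2 h12
  have hKF : F.focalSubgroup ≤ K := by
    refine (Subgroup.closure_le _).2 ?_
    rintro y ⟨P, f, u, hf, rfl⟩
    rw [← toFun_coe f u]
    refine ((FunctorFocal.isMap_congSystem_iff (F := F) (hK := hTK)).1 (isMap_of_autGroup_le hS hF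
      (fun R hR β hβ => ?_) (isMap_toFun hf))).2 u u.2
    have hRS : R ≤ S := hR.elim (fun e => e.le) fun e => e.1.1
    refine (mem_autGroup_iff hRS).2
      (FunctorFocal.isMap_congSystem_iff.2 ⟨(mem_autGroup_iff hRS).1 hβ, fun x hx => ?_⟩)
    rcases hR with rfl | hR
    · exact hcongS β hβ x hx
    have hm := (mem_autGroup_iff hRS).1 hβ
    rcases hess R hR with rfl | rfl
    · refine sub_mem_of_sup hm hE₁R (hC₁.trans hfr₁.zle) hKS hTK (hsame hE₁K (hdat₁ β hβ).1)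
        (fun c hc => ?_) (hR₁le hx)
      obtain ⟨φ, hφ, hφe⟩ := (hdat₁ β hβ).2.2
      rw [hφe c hc]
      exact Subgroup.mem_sup_right (hcong₁ φ hφ c hc)
    · refine sub_mem_of_sup hm hE₂R (hC₂.trans hfr₂.zle) hKS hTK (hsame hE₂K (hdat₂ β hβ).1)
        (fun c hc => ?_) (hR₂le hx)
      obtain ⟨φ, hφ, hφe⟩ := (hdat₂ β hβ).2.2
      rw [hφe c hc]
      exact Subgroup.mem_sup_right (hcong₂ φ hφ c hc)
  have hSK : S ≤ K := hfoc.trans hKF
  -- the centre
  have hZTW : centralizerIn S S ≤ ⁅S, S⁆ ⊔ W := by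
    intro z hz
    have hnW : E₁ ⊔ E₂ ≤ Subgroup.normalizer (W : Set Ω) := fun m hm =>
      (Subgroup.mem_normalizer_iff.2 fun y => by
        have hmS : m ∈ S := (sup_le (hE₁R.trans hR₁S) (hE₂R.trans hR₂S)) hm
        constructor
        · intro hy
          rwa [commute_center (hWZ hy) hmS, mul_inv_cancel_right]
        · intro hy
          have e : y = m * y * m⁻¹ := calc
            y = m⁻¹ * ((m * y * m⁻¹) * m) := by group
            _ = m⁻¹ * (m * (m * y * m⁻¹)) := by rw [commute_center (hWZ hy) hmS]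
            _ = m * y * m⁻¹ := inv_mul_cancel_left _ _
          rwa [← e] at hy)
    have hzK : z ∈ ((E₁ ⊔ E₂ ⊔ W : Subgroup Ω) : Set Ω) := hSK hz.1
    rw [Subgroup.coe_mul_of_left_le_normalizer_right _ W hnW] at hzK
    obtain ⟨m, hm, w, hw, e : m * w = z⟩ := Set.mem_mul.1 hzK
    have hmZ : m ∈ centralizerIn S S := by
      rw [show m = z * w⁻¹ from eq_mul_inv_of_mul_eq e]
      exact mul_mem hz (inv_mem (hWZ hw))
    have hn₁ : E₂ ≤ Subgroup.normalizer (E₁ : Set Ω) := by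
      have key : ∀ s ∈ S, ∀ y ∈ E₁, s * y * s⁻¹ ∈ E₁ := fun s hs y hy => by
        have h := E₁.mul_mem (hTE₁ (Subgroup.commutator_mem_commutator hs (hR₁S (hE₁R hy)))) hy
        rwa [commutatorElement_def, inv_mul_cancel_right] at h
      exact fun s hs => Subgroup.mem_normalizer_iff.2 fun y => ⟨key s (hR₂S (hE₂R hs)) y, fun hy => by
        have := key s⁻¹ (S.inv_mem (hR₂S (hE₂R hs))) _ hy
        simpa [mul_assoc] using this⟩
    have hm' : m ∈ ((E₁ ⊔ E₂ : Subgroup Ω) : Set Ω) := hm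
    rw [Subgroup.coe_mul_of_right_le_normalizer_left E₁ E₂ hn₁] at hm'
    obtain ⟨e₁, he₁, e₂, he₂, e' : e₁ * e₂ = m⟩ := Set.mem_mul.1 hm'
    have he₁T : e₁ ∈ ⁅S, S⁆ := by
      refine hE₁Z (Subgroup.mem_inf.2 ⟨he₁, inter_essential hS hF hidx h₁ h₂ h12 (Subgroup.mem_inf.2 ⟨hE₁R he₁, ?_⟩)⟩)
      rw [show e₁ = m * e₂⁻¹ from eq_mul_inv_of_mul_eq e']
      exact mul_mem (hfr₂.zle hmZ) (inv_mem (hE₂R he₂))
    have he₂T : e₂ ∈ ⁅S, S⁆ := by
      refine hE₂Z (Subgroup.mem_inf.2 ⟨he₂, ?_⟩)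
      rw [show e₂ = e₁⁻¹ * m by rw [← e', inv_mul_cancel_left]]
      exact mul_mem (inv_mem (hTZ he₁T)) hmZ
    rw [← e, ← e']
    exact Subgroup.mul_mem_sup (mul_mem he₁T he₂T) hw
  have hCW : ∀ {C : Subgroup Ω}, C ≤ centralizerIn S S → ⁅S, S⁆ ⊓ C = ⊥ → W ≤ C → C ≤ W := by
    intro C hC hd hWC c hc
    have h' : c ∈ ((⁅S, S⁆ ⊔ W : Subgroup Ω) : Set Ω) := hZTW (hC hc)
    rw [Subgroup.coe_mul_of_left_le_normalizer_right _ W (fun t ht =>
      mem_normalizer_of_center (hTZ ht) (hWZ.trans inf_le_left))] at h'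
    obtain ⟨t, ht, w, hw, e : t * w = c⟩ := Set.mem_mul.1 h'
    have ht1 : t = 1 := Subgroup.mem_bot.1 (hd.le (Subgroup.mem_inf.2 ⟨ht, by
      rw [show t = c * w⁻¹ from eq_mul_inv_of_mul_eq e]
      exact mul_mem hc (inv_mem (hWC hw))⟩))
    rwa [← e, ht1, one_mul]
  have hW1 := hCW hC₁ hd₁ inf_le_left
  have hW2 := hCW hC₂ hd₂ inf_le_right
  have hbot : W = ⊥ := by
    refine eq_bot_of_invariant hS hF hcore (hWZ.trans inf_le_left) (fun R hR => ?_)
      (fun φ hφ x hx => hW1 ((hinv φ hφ).2.1 x (inf_le_left (b := C₂) hx)))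
      fun R hR β hβ x hx => ?_
    · obtain ⟨a, hfr⟩ := exists_frame hS hF hidx hR
      exact hWZ.trans hfr.zle
    · rcases hess R hR with rfl | rfl
      · exact hW1 ((hdat₁ β hβ).2.1 x hx.1)
      · exact hW2 ((hdat₂ β hβ).2.1 x hx.2)
  exact le_antisymm (hZTW.trans (by rw [hbot, sup_bot_eq])) hTZ

end Two

/-- The structure of `S`. -/
theorem structure_of_core_bot (hS : IsPGroup p S) (hF : F.IsSaturated p) (hS1 : S ≠ ⊥)
    (hcore : F.core = ⊥) (hfoc : S ≤ F.focalSubgroup) (hZ : (Subgroup.center S).index ≤ p ^ 2) :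
    Cfsg.IsExtraspecial p S ∧ Nat.card S = p ^ 3 ∧ (p ≠ 2 → Monoid.exponent S = p) ∧
      (p = 2 → Nonempty (S ≃* DihedralGroup 4)) := by
  have hab : ¬ ∀ x ∈ S, ∀ y ∈ S, x * y = y * x := fun h =>
    hS1 (eq_bot_iff.2 (hcore ▸ le_core (abelian_isNormal_self hS hF h)))
  have hidx := relIndex_eq hS hab hZ
  obtain ⟨R₁, R₂, h₁, h₂, h12⟩ := exists_two_essential hS hF hS1 hcore hidx
  have hZT : centralizerIn S S = ⁅S, S⁆ := by
    by_cases hp : p = 2
    · exact center_eq_derived_two hp hS hF hidx hS1 hcore hfoc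
    · exact center_eq_derived_odd hp hS hF hcore hidx h₁
  obtain ⟨a₁, hfr₁⟩ := exists_frame hS hF hidx h₁
  obtain ⟨a₂, hfr₂⟩ := exists_frame hS hF hidx h₂
  have hcardT : Nat.card (⁅S, S⁆ : Subgroup Ω) = p := by
    haveI := hfr₁.mulComm
    exact hfr₁.card_derived hidx
  have hcS : Nat.card (centralizerIn S S) = p := by rw [hZT, hcardT]
  have hcard : Nat.card S = p ^ 3 := by
    have e := Subgroup.relIndex_mul_relIndex ⊥ (centralizerIn S S) S bot_le inf_le_left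
    rw [Subgroup.relIndex_bot_left, Subgroup.relIndex_bot_left, hcS, hidx] at e
    rw [← e]; ring
  have hcomm : commutator S = Subgroup.center S := by
    refine Subgroup.map_injective S.subtype_injective ?_
    rw [← derived_eq_map, ← centralizerIn_subgroupOf, Subgroup.map_subgroupOf_eq_of_le (show centralizerIn S S ≤ S from inf_le_left),
      hZT]
  have hcenter : Nat.card (Subgroup.center S) = p := by
    rw [← centralizerIn_subgroupOf]
    exact (Nat.card_congr (Subgroup.subgroupOfEquivOfLe inf_le_left).toEquiv).trans hcS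
  have hinter := inter_essential hS hF hidx h₁ h₂ h12
  have hfrat : frattini S = Subgroup.center S := by
    refine le_antisymm ?_ (hcomm ▸ CfsgLib.Coprime.commutator_le_frattini hS)
    refine CfsgLib.FrattiniLe.frattini_le_of_pow_of_commutator (p := p) (fun x => ?_) hcomm.le
    rw [← centralizerIn_subgroupOf]
    refine hinter ⟨?_, ?_⟩
    all_goals
      first
      | (haveI : (R₁.subgroupOf S).Normal := (Subgroup.normal_subgroupOf_iff_le_normalizer hfr₁.le).2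
          ((hfr₁.normal hidx).trans inf_le_right)
         have h := Subgroup.pow_index_mem (R₁.subgroupOf S) x
         rw [show (R₁.subgroupOf S).index = p from hfr₁.relR] at h
         exact h)
      | (haveI : (R₂.subgroupOf S).Normal := (Subgroup.normal_subgroupOf_iff_le_normalizer hfr₂.le).2
          ((hfr₂.normal hidx).trans inf_le_right)
         have h := Subgroup.pow_index_mem (R₂.subgroupOf S) x
         rw [show (R₂.subgroupOf S).index = p from hfr₂.relR] at h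
         exact h)
  refine ⟨⟨⟨hS, hfrat, hcomm⟩, hcenter⟩, hcard, fun hp => ?_, fun hp => ?_⟩
  · -- exponent
    have hTp : ∀ t ∈ centralizerIn S S, t ^ p = 1 := fun t ht => by
      have h : (⟨t, ht⟩ : centralizerIn S S) ^ p = 1 := by rw [← hcS]; exact pow_card_eq_one'
      exact congrArg Subtype.val h
    have hexp : ∀ {R : Subgroup Ω} {a : Ω}, F.IsEssential p R → Frame S R p a →
        ∀ x ∈ R, x ^ p = 1 := by
      intro R a hR hfr x hx
      haveI := hfr.mulComm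
      obtain ⟨b, hb, hbZ, hbp⟩ := exists_elem hS hF hidx hR
      rw [essential_eq_of_mem hS hF hidx hR hb hbZ] at hx
      have hle : centralizerIn S S ⊔ Subgroup.zpowers b ≤
          ((powMonoidHom (α := R) p).ker).map R.subtype := by
        refine sup_le (fun z hz => ⟨⟨z, hfr.zle hz⟩, Subtype.ext (by simpa using hTp z hz), rfl⟩)
          (Subgroup.zpowers_le.2 ⟨⟨b, hb⟩, Subtype.ext (by simpa using hbp), rfl⟩)
      obtain ⟨y, hy, rfl⟩ := hle hx
      rw [← map_pow, show y ^ p = 1 from hy, map_one]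
    have hall : ∀ x : S, x ^ p = 1 := by
      intro x
      have hn : R₂ ≤ Subgroup.normalizer (R₁ : Set Ω) := fun y hy =>
        (hfr₁.normal hidx (h₂.1.1 hy)).2
      have hx : (x : Ω) ∈ ((R₁ ⊔ R₂ : Subgroup Ω) : Set Ω) :=
        (sup_essential hS hF hidx h₁ h₂ h12).ge x.2
      rw [Subgroup.coe_mul_of_right_le_normalizer_left R₁ R₂ hn] at hx
      obtain ⟨r₁, hr₁, r₂, hr₂, he : r₁ * r₂ = _⟩ := Set.mem_mul.1 hx
      have hc : ⁅r₂, r₁⁆ ∈ centralizerIn S S := commutator_mem hidx (h₂.1.1 hr₂) (h₁.1.1 hr₁)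
      refine Subtype.ext ?_
      rw [SubmonoidClass.coe_pow, OneMemClass.coe_one, ← he,
        mul_pow_eq_of_central_commutator (c := ⁅r₂, r₁⁆) Fact.out hp
          (by rw [commutatorElement_def]; group)
          (commute_center hc (h₁.1.1 hr₁)).symm (commute_center hc (h₂.1.1 hr₂)).symm (hTp _ hc),
        hexp h₁ hfr₁ r₁ hr₁, hexp h₂ hfr₂ r₂ hr₂, one_mul]
    rcases (Nat.dvd_prime (Fact.out : p.Prime)).1
      (Monoid.exponent_dvd_of_forall_pow_eq_one hall) with h | h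
    · exfalso
      rw [Monoid.exp_eq_one_iff] at h
      haveI := (Subgroup.nontrivial_iff_ne_bot S).2 hS1
      exact not_subsingleton S h
    · exact h
  · -- dihedral group of order eight
    subst hp
    obtain ⟨b₁, hb₁, hb₁Z, hb₁2⟩ := exists_elem hS hF hidx h₁
    obtain ⟨b₂, hb₂, hb₂Z, hb₂2⟩ := exists_elem hS hF hidx h₂
    set x : S := ⟨b₁, h₁.1.1 hb₁⟩
    set y : S := ⟨b₂, h₂.1.1 hb₂⟩
    have hx : orderOf x = 2 := orderOf_eq_prime (Subtype.ext (by simpa [x] using hb₁2))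
      fun e => hb₁Z (show (x : Ω) ∈ centralizerIn S S by rw [e]; exact one_mem _)
    have hy : orderOf y = 2 := orderOf_eq_prime (Subtype.ext (by simpa [y] using hb₂2))
      fun e => hb₂Z (show (y : Ω) ∈ centralizerIn S S by rw [e]; exact one_mem _)
    have htop : Subgroup.closure ({x, y} : Set S) = ⊤ := by
      refine Subgroup.map_injective S.subtype_injective ?_
      rw [← MonoidHom.range_eq_map, Subgroup.range_subtype]
      refine le_antisymm (Subgroup.map_subtype_le _) ?_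
      set M := (Subgroup.closure ({x, y} : Set S)).map S.subtype
      have hbM₁ : b₁ ∈ M := ⟨x, Subgroup.subset_closure (by simp), rfl⟩
      have hbM₂ : b₂ ∈ M := ⟨y, Subgroup.subset_closure (by simp), rfl⟩
      have hc : ⁅b₁, b₂⁆ ≠ 1 := fun e => by
        refine hb₁Z ⟨h₁.1.1 hb₁, Subgroup.mem_centralizer_iff.2 fun s hs => ?_⟩
        have hle : R₁ ⊔ R₂ ≤ Subgroup.centralizer {b₁} := by
          refine sup_le (fun w hw => ?_) ?_
          · exact Subgroup.mem_centralizer_iff.2 fun v hv => by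
              rw [Set.mem_singleton_iff.1 hv]; exact hfr₁.comm b₁ hb₁ w hw
          · rw [essential_eq_of_mem hS hF hidx h₂ hb₂ hb₂Z]
            refine sup_le (fun w hw => ?_) (Subgroup.zpowers_le.2 ?_)
            · exact Subgroup.mem_centralizer_iff.2 fun v hv => by
                rw [Set.mem_singleton_iff.1 hv]; exact commute_center hw (h₁.1.1 hb₁)
            · exact Subgroup.mem_centralizer_iff.2 fun v hv => by
                rw [Set.mem_singleton_iff.1 hv]; exact commutatorElement_eq_one_iff_mul_comm.1 e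
        exact ((Subgroup.mem_centralizer_iff.1
          (hle ((sup_essential hS hF hidx h₁ h₂ h12).ge hs))) b₁ rfl).symm
      have hZM : centralizerIn S S ≤ M := by
        rw [hZT]
        haveI := finite_of_le (S := S) (P := ⁅S, S⁆) (hZT.ge.trans inf_le_left)
        have hTm : ⁅b₁, b₂⁆ ∈ ⁅S, S⁆ :=
          Subgroup.commutator_mem_commutator (h₁.1.1 hb₁) (h₂.1.1 hb₂)
        have hz : Subgroup.zpowers ⁅b₁, b₂⁆ = ⁅S, S⁆ := by
          refine Subgroup.eq_of_le_of_card_ge (Subgroup.zpowers_le.2 hTm) ?_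
          rw [hcardT, Nat.card_zpowers]
          rcases (Nat.dvd_prime Nat.prime_two).1 (hcardT ▸ Subgroup.orderOf_dvd_natCard _ hTm) with h | h
          · exact absurd (orderOf_eq_one_iff.1 h) hc
          · exact h.ge
        rw [← hz, Subgroup.zpowers_le, commutatorElement_def]
        exact mul_mem (mul_mem (mul_mem hbM₁ hbM₂) (inv_mem hbM₁)) (inv_mem hbM₂)
      rw [← sup_essential hS hF hidx h₁ h₂ h12]
      refine sup_le ?_ ?_
      · rw [essential_eq_of_mem hS hF hidx h₁ hb₁ hb₁Z]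
        exact sup_le hZM (Subgroup.zpowers_le.2 hbM₁)
      · rw [essential_eq_of_mem hS hF hidx h₂ hb₂ hb₂Z]
        exact sup_le hZM (Subgroup.zpowers_le.2 hbM₂)
    have e := CfsgLib.Invol.dihedralEquiv hx hy
    have hn : orderOf (x * y) = 4 := by
      have h1 := Nat.card_congr e.toEquiv
      rw [htop, Subgroup.card_top, hcard, DihedralGroup.nat_card] at h1
      omega
    rw [htop, hn] at e
    exact ⟨Subgroup.topEquiv.symm.trans e⟩

end CfsgLib.Fusion.CenterIndex
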