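import Cfsg.Agent.Lib.Fusion.System.FamilySat

/-!
# The saturation criterion
-/

set_option autoImplicit false
set_option linter.style.haveILetI false
set_option linter.unusedSectionVars false

open Subgroup
open scoped Classical

namespace CfsgLib.Fusion.FamilySat

open Cfsg (FusionSystem autInducedBy)
open Cfsg.FusionSystem (normalizerIn centralizerIn)

variable {Ω : Type*} [Group Ω] {S : Subgroup Ω} {F : FusionSystem S} {p : ℕ}
  {P Q C X : Subgroup Ω} {f : Ω → Ω}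

/-- Composites of restrictions of maps with source in `ℋ` and of conjugations. -/
inductive RMap (F : FusionSystem S) (ℋ : Set (Subgroup Ω)) : Subgroup Ω → (Ω → Ω) → Prop
  | base {R P f} : R ∈ ℋ → P ≤ R → IsMap F R f → RMap F ℋ P f
  | conj {P s} : P ≤ S → s ∈ S → RMap F ℋ P (fun x => s * x * s⁻¹)
  | comp {P R f g} : RMap F ℋ P f → RMap F ℋ R g → (∀ x ∈ P, f x ∈ R) → RMap F ℋ P (g ∘ f)
  | congr {P f g} : RMap F ℋ P f → (∀ x ∈ P, g x = f x) → RMap F ℋ P g

variable {ℋ : Set (Subgroup Ω)}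

theorem RMap.isMap (h : RMap F ℋ P f) : IsMap F P f := by
  induction h with
  | base _ hle hf => exact hf.mono hle
  | conj hP hs => exact isMap_conj hP hs
  | comp _ _ hm h1 h2 => exact h1.comp h2 hm
  | congr _ he h1 => exact h1.congr he

theorem RMap.mono (h : RMap F ℋ P f) : ∀ {Q : Subgroup Ω}, Q ≤ P → RMap F ℋ Q f := by
  induction h with
  | base hR hle hf => exact fun hQ => .base hR (hQ.trans hle) hf
  | conj hP hs => exact fun hQ => .conj (hQ.trans hP) hs
  | comp _ h2 hm ih1 _ => exact fun hQ => .comp (ih1 hQ) h2 fun x hx => hm x (hQ hx)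
  | congr _ he ih => exact fun hQ => .congr (ih hQ) fun x hx => he x (hQ hx)

theorem RMap.inv (hconj : ∀ R ∈ ℋ, ∀ R', F.IsConj R R' → R' ∈ ℋ) (h : RMap F ℋ P f) :
    ∀ f', IsMap F (img P f) f' → (∀ x ∈ P, f' (f x) = x) → RMap F ℋ (img P f) f' := by
  induction h with
  | @base R P f hR hle hf =>
    intro f' hf' he
    obtain ⟨g, hg, hg1, -⟩ := hf.exists_inv
    refine (RMap.base (hconj R hR _ (isConj_iff.2 ⟨f, hf, rfl⟩)) (hf.img_mono hle) hg).congr
      fun y hy => ?_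
    obtain ⟨x, hx, rfl⟩ := (hf.mono hle).mem_img.1 hy
    rw [he x hx, hg1 x (hle hx)]
  | @conj P s hP hs =>
    intro f' hf' he
    refine (RMap.conj (s := s⁻¹) hf'.le (S.inv_mem hs)).congr fun y hy => ?_
    obtain ⟨x, hx, rfl⟩ := (isMap_conj (F := F) hP hs).mem_img.1 hy
    rw [he x hx]
    group
  | @comp P R f g h1 h2 hm ih1 ih2 =>
    intro f' hf' he
    have hf := h1.isMap
    have hg := h2.isMap
    have hfR : img P f ≤ R := hf.img_le_of_forall hm
    obtain ⟨f₁, hf₁, hf₁1, -⟩ := hf.exists_inv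
    obtain ⟨g₁, hg₁, hg₁1, hg₁2⟩ := (hg.mono hfR).exists_inv
    have hg₁' := hg.exists_inv
    obtain ⟨g₂, hg₂, hg₂1, -⟩ := hg₁'
    have hle : img P (g ∘ f) ≤ img R g := by
      rw [← img_img hf]; exact hg.img_mono hfR
    have k1 := (ih2 g₂ hg₂ hg₂1).mono hle
    have k2 := ih1 f₁ hf₁ hf₁1
    refine (k1.comp k2 fun y hy => ?_).congr fun y hy => ?_
    all_goals obtain ⟨x, hx, rfl⟩ := (hf.comp hg hm).mem_img.1 hy
    · show g₂ (g (f x)) ∈ img P f
      rw [hg₂1 _ (hm x hx)]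
      exact hf.mem_img.2 ⟨x, hx, rfl⟩
    · show f' _ = f₁ (g₂ (g (f x)))
      rw [he x hx, hg₂1 _ (hm x hx), hf₁1 x hx]
  | @congr P f g h1 he1 ih =>
    intro f' hf' he
    have hi : img P g = img P f := IsMap.img_congr he1
    rw [hi] at hf' ⊢
    exact ih f' hf' fun x hx => by rw [← he1 x hx]; exact he x hx

theorem rmap_of_generates (hconj : ∀ R ∈ ℋ, ∀ R', F.IsConj R R' → R' ∈ ℋ)
    (hgen : ∀ E : FusionSystem S, (∀ P ∈ ℋ, F.Hom P ⊆ E.Hom P) → F ≤ E) (hf : IsMap F P f) :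
    RMap F ℋ P f := by
  let E : FusionSystem S := mkSystem F S (RMap F ℋ)
    (fun _ _ h => ⟨h.isMap, h.isMap.le, fun _ hx => h.isMap.mem_S hx⟩)
    (fun _ _ _ h he => h.congr he)
    (fun _ _ hP ht => .conj hP ht)
    (fun _ _ _ _ h1 h2 hm => h1.comp h2 hm)
    (fun _ _ f' h hf' he => h.inv hconj f' hf' he)
  obtain ⟨φ, hφ, hφf⟩ := hf
  refine (isMap_mkSystem_iff (RMap F ℋ)).1 (show IsMap E P f from ⟨φ, ?_, hφf⟩)
  exact hgen E (fun R hR ψ hψ => RMap.base hR le_rfl (isMap_toFun hψ)) P hφ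

variable [Finite S] [Fact p.Prime]

/-- The hypotheses on a class outside the family. -/
structure Outside (F : FusionSystem S) (p : ℕ) (ℋ : Set (Subgroup Ω)) (P : Subgroup Ω) : Prop where
  le : P ≤ S
  sat : ∀ R : Subgroup Ω, R ≤ S → Nat.card P < Nat.card R → SatAt F p R
  normalized : F.IsFullyNormalized P
  conj : ∀ R ∈ ℋ, ∀ R', F.IsConj R R' → R' ∈ ℋ
  notMem : P ∉ ℋ
  rmap : ∀ (T : Subgroup Ω) (g : Ω → Ω), IsMap F T g → RMap F ℋ T g
  star : ∃ Q, F.IsConj P Q ∧ ∃ n ∈ rSub F p Q, n ∉ Q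

variable (hS : IsPGroup p S) (h : Outside F p ℋ P)
include hS h

theorem Outside.ne_self : P ≠ S := by
  intro e
  obtain ⟨Q, hQ, n, hn, hnQ⟩ := h.star
  have hQS : Q = S := eq_of_le_of_card_le le_rfl (isConj_le hQ).2 (by rw [isConj_card hQ, e])
  exact hnQ (hQS.symm ▸ hn.1.1)

theorem Outside.lt_self (hQ : F.IsConj P Q) : Q < S :=
  lt_of_le_of_ne (isConj_le hQ).2 fun e => h.ne_self hS
    (eq_of_le_of_card_le le_rfl h.le (by rw [← e, isConj_card hQ]))

/-- `Q` has a map of its normalizer onto `P`. -/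
def Good (F : FusionSystem S) (P Q : Subgroup Ω) : Prop :=
  ∃ g, IsMap F (normalizerIn S Q) g ∧ img Q g = P

theorem Outside.good_of_good_aux : ∀ (d : ℕ) (A Q : Subgroup Ω) (ψ : Ω → Ω),
    Nat.card S - Nat.card A = d → F.IsConj P Q → Q < A → A ≤ normalizerIn S Q → IsMap F A ψ →
      (Good F P Q ↔ Good F P (img Q ψ)) := by
  intro d
  induction d using Nat.strong_induction_on with
  | _ d ih =>
  suffices key : ∀ (A Q : Subgroup Ω) (ψ : Ω → Ω), Nat.card S - Nat.card A = d → F.IsConj P Q →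
      Q < A → A ≤ normalizerIn S Q → IsMap F A ψ → Good F P (img Q ψ) → Good F P Q by
    intro A Q ψ hd hQ hQA hAQ hψ
    refine ⟨fun hg => ?_, key A Q ψ hd hQ hQA hAQ hψ⟩
    obtain ⟨ψ', hψ', hψ'1, -⟩ := hψ.exists_inv
    have hψQ := hψ.mono hQA.le
    have hlt : img Q ψ < img A ψ := lt_of_le_of_ne (hψ.img_mono hQA.le) fun e => by
      have h1 := card_lt_of_lt hψ.le hQA
      rw [← hψ.card_img, ← e, hψQ.card_img] at h1
      exact lt_irrefl _ h1
    refine key (img A ψ) (img Q ψ) ψ' (by rw [hψ.card_img, hd])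
      (isConj_trans hQ (isConj_iff.2 ⟨ψ, hψQ, rfl⟩)) hlt (fun y hy => ?_) hψ' ?_
    · obtain ⟨x, hx, rfl⟩ := hψ.mem_img.1 hy
      exact map_mem_normalizerIn hψ hQA.le hx (hAQ hx).2
    · rwa [img_img hψQ, IsMap.img_congr (f := ψ' ∘ ψ) (g := id) fun x hx => hψ'1 x (hQA.le hx),
        img_id]
  intro A Q ψ hd hQ hQA hAQ hψ hgood
  obtain ⟨g, hg, hgP⟩ := hgood
  have hψQ := hψ.mono hQA.le
  have hψN : ∀ x ∈ A, ψ x ∈ normalizerIn S (img Q ψ) := fun x hx =>
    map_mem_normalizerIn hψ hQA.le hx (hAQ hx).2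
  have hψ' : IsMap F A (g ∘ ψ) := hψ.comp hg hψN
  have himg : img Q (g ∘ ψ) = P := by rw [← img_img hψQ, hgP]
  by_cases hA : A = normalizerIn S Q
  · exact ⟨g ∘ ψ, hA ▸ hψ', himg⟩
  have hlt : A < normalizerIn S Q := lt_of_le_of_ne hAQ hA
  have hAS : A ≤ S := hψ.le
  haveI : Finite (normalizerIn S Q) := finite_of_le (inf_le_left : normalizerIn S Q ≤ S)
  have hNp : IsPGroup p (normalizerIn S Q) := hS.to_le inf_le_left
  haveI : Group.IsNilpotent (normalizerIn S Q) := hNp.isNilpotent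
  obtain ⟨n₀, hn₀, hn₀A⟩ := SetLike.exists_of_lt (lt_inf_normalizer hAQ hA)
  have hcardP : Nat.card P < Nat.card A := by
    rw [← isConj_card hQ]; exact card_lt_of_lt hAS hQA
  have hle : img A (g ∘ ψ) ≤ normalizerIn S (img Q (g ∘ ψ)) := fun y hy => by
    obtain ⟨x, hx, rfl⟩ := hψ'.mem_img.1 hy
    exact map_mem_normalizerIn hψ' hQA.le hx (hAQ hx).2
  have hB : img A (g ∘ ψ) < normalizerIn S (img Q (g ∘ ψ)) := by
    refine lt_of_le_of_ne hle fun e => ?_
    have h1 := card_lt_of_lt (inf_le_left : normalizerIn S Q ≤ S) hlt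
    rw [← hψ'.card_img, e, himg] at h1
    exact absurd (h.normalized.2 Q hQ) (not_le.2 h1)
  have key := rel_of_stab (Rel := fun Q f => Good F P Q ↔ Good F P (img Q f))
    (Pred := fun _ _ => True) hS
    ⟨fun Q f g h1 he => by rwa [IsMap.img_congr he],
      fun Q f g _ hf _ h1 h2 => h1.trans (by rwa [← img_img hf]),
      fun Q f f' _ hf hf' he h1 => by
        rw [img_img hf, IsMap.img_congr (f := f' ∘ f) (g := id) he, img_id]
        exact h1.symm⟩
    (fun _ _ _ _ _ _ _ _ => trivial) (h.sat A hAS hcardP) hQ hψ' hQA hAQ hn₀ hn₀A trivial hB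
    (fun X Q' g' hQ' hX hQX hXN hg' => ih _ (by
      have : Nat.card X ≤ Nat.card S := card_le_of_le' le_rfl hg'.le
      omega) X Q' g' rfl hQ' hQX hXN hg')
    (fun C Q' _ hQ'C _ _ _ hCa _ _ _ _ k hk => by
      have hm := ((mem_autGroup_iff hCa.1).1 hk.1).mono hQ'C
      show _ ↔ Good F P (img Q' (autFun k))
      rw [img_eq_of_map_le (hQ'C.trans hCa.1) hm le_rfl hk.2])
  rw [himg] at key
  exact key.2 ⟨id, isMap_id inf_le_left, img_id⟩

/-- Every map between members of the class preserves goodness. -/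
theorem Outside.good_iff_of_rmap {T : Subgroup Ω} {g : Ω → Ω} (hg : RMap F ℋ T g) :
    ∀ Q, Q ≤ T → F.IsConj P Q → (Good F P Q ↔ Good F P (img Q g)) := by
  have hstep : ∀ (R Q : Subgroup Ω) (g : Ω → Ω), IsMap F R g → Q < R → F.IsConj P Q →
      (Good F P Q ↔ Good F P (img Q g)) := by
    intro R Q g hg hQR hQ
    haveI := finite_of_le hg.le
    haveI : Group.IsNilpotent R := (hS.to_le hg.le).isNilpotent
    exact h.good_of_good_aux hS _ (normalizerIn R Q) Q g rfl hQ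
      (lt_inf_normalizer hQR.le hQR.ne) (inf_le_inf_right _ hg.le) (hg.mono inf_le_left)
  induction hg with
  | @base R T g hR hle hf =>
    intro Q hQT hQ
    exact hstep R Q g hf (lt_of_le_of_ne (hQT.trans hle) fun e =>
      h.notMem (h.conj Q (e.symm ▸ hR) P (isConj_symm hQ))) hQ
  | @conj T s hT hs =>
    intro Q hQT hQ
    exact hstep S Q _ (isMap_conj le_rfl hs) (h.lt_self hS hQ) hQ
  | @comp T R f g h1 _ hm ih1 ih2 =>
    intro Q hQT hQ
    have hf := h1.isMap.mono hQT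
    rw [← img_img hf]
    exact (ih1 Q hQT hQ).trans (ih2 _ (hf.img_le_of_forall fun x hx => hm x (hQT hx))
      (isConj_trans hQ (isConj_iff.2 ⟨f, hf, rfl⟩)))
  | @congr T f g _ he ih =>
    intro Q hQT hQ
    rw [IsMap.img_congr (f := g) (g := f) fun x hx => he x (hQT hx)]
    exact ih Q hQT hQ

theorem Outside.good (hQ : F.IsConj P Q) : Good F P Q := by
  obtain ⟨g, hg, himg⟩ := isConj_iff.1 hQ
  have h1 := h.good_iff_of_rmap hS (h.rmap P g hg) P le_rfl (isConj_refl h.le)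
  rw [himg] at h1
  exact h1.1 ⟨id, isMap_id inf_le_left, img_id⟩

/-- A chosen map of the normalizer of `Q` onto that of `P`. -/
noncomputable def toP (F : FusionSystem S) (P Q : Subgroup Ω) : Ω → Ω :=
  if Q = P then id else if hg : Good F P Q then hg.choose else id

theorem Outside.toP_spec (hQ : F.IsConj P Q) :
    IsMap F (normalizerIn S Q) (toP F P Q) ∧ img Q (toP F P Q) = P := by
  unfold toP
  by_cases e : Q = P
  · rw [if_pos e, img_id]
    exact ⟨isMap_id inf_le_left, e⟩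
  · rw [if_neg e, dif_pos (h.good hS hQ)]
    exact (h.good hS hQ).choose_spec

theorem Outside.toP_mem (hQ : F.IsConj P Q) {x : Ω} (hx : x ∈ Q) : toP F P Q x ∈ P :=
  (h.toP_spec hS hQ).2.le (((h.toP_spec hS hQ).1.mono (le_normalizerIn (isConj_le hQ).2)).mem_img.2
    ⟨x, hx, rfl⟩)

omit hS h in
/-- The automorphisms of `P` extending to `rSub F p P`. -/
noncomputable def extR (F : FusionSystem S) (p : ℕ) [Fact p.Prime] (P : Subgroup Ω)
    (hS : IsPGroup p S) (hP : P ≤ S) : Subgroup (MulAut P) where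
  carrier := {a | ∃ ψ, IsMap F (rSub F p P) ψ ∧ ∀ x ∈ P, ψ x = autFun a x}
  one_mem' := ⟨id, isMap_id (rSub_le.trans inf_le_left), fun x hx => (autFun_one hx).symm⟩
  mul_mem' := by
    rintro a b ⟨u, hu, hua⟩ ⟨v, hv, hvb⟩
    have hPR : P ≤ rSub F p P := le_rSub hS hP
    have himg : img P v = P := (IsMap.img_congr hvb).trans (img_autFun b)
    refine ⟨u ∘ v, hv.comp hu fun r hr => ?_, fun x hx => ?_⟩
    · have h1 := InO.map hv hPR hr hr.2
      have h2 := map_mem_normalizerIn hv hPR hr hr.1.2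
      rw [himg] at h1 h2
      exact ⟨h2, h1⟩
    · show u (v x) = _
      rw [hvb x hx, hua _ (autFun_mem b hx), autFun_mul _ _ hx]
  inv_mem' := by
    rintro a ⟨u, hu, hua⟩
    have hPR : P ≤ rSub F p P := le_rSub hS hP
    have himg : img P u = P := (IsMap.img_congr hua).trans (img_autFun a)
    have hR : img (rSub F p P) u = rSub F p P := by
      refine img_eq_of_map_le (rSub_le.trans inf_le_left) hu le_rfl fun r hr => ?_
      have h1 := InO.map hu hPR hr hr.2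
      have h2 := map_mem_normalizerIn hu hPR hr hr.1.2
      rw [himg] at h1 h2
      exact ⟨h2, h1⟩
    obtain ⟨u', hu', hu'1, -⟩ := hu.exists_inv
    rw [hR] at hu'
    refine ⟨u', hu', fun x hx => ?_⟩
    have h1 := hu'1 _ (hPR (autFun_mem a⁻¹ hx))
    rwa [hua _ (autFun_mem a⁻¹ hx), ← autFun_mul _ _ hx, mul_inv_cancel, autFun_one hx] at h1

/-- `f` on `Q`, moved to `P`, extends to `rSub F p P`. -/
def Lift (F : FusionSystem S) (P : Subgroup Ω) (M : Subgroup (MulAut P)) (Q : Subgroup Ω)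
    (f : Ω → Ω) : Prop :=
  ∃ a ∈ M, ∀ x ∈ Q, autFun a (toP F P Q x) = toP F P (img Q f) (f x)

theorem Outside.classRel_lift :
    ClassRel F P (Lift F P (extR F p P hS h.le)) := by
  constructor
  · rintro Q f g ⟨a, ha, hae⟩ he
    refine ⟨a, ha, fun x hx => ?_⟩
    rw [IsMap.img_congr he, he x hx]
    exact hae x hx
  · rintro Q f g hQ hf - ⟨a, ha, hae⟩ ⟨b, hb, hbe⟩
    refine ⟨b * a, mul_mem hb ha, fun x hx => ?_⟩
    have hfx : f x ∈ img Q f := hf.mem_img.2 ⟨x, hx, rfl⟩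
    rw [autFun_mul _ _ (h.toP_mem hS hQ hx), hae x hx, hbe _ hfx, img_img hf]
    rfl
  · rintro Q f f' hQ hf - he ⟨a, ha, hae⟩
    refine ⟨a⁻¹, inv_mem ha, fun y hy => ?_⟩
    obtain ⟨x, hx, rfl⟩ := hf.mem_img.1 hy
    rw [img_img hf, IsMap.img_congr (f := f' ∘ f) (g := id) he, img_id, he x hx, ← hae x hx,
      ← autFun_mul _ _ (h.toP_mem hS hQ hx), inv_mul_cancel, autFun_one (h.toP_mem hS hQ hx)]

theorem Outside.lift_of_core
    (hcore : ∀ (A : Subgroup Ω) (ψ : Ω → Ω), P < A → A ≤ normalizerIn S P → IsMap F A ψ →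
      img P ψ = P → Nat.card A = Nat.card X → ∃ a ∈ extR F p P hS h.le, ∀ x ∈ P, autFun a x = ψ x)
    {g : Ω → Ω} (hQ : F.IsConj P Q) (hQX : Q < X) (hXN : X ≤ normalizerIn S Q)
    (hg : IsMap F X g) : Lift F P (extR F p P hS h.le) Q g := by
  obtain ⟨ht, htP⟩ := h.toP_spec hS hQ
  have hgQ := hg.mono hQX.le
  have hQ' : F.IsConj P (img Q g) := isConj_trans hQ (isConj_iff.2 ⟨g, hgQ, rfl⟩)
  obtain ⟨ht', ht'P⟩ := h.toP_spec hS hQ'
  have htX := ht.mono hXN
  obtain ⟨t₁, ht₁, ht₁1, ht₁2⟩ := htX.exists_inv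
  have hgN : ∀ x ∈ X, g x ∈ normalizerIn S (img Q g) := fun x hx =>
    map_mem_normalizerIn hg hQX.le hx (hXN hx).2
  have hψ : IsMap F (img X (toP F P Q)) ((toP F P (img Q g) ∘ g) ∘ t₁) :=
    ht₁.comp (hg.comp ht' hgN) fun y hy => (ht₁2 y hy).1
  have hPle : P ≤ img X (toP F P Q) := htP.ge.trans (htX.img_mono hQX.le)
  have hlt : P < img X (toP F P Q) := lt_of_le_of_ne hPle fun e => by
    have h1 := card_lt_of_lt hg.le hQX
    rw [← htX.card_img, ← e, isConj_card hQ] at h1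
    exact lt_irrefl _ h1
  have hval : ∀ x ∈ Q, ((toP F P (img Q g) ∘ g) ∘ t₁) (toP F P Q x) =
      toP F P (img Q g) (g x) := fun x hx => by
    show toP F P (img Q g) (g (t₁ (toP F P Q x))) = _
    rw [ht₁1 x (hQX.le hx)]
  obtain ⟨a, ha, hae⟩ := hcore _ _ hlt (fun y hy => by
    obtain ⟨x, hx, rfl⟩ := htX.mem_img.1 hy
    have h1 := map_mem_normalizerIn ht (le_normalizerIn (isConj_le hQ).2) (hXN hx) (hXN hx).2
    rwa [htP] at h1) hψ (img_eq_of_map_le h.le (hψ.mono hPle) le_rfl fun y hy => by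
      obtain ⟨x, hx, rfl⟩ := (htX.mono hQX.le).mem_img.1 (htP.ge hy)
      rw [hval x hx]
      exact h.toP_mem hS hQ' (hgQ.mem_img.2 ⟨x, hx, rfl⟩)) htX.card_img
  exact ⟨a, ha, fun x hx => by rw [hae _ (h.toP_mem hS hQ hx), hval x hx]⟩

omit h in
theorem exists_frattini {G : Type*} [Group G] [Finite G] {T D : Subgroup G} [D.Normal]
    (hT : IsPGroup p T) (hi : ¬ p ∣ T.index) (k : G) :
    ∃ n d, k = n * d ∧ d ∈ D ∧ n ∈ Subgroup.normalizer ((T ⊓ D : Subgroup G) : Set G) ∧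
      ¬ p ∣ (T ⊓ D).relIndex D := by
  have hTD : IsPGroup p (T ⊓ D : Subgroup G) := hT.to_le inf_le_left
  obtain ⟨R, hTR, hRD, hRp, hRi⟩ := exists_le_not_dvd_relIndex hTD (inf_le_right : T ⊓ D ≤ D)
  have heq : T ⊓ D = R := by
    obtain ⟨g, -, hg⟩ := exists_conj_le_of_not_dvd_relIndex (H := (⊤ : Subgroup G)) hT le_top
      (by rwa [Subgroup.relIndex_top_right]) hRp le_top
    refine Subgroup.eq_of_le_of_card_ge hTR ?_
    rw [← card_conjBy g R]
    exact Subgroup.card_le_of_le (le_inf hg (conjBy_le_iff.2 fun x hx =>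
      (inferInstance : D.Normal).conj_mem x (hRD hx) g))
  rw [heq]
  let SD : Sylow p D := (hRp.of_equiv (Subgroup.subgroupOfEquivOfLe hRD).symm).toSylow hRi
  have hF := Sylow.normalizer_sup_eq_top SD
  rw [show (SD : Subgroup D).map D.subtype = R from by
    show (R.subgroupOf D).map D.subtype = R
    rw [Subgroup.subgroupOf_map_subtype, inf_eq_left.2 hRD]] at hF
  have hk : k ∈ ((Subgroup.normalizer (R : Set G) ⊔ D : Subgroup G) : Set G) := by
    rw [hF]; exact Subgroup.mem_top k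
  rw [Subgroup.mul_normal] at hk
  obtain ⟨n, hn, d, hd, rfl⟩ := Set.mem_mul.1 hk
  exact ⟨n, d, rfl, hd, hn, hRi⟩

/-- Stabilizers inside a larger member are reached by extensions. -/
theorem Outside.lift_stab {C : Subgroup Ω} [Finite Q] (hQC : Q ≤ C)
    (IH : ∀ (X Q : Subgroup Ω) (g : Ω → Ω), F.IsConj P Q → Nat.card C < Nat.card X → Q < X →
      X ≤ normalizerIn S Q → IsMap F X g → Lift F P (extR F p P hS h.le) Q g)
    (hQ : F.IsConj P Q) (hQlt : Q < C) (ha : F.IsFullyAutomized p C) (hr : F.IsReceptive C)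
    {n₀ : Ω} (hn₀ : n₀ ∈ normalizerIn (normalizerIn S C) Q) (hn₀C : n₀ ∉ C) (hp₀ : InO F p Q n₀)
    (hT : ¬ p ∣ (autInducedBy S C ⊓ autStab (F.autGroup C) Q hQC).relIndex
      (autStab (F.autGroup C) Q hQC))
    (hCN : C ≤ normalizerIn S Q) {k : MulAut C} (hk : k ∈ autStab (F.autGroup C) Q hQC) :
    Lift F P (extR F p P hS h.le) Q (autFun k) := by
  have hCS : C ≤ S := ha.1
  have hQS : Q ≤ S := hQC.trans hCS
  haveI := finite_of_le hCS
  haveI := finite_mulAut (P := C)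
  haveI := finite_mulAut (P := Q)
  set K := autStab (F.autGroup C) Q hQC with hK
  set res := autRes (F.autGroup C) Q hQC with hres
  set T := (autInducedBy S C).subgroupOf K with hTdef
  have hTp : IsPGroup p T := (isPGroup_autInducedBy hS).comap_subtype
  have hTi : ¬ p ∣ T.index := by
    have e : T.index = (autInducedBy S C ⊓ K).relIndex K := by
      rw [Subgroup.inf_relIndex_right]; rfl
    rwa [e]
  set D := (oCore F p Q).comap res with hD
  haveI : D.Normal := ⟨fun d hd g => by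
    rw [hD, Subgroup.mem_comap, map_mul, map_mul, map_inv] at *
    exact oCore_conj (autRes_mem_autGroup hCS g) hd⟩
  obtain ⟨n, d, hnd, hd, hn, hi⟩ := exists_frattini (D := D) hS hTp hTi ⟨k, hk⟩
  have hnK : (n : MulAut C) ∈ K := n.2
  -- `n` extends to a group with an element outside `C`
  obtain ⟨g, hg, hge⟩ := (isReceptive_iff.1 hr).2 C (autFun (n : MulAut C))
    ((mem_autGroup_iff hCS).1 hnK.1) (img_autFun _)
  set X := extSub S C (autFun (n : MulAut C)) ⊓ normalizerIn S Q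
  have hCX : C ≤ X := le_inf (le_extSub ((mem_autGroup_iff hCS).1 hnK.1)) hCN
  have hn₀X : n₀ ∈ X := by
    have hcK : conjAut n₀ hn₀.1.2 ∈ K := ⟨autInducedBy_le_autGroup hCS
      (conjAut_mem hn₀.1.1 hn₀.1.2), fun x hx => by
        rw [autFun_conjAut hn₀.1.2 (hQC hx)]
        exact (Subgroup.mem_normalizer_iff.1 hn₀.2 x).1 hx⟩
    have hcT : (⟨_, hcK⟩ : K) ∈ T ⊓ D := by
      refine Subgroup.mem_inf.2 ⟨Subgroup.mem_subgroupOf.2 (conjAut_mem hn₀.1.1 hn₀.1.2), ?_⟩
      obtain ⟨b, hb, hbx⟩ := hp₀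
      show res ⟨_, hcK⟩ ∈ oCore F p Q
      rwa [show res ⟨_, hcK⟩ = b from autFun_ext fun x hx => by
        rw [autFun_autRes _ hx, autFun_conjAut hn₀.1.2 (hQC hx), hbx x hx]]
    have h1 := Subgroup.mem_subgroupOf.1
      (Subgroup.mem_inf.1 ((Subgroup.mem_normalizer_iff.1 hn _).1 hcT)).1
    obtain ⟨u, hu, hux⟩ := mem_autInducedBy_iff.1 h1
    refine Subgroup.mem_inf.2 ⟨⟨hn₀.1, u, hu, fun x hx => ?_⟩, hn₀.1.1, hn₀.2⟩
    rw [Subgroup.coe_mul, Subgroup.coe_mul, Subgroup.coe_inv] at hux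
    rw [← hux _ (autFun_mem _ hx), ← autFun_mul _ _ hx, inv_mul_cancel_right, autFun_mul _ _ hx,
      autFun_conjAut hn₀.1.2 hx]
  have hXc : Nat.card C < Nat.card X :=
    card_lt_of_lt (inf_le_right.trans inf_le_left) (lt_of_le_of_ne hCX fun e => hn₀C (e ▸ hn₀X))
  have hLn : Lift F P (extR F p P hS h.le) Q (autFun (n : MulAut C)) :=
    (h.classRel_lift hS).congr Q g _
      (IH X Q g hQ hXc (hQlt.trans_le hCX) inf_le_right (hg.mono inf_le_left))
      fun x hx => (hge x (hQC hx)).symm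
  -- `d` acts as conjugation by an element normalizing `Q`
  obtain ⟨t, ht, htd⟩ : ∃ t ∈ T ⊓ D, res t = res d := by
    set f : D →* oCore F p Q := (res.comp D.subtype).codRestrict _ fun a => a.2
    haveI := finite_mulAut (P := Q)
    have hdvd : ((((T ⊓ D).subgroupOf D).map f.rangeRestrict).index) ∣
        ((T ⊓ D).subgroupOf D).index :=
      Subgroup.index_map_dvd _ f.rangeRestrict_surjective
    have hpp : IsPGroup p f.range := (isPGroup_oCore (F := F) (P := Q)).to_subgroup f.range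
    obtain ⟨m, hm⟩ := hpp.index (((T ⊓ D).subgroupOf D).map f.rangeRestrict)
    have h1 : ((T ⊓ D).subgroupOf D).map f.rangeRestrict = ⊤ := by
      rw [← Subgroup.index_eq_one, hm]
      rcases Nat.eq_zero_or_pos m with rfl | hm0
      · rfl
      · exact absurd ((hm ▸ dvd_pow_self p hm0.ne').trans hdvd) hi
    obtain ⟨t, ht, hte⟩ : f.rangeRestrict ⟨d, hd⟩ ∈
        ((T ⊓ D).subgroupOf D).map f.rangeRestrict := h1 ▸ Subgroup.mem_top _
    exact ⟨(t : K), Subgroup.mem_subgroupOf.1 ht,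
      congrArg Subtype.val (congrArg Subtype.val hte)⟩
  obtain ⟨u, hu, hux⟩ := mem_autInducedBy_iff.1
    (Subgroup.mem_subgroupOf.1 (Subgroup.mem_inf.1 ht).1)
  have hdx : ∀ x ∈ Q, autFun (d : MulAut C) x = u * x * u⁻¹ := fun x hx => by
    have h2 := autFun_autRes (Y := F.autGroup C) (hQC := hQC) d hx
    rw [← hres, ← htd, hres, autFun_autRes t hx] at h2
    rw [← h2, hux x (hQC hx)]
  have hNc : Nat.card C < Nat.card (normalizerIn S Q) :=
    card_lt_of_lt inf_le_left (lt_of_le_of_ne hCN fun e => hn₀C (e ▸ ⟨hn₀.1.1, hn₀.2⟩))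
  have hLd : Lift F P (extR F p P hS h.le) Q (autFun (d : MulAut C)) :=
    (h.classRel_lift hS).congr Q _ _ (IH (normalizerIn S Q) Q _ hQ hNc
      (hQlt.trans_le hCN) le_rfl (isMap_conj inf_le_left hu)) hdx
  have hdm := ((mem_autGroup_iff hCS).1 (d : K).2.1).mono hQC
  have hdi : img Q (autFun (d : MulAut C)) = Q := img_eq_of_map_le hQS hdm le_rfl (d : K).2.2
  have hcomp := (h.classRel_lift hS).comp Q _ (autFun (n : MulAut C)) hQ hdm
    (by rw [hdi]; exact ((mem_autGroup_iff hCS).1 hnK.1).mono hQC) hLd (by rwa [hdi])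
  refine (h.classRel_lift hS).congr Q _ _ hcomp fun x hx => ?_
  rw [show k = (n : MulAut C) * (d : MulAut C) from congrArg Subtype.val hnd,
    autFun_mul _ _ (hQC hx)]
  rfl

theorem Outside.core : ∀ (d : ℕ) (A : Subgroup Ω) (ψ : Ω → Ω), Nat.card S - Nat.card A = d →
    P < A → A ≤ normalizerIn S P → IsMap F A ψ → img P ψ = P →
      ∃ a ∈ extR F p P hS h.le, ∀ x ∈ P, autFun a x = ψ x := by
  intro d
  induction d using Nat.strong_induction_on with
  | _ d ih =>
  intro A ψ hd hPA hAN hψ hψP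
  have hψP' := hψ.mono hPA.le
  by_cases hRA : rSub F p P ≤ A
  · exact ⟨autOf hψP' hψP, ⟨ψ, hψ.mono hRA, fun x hx => (autFun_autOf hψP' hψP hx).symm⟩,
      fun x hx => autFun_autOf hψP' hψP hx⟩
  have hnR : normalizerIn S P ≤ Subgroup.normalizer (rSub F p P : Set Ω) := fun g hg => by
    haveI := finite_of_le (rSub_le.trans inf_le_left : rSub F p P ≤ S)
    refine conjBy_eq_iff.1 (eq_of_le_of_card_le (rSub_le.trans inf_le_left)
      (conjBy_le_iff.2 fun r hr => ⟨mul_mem (mul_mem hg hr.1) (inv_mem hg), ?_⟩)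
      (card_conjBy g _).ge)
    have h1 := InO.map (isMap_conj (F := F) (inf_le_left : normalizerIn S P ≤ S) hg.1)
      (le_normalizerIn h.le) hr.1 hr.2
    rwa [img_conj, conjBy_eq_iff.2 hg.2] at h1
  set AR := A ⊔ rSub F p P with hAR
  have hARN : AR ≤ normalizerIn S P := sup_le hAN rSub_le
  haveI := finite_of_le (hARN.trans inf_le_left : AR ≤ S)
  have hARp : IsPGroup p AR := hS.to_le (hARN.trans inf_le_left)
  haveI : Group.IsNilpotent AR := hARp.isNilpotent
  obtain ⟨z, hz, hzA⟩ := SetLike.exists_of_lt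
    (lt_inf_normalizer (le_sup_left : A ≤ AR) fun e => hRA (e ▸ le_sup_right))
  have hz' : z ∈ ((A ⊔ rSub F p P : Subgroup Ω) : Set Ω) := hz.1
  rw [coe_mul_of_left_le_normalizer_right A (rSub F p P) (hAN.trans hnR)] at hz'
  obtain ⟨a₀, ha₀, r, hr, rfl⟩ := Set.mem_mul.1 hz'
  have hrA : r ∉ A := fun hrA => hzA (mul_mem ha₀ hrA)
  have hrN : r ∈ Subgroup.normalizer (A : Set Ω) := by
    have h1 := mul_mem (inv_mem (Subgroup.le_normalizer ha₀)) hz.2
    rwa [inv_mul_cancel_left] at h1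
  have hcardP : Nat.card P < Nat.card A := card_lt_of_lt hψ.le hPA
  have hAlt : Nat.card A < Nat.card (normalizerIn S P) :=
    card_lt_of_lt inf_le_left (lt_of_le_of_ne hAN fun e => hrA (e ▸ hr.1))
  have hBle : img A ψ ≤ normalizerIn S (img P ψ) := fun y hy => by
    obtain ⟨x, hx, rfl⟩ := hψ.mem_img.1 hy
    exact map_mem_normalizerIn hψ hPA.le hx (hAN hx).2
  have hB : img A ψ < normalizerIn S (img P ψ) := lt_of_le_of_ne hBle fun e => by
    rw [← hψ.card_img, e, hψP] at hAlt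
    exact lt_irrefl _ hAlt
  have hIH : ∀ (X Q : Subgroup Ω) (g : Ω → Ω), F.IsConj P Q → Nat.card A < Nat.card X → Q < X →
      X ≤ normalizerIn S Q → IsMap F X g → Lift F P (extR F p P hS h.le) Q g := by
    intro X Q g hQ hX hQX hXN hg
    refine h.lift_of_core hS (fun A' ψ' h1 h2 h3 h4 h5 => ih _ ?_ A' ψ' rfl h1 h2 h3 h4) hQ hQX
      hXN hg
    have : Nat.card X ≤ Nat.card S := card_le_of_le' le_rfl hg.le
    omega
  obtain ⟨a, ha, hae⟩ := rel_of_stab (Pred := InO F p) hS (h.classRel_lift hS)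
    (fun X f Q n hf hQX hn hp => InO.map hf hQX hn hp) (h.sat A hψ.le hcardP) (isConj_refl h.le)
    hψ hPA hAN (n₀ := r) ⟨hr.1, hrN⟩ hrA hr.2 hB hIH
    (fun C Q' _ hQ'C hC hQ' hlt hCa hCr hn hT hCN k hk => by
      obtain ⟨n, hn, hnC, hp⟩ := hn
      exact h.lift_stab hS hQ'C (fun X Q g hQ hX => hIH X Q g hQ (hC ▸ hX)) hQ' hlt hCa hCr hn hnC
        hp hT hCN hk)
  refine ⟨a, ha, fun x hx => ?_⟩
  have h1 := hae x hx
  rwa [hψP, show toP F P P = id from if_pos rfl] at h1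

theorem Outside.lift_of_map {X : Subgroup Ω} {g : Ω → Ω} (hQ : F.IsConj P Q) (hQX : Q < X)
    (hg : IsMap F X g) : Lift F P (extR F p P hS h.le) Q g := by
  haveI := finite_of_le hg.le
  haveI : Group.IsNilpotent X := (hS.to_le hg.le).isNilpotent
  exact h.lift_of_core hS (fun A' ψ' h1 h2 h3 h4 _ => h.core hS _ A' ψ' rfl h1 h2 h3 h4) hQ
    (X := normalizerIn X Q) (lt_inf_normalizer hQX.le hQX.ne) (inf_le_inf_right _ hg.le)
    (hg.mono inf_le_left)

theorem Outside.lift_of_rmap {T : Subgroup Ω} {g : Ω → Ω} (hg : RMap F ℋ T g) :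
    ∀ Q, Q ≤ T → F.IsConj P Q → Lift F P (extR F p P hS h.le) Q g := by
  induction hg with
  | @base R T g hR hle hf =>
    intro Q hQT hQ
    exact h.lift_of_map hS hQ (lt_of_le_of_ne (hQT.trans hle) fun e =>
      h.notMem (h.conj Q (e.symm ▸ hR) P (isConj_symm hQ))) hf
  | @conj T s hT hs =>
    intro Q hQT hQ
    exact h.lift_of_map hS hQ (h.lt_self hS hQ) (isMap_conj le_rfl hs)
  | @comp T R f g h1 h2 hm ih1 ih2 =>
    intro Q hQT hQ
    have hf := h1.isMap.mono hQT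
    have hle : img Q f ≤ R := hf.img_le_of_forall fun x hx => hm x (hQT hx)
    exact (h.classRel_lift hS).comp Q f g hQ hf (h2.isMap.mono hle) (ih1 Q hQT hQ)
      (ih2 _ hle (isConj_trans hQ (isConj_iff.2 ⟨f, hf, rfl⟩)))
  | @congr T f g _ he ih =>
    intro Q hQT hQ
    exact (h.classRel_lift hS).congr Q f g (ih Q hQT hQ) fun x hx => he x (hQT hx)

/-- Every automorphism of `P` extends to `rSub F p P`. -/
theorem Outside.autGroup_le_extR : F.autGroup P ≤ extR F p P hS h.le := by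
  intro α hα
  have hm := (mem_autGroup_iff h.le).1 hα
  obtain ⟨a, ha, hae⟩ := h.lift_of_rmap hS (h.rmap P _ hm) P le_rfl (isConj_refl h.le)
  rw [img_autFun, show toP F P P = id from if_pos rfl] at hae
  rwa [show α = a from autFun_ext fun x hx => (hae x hx).symm]

theorem Outside.exists_mem_rSub : ∃ n ∈ rSub F p P, n ∉ P := by
  obtain ⟨Q, hQ, n, hn, hnQ⟩ := h.star
  obtain ⟨ht, htP⟩ := h.toP_spec hS hQ
  have hQN := le_normalizerIn (S := S) (isConj_le hQ).2
  have h1 := InO.map ht hQN hn.1 hn.2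
  have h2 := map_mem_normalizerIn ht hQN hn.1 hn.1.2
  rw [htP] at h1 h2
  exact ⟨_, ⟨h2, h1⟩, fun hmem => hnQ (ht.mem_of_mem_img hQN hn.1 (htP.ge hmem))⟩

end CfsgLib.Fusion.FamilySat
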