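import Cfsg.Agent.Lib.Fusion.System.PPrimeCharacter

/-!
# Lifting automorphisms of `P C_S(T)` fixing `P` to automorphisms of `T C_S(T)` fixing `T`

Here `T` is strongly closed and `C_T(P') ≤ P'` for the images `P'` of `P`. The action modulo `T` of
an automorphism of order prime to `p` is preserved.
-/

set_option autoImplicit false
set_option linter.style.haveILetI false
set_option linter.unusedSectionVars false

open Subgroup
open scoped Classical

namespace CfsgLib.Fusion.ExtLift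

open Cfsg (FusionSystem autInducedBy)
open Cfsg.FusionSystem (normalizerIn centralizerIn)

variable {Ω : Type*} [Group Ω] {S T : Subgroup Ω} {F : FusionSystem S} {p : ℕ}

/-! ### Congruence modulo `T` -/

/-- `a` and `b` agree modulo `T` on `U`. -/
def Sim (T : Subgroup Ω) {U V : Subgroup Ω} (a : MulAut V) (b : MulAut U) : Prop :=
  ∀ u ∈ U, (autFun b u)⁻¹ * autFun a u ∈ T

variable {U V : Subgroup Ω}

theorem Sim.one (hUV : U ≤ V) : Sim T (1 : MulAut V) (1 : MulAut U) := fun u hu => by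
  rw [autFun_one hu, autFun_one (hUV hu), inv_mul_cancel]
  exact one_mem _

theorem Sim.mul (hUV : U ≤ V) (hTV : T ≤ V) {a a' : MulAut V} {b b' : MulAut U}
    (ha : ∀ t ∈ T, autFun a t ∈ T) (h : Sim T a b) (h' : Sim T a' b') :
    Sim T (a * a') (b * b') := fun u hu => by
  have hbu := autFun_mem b' hu
  rw [autFun_mul _ _ hu, autFun_mul _ _ (hUV hu),
    show autFun a' u = autFun b' u * ((autFun b' u)⁻¹ * autFun a' u) by group,
    autFun_map_mul a (hUV hbu) (hTV (h' u hu)), ← mul_assoc]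
  exact mul_mem (h _ hbu) (ha _ (h' u hu))

theorem Sim.pow (hUV : U ≤ V) (hTV : T ≤ V) {a : MulAut V} {b : MulAut U}
    (ha : ∀ t ∈ T, autFun a t ∈ T) (h : Sim T a b) : ∀ n : ℕ, Sim T (a ^ n) (b ^ n) := by
  intro n
  induction n with
  | zero => rw [pow_zero, pow_zero]; exact Sim.one hUV
  | succ n ih => rw [pow_succ', pow_succ']; exact Sim.mul hUV hTV ha h ih

variable [Finite S] [Fact p.Prime]

/-- An exponent that is `1` modulo the prime to `p` part and kills the `p`-part. -/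
theorem exists_exponent (n : ℕ) (hn : n ≠ 0) (k : ℕ) : ∃ q M a : ℕ, n = p ^ a * q ∧ ¬ p ∣ q ∧
    p ^ k ∣ M ∧ p ^ a ∣ M ∧ M % q = 1 % q ∧ M ≠ 0 := by
  obtain ⟨a, q, hq, he⟩ := Nat.exists_eq_pow_mul_and_not_dvd hn p (Fact.out : p.Prime).ne_one
  have hcop : Nat.Coprime (p ^ (k + a)) q :=
    Nat.Coprime.pow_left _ ((Fact.out : p.Prime).coprime_iff_not_dvd.2 hq)
  obtain ⟨M, hM1, hM2⟩ := Nat.chineseRemainder hcop 0 1
  have hq0 : 0 < q := Nat.pos_of_ne_zero fun e => hn (by rw [he, e, mul_zero])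
  refine ⟨q, M + p ^ (k + a) * q, a, he, hq, ?_, ?_, ?_, ?_⟩
  · exact Dvd.dvd.add ((pow_dvd_pow p (Nat.le_add_right k a)).trans (Nat.modEq_zero_iff_dvd.1 hM1))
      ((pow_dvd_pow p (Nat.le_add_right k a)).trans (Dvd.intro _ rfl))
  · exact Dvd.dvd.add ((pow_dvd_pow p (Nat.le_add_left a k)).trans (Nat.modEq_zero_iff_dvd.1 hM1))
      ((pow_dvd_pow p (Nat.le_add_left a k)).trans (Dvd.intro _ rfl))
  · rw [Nat.add_mul_mod_self_right]
    exact hM2
  · exact Nat.pos_iff_ne_zero.1 (Nat.add_pos_right _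
      (Nat.mul_pos (pow_pos (Fact.out : p.Prime).pos _) hq0))

theorem pow_eq_self {G : Type*} [Group G] {g : G} {M : ℕ} (h : M % orderOf g = 1 % orderOf g) :
    g ^ M = g := by
  rw [← pow_mod_orderOf, h, pow_mod_orderOf, pow_one]

/-- The lift. -/
theorem exists_lift (hS : IsPGroup p S) (hF : F.IsSaturated p) (hT : F.StronglyClosed T)
    (P : Subgroup Ω) (hP : ∀ P₁ : Subgroup Ω, F.IsConj P P₁ → centralizerIn T P₁ ≤ P₁)
    (hPT : P ≤ T) (ε : MulAut (P ⊔ centralizerIn S T : Subgroup Ω))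
    (hε : ε ∈ F.autGroup (P ⊔ centralizerIn S T)) (hεP : ∀ x ∈ P, autFun ε x = x)
    (hεo : ¬ p ∣ orderOf ε) :
    ∃ k : MulAut (T ⊔ centralizerIn S T : Subgroup Ω), k ∈ F.autGroup (T ⊔ centralizerIn S T) ∧
      (∀ x ∈ T, autFun k x = x) ∧ Sim T k ε := by
  revert hεo hεP hε ε
  induction hk : Nat.card S - Nat.card P using Nat.strong_induction_on generalizing P with
  | _ d ih =>
  by_cases hPTe : P = T
  · subst hPTe
    exact fun ε hε hεP _ => ⟨ε, hε, hεP, fun u _ => by rw [inv_mul_cancel]; exact one_mem _⟩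
  have hTS := hT.1
  have hTn : S ≤ Subgroup.normalizer (T : Set Ω) :=
    (le_normalizerIn_of_stronglyClosed hT).trans inf_le_right
  set C := centralizerIn S T with hC
  set U := P ⊔ C with hU
  intro ε hε hεP hεo
  have hCS : C ≤ S := inf_le_left
  have hPS : P ≤ S := hPT.trans hTS
  have hUS : U ≤ S := sup_le hPS hCS
  have hCcomm : ∀ c ∈ C, ∀ t ∈ T, t * c = c * t := fun c hc t ht =>
    Subgroup.mem_centralizer_iff.1 hc.2 t ht
  set N := normalizerIn T P with hN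
  have hNT : N ≤ T := inf_le_left
  have hPN : P ≤ N := le_normalizerIn hPT
  haveI := finite_of_le hTS
  have hlt : P < N := lt_normalizerIn (hS.to_le hTS) hPT hPTe
  have hUimg : img U (autFun ε) = U := img_autFun ε
  have hεm := (mem_autGroup_iff hUS).1 hε
  -- a fully normalized conjugate of `U`
  obtain ⟨U₀, -, hU₀a, hU₀r, g₀, hg₀, hg₀U, -⟩ :=
    FamilySat.exists_to_normalized (F := F) hS hUS (hF U hUS)
  have hNnU : ∀ n ∈ N, n ∈ normalizerIn S U := fun n hn => by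
    refine ⟨hTS (hNT hn), Subgroup.mem_normalizer_iff.2 ?_⟩
    haveI := finite_of_le hUS
    have hle : ∀ u ∈ U, n * u * n⁻¹ ∈ U := fun u hu => by
      have h1 : U ≤ (U.comap (MulAut.conj n).toMonoidHom) := sup_le (fun z hz => by
          exact Subgroup.mem_sup_left ((Subgroup.mem_normalizer_iff.1 hn.2 z).1 hz))
        fun z hz => by
          show n * z * n⁻¹ ∈ U
          rw [hCcomm z hz n (hNT hn), mul_inv_cancel_right]
          exact Subgroup.mem_sup_right hz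
      exact h1 hu
    have he := conjBy_eq_iff.1 (eq_of_le_of_card_le hUS (conjBy_le_iff.2 hle) (card_conjBy n U).ge)
    exact fun u => Subgroup.mem_normalizer_iff.1 he u
  set P₀ := img P g₀
  have hUN : U ≤ normalizerIn S U := le_normalizerIn hUS
  have hPU : P ≤ U := le_sup_left
  have hP₀U : P₀ ≤ U₀ := hg₀U ▸ (hg₀.mono hUN).img_mono hPU
  haveI := finite_of_le (hP₀U.trans hU₀a.1)
  obtain ⟨δ, hδ, _, hP₁U, hTsyl, g₁, hg₁, hg₁δ⟩ := FamilySat.exists_move hS hU₀a hU₀r hP₀U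
  set P₁ := img P₀ (autFun δ)
  have hU₀S : U₀ ≤ S := hU₀a.1
  have hU₀X : U₀ ≤ normalizerIn (normalizerIn S U₀) P₀ := fun y hy => by
    refine ⟨le_normalizerIn hU₀S hy, ?_⟩
    obtain ⟨u, hu, rfl⟩ := (hg₀.mono hUN).mem_img.1 (hg₀U.ge hy)
    refine (map_mem_normalizerIn hg₀ (hPU.trans hUN) (hUN hu) ?_).2
    have h1 : U ≤ Subgroup.normalizer (P : Set Ω) := sup_le Subgroup.le_normalizer fun z hz =>
      Subgroup.centralizer_le_normalizer _ (Subgroup.centralizer_le hPT hz.2)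
    exact h1 hu
  -- the map `θ` on `N ⊔ U`
  set X := N ⊔ U with hX
  have hXN : X ≤ normalizerIn S U := sup_le hNnU hUN
  have hXP : X ≤ Subgroup.normalizer (P : Set Ω) := sup_le inf_le_right
    (sup_le Subgroup.le_normalizer fun z hz =>
      Subgroup.centralizer_le_normalizer _ (Subgroup.centralizer_le hPT hz.2))
  have hXg : ∀ x ∈ X, g₀ x ∈ normalizerIn (normalizerIn S U₀) P₀ := fun x hx => by
    have h1 := map_mem_normalizerIn hg₀ hUN (hXN hx) (hXN hx).2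
    rw [hg₀U] at h1
    exact ⟨h1, (map_mem_normalizerIn hg₀ (hPU.trans hUN) (hXN hx) (hXP hx)).2⟩
  have hθ : IsMap F X (g₁ ∘ g₀) := (hg₀.mono hXN).comp hg₁ hXg
  set θ := g₁ ∘ g₀
  have hUX : U ≤ X := le_sup_right
  have hNX : N ≤ X := le_sup_left
  have hθU : img U θ = U₀ := by
    rw [← img_img (hg₀.mono hUN), hg₀U, IsMap.img_congr hg₁δ, img_autFun]
  have hθP : img P θ = P₁ := by
    rw [← img_img (hg₀.mono (hPU.trans hUN))]
    exact IsMap.img_congr fun x hx => hg₁δ x (hP₀U hx)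
  have hconj : F.IsConj P P₁ := isConj_iff.2 ⟨θ, hθ.mono (hPU.trans hUX), hθP⟩
  have hθT : ∀ n ∈ N, θ n ∈ T := fun n hn =>
    SubsystemCentric.map_mem_of_stronglyClosed hT hθ (hNX hn) (hNT hn)
  -- transport `ε`
  obtain ⟨θ', hθ', hθ'1, hθ'2⟩ := hθ.exists_inv
  have hUimg' : ∀ y ∈ U₀, θ' y ∈ U := fun y hy => by
    obtain ⟨x, hx, rfl⟩ := (hθ.mono hUX).mem_img.1 (hθU.ge hy)
    rwa [hθ'1 x (hUX hx)]
  have hθ'U : IsMap F U₀ θ' := hθ'.mono (hθU ▸ hθ.img_mono hUX)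
  have hε₁m : IsMap F U₀ (θ ∘ (autFun ε ∘ θ')) :=
    (hθ'U.comp hεm hUimg').comp (hθ.mono hUX) fun y hy => autFun_mem ε (hUimg' y hy)
  have hε₁i : img U₀ (θ ∘ (autFun ε ∘ θ')) = U₀ := img_eq_of_map_le hU₀S hε₁m le_rfl fun y hy =>
    hθU.le ((hθ.mono hUX).mem_img.2 ⟨_, autFun_mem ε (hUimg' y hy), rfl⟩)
  set ε₁ := autOf hε₁m hε₁i
  have hε₁v : ∀ x ∈ U, autFun ε₁ (θ x) = θ (autFun ε x) := fun x hx => by
    rw [autFun_autOf hε₁m hε₁i (hθU.le ((hθ.mono hUX).mem_img.2 ⟨x, hx, rfl⟩))]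
    show θ (autFun ε (θ' (θ x))) = _
    rw [hθ'1 x (hUX hx)]
  -- it extends to `θ(N ⊔ U)`
  obtain ⟨G₁, hG₁, hG₁e⟩ := (isReceptive_iff.1 hU₀r).2 U₀ (autFun ε₁)
    ((mem_autGroup_iff hU₀S).1 (autOf_mem hε₁m hε₁i)) (img_autFun _)
  haveI := finite_of_le hU₀S
  haveI := finite_mulAut (P := U₀)
  haveI := finite_of_le (hθP ▸ (hθ.mono (hPU.trans hUX)).img_le : P₁ ≤ S)
  set K := FamilySat.autStab (F.autGroup U₀) P₁ hP₁U
  set Sy := autInducedBy S U₀ ⊓ K
  have hKP : ∀ a ∈ K, ∀ y ∈ P₁, autFun a y ∈ P₁ := fun a ha => ha.2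
  have hbot : ∀ a ∈ K, ∀ y ∈ (⊥ : Subgroup Ω), autFun a y ∈ (⊥ : Subgroup Ω) := fun a _ y hy => by
    rw [Subgroup.mem_bot] at hy ⊢
    rw [hy, autFun_map_one]
  set L : Subgroup K := relStab K P₁ ⊥ hbot hP₁U bot_le hKP ⊓
    relStab K U₀ P₁ hKP le_rfl hP₁U (fun a _ y hy => autFun_mem a hy) with hL
  haveI : L.Normal := @Subgroup.normal_inf_normal _ _ _ _ relStab_normal relStab_normal
  obtain ⟨m, hm⟩ := IsPGroup.iff_card.1 hS
  have hLp : IsPGroup p L := by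
    intro a
    refine ⟨m, Subtype.ext (Subtype.ext (autFun_ext fun y hy => ?_))⟩
    simp only [Subgroup.coe_pow, Subgroup.coe_one]
    rw [autFun_one hy]
    refine pow_fix_step hU₀S hm le_rfl hP₁U (fun z hz => ?_)
      (mem_relStab.1 (Subgroup.mem_inf.1 a.2).2) y hy
    exact (inv_mul_eq_one.1
      (Subgroup.mem_bot.1 (mem_relStab.1 (Subgroup.mem_inf.1 a.2).1 z hz))).symm
  have hLS : ∀ a : K, a ∈ L → (a : MulAut U₀) ∈ autInducedBy S U₀ := fun a ha => by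
    obtain ⟨h, hh, hle⟩ := exists_conj_le_of_not_dvd_relIndex
      ((isPGroup_autInducedBy hS).to_le (inf_le_left : Sy ≤ _)) (inf_le_right : Sy ≤ K) hTsyl
      (hLp.map K.subtype) (Subgroup.map_subtype_le _)
    have h2 : (⟨h, hh⟩⁻¹ * a * ⟨h, hh⟩ : K) ∈ L := by
      have := (inferInstance : L.Normal).conj_mem a ha (⟨h, hh⟩⁻¹ : K)
      rwa [inv_inv] at this
    have h3 := hle (conj_mem_conjBy (Subgroup.mem_map_of_mem K.subtype h2))
    simp only [Subgroup.coe_subtype, Subgroup.coe_mul, Subgroup.coe_inv] at h3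
    rw [show h * (h⁻¹ * (a : MulAut U₀) * h) * h⁻¹ = a by group] at h3
    exact h3.1
  have hε₁K : ε₁ ∈ K := ⟨autOf_mem hε₁m hε₁i, fun y hy => by
    obtain ⟨x, hx, rfl⟩ := (hθ.mono (hPU.trans hUX)).mem_img.1 (hθP.ge hy)
    rw [hε₁v x (hPU hx), hεP x hx]
    exact hy⟩
  have hε₁P : ∀ y ∈ P₁, autFun ε₁ y = y := fun y hy => by
    obtain ⟨x, hx, rfl⟩ := (hθ.mono (hPU.trans hUX)).mem_img.1 (hθP.ge hy)
    rw [hε₁v x (hPU hx), hεP x hx]
  have hdom : img X θ ≤ extSub S U₀ (autFun ε₁) := by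
    refine hθ.img_le_of_forall fun z hz => hθ.map_mem_of_sup (fun n hn => ?_) (fun u hu => ?_) hz
    · -- elements of `N`
      have hθn : θ n ∈ normalizerIn S U₀ := by
        have := map_mem_normalizerIn hθ hUX (hNX hn) (hXN (hNX hn)).2
        rwa [hθU] at this
      have hθnP : θ n ∈ Subgroup.normalizer (P₁ : Set Ω) := by
        have := map_mem_normalizerIn hθ (hPU.trans hUX) (hNX hn) hn.2
        rw [hθP] at this
        exact this.2
      have hcK : conjAut (θ n) hθn.2 ∈ K :=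
        ⟨autInducedBy_le_autGroup hU₀S (conjAut_mem hθn.1 hθn.2), fun y hy => by
          rw [autFun_conjAut hθn.2 (hP₁U hy)]
          exact (Subgroup.mem_normalizer_iff.1 hθnP y).1 hy⟩
      set c : K := ⟨_, hcK⟩
      set e : K := ⟨ε₁, hε₁K⟩
      -- `d` lies in `L`
      have key : ∀ x ∈ U, autFun ((e * c * e⁻¹ * c⁻¹ : K) : MulAut U₀) (θ x) =
          θ (autFun ε (n * autFun ε⁻¹ (n⁻¹ * x * n) * n⁻¹)) := by
        intro x hx
        have hxn : n⁻¹ * x * n ∈ U := (Subgroup.mem_normalizer_iff''.1 (hNnU n hn).2 x).1 hx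
        have hθx : θ x ∈ U₀ := hθU.le ((hθ.mono hUX).mem_img.2 ⟨x, hx, rfl⟩)
        have hi := autFun_mem ε⁻¹ hxn
        have hθi : θ (autFun ε⁻¹ (n⁻¹ * x * n)) ∈ U₀ :=
          hθU.le ((hθ.mono hUX).mem_img.2 ⟨_, hi, rfl⟩)
        have h1 : autFun (conjAut (θ n) hθn.2)⁻¹ (θ x) = θ (n⁻¹ * x * n) := by
          have hy : θ (n⁻¹ * x * n) ∈ U₀ := hθU.le ((hθ.mono hUX).mem_img.2 ⟨_, hxn, rfl⟩)
          have e1 : autFun (conjAut (θ n) hθn.2) (θ (n⁻¹ * x * n)) = θ x := by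
            rw [autFun_conjAut hθn.2 hy, ← hθ.map_conj (hNX hn) (hUX hxn)]
            congr 1
            group
          rw [← e1, PPrime.autFun_symm hy]
        have h2 : autFun ε₁⁻¹ (θ (n⁻¹ * x * n)) = θ (autFun ε⁻¹ (n⁻¹ * x * n)) := by
          have e1 : autFun ε₁ (θ (autFun ε⁻¹ (n⁻¹ * x * n))) = θ (n⁻¹ * x * n) := by
            rw [hε₁v _ hi, PPrime.autFun_symm' hxn]
          rw [← e1, PPrime.autFun_symm hθi]
        simp only [Subgroup.coe_mul, Subgroup.coe_inv]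
        show autFun (ε₁ * conjAut (θ n) hθn.2 * ε₁⁻¹ * (conjAut (θ n) hθn.2)⁻¹) (θ x) = _
        rw [autFun_mul _ _ hθx, h1, autFun_mul _ _ (hθU.le ((hθ.mono hUX).mem_img.2 ⟨_, hxn, rfl⟩)),
          h2, autFun_mul _ _ hθi, autFun_conjAut hθn.2 hθi,
          ← hθ.map_conj (hNX hn) (hUX hi),
          hε₁v _ ((Subgroup.mem_normalizer_iff.1 (hNnU n hn).2 _).1 hi)]
      have hdL : e * c * e⁻¹ * c⁻¹ ∈ L := by
        refine Subgroup.mem_inf.2 ⟨fun y hy => Subgroup.mem_bot.2 ?_, fun y hy => ?_⟩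
        · obtain ⟨x, hx, rfl⟩ := (hθ.mono (hPU.trans hUX)).mem_img.1 (hθP.ge hy)
          have hxn : n⁻¹ * x * n ∈ P := (Subgroup.mem_normalizer_iff''.1 hn.2 x).1 hx
          have hi : autFun ε⁻¹ (n⁻¹ * x * n) = n⁻¹ * x * n := by
            conv_lhs => rw [← hεP _ hxn]
            exact PPrime.autFun_symm (hPU hxn)
          rw [key x (hPU hx), hi, show n * (n⁻¹ * x * n) * n⁻¹ = x by group, hεP x hx,
            inv_mul_cancel]
        · obtain ⟨x, hx, rfl⟩ := (hθ.mono hUX).mem_img.1 (hθU.ge hy)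
          rw [key x hx]
          -- `n` acts trivially on `U` modulo `P`
          have htr : ∀ u ∈ U, n * u * n⁻¹ * u⁻¹ ∈ P := by
            intro u hu
            have hu' : u ∈ ((P ⊔ C : Subgroup Ω) : Set Ω) := hu
            rw [coe_mul_of_left_le_normalizer_right P C (fun z hz =>
              (show Subgroup.normalizer (C : Set Ω) = Subgroup.normalizer (C : Set Ω) from rfl) ▸
                Subgroup.mem_normalizer_iff.2 fun w => by
                  constructor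
                  · intro hw
                    rw [hCcomm w hw z (hPT hz), mul_inv_cancel_right]
                    exact hw
                  · intro hw
                    have h1 := hCcomm _ hw z⁻¹ (T.inv_mem (hPT hz))
                    rw [show w = z⁻¹ * (z * w * z⁻¹) * z by group, h1, inv_mul_cancel_right]
                    exact hw)] at hu'
            obtain ⟨q, hq, w, hw, rfl⟩ := Set.mem_mul.1 hu'
            have hw' : n * w = w * n := hCcomm w hw n (hNT hn)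
            rw [show n * (q * w) * n⁻¹ * (q * w)⁻¹ = n * q * (w * n⁻¹ * w⁻¹) * q⁻¹ by group,
              show w * n⁻¹ * w⁻¹ = n⁻¹ by
                rw [show w * n⁻¹ * w⁻¹ = (w * n * w⁻¹)⁻¹ by group, ← hw', mul_inv_cancel_right]]
            exact mul_mem ((Subgroup.mem_normalizer_iff.1 hn.2 q).1 hq) (inv_mem hq)
          have hxn : n⁻¹ * x * n ∈ U := (Subgroup.mem_normalizer_iff''.1 (hNnU n hn).2 x).1 hx
          have hi := autFun_mem ε⁻¹ hxn
          have hnu : n * autFun ε⁻¹ (n⁻¹ * x * n) * n⁻¹ ∈ U :=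
            (Subgroup.mem_normalizer_iff.1 (hNnU n hn).2 _).1 hi
          have h1 := htr _ hi
          have h2 := htr _ hxn
          rw [show n * (n⁻¹ * x * n) * n⁻¹ = x by group] at h2
          -- `ε` fixes `P`
          set q := n * autFun ε⁻¹ (n⁻¹ * x * n) * n⁻¹ * (autFun ε⁻¹ (n⁻¹ * x * n))⁻¹ with hq
          have e1 : autFun ε (n * autFun ε⁻¹ (n⁻¹ * x * n) * n⁻¹) = q * (n⁻¹ * x * n) := by
            rw [show n * autFun ε⁻¹ (n⁻¹ * x * n) * n⁻¹ = q * autFun ε⁻¹ (n⁻¹ * x * n) by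
              rw [hq]; group, autFun_map_mul ε (hPU h1) hi, hεP q h1, PPrime.autFun_symm' hxn]
          rw [e1]
          have hxq : x⁻¹ * (q * (n⁻¹ * x * n)) ∈ P := by
            have h3 : (x⁻¹ * q * x⁻¹⁻¹) ∈ P := (Subgroup.mem_normalizer_iff.1
              (hXP (hUX (U.inv_mem hx))) q).1 h1
            have h4 : x⁻¹ * (x * (n⁻¹ * x * n)⁻¹)⁻¹ * x⁻¹⁻¹ ∈ P := (Subgroup.mem_normalizer_iff.1
              (hXP (hUX (U.inv_mem hx))) _).1 (P.inv_mem h2)
            have h5 := mul_mem h3 h4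
            rwa [show x⁻¹ * q * x⁻¹⁻¹ * (x⁻¹ * (x * (n⁻¹ * x * n)⁻¹)⁻¹ * x⁻¹⁻¹) =
              x⁻¹ * (q * (n⁻¹ * x * n)) by group] at h5
          have hm' := hθ.mono hUX
          rw [show (θ x)⁻¹ * θ (q * (n⁻¹ * x * n)) = θ (x⁻¹ * (q * (n⁻¹ * x * n))) by
            rw [hm'.map_mul (U.inv_mem hx) (U.mul_mem (hPU h1) hxn), hm'.map_inv hx]]
          exact hθP.le ((hθ.mono (hPU.trans hUX)).mem_img.2 ⟨_, hxq, rfl⟩)
      have hmem : ε₁ * conjAut (θ n) hθn.2 * ε₁⁻¹ ∈ autInducedBy S U₀ := by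
        have h1 := mul_mem (hLS _ hdL) (conjAut_mem hθn.1 hθn.2)
        simp only [Subgroup.coe_mul, Subgroup.coe_inv] at h1
        change ε₁ * conjAut (θ n) hθn.2 * ε₁⁻¹ * (conjAut (θ n) hθn.2)⁻¹ *
          conjAut (θ n) hθn.2 ∈ _ at h1
        rwa [inv_mul_cancel_right] at h1
      obtain ⟨w, hw, hwx⟩ := mem_autInducedBy_iff.1 hmem
      refine ⟨hθn, w, hw, fun y hy => ?_⟩
      rw [← hwx _ (autFun_mem _ hy), ← autFun_mul _ _ hy, inv_mul_cancel_right, autFun_mul _ _ hy,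
        autFun_conjAut hθn.2 hy]
    · exact le_extSub ((mem_autGroup_iff hU₀S).1 (autOf_mem hε₁m hε₁i))
        (hθU.le ((hθ.mono hUX).mem_img.2 ⟨u, hu, rfl⟩))
  have hG := hG₁.mono hdom
  -- it stabilizes `θ(N ⊔ U)`
  have hGN : ∀ n ∈ N, (θ n)⁻¹ * G₁ (θ n) ∈ P₁ := by
    intro n hn
    have hmX : θ n ∈ img X θ := hθ.mem_img.2 ⟨n, hNX hn, rfl⟩
    refine hP P₁ hconj ⟨T.mul_mem (T.inv_mem (hθT n hn))
      (SubsystemCentric.map_mem_of_stronglyClosed hT hG hmX (hθT n hn)),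
      Subgroup.mem_centralizer_iff.2 fun y hy => ?_⟩
    obtain ⟨x, hx, rfl⟩ := (hθ.mono (hPU.trans hUX)).mem_img.1 (hθP.ge hy)
    have hxX := hUX (hPU hx)
    have hnx : n * x * n⁻¹ ∈ P := (Subgroup.mem_normalizer_iff.1 hn.2 x).1 hx
    have hfix : ∀ z ∈ P, G₁ (θ z) = θ z := fun z hz => by
      have hzP : θ z ∈ P₁ := hθP.le ((hθ.mono (hPU.trans hUX)).mem_img.2 ⟨z, hz, rfl⟩)
      rw [hG₁e _ (hP₁U hzP), hε₁P _ hzP]
    have e1 := hfix _ hnx
    rw [hθ.map_conj (hNX hn) hxX, hG.map_conj hmX (hθ.mem_img.2 ⟨x, hxX, rfl⟩), hfix x hx] at e1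
    calc θ x * ((θ n)⁻¹ * G₁ (θ n)) = (θ n)⁻¹ * (θ n * θ x * (θ n)⁻¹) * G₁ (θ n) := by group
      _ = (θ n)⁻¹ * G₁ (θ n) * θ x := by rw [← e1]; group
  have hGX : ∀ y ∈ img X θ, G₁ y ∈ img X θ := by
    intro y hy
    obtain ⟨z, hz, rfl⟩ := hθ.mem_img.1 hy
    refine (hθ.comp hG fun x hx => hθ.mem_img.2 ⟨x, hx, rfl⟩).map_mem_of_sup
      (fun n hn => ?_) (fun u hu => ?_) hz
    · show G₁ (θ n) ∈ img X θ
      have h1 := (img X θ).mul_mem (hθ.mem_img.2 ⟨n, hNX hn, rfl⟩)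
        ((hθP ▸ hθ.img_mono (hPU.trans hUX)) (hGN n hn))
      rwa [mul_inv_cancel_left] at h1
    · show G₁ (θ u) ∈ img X θ
      have hθu : θ u ∈ U₀ := hθU.le ((hθ.mono hUX).mem_img.2 ⟨u, hu, rfl⟩)
      rw [hG₁e _ hθu]
      exact (hθU ▸ hθ.img_mono hUX) (autFun_mem ε₁ hθu)
  -- pull back
  have hXS : X ≤ S := hθ.le
  have hG'm : IsMap F X (θ' ∘ (G₁ ∘ θ)) := (hθ.comp hG fun x hx => hθ.mem_img.2 ⟨x, hx, rfl⟩).comp
    hθ' fun x hx => hGX _ (hθ.mem_img.2 ⟨x, hx, rfl⟩)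
  have hG'i : img X (θ' ∘ (G₁ ∘ θ)) = X := img_eq_of_map_le hXS hG'm le_rfl fun x hx =>
    (hθ'2 _ (hGX _ (hθ.mem_img.2 ⟨x, hx, rfl⟩))).1
  set G' := autOf hG'm hG'i
  have hG'U : ∀ u ∈ U, autFun G' u = autFun ε u := fun u hu => by
    rw [autFun_autOf hG'm hG'i (hUX hu)]
    show θ' (G₁ (θ u)) = _
    have hθu : θ u ∈ U₀ := hθU.le ((hθ.mono hUX).mem_img.2 ⟨u, hu, rfl⟩)
    rw [hG₁e _ hθu, hε₁v u hu, hθ'1 _ (hUX (autFun_mem ε hu))]
  have hG'N : ∀ n ∈ N, n⁻¹ * autFun G' n ∈ P := fun n hn => by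
    rw [autFun_autOf hG'm hG'i (hNX hn)]
    show n⁻¹ * θ' (G₁ (θ n)) ∈ P
    obtain ⟨x, hx, hxe⟩ := (hθ.mono (hPU.trans hUX)).mem_img.1 (hθP.ge (hGN n hn))
    have e1 : G₁ (θ n) = θ (n * x) := by
      rw [hθ.map_mul (hNX hn) (hUX (hPU hx)), hxe, mul_inv_cancel_left]
    rw [e1, hθ'1 _ (X.mul_mem (hNX hn) (hUX (hPU hx))), inv_mul_cancel_left]
    exact hx
  have hpow : ∀ (i : ℕ), ∀ u ∈ U, autFun (G' ^ i) u = autFun (ε ^ i) u :=
    autFun_pow_eq hUX hG'U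
  -- make it fix `N`, of order prime to `p`
  haveI := finite_of_le hXS
  haveI := finite_mulAut (P := X)
  obtain ⟨q, M, a, hq, hqp, hMm, hMa, hM1, -⟩ :=
    exists_exponent (p := p) (orderOf G') (orderOf_pos G').ne' m
  set G'' := G' ^ M
  have hGN' : ∀ n ∈ N, autFun G'' n = n := by
    intro n hn
    obtain ⟨j, hj⟩ := hMm
    have h1 : autFun (G' ^ p ^ m) n = n := pow_fix_step hXS hm (L := N) (M := P) hNX
      (hPU.trans hUX) (fun x hx => by rw [hG'U x (hPU hx), hεP x hx]) hG'N n hn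
    show autFun (G' ^ M) n = n
    rw [hj, pow_mul]
    clear hj
    induction j with
    | zero => rw [pow_zero, autFun_one (hNX hn)]
    | succ j ihj => rw [pow_succ, autFun_mul _ _ (hNX hn), h1, ihj]
  haveI := finite_of_le hUS
  haveI := finite_mulAut (P := U)
  have hεM : ε ^ M = ε := by
    refine pow_eq_self ?_
    have hdvd : orderOf ε ∣ q := by
      have h1 : ε ^ orderOf G' = 1 := autFun_ext fun u hu => by
        rw [← hpow _ u hu, pow_orderOf_eq_one, autFun_one (hUX hu), autFun_one hu]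
      have h2 := orderOf_dvd_of_pow_eq_one h1
      rw [hq] at h2
      exact (Nat.Coprime.pow_right a
        (Nat.coprime_comm.1 ((Fact.out : p.Prime).coprime_iff_not_dvd.2 hεo))).dvd_of_dvd_mul_left h2
    rw [← Nat.mod_mod_of_dvd M hdvd, hM1, Nat.mod_mod_of_dvd 1 hdvd]
  have hG''o : ¬ p ∣ orderOf G'' := by
    intro hd
    refine hqp (hd.trans (orderOf_dvd_of_pow_eq_one ?_))
    rw [← pow_mul, ← orderOf_dvd_iff_pow_eq_one, hq]
    obtain ⟨j, hj⟩ := hMa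
    exact ⟨j, by rw [hj]; ring⟩
  -- recurse
  have hXeq : X = N ⊔ C := le_antisymm
    (sup_le le_sup_left (sup_le (hPN.trans le_sup_left) le_sup_right))
    (sup_le le_sup_left (le_sup_right.trans le_sup_right))
  have hG''F : G'' ∈ F.autGroup X := pow_mem (autOf_mem hG'm hG'i) M
  have hG''U : ∀ u ∈ U, autFun G'' u = autFun ε u := fun u hu => by
    rw [hpow M u hu, hεM]
  clear_value G''
  clear hpow hG'N hG'U hGX hG hdom hG₁ hG₁e
  revert G''
  rw [hXeq]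
  intro G'' hGN' hG''o hG''F hG''U
  have hPc : ∀ N₁ : Subgroup Ω, F.IsConj N N₁ → centralizerIn T N₁ ≤ N₁ := by
    intro N₁ hN₁ z hz
    obtain ⟨f, hf, rfl⟩ := isConj_iff.1 hN₁
    have hle := hf.img_mono hPN
    refine hle (hP _ (isConj_iff.2 ⟨f, hf.mono hPN, rfl⟩) ⟨hz.1, Subgroup.centralizer_le hle hz.2⟩)
  obtain ⟨k, hkF, hkT, hksim⟩ := ih _ (by
    have h1 : Nat.card P < Nat.card N := card_lt_of_lt (hNT.trans hTS) hlt
    have h2 : Nat.card N ≤ Nat.card S := card_le_of_le' le_rfl (hNT.trans hTS)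
    omega) N hPc hNT rfl G'' hG''F hGN' hG''o
  refine ⟨k, hkF, hkT, fun u hu => ?_⟩
  rw [← hG''U u hu]
  exact hksim u (sup_le_sup_right hPN C hu)

end CfsgLib.Fusion.ExtLift
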