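import Cfsg.Agent.Lib.Fusion.System.FamilySatMain

/-!
# The saturation criterion: conclusion
-/

set_option autoImplicit false
set_option linter.style.haveILetI false
set_option linter.unusedSectionVars false

open Subgroup
open scoped Classical

namespace CfsgLib.Fusion.FamilySat

open Cfsg (FusionSystem autInducedBy)
open Cfsg.FusionSystem (normalizerIn centralizerIn)

variable {Ω : Type*} [Group Ω] {S : Subgroup Ω} [Finite S] {F : FusionSystem S} {p : ℕ}
  [Fact p.Prime] {P Q C : Subgroup Ω} {ℋ : Set (Subgroup Ω)}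

/-- A map of `N_S(P)` between fully normalized subgroups carries the radical parts onto each
other. -/
theorem img_rSub (hS : IsPGroup p S) (hP : F.IsFullyNormalized P) {g : Ω → Ω}
    (hg : IsMap F (normalizerIn S P) g) :
    img (normalizerIn S P) g ≤ normalizerIn S (img P g) ∧
      (F.IsFullyNormalized (img P g) ∧ img (rSub F p P) g = rSub F p (img P g)) := by
  have hPN := le_normalizerIn (S := S) hP.1
  have hgP := hg.mono hPN
  have hconj : F.IsConj P (img P g) := isConj_iff.2 ⟨g, hgP, rfl⟩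
  have hle : img (normalizerIn S P) g ≤ normalizerIn S (img P g) := fun y hy => by
    obtain ⟨x, hx, rfl⟩ := hg.mem_img.1 hy
    exact map_mem_normalizerIn hg hPN hx hx.2
  have hN : img (normalizerIn S P) g = normalizerIn S (img P g) :=
    eq_of_le_of_card_le inf_le_left hle (hg.card_img ▸ hP.2 _ hconj)
  have hn' : F.IsFullyNormalized (img P g) := ⟨hgP.img_le, fun R hR => by
    rw [← hN, hg.card_img]
    exact hP.2 R (isConj_trans hconj hR)⟩
  obtain ⟨g', hg', hg'1, hg'2⟩ := hg.exists_inv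
  rw [hN] at hg' hg'2
  refine ⟨hle, hn', le_antisymm (fun y hy => ?_) fun y hy => ?_⟩
  · obtain ⟨x, hx, rfl⟩ := (hg.mono rSub_le).mem_img.1 hy
    exact ⟨map_mem_normalizerIn hg hPN hx.1 hx.1.2, InO.map hg hPN hx.1 hx.2⟩
  · have hPN' : img P g ≤ normalizerIn S (img P g) := le_normalizerIn hgP.img_le
    have himg : img (img P g) g' = P := by
      rw [img_img hgP, IsMap.img_congr (f := g' ∘ g) (g := id) fun x hx => hg'1 x (hPN hx), img_id]
    have h1 := InO.map hg' hPN' hy.1 hy.2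
    rw [himg] at h1
    exact (hg.mono rSub_le).mem_img.2 ⟨g' y, ⟨(hg'2 y hy.1).1, h1⟩, (hg'2 y hy.1).2⟩

theorem Outside.replace (hS : IsPGroup p S) (h : Outside F p ℋ P) {g : Ω → Ω}
    (hg : IsMap F (normalizerIn S P) g) : Outside F p ℋ (img P g) := by
  have hgP := hg.mono (le_normalizerIn h.le)
  have hc : F.IsConj P (img P g) := isConj_iff.2 ⟨g, hgP, rfl⟩
  obtain ⟨Q, hQ, n, hn, hnQ⟩ := h.star
  exact ⟨hgP.img_le, fun R hR hlt => h.sat R hR (by rwa [isConj_card hc] at hlt),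
    (img_rSub hS h.normalized hg).2.1, h.conj,
    fun hm => h.notMem (h.conj _ hm P (isConj_symm hc)), h.rmap,
    ⟨Q, isConj_trans (isConj_symm hc) hQ, n, hn, hnQ⟩⟩

theorem normalizer_le_normalizer_rSub (hP : P ≤ S) :
    normalizerIn S P ≤ normalizerIn S (rSub F p P) := fun g hg => by
  haveI := finite_of_le (rSub_le.trans inf_le_left : rSub F p P ≤ S)
  refine ⟨hg.1, conjBy_eq_iff.1 (eq_of_le_of_card_le (rSub_le.trans inf_le_left)
    (conjBy_le_iff.2 fun r hr => ⟨mul_mem (mul_mem hg hr.1) (inv_mem hg), ?_⟩)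
    (card_conjBy g _).ge)⟩
  have h1 := InO.map (isMap_conj (F := F) (inf_le_left : normalizerIn S P ≤ S) hg.1)
    (le_normalizerIn hP) hr.1 hr.2
  rwa [img_conj, conjBy_eq_iff.2 hg.2] at h1

/-- The radical part is fully automized and receptive, with a Sylow stabilizer, for a suitable
member of the class. -/
theorem Outside.satAt (hS : IsPGroup p S) (h₀ : Outside F p ℋ P) : SatAt F p P := by
  -- first make the radical part fully automized and receptive
  have hR₀ : rSub F p P ≤ S := rSub_le.trans inf_le_left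
  obtain ⟨n, hn, hnP⟩ := h₀.exists_mem_rSub hS
  have hcard : Nat.card P < Nat.card (rSub F p P) := card_lt_of_lt hR₀
    (lt_of_le_of_ne (le_rSub hS h₀.le) fun e => hnP (e ▸ hn))
  obtain ⟨C, -, hCa, hCr, θ, hθ, hθC, -⟩ := exists_to_normalized hS hR₀ (h₀.sat _ hR₀ hcard)
  have hθN := hθ.mono (normalizer_le_normalizer_rSub (F := F) (p := p) h₀.le)
  have h₁ := h₀.replace hS hθN
  have hC₁ : rSub F p (img P θ) = C := by
    rw [← (img_rSub hS h₀.normalized hθN).2.2, hθC]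
  have hconj₁ : F.IsConj P (img P θ) :=
    isConj_iff.2 ⟨θ, hθN.mono (le_normalizerIn h₀.le), rfl⟩
  set P₁ := img P θ
  have hP₁C : P₁ ≤ C := hC₁ ▸ le_rSub hS h₁.le
  have hN₁ : normalizerIn S P₁ ≤ normalizerIn S C :=
    hC₁ ▸ normalizer_le_normalizer_rSub h₁.le
  have hN₁' : normalizerIn S P₁ ≤ normalizerIn (normalizerIn S C) P₁ := le_inf hN₁ inf_le_right
  haveI := finite_of_le h₁.le
  obtain ⟨δ, hδ, hfin, hP₂C, hT, g, hg, hgδ⟩ := exists_move hS hCa hCr hP₁C
  have hgN := hg.mono hN₁'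
  have h₂ := h₁.replace hS hgN
  have himg : img P₁ g = img P₁ (autFun δ) := IsMap.img_congr fun x hx => hgδ x (hP₁C hx)
  have hC₂ : rSub F p (img P₁ g) = C := by
    rw [← (img_rSub hS h₁.normalized hgN).2.2, hC₁, IsMap.img_congr hgδ, img_autFun]
  rw [himg] at h₂ hC₂
  set P₂ := img P₁ (autFun δ)
  refine ⟨P₂, isConj_trans hconj₁
    (isConj_iff.2 ⟨g, hgN.mono (le_normalizerIn h₁.le), himg⟩), ?_⟩
  have hCS : C ≤ S := hCa.1
  have hN₂ : normalizerIn S P₂ ≤ normalizerIn S C :=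
    hC₂ ▸ normalizer_le_normalizer_rSub h₂.le
  haveI := finite_of_le hCS
  haveI := finite_mulAut (P := C)
  haveI := finite_mulAut (P := P₂)
  set K := autStab (F.autGroup C) P₂ hP₂C with hK
  set res := autRes (F.autGroup C) P₂ hP₂C with hres
  set T := (autInducedBy S C).subgroupOf K with hTdef
  have hTi : ¬ p ∣ T.index := by
    have e : T.index = (autInducedBy S C ⊓ K).relIndex K := by
      rw [Subgroup.inf_relIndex_right]; rfl
    rwa [e]
  have hlift : ∀ α ∈ F.autGroup P₂, ∃ k : K, res k = α := by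
    intro α hα
    obtain ⟨ψ, hψ, hψα⟩ := h₂.autGroup_le_extR hS hα
    have hPR := le_rSub (F := F) (p := p) hS h₂.le
    have hi : img P₂ ψ = P₂ := (IsMap.img_congr hψα).trans (img_autFun α)
    have hR : img (rSub F p P₂) ψ = rSub F p P₂ := by
      refine img_eq_of_map_le (rSub_le.trans inf_le_left) hψ le_rfl fun r hr => ?_
      have k1 := InO.map hψ hPR hr hr.2
      have k2 := map_mem_normalizerIn hψ hPR hr hr.1.2
      rw [hi] at k1 k2
      exact ⟨k2, k1⟩
    rw [hC₂] at hψ hR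
    have hkK : autOf hψ hR ∈ K := ⟨autOf_mem hψ hR, fun x hx => by
      rw [autFun_autOf hψ hR (hP₂C hx), hψα x hx]
      exact autFun_mem α hx⟩
    refine ⟨⟨_, hkK⟩, autFun_ext fun x hx => ?_⟩
    rw [autFun_autRes _ hx, autFun_autOf hψ hR (hP₂C hx), hψα x hx]
  have hconjK : ∀ (n : Ω) (hn : n ∈ normalizerIn S P₂), ∃ t ∈ T, ∀ x ∈ C,
      autFun (t : MulAut C) x = n * x * n⁻¹ := by
    intro n hn
    refine ⟨⟨conjAut n (hN₂ hn).2, autInducedBy_le_autGroup hCS (conjAut_mem hn.1 (hN₂ hn).2),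
      fun x hx => ?_⟩, Subgroup.mem_subgroupOf.2 (conjAut_mem hn.1 (hN₂ hn).2),
      fun x hx => autFun_conjAut _ hx⟩
    rw [autFun_conjAut _ (hP₂C hx)]
    exact (Subgroup.mem_normalizer_iff.1 hn.2 x).1 hx
  have hTres : ∀ t ∈ T, res t ∈ autInducedBy S P₂ := by
    intro t ht
    obtain ⟨u, hu, hux⟩ := mem_autInducedBy_iff.1 (Subgroup.mem_subgroupOf.1 ht)
    exact mem_autInducedBy_iff.2 ⟨u, hu, fun x hx => by
      rw [autFun_autRes _ hx, hux x (hP₂C hx)]⟩
  constructor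
  · -- fully automized
    refine (isFullyAutomized_iff hS).2 ⟨h₂.le, fun hdd => hTi (hdd.trans ?_)⟩
    set f : K →* F.autGroup P₂ := res.codRestrict _ fun a => autRes_mem_autGroup hCS a
    have hf : Function.Surjective f := fun α => by
      obtain ⟨k, hk⟩ := hlift α α.2
      exact ⟨k, Subtype.ext hk⟩
    refine dvd_trans ?_ (Subgroup.index_map_dvd T hf)
    refine Subgroup.index_dvd_of_le ?_
    rintro _ ⟨t, ht, rfl⟩
    exact Subgroup.mem_subgroupOf.2 (hTres t ht)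
  · -- receptive
    refine isReceptive_iff.2 ⟨h₂.le, fun Q f hf hfimg => ?_⟩
    have hQ : F.IsConj P₂ Q := isConj_symm (isConj_iff.2 ⟨f, hf, hfimg⟩)
    obtain ⟨ht, htP⟩ := h₂.toP_spec hS hQ
    set t := toP F P₂ Q
    have hQN := le_normalizerIn (S := S) (isConj_le hQ).2
    obtain ⟨t', ht', ht'1, -⟩ := (ht.mono hQN).exists_inv
    rw [htP] at ht'
    have ht'2 : ∀ y ∈ P₂, t' y ∈ Q := fun y hy => by
      obtain ⟨x, hx, rfl⟩ := (ht.mono hQN).mem_img.1 (htP.ge hy)
      rwa [ht'1 x hx]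
    have hαm : IsMap F P₂ (f ∘ t') := ht'.comp hf ht'2
    have hαi : img P₂ (f ∘ t') = P₂ := img_eq_of_map_le h₂.le hαm le_rfl fun y hy =>
      hfimg.le (hf.mem_img.2 ⟨_, ht'2 y hy, rfl⟩)
    obtain ⟨k, hk⟩ := hlift _ (autOf_mem hαm hαi)
    -- the part of `N_S(P₂)` conjugated into `S` by `α`
    set E₁ := extSub S P₂ (f ∘ t')
    set T₁ := T ⊓ ((autInducedBy E₁ C).subgroupOf K)
    set Y := ((autInducedBy S P₂).comap res) with hY
    have hTY : T ≤ Y := fun a ha => hTres a ha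
    have hTYi : ¬ p ∣ T.relIndex Y := fun hd => hTi (hd.trans
      (Subgroup.relIndex_dvd_index_of_le hTY))
    have hk₁ : conjBy k T₁ ≤ Y := conjBy_le_iff.2 fun a ha => by
      obtain ⟨u, hu, hux⟩ := mem_autInducedBy_iff.1 (Subgroup.mem_subgroupOf.1 ha.2)
      obtain ⟨hu1, w, hw, hwx⟩ := mem_extSub.1 hu
      refine mem_autInducedBy_iff.2 ⟨w, hw, fun y hy => ?_⟩
      obtain ⟨x, hx, rfl⟩ : ∃ x ∈ P₂, f (t' x) = y := by
        obtain ⟨x, hx, hxy⟩ := hαm.mem_img.1 (hαi.ge hy)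
        exact ⟨x, hx, hxy⟩
      rw [map_mul, map_mul, map_inv]
      have e1 : f (t' x) = autFun (res k) x := by rw [hk, autFun_autOf hαm hαi hx]; rfl
      rw [e1, ← autFun_mul _ _ hx, inv_mul_cancel_right, autFun_mul _ _ hx,
        autFun_autRes a hx, hux x (hP₂C hx), ← e1]
      have hnx : u * x * u⁻¹ ∈ P₂ := (Subgroup.mem_normalizer_iff.1 hu1.2 x).1 hx
      rw [hk, autFun_autOf hαm hαi hnx]
      exact hwx x hx
    have hTp : IsPGroup p T := (isPGroup_autInducedBy hS).comap_subtype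
    obtain ⟨y, hy, hyT⟩ := exists_conj_le_of_not_dvd_relIndex hTp hTY hTYi
      (isPGroup_conjBy k (hTp.to_le inf_le_left)) hk₁
    rw [conjBy_conjBy] at hyT
    -- a correction fixing `P₂` pointwise
    obtain ⟨u, hu, hux⟩ := mem_autInducedBy_iff.1 (Subgroup.mem_comap.1 hy)
    obtain ⟨s, hsT, hsx⟩ := hconjK u ⟨hu, mem_normalizer_of_autFun hux⟩
    have hres_eq : res (s⁻¹ * y) = 1 := by
      rw [map_mul, map_inv, inv_mul_eq_one]
      refine autFun_ext fun x hx => ?_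
      rw [autFun_autRes s hx, hsx x (hP₂C hx), hux x hx]
    set k' := s⁻¹ * y * k with hk'
    have hk'T : ∀ a ∈ T₁, k' * a * k'⁻¹ ∈ T := fun a ha => by
      have h1 := mul_mem (mul_mem (inv_mem hsT) (hyT (conj_mem_conjBy ha))) hsT
      rw [show k' * a * k'⁻¹ = s⁻¹ * (y * k * a * (y * k)⁻¹) * s by rw [hk']; group]
      exact h1
    have hk'α : ∀ x ∈ P₂, autFun (k' : MulAut C) x = f (t' x) := fun x hx => by
      have e1 : res k' = res k := by rw [hk', map_mul, hres_eq, one_mul]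
      rw [← autFun_autRes k' hx, e1, hk, autFun_autOf hαm hαi hx]
      rfl
    have hE₁N : E₁ ≤ normalizerIn S C := fun e he => hN₂ he.1
    obtain ⟨ψ, hψ, hψe⟩ := exists_ext hCr k'.2.1 hE₁N fun e he => by
      obtain ⟨a, haT, hax⟩ := hconjK e he.1
      have ha₁ : a ∈ T₁ := ⟨haT, Subgroup.mem_subgroupOf.2
        (mem_autInducedBy_iff.2 ⟨e, he, hax⟩)⟩
      have h1 := Subgroup.mem_subgroupOf.1 (hk'T a ha₁)
      rwa [Subgroup.coe_mul, Subgroup.coe_mul, Subgroup.coe_inv,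
        show (a : MulAut C) = conjAut e (hE₁N he).2 from autFun_ext fun x hx => by
          rw [hax x hx, autFun_conjAut _ hx]] at h1
    refine ⟨ψ ∘ t, (ht.mono extSub_le).comp hψ fun e he => ?_, fun x hx => ?_⟩
    · obtain ⟨heN, w, hw, hwx⟩ := mem_extSub.1 he
      have h1 := map_mem_normalizerIn ht hQN heN heN.2
      rw [htP] at h1
      refine ⟨h1, w, hw, fun y hy => ?_⟩
      obtain ⟨x, hx, rfl⟩ := (ht.mono hQN).mem_img.1 (htP.ge hy)
      have hxe : e * x * e⁻¹ ∈ Q := (Subgroup.mem_normalizer_iff.1 heN.2 x).1 hx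
      show f (t' (t e * t x * (t e)⁻¹)) = w * f (t' (t x)) * w⁻¹
      rw [← ht.map_conj heN (hQN hx), ht'1 _ hxe, ht'1 x hx, hwx x hx]
    · have htx : t x ∈ P₂ := htP.le ((ht.mono hQN).mem_img.2 ⟨x, hx, rfl⟩)
      show ψ (t x) = f x
      rw [hψe _ (hP₂C htx), hk'α _ htx, ht'1 x hx]

/-- The saturation criterion. -/
theorem isSaturated_of_family (hS : IsPGroup p S)
    (hconj : ∀ R ∈ ℋ, ∀ R', F.IsConj R R' → R' ∈ ℋ)
    (hsat : ∀ R ∈ ℋ, SatAt F p R)
    (hgen : ∀ E : FusionSystem S, (∀ R ∈ ℋ, F.Hom R ⊆ E.Hom R) → F ≤ E)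
    (hstar : ∀ P : Subgroup Ω, P ≤ S → P ∉ ℋ →
      ∃ Q, F.IsConj P Q ∧ ∃ n ∈ rSub F p Q, n ∉ Q) : F.IsSaturated p := by
  intro P hP
  induction hk : Nat.card S - Nat.card P using Nat.strong_induction_on generalizing P with
  | _ k ih =>
  by_cases hPH : P ∈ ℋ
  · exact hsat P hPH
  obtain ⟨P', hPP', hP'⟩ := exists_fullyNormalized (F := F) hP
  obtain ⟨Q, hQ, n, hn, hnQ⟩ := hstar P hP hPH
  have h : Outside F p ℋ P' := ⟨hP'.1, fun R hR hlt => ih _ (by
      have : Nat.card R ≤ Nat.card S := card_le_of_le' le_rfl hR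
      rw [isConj_card hPP'] at hlt
      omega) R hR rfl,
    hP', hconj, fun hm => hPH (hconj _ hm P (isConj_symm hPP')),
    fun _ _ hf => rmap_of_generates hconj hgen hf,
    ⟨Q, isConj_trans (isConj_symm hPP') hQ, n, hn, hnQ⟩⟩
  obtain ⟨R, hR, hR'⟩ := h.satAt hS
  exact ⟨R, isConj_trans hPP' hR, hR'⟩

end CfsgLib.Fusion.FamilySat
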