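import Cfsg.Agent.Lib.Fusion.System.FamilySatAt

/-!
# Centric subgroups meeting a strongly closed subsystem outside its centric subgroups
-/

set_option autoImplicit false
set_option linter.style.haveILetI false
set_option linter.unusedSectionVars false

open Subgroup
open scoped Classical commutatorElement

namespace CfsgLib.Fusion.SubsystemCentric

open Cfsg (FusionSystem autInducedBy)
open Cfsg.FusionSystem (normalizerIn centralizerIn)
open CfsgLib.Fusion.FamilySat (InO rSub oCore)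

variable {Ω : Type*} [Group Ω] {S T : Subgroup Ω} [Finite S] {F : FusionSystem S}
  {E : FusionSystem T} {p : ℕ} [Fact p.Prime] {P Q : Subgroup Ω}

theorem map_mem_of_stronglyClosed (hT : F.StronglyClosed T) {X : Subgroup Ω} {f : Ω → Ω}
    (hf : IsMap F X f) {x : Ω} (hx : x ∈ X) (hxT : x ∈ T) : f x ∈ T :=
  (stronglyClosed_iff.1 hT).2 (X ⊓ T) f inf_le_right (hf.mono inf_le_left) x ⟨hx, hxT⟩

/-- Stabilizers of a series `⊥ ≤ M ≤ Q` act as elements of `O_p`. -/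
theorem inO_of_stabilize (hS : IsPGroup p S) (hQ : Q ≤ S) {M : Subgroup Ω} (hMQ : M ≤ Q)
    (hM : ∀ α ∈ F.autGroup Q, ∀ y ∈ M, autFun α y ∈ M) {n : Ω} (hn : n ∈ normalizerIn S Q)
    (h1 : ∀ y ∈ M, n * y * n⁻¹ = y) (h2 : ∀ y ∈ Q, y⁻¹ * (n * y * n⁻¹) ∈ M) :
    InO F p Q n := by
  haveI := finite_of_le hQ
  haveI := finite_mulAut (P := Q)
  have hbot : ∀ α ∈ F.autGroup Q, ∀ y ∈ (⊥ : Subgroup Ω), autFun α y ∈ (⊥ : Subgroup Ω) :=
    fun α _ y hy => by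
      rw [Subgroup.mem_bot] at hy ⊢
      rw [hy, autFun_map_one]
  let K : Subgroup (F.autGroup Q) :=
    relStab (F.autGroup Q) M ⊥ hbot hMQ bot_le hM ⊓
      relStab (F.autGroup Q) Q M hM le_rfl hMQ (fun α _ y hy => autFun_mem α hy)
  haveI : K.Normal := @Subgroup.normal_inf_normal _ _ _ _ relStab_normal relStab_normal
  obtain ⟨m, hm⟩ := IsPGroup.iff_card.1 hS
  have hKp : IsPGroup p K := by
    intro a
    refine ⟨m, Subtype.ext (Subtype.ext (autFun_ext fun y hy => ?_))⟩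
    simp only [Subgroup.coe_pow, Subgroup.coe_one]
    rw [autFun_one hy]
    refine pow_fix_step hQ hm le_rfl hMQ (fun z hz => ?_)
      (mem_relStab.1 (Subgroup.mem_inf.1 a.2).2) y hy
    exact (inv_mul_eq_one.1
      (Subgroup.mem_bot.1 (mem_relStab.1 (Subgroup.mem_inf.1 a.2).1 z hz))).symm
  have hc : conjAut n hn.2 ∈ F.autGroup Q := autInducedBy_le_autGroup hQ (conjAut_mem hn.1 hn.2)
  have hK : (⟨_, hc⟩ : F.autGroup Q) ∈ K := by
    refine Subgroup.mem_inf.2 ⟨fun y hy => ?_, fun y hy => ?_⟩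
    · show y⁻¹ * autFun (conjAut n hn.2) y ∈ (⊥ : Subgroup Ω)
      rw [autFun_conjAut hn.2 (hMQ hy), h1 y hy, inv_mul_cancel]
      exact one_mem _
    · show y⁻¹ * autFun (conjAut n hn.2) y ∈ M
      rw [autFun_conjAut hn.2 hy]
      exact h2 y hy
  exact ⟨_, ⟨⟨_, hc⟩, CfsgLib.Coprime.le_pCore hKp hK, rfl⟩, fun y hy => autFun_conjAut hn.2 hy⟩

theorem exists_inO_of_not_centric (hS : IsPGroup p S) (hF : F.IsSaturated p)
    (hT : F.StronglyClosed T) (hsub : E.IsSubsystemOf F) (hP : P ≤ S)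
    (hPT : ¬ E.IsCentric (P ⊓ T)) :
    ∃ Q, F.IsConj P Q ∧ ∃ n ∈ rSub F p Q, n ∉ Q := by
  have hTS := hT.1
  have hTn : S ≤ Subgroup.normalizer (T : Set Ω) :=
    (le_normalizerIn_of_stronglyClosed hT).trans inf_le_right
  set P₀ := P ⊓ T
  have hP₀T : P₀ ≤ T := inf_le_right
  obtain ⟨R₀, hR₀, hne⟩ : ∃ R₀, E.IsConj P₀ R₀ ∧ ¬ centralizerIn T R₀ ≤ R₀ := by
    by_contra hcon
    push Not at hcon
    exact hPT ⟨hP₀T, hcon⟩
  obtain ⟨c, hc, hcR⟩ := SetLike.not_le_iff_exists.1 hne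
  have hR₀T : R₀ ≤ T := (isConj_le hR₀).2
  have hconjR : F.IsConj P₀ R₀ := by
    obtain ⟨φ, hφ, hr⟩ := hR₀
    exact ⟨φ, hsub _ hφ, hr⟩
  obtain ⟨Q₀, hPQ₀, hQ₀⟩ := exists_fullyNormalized (F := F) (hP₀T.trans hTS)
  obtain ⟨ha, hr⟩ := IsSaturated.automized_receptive hS hF hQ₀
  obtain ⟨θ, hθ, hθQ, hθN⟩ := exists_map_normalizer hS ha hr
    (isConj_trans (isConj_symm hconjR) hPQ₀)
  have hcN : c ∈ normalizerIn S R₀ := ⟨hTS hc.1, Subgroup.centralizer_le_normalizer _ hc.2⟩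
  have hR₀N : R₀ ≤ normalizerIn S R₀ := le_normalizerIn (hR₀T.trans hTS)
  have hQ₀T : Q₀ ≤ T := fun y hy => by
    obtain ⟨x, hx, rfl⟩ := (hθ.mono hR₀N).mem_img.1 (hθQ.ge hy)
    exact map_mem_of_stronglyClosed hT hθ (hR₀N hx) (hR₀T hx)
  have hθc : θ c ∈ centralizerIn T Q₀ := by
    have h1 := map_mem_centralizerIn hθ hR₀N hcN hc.2
    rw [hθQ] at h1
    exact ⟨map_mem_of_stronglyClosed hT hθ hcN hc.1, h1.2⟩
  have hθcQ : θ c ∉ Q₀ := fun h => hcR (hθ.mem_of_mem_img hR₀N hcN (hθQ.ge h))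
  obtain ⟨g, hg, hgQ, hgN⟩ := exists_map_normalizer hS ha hr hPQ₀
  have hPN : P ≤ normalizerIn S P₀ := le_inf hP fun s hs => by
    rw [Subgroup.mem_normalizer_iff]
    intro y
    constructor
    · rintro ⟨hy1, hy2⟩
      exact ⟨P.mul_mem (P.mul_mem hs hy1) (P.inv_mem hs),
        (Subgroup.mem_normalizer_iff.1 (hTn (hP hs)) y).1 hy2⟩
    · rintro ⟨hy1, hy2⟩
      refine ⟨?_, (Subgroup.mem_normalizer_iff.1 (hTn (hP hs)) y).2 hy2⟩
      have := mul_mem (mul_mem (inv_mem hs) hy1) hs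
      rwa [show s⁻¹ * (s * y * s⁻¹) * s = y by group] at this
  have hgP := hg.mono hPN
  set Q := img P g
  have hQS : Q ≤ S := hgP.img_le
  have hconj : F.IsConj P Q := isConj_iff.2 ⟨g, hgP, rfl⟩
  obtain ⟨g', hg', hg'1, -⟩ := hgP.exists_inv
  have hQQ₀ : Q₀ = Q ⊓ T := by
    refine le_antisymm (le_inf ?_ hQ₀T) fun y hy => ?_
    · rw [← hgQ]
      exact hgP.img_mono inf_le_left
    · obtain ⟨x, hx, rfl⟩ := hgP.mem_img.1 hy.1
      have hxT : x ∈ T := by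
        have := map_mem_of_stronglyClosed hT hg' hy.1 hy.2
        rwa [hg'1 x hx] at this
      exact hgQ.le ((hg.mono (inf_le_left.trans hPN)).mem_img.2 ⟨x, ⟨hx, hxT⟩, rfl⟩)
  have hQN : Q ≤ normalizerIn S Q₀ := fun y hy => by
    obtain ⟨x, hx, rfl⟩ := hgP.mem_img.1 hy
    exact hgN x (hPN hx)
  set C₀ := centralizerIn T Q₀
  have hQC : Q ≤ Subgroup.normalizer (C₀ : Set Ω) := fun q hq => by
    haveI : Finite C₀ := finite_of_le ((inf_le_left : C₀ ≤ T).trans hTS)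
    refine conjBy_eq_iff.1 (eq_of_le_of_card_le ((inf_le_left : C₀ ≤ T).trans hTS)
      (conjBy_le_iff.2 fun y hy => ⟨(Subgroup.mem_normalizer_iff.1 (hTn (hQS hq)) y).1 hy.1,
        Subgroup.mem_centralizer_iff.2 fun u hu => ?_⟩) (card_conjBy q C₀).ge)
    have hu' : q⁻¹ * u * q ∈ Q₀ := (Subgroup.mem_normalizer_iff''.1 (hQN hq).2 u).1 hu
    have h1 := Subgroup.mem_centralizer_iff.1 hy.2 _ hu'
    calc u * (q * y * q⁻¹) = q * (q⁻¹ * u * q * y) * q⁻¹ := by group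
      _ = q * (y * (q⁻¹ * u * q)) * q⁻¹ := by rw [h1]
      _ = q * y * q⁻¹ * u := by group
  have hJS : Q ⊔ C₀ ≤ S := sup_le hQS ((inf_le_left : C₀ ≤ T).trans hTS)
  haveI := finite_of_le hJS
  haveI : Group.IsNilpotent (Q ⊔ C₀ : Subgroup Ω) := (hS.to_le hJS).isNilpotent
  have hC₀Q : ¬ C₀ ≤ Q := fun h => hθcQ (hQQ₀.ge ⟨h hθc, hθc.1⟩)
  obtain ⟨z, hz, hzQ⟩ := SetLike.exists_of_lt
    (lt_inf_normalizer (le_sup_left : Q ≤ Q ⊔ C₀) fun e => hC₀Q (e ▸ le_sup_right))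
  have hz' : z ∈ ((Q ⊔ C₀ : Subgroup Ω) : Set Ω) := hz.1
  rw [coe_mul_of_left_le_normalizer_right Q C₀ hQC] at hz'
  obtain ⟨q, hq, x, hx, rfl⟩ := Set.mem_mul.1 hz'
  have hxQ : x ∉ Q := fun hxQ => hzQ (mul_mem hq hxQ)
  have hxN : x ∈ Subgroup.normalizer (Q : Set Ω) := by
    have h1 := mul_mem (inv_mem (Subgroup.le_normalizer hq)) hz.2
    rwa [inv_mul_cancel_left] at h1
  refine ⟨Q, hconj, x, ⟨⟨hTS hx.1, hxN⟩, inO_of_stabilize hS hQS (M := Q₀)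
    (hQQ₀ ▸ inf_le_left) ?_ ⟨hTS hx.1, hxN⟩ (fun y hy => ?_) fun y hy => ?_⟩, hxQ⟩
  · intro α hα y hy
    rw [hQQ₀] at hy ⊢
    exact ⟨autFun_mem α hy.1,
      map_mem_of_stronglyClosed hT ((mem_autGroup_iff hQS).1 hα) hy.1 hy.2⟩
  · rw [← Subgroup.mem_centralizer_iff.1 hx.2 y hy, mul_inv_cancel_right]
  · rw [hQQ₀]
    refine ⟨Q.mul_mem (Q.inv_mem hy) ((Subgroup.mem_normalizer_iff.1 hxN y).1 hy), ?_⟩
    have h1 := (Subgroup.mem_normalizer_iff.1 (hTn (S.inv_mem (hQS hy))) x).1 hx.1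
    rw [show y⁻¹ * (x * y * x⁻¹) = y⁻¹ * x * y⁻¹⁻¹ * x⁻¹ by group]
    exact T.mul_mem h1 (T.inv_mem hx.1)

end CfsgLib.Fusion.SubsystemCentric
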