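import Cfsg.Agent.Lib.Fusion.System.CanonicalLift
import Cfsg.Agent.Lib.Fusion.System.ThompsonLevel
import Cfsg.Agent.Lib.Fusion.System.LocalModel
import Cfsg.Agent.Lib.CFun.ThompsonWeak

/-!
# Displacements of centralizing elements by the canonical lift

The displacement cocycle of `c ∈ C_S(T)` under the canonical lift at `Q`, and the two ways of
killing it: a characteristic subgroup on which the automorphisms are known to fix `c`, and, for odd
`p`, the normalizer of the Thompson subgroup in the model.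
-/

set_option autoImplicit false
set_option maxHeartbeats 1000000
set_option linter.style.haveILetI false
set_option linter.unusedSectionVars false

open Subgroup
open scoped Classical Pointwise

namespace CfsgLib.Fusion.CentLift

open Cfsg (FusionSystem autInducedBy thompsonSubgroupAOf)
open Cfsg.FusionSystem (normalizerIn centralizerIn)
open CfsgLib.Fusion

universe u

variable {Ω : Type u} [Group Ω] {S T : Subgroup Ω} {F : FusionSystem S} {E : FusionSystem T}
  {p : ℕ} {Q J P P' : Subgroup Ω} {c : Ω} {f g : Ω → Ω}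

/-- The map on `P` extends fixing `c`. -/
abbrev Good (F : FusionSystem S) (T : Subgroup Ω) (c : Ω) (P : Subgroup Ω) (f : Ω → Ω) : Prop :=
  CMap F T (Subgroup.zpowers c) P f

theorem Good.mono (h : Good F T c P f) (hP : P' ≤ P) : Good F T c P' f := by
  obtain ⟨h1, h2, k, hk, hkf, hkc⟩ := h
  exact ⟨hP.trans h1, fun x hx => h2 x (hP hx), k, hk.mono (sup_le_sup_right hP _),
    fun x hx => hkf x (hP hx), hkc⟩

theorem Good.congr (h : Good F T c P f) (he : ∀ x ∈ P, g x = f x) : Good F T c P g := by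
  obtain ⟨h1, h2, k, hk, hkf, hkc⟩ := h
  exact ⟨h1, fun x hx => by rw [he x hx]; exact h2 x hx, k, hk,
    fun x hx => (hkf x hx).trans (he x hx).symm, hkc⟩

theorem fix_zpowers {W : Subgroup Ω} (hg : IsMap F W g) (hc : c ∈ W) (hfix : g c = c) {x : Ω}
    (hx : x ∈ Subgroup.zpowers c) : g x = x := by
  rw [Subgroup.zpowers_eq_closure] at hx
  exact CentFocal.fix_closure hg ((Subgroup.closure_le _).2 (Set.singleton_subset_iff.2 hc))
    (fun y hy => by rw [Set.mem_singleton_iff.1 hy, hfix]) hx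

/-- The system of maps extending fixing `c`. -/
noncomputable abbrev fixC (F : FusionSystem S) (T : Subgroup Ω) (c : Ω) (hTS : T ≤ S)
    (hc : c ∈ centralizerIn S T) : FusionSystem T :=
  CentFocal.fixSystem F T (Subgroup.zpowers c) hTS (Subgroup.zpowers_le.2 hc)

theorem mem_fixC_autGroup {hTS : T ≤ S} {hc : c ∈ centralizerIn S T} (hP : P ≤ T) {α : MulAut P} :
    α ∈ (fixC F T c hTS hc).autGroup P ↔ Good F T c P (autFun α) :=
  (mem_autGroup_iff hP).trans CentFocal.isMap_fixSystem_iff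

theorem map_mem_zpowers {W K : Subgroup Ω} (hg : IsMap F W g) (hc : c ∈ W) (hK : g c ∈ K) {x : Ω}
    (hx : x ∈ Subgroup.zpowers c) : g x ∈ K := by
  let L : Subgroup Ω :=
    { carrier := {y | y ∈ W ∧ g y ∈ K}
      one_mem' := ⟨one_mem _, by rw [hg.map_one]; exact one_mem _⟩
      mul_mem' := fun {a b} ⟨ha, hga⟩ ⟨hb, hgb⟩ => ⟨mul_mem ha hb, by
        rw [hg.map_mul ha hb]; exact mul_mem hga hgb⟩
      inv_mem' := fun {a} ⟨ha, hga⟩ => ⟨inv_mem ha, by
        rw [hg.map_inv ha]; exact inv_mem hga⟩ }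
  exact ((Subgroup.zpowers_le.2 (show c ∈ L from ⟨hc, hK⟩)) hx).2

variable [Finite S] [Fact p.Prime]

/-- A fully normalized self-centralizing subgroup of a strongly closed `T` stays so on conjugation. -/
theorem cent_img_le (hS : IsPGroup p S) (hF : F.IsSaturated p) (hT : F.StronglyClosed T)
    (hJT : J ≤ T) (hn : F.IsFullyNormalized J) (hsc : centralizerIn T J ≤ J)
    (hf : IsMap F J f) : centralizerIn T (img J f) ≤ img J f := by
  obtain ⟨h₁, h₂⟩ := IsSaturated.automized_receptive hS hF hn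
  obtain ⟨φ, hφ, hφimg, -⟩ :=
    exists_map_normalizer hS h₁ h₂ (isConj_symm (isConj_iff.2 ⟨f, hf, rfl⟩))
  intro w hw
  have hIN : img J f ≤ normalizerIn S (img J f) := le_normalizerIn hf.img_le
  have hwN : w ∈ normalizerIn S (img J f) :=
    centralizerIn_le_normalizerIn ⟨hT.1 hw.1, hw.2⟩
  have hφwT : φ w ∈ T := (stronglyClosed_iff.1 hT).2 (Subgroup.zpowers w) φ
    (Subgroup.zpowers_le.2 hw.1) (hφ.mono (Subgroup.zpowers_le.2 hwN)) w
    (Subgroup.mem_zpowers w)
  have hC : φ w ∈ centralizerIn S J := hφimg ▸ map_mem_centralizerIn hφ hIN hwN hw.2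
  have hmem : φ w ∈ img (img J f) φ := hφimg.ge (hsc ⟨hφwT, hC.2⟩)
  obtain ⟨y, hy, hyw⟩ := (hφ.mono hIN).mem_img.1 hmem
  exact hφ.inj (hIN hy) hwN hyw ▸ hy

variable (h : Local F E p Q)

include h

theorem Local.cent_img (hf : IsMap F Q f) : centralizerIn T (img Q f) ≤ img Q f :=
  cent_img_le h.isPGroup h.sat h.closed h.le h.normalized h.selfCent hf

theorem Local.isCentric : E.IsCentric Q := by
  refine ⟨h.le, fun R hR => ?_⟩
  obtain ⟨φ, hφ, rfl⟩ := isConj_iff.1 hR
  exact h.cent_img (hφ.ofSubsystem h.sub)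

variable (hc : c ∈ centralizerIn S T)

include hc

theorem Local.mem_cent : c ∈ centralizerIn S Q :=
  ⟨hc.1, Subgroup.centralizer_le h.le hc.2⟩

theorem Local.disp_mem {γ : MulAut (base S Q)} (hγ : γ ∈ lift F T Q) : disp γ c ∈ zof Q :=
  (h.lift_le hγ).2 c (h.mem_cent hc)

theorem Local.map_c {γ : MulAut (base S Q)} : autFun γ c = c * disp γ c :=
  (mul_inv_cancel_left _ _).symm

theorem Local.disp_mul {γ δ : MulAut (base S Q)} (hδ : δ ∈ lift F T Q) :
    disp (γ * δ) c = disp γ c * autFun γ (disp δ c) := by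
  have hcR : c ∈ base S Q := Subgroup.mem_sup_right (h.mem_cent hc)
  unfold disp
  rw [autFun_mul _ _ hcR, mul_assoc]
  congr 1
  refine (congrArg (autFun γ) (h.map_c hc (γ := δ))).trans ?_
  exact autFun_map_mul γ hcR (Subgroup.mem_sup_left (h.disp_mem hc hδ).1)

theorem Local.map_mul_zof {γ : MulAut (base S Q)} {z : Ω} (hz : z ∈ zof Q) :
    autFun γ (c * z) = c * disp γ c * autFun γ z := by
  rw [autFun_map_mul γ (Subgroup.mem_sup_right (h.mem_cent hc)) (Subgroup.mem_sup_left hz.1),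
    h.map_c hc]

/-- A lift fixing `c` restricts to a map extending fixing `c`. -/
theorem Local.good_of_fix {γ : MulAut (base S Q)} (hγ : γ ∈ lift F T Q) (hfix : autFun γ c = c) :
    Good F T c Q (autFun γ) := by
  have hst := h.lift_stab hγ
  have hm := (mem_autGroup_iff (base_le h.hQS)).1 hst.1
  have hcR : c ∈ base S Q := Subgroup.mem_sup_right (h.mem_cent hc)
  exact ⟨h.le, fun x hx => h.le (stab_mem hst hx), autFun γ,
    hm.mono (sup_le le_sup_left (Subgroup.zpowers_le.2 hcR)), fun _ _ => rfl,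
    fun x hx => fix_zpowers hm hcR hfix hx⟩

omit hc

/-- The conjugations by `N_T(Q)` inside the lift. -/
noncomputable def Local.conjs : Subgroup (lift F T Q) := (autInducedBy T Q).comap h.res

theorem Local.conjs_index : ¬ p ∣ h.conjs.index := by
  rw [Local.conjs, Subgroup.index_comap]
  exact h.not_dvd_relIndex

theorem Local.mem_conjs {γ : lift F T Q} : γ ∈ h.conjs ↔
    ∃ t ∈ normalizerIn T Q, IsConjBy (γ : MulAut (base S Q)) t := by
  constructor
  · intro hγ
    obtain ⟨t, ht, hte⟩ := mem_autInducedBy_iff.1 (Subgroup.mem_comap.1 hγ)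
    obtain ⟨b, hb, hbt⟩ := h.tAut_exists ⟨ht, mem_normalizer_of_autFun hte⟩
    refine ⟨t, ⟨ht, mem_normalizer_of_autFun hte⟩, ?_⟩
    rw [h.eq_of_res γ.2 hb fun x hx => by
      rw [← h.autFun_res γ hx, hte x hx, hbt x (Subgroup.mem_sup_left hx)]]
    exact hbt
  · rintro ⟨t, ht, htγ⟩
    exact Subgroup.mem_comap.2 (mem_autInducedBy_iff.2 ⟨t, ht.1, fun x hx => by
      rw [h.autFun_res γ hx]; exact htγ x (Subgroup.mem_sup_left hx)⟩)

theorem Local.finite_lift : Finite (lift F T Q) := by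
  haveI := finite_of_le (base_le (S := S) h.hQS)
  haveI := finite_mulAut (P := base S Q)
  infer_instance

theorem Local.conjs_isPGroup : IsPGroup p h.conjs := by
  have hm : h.conjs.map h.res ≤ autInducedBy T Q := Subgroup.map_comap_le _ _
  exact ((isPGroup_autInducedBy (h.isPGroup.to_le h.hTS)).to_le hm).of_equiv
    (h.conjs.equivMapOfInjective h.res h.res_injective).symm

/-- The lift is generated by its own conjugates of the conjugations by `N_T(Q)`. -/
theorem Local.gens_conj {a : MulAut (base S Q)} (ha : a ∈ liftGens F T Q) :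
    ∃ ω ∈ lift F T Q, ∃ t ∈ normalizerIn T Q, ∃ b, IsConjBy b t ∧ a = ω * b * ω⁻¹ := by
  obtain ⟨n, hn, t, ht, b, hb, rfl⟩ := id ha
  haveI := h.finite_lift
  set g : lift F T Q := ⟨n * b * n⁻¹, Subgroup.subset_closure ha⟩ with hg
  obtain ⟨j, hj⟩ := h.isPGroup ⟨t, h.hTS ht.1⟩
  have hb1 : b ^ p ^ j = 1 := autFun_ext fun x hx => by
    rw [hb.pow _ x hx, show t ^ p ^ j = 1 from congrArg Subtype.val hj, autFun_one hx]
    simp
  have hg1 : g ^ p ^ j = 1 := Subtype.ext (by
    rw [SubmonoidClass.coe_pow, Subgroup.coe_one]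
    show (n * b * n⁻¹) ^ p ^ j = 1
    rw [conj_pow, hb1, mul_one, mul_inv_cancel])
  obtain ⟨x, -, hx⟩ := exists_conj_le_of_not_dvd_relIndex h.conjs_isPGroup le_top
    (by rw [Subgroup.relIndex_top_right]; exact h.conjs_index)
    (isPGroup_zpowers_of_pow hg1) le_top
  obtain ⟨t', ht', hc'⟩ := h.mem_conjs.1 (hx (conj_mem_conjBy (Subgroup.mem_zpowers g)))
  refine ⟨(x : MulAut (base S Q))⁻¹, inv_mem x.2, t', ht', _, hc', ?_⟩
  rw [Subgroup.coe_mul, Subgroup.coe_mul, Subgroup.coe_inv, hg, inv_inv]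
  group

include hc

theorem Local.disp_conjs {γ : lift F T Q} (hγ : γ ∈ h.conjs) :
    disp (γ : MulAut (base S Q)) c = 1 := by
  obtain ⟨t, ht, htγ⟩ := h.mem_conjs.1 hγ
  rw [disp, htγ c (Subgroup.mem_sup_right (h.mem_cent hc)),
    Subgroup.mem_centralizer_iff.1 hc.2 t ht.1, mul_inv_cancel_right, inv_mul_cancel]

omit hc

/-- The action of the lift on the centre of `Q`. -/
noncomputable def Local.zact : lift F T Q →* MulAut (zof Q) :=
  restrictHom (lift F T Q) (zof Q) (inf_le_left.trans le_sup_left)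
    fun _ ha _ hx => stab_zof h.hQS (h.lift_stab ha) hx

theorem Local.coe_zact (γ : lift F T Q) (z : zof Q) :
    ((h.zact γ z : zof Q) : Ω) = autFun (γ : MulAut (base S Q)) z :=
  rfl

include hc

/-- Some translate of `c` by the centre of `Q` is fixed by the lift. -/
theorem Local.exists_boundary : ∃ z ∈ zof Q,
    (∀ γ ∈ lift F T Q, autFun γ (c * z) = c * z) ∧ ∀ t ∈ normalizerIn T Q, Commute t z := by
  haveI := h.finite_lift
  haveI : Finite (zof Q) := finite_of_le (inf_le_left.trans h.hQS : zof Q ≤ S)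
  letI : CommGroup (zof Q) :=
    { (inferInstance : Group (zof Q)) with
      mul_comm := fun a b => Subtype.ext (Subgroup.mem_centralizer_iff.1 b.2.2 a a.2.1) }
  obtain ⟨z, hz⟩ := Cocycle.exists_boundary (p := p) (h.zact)
    (fun γ => ⟨disp (γ : MulAut (base S Q)) c, h.disp_mem hc γ.2⟩)
    (fun γ δ => Subtype.ext (h.disp_mul hc δ.2)) ⊥
    (fun γ w hw => by rw [Subgroup.mem_bot.1 hw, map_one]; exact one_mem _)
    (h.isPGroup.to_le (inf_le_left.trans h.hQS)) h.conjs h.conjs_index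
    (fun γ hγ => Subgroup.mem_bot.2 (Subtype.ext (h.disp_conjs hc hγ)))
  have hz' : ∀ γ : lift F T Q,
      disp (γ : MulAut (base S Q)) c * autFun (γ : MulAut (base S Q)) z = z := fun γ =>
    eq_of_mul_inv_eq_one (congrArg Subtype.val (Subgroup.mem_bot.1 (hz γ)) :)
  refine ⟨z, z.2, fun γ hγ => ?_, fun t ht => ?_⟩
  · rw [h.map_mul_zof hc z.2, mul_assoc, hz' ⟨γ, hγ⟩]
  · obtain ⟨b, hb, hbt⟩ := h.tAut_exists ht
    have e := hz' ⟨b, hb⟩
    rw [h.disp_conjs hc (h.mem_conjs.2 ⟨t, ht, hbt⟩), one_mul,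
      hbt _ (Subgroup.mem_sup_left z.2.1)] at e
    exact mul_inv_eq_iff_eq_mul.1 e

/-- Displacements fixed by a group of lifts containing the conjugations vanish on it. -/
theorem Local.fix_of_fixed {B : Subgroup (lift F T Q)} (hB : h.conjs ≤ B)
    (hfix : ∀ γ ∈ B, ∀ δ ∈ B, autFun ((γ : lift F T Q) : MulAut (base S Q))
      (disp ((δ : lift F T Q) : MulAut (base S Q)) c) = disp (δ : MulAut (base S Q)) c) :
    ∀ γ ∈ B, autFun ((γ : lift F T Q) : MulAut (base S Q)) c = c := by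
  haveI := h.finite_lift
  haveI : Finite (zof Q) := finite_of_le (inf_le_left.trans h.hQS : zof Q ≤ S)
  letI : CommGroup (zof Q) :=
    { (inferInstance : Group (zof Q)) with
      mul_comm := fun a b => Subtype.ext (Subgroup.mem_centralizer_iff.1 b.2.2 a a.2.1) }
  intro γ hγ
  have hi : ¬ p ∣ (h.conjs.subgroupOf B).index := fun hd => h.conjs_index
    (hd.trans ⟨B.index, (Subgroup.relIndex_mul_index hB).symm⟩)
  have key := Cocycle.eq_one_of_fixed (p := p) (h.zact.comp B.subtype)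
    (fun δ : B => (⟨disp ((δ : lift F T Q) : MulAut (base S Q)) c,
      h.disp_mem hc (δ : lift F T Q).2⟩ : zof Q))
    (fun δ δ' => Subtype.ext (h.disp_mul hc (δ' : lift F T Q).2))
    (fun δ δ' => Subtype.ext (hfix _ δ.2 _ δ'.2))
    (h.isPGroup.to_le (inf_le_left.trans h.hQS)) (h.conjs.subgroupOf B) hi
    (fun δ hδ => Subtype.ext (h.disp_conjs hc hδ)) ⟨γ, hγ⟩
  have key' : disp (γ : MulAut (base S Q)) c = 1 := congrArg Subtype.val key
  rw [h.map_c hc, key', mul_one]

/-- The displacement of a lift which, on an invariant self-centralizing subgroup `J`, extends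
fixing `c` is fixed by the lift. -/
theorem Local.defect_fixed (hJQ : J ≤ Q)
    (hJinv : ∀ γ ∈ lift F T Q, ∀ x ∈ J, autFun γ x ∈ J)
    (hJc : ∀ f, IsMap F J f → centralizerIn T (img J f) ≤ img J f)
    {γ : MulAut (base S Q)} (hγ : γ ∈ lift F T Q) (hg : Good F T c J (autFun γ))
    {ω : MulAut (base S Q)} (hω : ω ∈ lift F T Q) :
    autFun ω (disp γ c) = disp γ c := by
  have hQS := h.hQS
  have hRS := base_le (S := S) hQS
  have hJT : J ≤ T := hJQ.trans h.le
  have hJR : J ≤ base S Q := hJQ.trans le_sup_left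
  have hcR : c ∈ base S Q := Subgroup.mem_sup_right (h.mem_cent hc)
  have hle : J ⊔ Subgroup.zpowers c ≤ base S Q := sup_le hJR (Subgroup.zpowers_le.2 hcR)
  have hcW : c ∈ J ⊔ Subgroup.zpowers c := Subgroup.mem_sup_right (Subgroup.mem_zpowers c)
  have hzJ : ∀ z ∈ zof Q, z ∈ zof J := fun z hz => by
    have hC : z ∈ Subgroup.centralizer (J : Set Ω) := Subgroup.centralizer_le hJQ hz.2
    have h1 := hJc id (isMap_id (hJT.trans h.hTS))
    rw [img_id] at h1
    exact ⟨h1 ⟨h.le hz.1, hC⟩, hC⟩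
  have hmaps : ∀ ω ∈ lift F T Q, ∀ x ∈ J ⊔ Subgroup.zpowers c,
      autFun ω x ∈ J ⊔ Subgroup.zpowers c := by
    intro ω hω x hx
    have hm := ((mem_autGroup_iff hRS).1 (h.lift_stab hω).1).mono hle
    have hωc : autFun ω c ∈ J ⊔ Subgroup.zpowers c := by
      rw [h.map_c hc]
      exact mul_mem hcW (Subgroup.mem_sup_left (hzJ _ (h.disp_mem hc hω)).1)
    refine hm.map_mem_of_sup (fun y hy => Subgroup.mem_sup_left (hJinv ω hω y hy)) ?_ hx
    exact fun y hy => map_mem_zpowers hm hcW hωc hy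
  obtain ⟨-, -, g, hgm, hgJ, hgc⟩ := id hg
  have hγ' := inv_mem hγ
  -- the map fixing `J` moving `c`
  set e := autFun γ (disp γ⁻¹ c) with hedef
  have hDJ : ∀ {ω : MulAut (base S Q)}, ω ∈ lift F T Q → disp ω c ∈ J := fun hω =>
    (hzJ _ (h.disp_mem hc hω)).1
  have heZ : e ∈ zof Q := stab_zof hQS (h.lift_stab hγ) (h.disp_mem hc hγ')
  have hd : IsMap F (J ⊔ Subgroup.zpowers c) (g ∘ autFun γ⁻¹) :=
    (((mem_autGroup_iff hRS).1 (h.lift_stab hγ').1).mono hle).comp hgm (hmaps _ hγ')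
  have hdJ : ∀ x ∈ J, (g ∘ autFun γ⁻¹) x = x := fun x hx => by
    show g (autFun γ⁻¹ x) = x
    rw [hgJ _ (hJinv _ hγ' x hx), autFun_inv_apply γ (hJR hx)]
  have hdc : (g ∘ autFun γ⁻¹) c = c * e := by
    show g (autFun γ⁻¹ c) = c * e
    rw [h.map_c hc, hgm.map_mul hcW (Subgroup.mem_sup_left (hDJ hγ')),
      hgc c (Subgroup.mem_zpowers c), hgJ _ (hDJ hγ'), hedef]
  -- all conjugates of the displacement commute with `N_T(Q)`
  have hall : ∀ ω ∈ lift F T Q, ∀ t ∈ normalizerIn T Q, Commute t (autFun ω e) := by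
    intro ω hω t ht
    have hω' := inv_mem hω
    set d := autFun ω ∘ ((g ∘ autFun γ⁻¹) ∘ autFun ω⁻¹) with hddef
    have hdW : ∀ x ∈ J ⊔ Subgroup.zpowers c, (g ∘ autFun γ⁻¹) x ∈ base S Q := fun x hx => by
      refine hd.map_mem_of_sup (fun y hy => by rw [hdJ y hy]; exact hJR hy) (fun y hy => ?_) hx
      exact map_mem_zpowers hd hcW (by rw [hdc]; exact mul_mem hcR (Subgroup.mem_sup_left heZ.1)) hy
    have hdm : IsMap F (J ⊔ Subgroup.zpowers c) d :=
      ((((mem_autGroup_iff hRS).1 (h.lift_stab hω').1).mono hle).comp hd (hmaps _ hω')).comp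
        ((mem_autGroup_iff hRS).1 (h.lift_stab hω).1) fun x hx => hdW _ (hmaps _ hω' x hx)
    have hdx : ∀ x ∈ J, d x = x := fun x hx => by
      show autFun ω ((g ∘ autFun γ⁻¹) (autFun ω⁻¹ x)) = x
      rw [hdJ _ (hJinv _ hω' x hx), autFun_inv_apply ω (hJR hx)]
    have hzω : autFun ω e ∈ zof Q := stab_zof hQS (h.lift_stab hω) heZ
    have hdcω : d c = c * autFun ω e := by
      show autFun ω ((g ∘ autFun γ⁻¹) (autFun ω⁻¹ c)) = _
      rw [h.map_c hc, hd.map_mul hcW (Subgroup.mem_sup_left (hDJ hω')), hdc, hdJ _ (hDJ hω')]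
      have hD := h.disp_mem hc hω'
      have e0 : autFun ω (c * disp ω⁻¹ c) = c :=
        (congrArg (autFun ω) (h.map_c hc (γ := ω⁻¹))).symm.trans (autFun_inv_apply ω hcR)
      calc autFun ω (c * e * disp ω⁻¹ c) = autFun ω ((c * disp ω⁻¹ c) * e) := by
            congr 1
            rw [mul_assoc, mul_assoc, zof_comm (S := S) hD (Subgroup.mem_sup_left heZ.1)]
        _ = autFun ω (c * disp ω⁻¹ c) * autFun ω e := autFun_map_mul ω
            (mul_mem hcR (Subgroup.mem_sup_left hD.1)) (Subgroup.mem_sup_left heZ.1)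
        _ = _ := by rw [e0]
    have htJ : t ∈ normalizerIn T J := by
      refine ⟨ht.1, Subgroup.mem_normalizer_iff.2 fun x => ?_⟩
      have key : ∀ s ∈ normalizerIn T Q, ∀ x ∈ J, s * x * s⁻¹ ∈ J := fun s hs x hx => by
        obtain ⟨b, hb, hbs⟩ := h.tAut_exists hs
        rw [← hbs x (hJR hx)]
        exact hJinv b hb x hx
      refine ⟨key t ht x, fun hx => ?_⟩
      have h1 := key t⁻¹ (inv_mem ht) _ hx
      simpa [mul_assoc] using h1
    have hev : c⁻¹ * d c ∈ J ⊓ Subgroup.centralizer (J : Set Ω) := by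
      rw [hdcω, inv_mul_cancel_left]
      exact hzJ _ hzω
    have hcom := CentFocal.commute_defect h.isPGroup h.sat h.closed hJT hJc hc hdm hdx hev htJ
    rwa [hdcω, inv_mul_cancel_left] at hcom
  -- hence the displacement is fixed
  have hfix : ∀ ω ∈ lift F T Q, autFun ω e = e := by
    have heR : e ∈ base S Q := Subgroup.mem_sup_left heZ.1
    intro ω hω
    have key : ω ∈ lift F T Q ∧ autFun ω e = e := by
      let K : Subgroup (MulAut (base S Q)) :=
        { carrier := {ω | ω ∈ lift F T Q ∧ autFun ω e = e}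
          one_mem' := ⟨one_mem _, autFun_one heR⟩
          mul_mem' := fun {a b} ⟨ha, ha'⟩ ⟨hb, hb'⟩ => ⟨mul_mem ha hb, by
            rw [autFun_mul _ _ heR, hb', ha']⟩
          inv_mem' := fun {a} ⟨ha, ha'⟩ => ⟨inv_mem ha, by
            conv_lhs => rw [← ha', autFun_map_inv a heR]⟩ }
      refine (Subgroup.closure_le K).2 (fun a ha => ⟨Subgroup.subset_closure ha, ?_⟩) hω
      obtain ⟨v, hv, t, ht, b, hb, rfl⟩ := h.gens_conj ha
      have hvR : autFun v⁻¹ e ∈ base S Q := autFun_mem _ heR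
      rw [autFun_mul _ _ heR, autFun_mul _ _ hvR, hb _ hvR,
        (hall _ (inv_mem hv) t ht).eq, mul_inv_cancel_right, autFun_inv_apply v heR]
    exact key.2
  have he : disp γ c * e = 1 := by
    rw [hedef, ← h.disp_mul hc hγ', mul_inv_cancel, disp, autFun_one hcR, inv_mul_cancel]
  have he' : disp γ c = e⁻¹ := eq_inv_of_mul_eq_one_left he
  rw [he', ((mem_autGroup_iff hRS).1 (h.lift_stab hω).1).map_inv (Subgroup.mem_sup_left heZ.1),
    hfix ω hω]

/-- If the lift extends fixing `c` on an invariant self-centralizing subgroup, it fixes `c`. -/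
theorem Local.fix_of_sub (hJQ : J ≤ Q)
    (hJinv : ∀ γ ∈ lift F T Q, ∀ x ∈ J, autFun γ x ∈ J)
    (hJc : ∀ f, IsMap F J f → centralizerIn T (img J f) ≤ img J f)
    (hgood : ∀ γ ∈ lift F T Q, Good F T c J (autFun γ)) {γ : MulAut (base S Q)}
    (hγ : γ ∈ lift F T Q) : autFun γ c = c :=
  h.fix_of_fixed hc (le_top : h.conjs ≤ ⊤) (fun ω _ δ _ =>
    h.defect_fixed hc hJQ hJinv hJc δ.2 (hgood _ δ.2) ω.2) ⟨γ, hγ⟩ (Subgroup.mem_top _)

/-- For odd `p`, maps on `Q J(N_T(Q))` extending fixing `c` force the lift to fix `c`. -/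
theorem Local.fix_of_thompson (hp : p ≠ 2)
    (hbig : ∀ f, IsMap E (Q ⊔ thompsonSubgroupAOf (normalizerIn T Q)) f →
      Good F T c (Q ⊔ thompsonSubgroupAOf (normalizerIn T Q)) f)
    {γ : MulAut (base S Q)} (hγ : γ ∈ lift F T Q) : autFun γ c = c := by
  have hQS := h.hQS
  have hRS := base_le (S := S) hQS
  have hTp := h.isPGroup.to_le h.hTS
  haveI := finite_of_le h.hTS
  haveI := h.finite_lift
  obtain ⟨N, hN⟩ := exists_normalizerSystem (F := E) h.le
  obtain ⟨L, _, ι, ⟨hLfin, hreal, ⟨Sy, hSy⟩, -⟩, hnorm⟩ := exists_local_model hTp h.satE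
    (isFullyNormalized_of_stronglyClosed h.isPGroup h.sat h.closed h.sub h.le h.normalized)
    h.isCentric hN
  haveI := hLfin
  have hQN : Q ≤ normalizerIn T Q := le_normalizerIn h.le
  haveI : Finite (normalizerIn T Q) := finite_of_le (S := T) inf_le_left
  haveI := hnorm
  set ιQ := (Q.subgroupOf (normalizerIn T Q)).map ι with hιQ
  let eQ : ιQ ≃* Q :=
    (((Q.subgroupOf (normalizerIn T Q)).equivMapOfInjective ι hreal.1).symm).trans
      (Subgroup.subgroupOfEquivOfLe hQN)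
  let ρ : L →* MulAut Q := (MulAut.congr eQ).toMonoidHom.comp MulAut.conjNormal
  have hρ : ∀ (l : L) (q : Ω) (hq : q ∈ Q) (hq' : autFun (ρ l) q ∈ normalizerIn T Q),
      ι ⟨autFun (ρ l) q, hq'⟩ = l * ι ⟨q, hQN hq⟩ * l⁻¹ := by
    intro l q hq hq'
    have e1 : ((eQ.symm ⟨q, hq⟩ : ιQ) : L) = ι ⟨q, hQN hq⟩ := rfl
    have e3 : ρ l ⟨q, hq⟩ = eQ (MulAut.conjNormal l (eQ.symm ⟨q, hq⟩)) := rfl
    have e4 : ((eQ.symm (ρ l ⟨q, hq⟩) : ιQ) : L) = l * ι ⟨q, hQN hq⟩ * l⁻¹ := by
      rw [e3, MulEquiv.symm_apply_apply, MulAut.conjNormal_apply, e1]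
    rw [← e4]
    show ι ⟨autFun (ρ l) q, hq'⟩ = ι ⟨((ρ l ⟨q, hq⟩ : Q) : Ω), hQN (ρ l ⟨q, hq⟩).2⟩
    exact congrArg ι (Subtype.ext (autFun_apply (ρ l) hq))
  let L0 : Subgroup L := h.res.range.comap ρ
  have hρι : ∀ u : normalizerIn T Q, ρ (ι u) = conjAut (u : Ω) u.2.2 := by
    intro u
    refine autFun_ext fun x hx => ?_
    have hm := autFun_mem (ρ (ι u)) hx
    have e := hρ (ι u) x hx (hQN hm)
    rw [← map_inv, ← map_mul, ← map_mul] at e
    rw [autFun_conjAut u.2.2 hx]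
    exact congrArg Subtype.val (hreal.1 e)
  have hιL0 : ι.range ≤ L0 := by
    rintro _ ⟨u, rfl⟩
    show ρ (ι u) ∈ h.res.range
    rw [hρι]
    exact h.autInducedBy_le_range (conjAut_mem u.2.1 u.2.2)
  have hpι : IsPGroup p ι.range := by
    rw [← hSy]; exact Sy.2
  let S0 : Sylow p L0 := (hpι.of_equiv (Subgroup.subgroupOfEquivOfLe hιL0).symm).toSylow
    fun hd => Sy.not_dvd_index (by
      rw [hSy, ← Subgroup.relIndex_mul_index hιL0]; exact hd.mul_right _)
  have hS0 : ((S0 : Subgroup L0)).map L0.subtype = ι.range := by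
    show (ι.range.subgroupOf L0).map L0.subtype = ι.range
    rw [Subgroup.subgroupOf_map_subtype, inf_eq_left.2 hιL0]
  obtain ⟨z, hz, hzfix, hzt⟩ := h.exists_boundary hc
  let xN : normalizerIn T Q := ⟨z, hQN hz.1⟩
  let x0 : L0 := ⟨ι xN, hιL0 ⟨xN, rfl⟩⟩
  have hx0 : x0 ∈ (S0 : Subgroup L0) := ⟨xN, rfl⟩
  -- the lifts extending fixing `c`
  let B : Subgroup (lift F T Q) := ((fixC F T c h.hTS hc).autGroup Q).comap h.res
  have hBmem : ∀ {δ : lift F T Q}, δ ∈ B ↔ Good F T c Q (autFun (δ : MulAut (base S Q))) := by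
    intro δ
    refine Subgroup.mem_comap.trans ((mem_fixC_autGroup h.le).trans ⟨fun hG => ?_, fun hG => ?_⟩)
    · exact hG.congr fun x hx => (h.autFun_res δ hx).symm
    · exact hG.congr fun x hx => h.autFun_res δ hx
  have hBA : h.conjs ≤ B := fun δ hδ => hBmem.2 (h.good_of_fix hc δ.2 (by
    rw [h.map_c hc, h.disp_conjs hc hδ, mul_one]))
  have hBfix : ∀ δ ∈ B, autFun ((δ : lift F T Q) : MulAut (base S Q)) c = c :=
    h.fix_of_fixed hc hBA fun ω _ δ hδ => h.defect_fixed hc le_rfl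
      (fun γ hγ x hx => stab_mem (h.lift_stab hγ) hx) (fun f hf => h.cent_img hf) δ.2
      (hBmem.1 hδ) ω.2
  have hzB : ∀ δ ∈ B, autFun ((δ : lift F T Q) : MulAut (base S Q)) z = z := fun δ hδ => by
    have e := hzfix _ δ.2
    rw [autFun_map_mul _ (Subgroup.mem_sup_right (h.mem_cent hc)) (Subgroup.mem_sup_left hz.1),
      hBfix δ hδ] at e
    exact mul_left_cancel e
  set JN := thompsonSubgroupAOf (normalizerIn T Q) with hJN
  have hJNle : JN ≤ normalizerIn T Q := thompsonA_le_self _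
  set K := Q ⊔ JN with hK
  have hKN : K ≤ normalizerIn T Q := sup_le hQN hJNle
  have hJι : (JN.subgroupOf (normalizerIn T Q)).map ι =
      thompsonSubgroupAOf ι.range := imgι_thompsonA hreal.1
  have hxN : ∀ g ∈ Subgroup.normalizer
      ((thompsonSubgroupAOf (S0 : Subgroup L0)) : Set L0), Commute g x0 := by
    intro g hg
    have hgJ : (g : L) ∈ Subgroup.normalizer (thompsonSubgroupAOf ι.range : Set L) := by
      rw [← hS0, ← map_thompsonSubgroupAOf _ L0.subtype_injective]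
      exact Subgroup.le_normalizer_map L0.subtype ⟨g, hg, rfl⟩
    have hKι : (K.subgroupOf (normalizerIn T Q)).map ι =
        ιQ ⊔ thompsonSubgroupAOf ι.range := by
      rw [hK, Subgroup.subgroupOf_sup hQN hJNle, Subgroup.map_sup, hJι]
    have hgK : ∀ u : K, (g : L) * ι ⟨u, hKN u.2⟩ * (g : L)⁻¹ ∈ ι.range := by
      intro u
      have hle : ιQ ⊔ thompsonSubgroupAOf ι.range ≤
          ι.range.comap (MulAut.conj (g : L)).toMonoidHom := by
        refine sup_le (fun w hw => Subgroup.map_le_range _ _ (hnorm.conj_mem w hw g))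
          (fun w hw => ?_)
        exact thompsonA_le_self ι.range ((Subgroup.mem_normalizer_iff.1 hgJ w).1 hw)
      exact hle (hKι.le ⟨⟨u, hKN u.2⟩, u.2, rfl⟩)
    let φ : K →* Ω := (normalizerIn T Q).subtype.comp
      ((MonoidHom.ofInjective hreal.1).symm.toMonoidHom.comp
        (((MulAut.conj (g : L)).toMonoidHom.comp
          (ι.comp (Subgroup.inclusion hKN))).codRestrict ι.range hgK))
    have hφval : ∀ u : K, φ u ∈ normalizerIn T Q := fun u => SetLike.coe_mem _
    have hφι : ∀ u : K, ι ⟨φ u, hφval u⟩ = (g : L) * ι ⟨u, hKN u.2⟩ * (g : L)⁻¹ := fun u => by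
      exact MonoidHom.apply_ofInjective_symm hreal.1 _
    have hφN : φ ∈ N.Hom K := (hreal.2 K hKN φ hφval).2 ⟨g, hφι⟩
    have hφE : IsMap E K (toFun φ) := ((isMap_of_isNormalizerSystem hN).1 (isMap_toFun hφN)).isMap
    obtain ⟨δ, hδ⟩ : ρ (g : L) ∈ h.res.range := g.2
    have hδB : δ ∈ B := hBmem.2 (((hbig _ hφE).mono le_sup_left).congr fun q hq => by
      have hqK : q ∈ K := (le_sup_left : Q ≤ Q ⊔ JN) hq
      have hm := autFun_mem (ρ (g : L)) hq
      rw [← h.autFun_res δ hq, hδ, toFun_apply φ hqK]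
      exact congrArg Subtype.val (hreal.1 ((hρ _ q hq (hQN hm)).trans (hφι ⟨q, hqK⟩).symm)))
    have e := hzB δ hδB
    rw [← h.autFun_res δ hz.1, hδ] at e
    have hm := autFun_mem (ρ (g : L)) hz.1
    have e2 := hρ _ z hz.1 (hQN hm)
    rw [show (⟨autFun (ρ (g : L)) z, hQN hm⟩ : normalizerIn T Q) = xN from Subtype.ext e] at e2
    exact Subtype.ext (mul_inv_eq_iff_eq_mul.1 e2.symm)
  -- weak closure
  have hall : ∀ δ : lift F T Q, autFun (δ : MulAut (base S Q)) z = z := by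
    intro δ
    have hdE : h.res δ ∈ E.autGroup Q := h.res_range ⟨δ, rfl⟩
    have hm := (mem_autGroup_iff h.le).1 hdE
    have hNm : IsMap N Q (autFun (h.res δ)) := (isMap_of_isNormalizerSystem hN).2
      ⟨hQN, fun x hx => hQN (autFun_mem _ hx), autFun (h.res δ), by rwa [sup_idem],
        fun _ _ => rfl, img_autFun _⟩
    obtain ⟨φ, hφ, hφe⟩ := id hNm
    have hφv : ∀ u : Q, φ u ∈ normalizerIn T Q := fun u => by
      rw [hφe]; exact hQN (autFun_mem _ u.2)
    obtain ⟨l, hl⟩ := (hreal.2 Q hQN φ hφv).1 hφ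
    have hρl : ρ l = h.res δ := autFun_ext fun q hq => by
      have hq' := autFun_mem (ρ l) hq
      exact (congrArg Subtype.val (hreal.1 ((hρ l q hq (hQN hq')).trans
        (hl ⟨q, hq⟩).symm))).trans (hφe ⟨q, hq⟩)
    let l0 : L0 := ⟨l, show ρ l ∈ h.res.range from ⟨δ, hρl.symm⟩⟩
    have hm' := autFun_mem (ρ l) hz.1
    have e2 := hρ l z hz.1 (hQN hm')
    have hmem : l0 * x0 * l0⁻¹ ∈ (S0 : Subgroup L0) := ⟨_, e2⟩
    have hw := CfsgLib.CFun.thompsonA_weaklyClosed S0 hx0 hxN (Or.inl hp) hmem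
    have e3 : (⟨autFun (ρ l) z, hQN hm'⟩ : normalizerIn T Q) = xN :=
      hreal.1 (e2.trans (congrArg Subtype.val hw))
    rw [← h.autFun_res δ hz.1, ← hρl]
    exact congrArg Subtype.val e3
  have e := hzfix γ hγ
  rw [autFun_map_mul γ (Subgroup.mem_sup_right (h.mem_cent hc)) (Subgroup.mem_sup_left hz.1),
    hall ⟨γ, hγ⟩] at e
  exact mul_right_cancel e

end CfsgLib.Fusion.CentLift
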