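import Cfsg.Agent.Lib.Fusion.System.ResidualLimit
import Cfsg.Agent.Lib.Fusion.System.Puig

/-!
# Stages of the descent to the normal envelope of a normal subsystem

Basic facts: extension witnesses on `T C_S(T)`, and the automizer of `T` at each stage.
-/

set_option autoImplicit false
set_option linter.style.haveILetI false
set_option linter.unusedSectionVars false

open Subgroup
open scoped Classical

namespace CfsgLib.Fusion.Envelope

open Cfsg (FusionSystem autInducedBy)
open Cfsg.FusionSystem (normalizerIn centralizerIn)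
open CfsgLib.Fusion
open CfsgLib.Fusion.Limit (SameLimit)

universe u

variable {Ω : Type u} [Group Ω] {S T U C W : Subgroup Ω} {F : FusionSystem S} {D : FusionSystem U}
  {E : FusionSystem T} {p : ℕ}

/-- `β` extends `α` and centralizes `C` modulo the centre of `T`. -/
def Witness (C : Subgroup Ω) (β : MulAut W) (α : MulAut T) : Prop :=
  (∀ x ∈ T, autFun β x = autFun α x) ∧
    ∀ c ∈ C, c⁻¹ * autFun β c ∈ T ⊓ Subgroup.centralizer (T : Set Ω)

theorem Witness.mul (hT : T ≤ W) (hC : C ≤ W) {b b' : MulAut W} {a a' : MulAut T}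
    (h : Witness C b a) (h' : Witness C b' a') : Witness C (b * b') (a * a') := by
  refine ⟨fun x hx => ?_, fun c hc => ?_⟩
  · rw [autFun_mul _ _ (hT hx), h'.1 x hx, h.1 _ (autFun_mem _ hx), autFun_mul _ _ hx]
  · have hz := h'.2 c hc
    rw [autFun_mul _ _ (hC hc), show autFun b' c = c * (c⁻¹ * autFun b' c) by group,
      autFun_map_mul b (hC hc) (hT hz.1), ← mul_assoc]
    refine mul_mem (h.2 c hc) ?_
    rw [h.1 _ hz.1]
    refine ⟨autFun_mem a hz.1, Subgroup.mem_centralizer_iff.2 fun x hx => ?_⟩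
    obtain ⟨y, hy, rfl⟩ : ∃ y ∈ T, autFun a y = x :=
      ⟨autFun a⁻¹ x, autFun_mem _ hx, autFun_inv_apply a hx⟩
    rw [← autFun_map_mul a hy hz.1, ← autFun_map_mul a hz.1 hy,
      Subgroup.mem_centralizer_iff.1 hz.2 y hy]

theorem Witness.one (hT : T ≤ W) (hC : C ≤ W) :
    Witness C (1 : MulAut W) (1 : MulAut T) :=
  ⟨fun x hx => by rw [autFun_one hx, autFun_one (hT hx)],
    fun c hc => by rw [autFun_one (hC hc), inv_mul_cancel]; exact one_mem _⟩

theorem Witness.pow (hT : T ≤ W) (hC : C ≤ W) {b : MulAut W} {a : MulAut T}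
    (h : Witness C b a) : ∀ n : ℕ, Witness C (b ^ n) (a ^ n)
  | 0 => by rw [pow_zero, pow_zero]; exact Witness.one hT hC
  | n + 1 => by rw [pow_succ, pow_succ]; exact (Witness.pow hT hC h n).mul hT hC h

/-- `α` extends to `T C` in `D`, centralizing `C` modulo the centre of `T`. -/
def HasExt (D : FusionSystem U) (C : Subgroup Ω) (α : MulAut T) : Prop :=
  ∃ β ∈ D.autGroup (T ⊔ C), Witness C β α

theorem centralizerIn_eq (hUS : U ≤ S) (hC : centralizerIn S T ≤ U) :
    centralizerIn U T = centralizerIn S T :=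
  le_antisymm (inf_le_inf_right _ hUS) (le_inf hC inf_le_right)

theorem isNormalIn_of_hasExt [Finite S] [Fact p.Prime] (hS : IsPGroup p S) (hF : F.IsSaturated p)
    (hE : E.IsNormalIn F p) (hDs : D.IsSaturated p) (hDF : D.IsSubsystemOf F)
    (hC : centralizerIn S T ≤ U) (hED : E.IsSubsystemOf D)
    (hx : ∀ α ∈ E.autGroup T, HasExt D (centralizerIn S T) α) : E.IsNormalIn D p := by
  refine ⟨⟨hE.1.1, hDs, isInvariantIn_of_between hS hF hDs hDF hE.1.2.2 hED⟩, fun α hα => ?_⟩
  obtain ⟨β, hβ, h1, h2⟩ := hx α hα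
  have key : ∀ C' : Subgroup Ω, C' = centralizerIn S T → ∃ β ∈ D.autGroup (T ⊔ C'),
      (∀ x : T, ((β (Subgroup.inclusion le_sup_left x) : ↥(T ⊔ C')) : Ω) = ((α x : T) : Ω)) ∧
      ∀ c : ↥(T ⊔ C'), (c : Ω) ∈ C' →
        (c : Ω)⁻¹ * ((β c : ↥(T ⊔ C')) : Ω) ∈ T ⊓ Subgroup.centralizer (T : Set Ω) := by
    rintro C' rfl
    refine ⟨β, hβ, fun x => ?_, fun c hc => ?_⟩
    · rw [← autFun_coe, ← autFun_coe, Subgroup.coe_inclusion, h1 x x.2]
    · rw [← autFun_coe]; exact h2 c hc
  exact key _ (centralizerIn_eq (le_of_isSubsystemOf hDF) hC)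

theorem hasExt_of_normal (hE : E.IsNormalIn F p) {α : MulAut T} (hα : α ∈ E.autGroup T) :
    HasExt F (centralizerIn S T) α := by
  obtain ⟨β, hβ, h1, h2⟩ := hE.2 α hα
  refine ⟨β, hβ, fun x hx => ?_, fun c hc => ?_⟩
  · rw [autFun_apply _ (Subgroup.mem_sup_left hx), autFun_apply _ hx]
    exact h1 ⟨x, hx⟩
  · rw [autFun_apply _ (Subgroup.mem_sup_right hc)]
    exact h2 ⟨c, Subgroup.mem_sup_right hc⟩ hc

theorem hasExt_conjAut (hTU : T ≤ U) (hCU : C ≤ U) (hC : C ≤ Subgroup.centralizer (T : Set Ω))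
    {g : Ω} (hg : g ∈ T) (hgn : g ∈ Subgroup.normalizer (T : Set Ω)) :
    HasExt D C (conjAut g hgn) := by
  have hgW : g ∈ Subgroup.normalizer ((T ⊔ C : Subgroup Ω) : Set Ω) :=
    Subgroup.le_normalizer (Subgroup.mem_sup_left hg)
  refine ⟨conjAut g hgW, autInducedBy_le_autGroup (sup_le hTU hCU) (conjAut_mem (hTU hg) hgW),
    fun x hx => ?_, fun c hc => ?_⟩
  · rw [autFun_conjAut hgW (Subgroup.mem_sup_left hx), autFun_conjAut hgn hx]
  · rw [autFun_conjAut hgW (Subgroup.mem_sup_right hc), Subgroup.mem_centralizer_iff.1 (hC hc) g hg,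
      mul_inv_cancel_right, inv_mul_cancel]
    exact one_mem _

theorem HasExt.mul {a a' : MulAut T} (h : HasExt D C a) (h' : HasExt D C a') :
    HasExt D C (a * a') :=
  let ⟨b, hb, hw⟩ := h
  let ⟨b', hb', hw'⟩ := h'
  ⟨b * b', mul_mem hb hb', hw.mul le_sup_left le_sup_right hw'⟩

/-- A normal subgroup of `U` containing `T` with its centralizer. -/
theorem le_normalizer_sup (hUS : U ≤ S) (hT : F.StronglyClosed T) :
    U ≤ Subgroup.normalizer ((T ⊔ centralizerIn S T : Subgroup Ω) : Set Ω) := by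
  have hn : S ≤ Subgroup.normalizer (T : Set Ω) :=
    (le_normalizerIn_of_stronglyClosed hT).trans inf_le_right
  have key : ∀ u ∈ S, T ⊔ centralizerIn S T ≤
      (T ⊔ centralizerIn S T).comap (MulAut.conj u).toMonoidHom := by
    intro u hu
    refine sup_le (fun x hx => Subgroup.mem_sup_left ?_) fun c hc => Subgroup.mem_sup_right ?_
    · exact (Subgroup.mem_normalizer_iff.1 (hn hu) x).1 hx
    · refine ⟨S.mul_mem (S.mul_mem hu hc.1) (S.inv_mem hu),
        Subgroup.mem_centralizer_iff.2 fun t ht => ?_⟩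
      show t * (u * c * u⁻¹) = u * c * u⁻¹ * t
      have h1 : u⁻¹ * t * u⁻¹⁻¹ ∈ T := (Subgroup.mem_normalizer_iff.1 (hn (inv_mem hu)) t).1 ht
      calc t * (u * c * u⁻¹) = u * ((u⁻¹ * t * u⁻¹⁻¹) * c) * u⁻¹ := by group
        _ = u * (c * (u⁻¹ * t * u⁻¹⁻¹)) * u⁻¹ := by
          rw [Subgroup.mem_centralizer_iff.1 hc.2 _ h1]
        _ = _ := by group
  intro u hu
  rw [Subgroup.mem_normalizer_iff]
  refine fun x => ⟨fun hx => key u (hUS hu) hx, fun hx => ?_⟩
  have h1 := key u⁻¹ (inv_mem (hUS hu)) hx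
  simpa [mul_assoc] using h1

theorem conj_mem_autGroup_of_strongInv (hUS : U ≤ S) (hTU : T ≤ U) (h : StrongInv D F)
    {a b : MulAut T} (ha : a ∈ F.autGroup T) (hb : b ∈ D.autGroup T) :
    a * b * a⁻¹ ∈ D.autGroup T := by
  obtain ⟨k, hk, hke⟩ := h T T (autFun b) (autFun a) le_rfl hTU ((mem_autGroup_iff hTU).1 hb)
    (fun z hz => autFun_mem b hz) ((mem_autGroup_iff (hTU.trans hUS)).1 ha)
  rw [img_autFun] at hk
  refine (mem_autGroup_iff hTU).2 (hk.congr fun z hz => ?_)
  have hz' := autFun_mem a⁻¹ hz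
  conv_rhs => rw [← autFun_inv_apply a hz]
  rw [hke _ hz', autFun_mul _ _ hz, autFun_mul _ _ hz']

/-- The restriction to a strongly closed subgroup of an automorphism. -/
theorem exists_restrict [Finite S] (hT : F.StronglyClosed T) (hTW : T ≤ W) (hWS : W ≤ S)
    {a : MulAut W} (ha : a ∈ F.autGroup W) :
    ∃ b ∈ F.autGroup T, ∀ x ∈ T, autFun b x = autFun a x := by
  have hm := ((mem_autGroup_iff hWS).1 ha).mono hTW
  have hi : img T (autFun a) = T := img_eq_of_map_le hT.1 hm le_rfl fun x hx =>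
    (stronglyClosed_iff.1 hT).2 T _ le_rfl hm x hx
  exact ⟨autOf hm hi, autOf_mem hm hi, fun x hx => autFun_autOf hm hi hx⟩

/-- A stage of the descent: a normal subsystem containing `E` with the same residual limit. -/
structure Stage (F : FusionSystem S) (E : FusionSystem T) (p : ℕ) (D : FusionSystem U) : Prop where
  normal : D.IsNormalIn F p
  le : T ⊔ centralizerIn S T ≤ U
  sub : E.IsSubsystemOf D
  ext : ∀ α ∈ E.autGroup T, HasExt D (centralizerIn S T) α
  limit : SameLimit p F D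

variable [Finite S] [Fact p.Prime]

theorem Stage.le_S (h : Stage F E p D) : U ≤ S := h.normal.1.2.2.2.1.1

theorem Stage.strongInv (hS : IsPGroup p S) (hF : F.IsSaturated p) (h : Stage F E p D) :
    StrongInv D F :=
  (isInvariantIn_iff_strongInv hS hF h.normal.1.2.2.1 h.normal.1.2.2.2.1).1 h.normal.1.2.2

theorem Stage.normalIn (hS : IsPGroup p S) (hF : F.IsSaturated p) (hE : E.IsNormalIn F p)
    (h : Stage F E p D) : E.IsNormalIn D p :=
  isNormalIn_of_hasExt hS hF hE h.normal.1.1 h.normal.1.2.2.1 (le_sup_right.trans h.le) h.sub h.ext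

theorem stage_self (hS : IsPGroup p S) (hF : F.IsSaturated p) (hE : E.IsNormalIn F p) :
    Stage F E p F := by
  have hTS := hE.1.2.2.2.1.1
  exact ⟨⟨Components.isWeaklyNormalIn_self hS hF, fun α hα =>
      exists_ext_of_centralizer_le le_rfl inf_le_left hα⟩,
    sup_le hTS inf_le_left, hE.1.2.2.1, fun α hα => hasExt_of_normal hE hα,
    Limit.sameLimit_refl hS hF⟩

/-- Assembling a stage below a stage. -/
theorem Stage.below (hS : IsPGroup p S) (hF : F.IsSaturated p) (h : Stage F E p D)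
    {V : Subgroup Ω} {D₀ : FusionSystem V} (h₀ : D₀.IsNormalIn D p) (hA : AutInv F U D₀)
    (hV : T ⊔ centralizerIn S T ≤ V) (hsub : E.IsSubsystemOf D₀)
    (hx : ∀ α ∈ E.autGroup T, HasExt D₀ (centralizerIn S T) α) (hl : SameLimit p D D₀) :
    Stage F E p D₀ := by
  have hC : centralizerIn S V ≤ V := fun c hc => hV (Subgroup.mem_sup_right
    ⟨hc.1, Subgroup.centralizer_le (fun t ht => hV (Subgroup.mem_sup_left ht)) hc.2⟩)
  haveI := finite_of_le h.le_S
  exact ⟨isNormalIn_of_autInv hS hF h.normal h₀ hA hC, hV, hsub, hx,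
    Limit.SameLimit.trans_of (hS.to_le h.le_S) h.normal.1.1 h.limit hl⟩

theorem isFullyNormalized_of_normalized (hTU : T ≤ U) (hn : U ≤ Subgroup.normalizer (T : Set Ω))
    [Finite U] : D.IsFullyNormalized T := ⟨hTU, fun R _ => by
  rw [show normalizerIn U T = U from inf_eq_left.2 hn]
  exact card_le_of_le' le_rfl inf_le_left⟩

/-- When the automizer of `T` is that of `E`, the stage lives over `T C_S(T)`. -/
theorem Stage.eq_sup (hS : IsPGroup p S) (hE : E.IsNormalIn F p)
    (h : Stage F E p D) (hA : D.autGroup T ≤ E.autGroup T) : U = T ⊔ centralizerIn S T := by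
  have hT : F.StronglyClosed T := hE.1.2.2.2.1
  have hTU : T ≤ U := le_sup_left.trans h.le
  have hUS := h.le_S
  haveI := finite_of_le hT.1
  haveI := finite_mulAut (P := T)
  refine le_antisymm (fun u hu => ?_) h.le
  have hun : u ∈ Subgroup.normalizer (T : Set Ω) :=
    ((le_normalizerIn_of_stronglyClosed hT) (hUS hu)).2
  set a := conjAut u hun with ha
  have haD : a ∈ D.autGroup T := autInducedBy_le_autGroup hTU (conjAut_mem hu hun)
  obtain ⟨-, hi⟩ := (isFullyAutomized_iff (hS.to_le hT.1)).1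
    (IsSaturated.automized_receptive (hS.to_le hT.1) hE.1.1 isFullyNormalized_self).1
  obtain ⟨k, hk⟩ := isPGroup_autInducedBy (P := T) (hS.to_le hUS) ⟨a, conjAut_mem hu hun⟩
  obtain ⟨δ, hδ, hδA⟩ := exists_conj_le_of_not_dvd_relIndex
    (isPGroup_autInducedBy (hS.to_le hT.1)) (autInducedBy_le_autGroup le_rfl) hi
    (isPGroup_zpowers_of_pow (a := a) (k := k) (congrArg Subtype.val hk))
    (Subgroup.zpowers_le.2 (hA haD))
  obtain ⟨t, ht, hte⟩ := mem_autInducedBy_iff.1 (hδA (conj_mem_conjBy (Subgroup.mem_zpowers a)))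
  have key : ∀ x ∈ T, u * x * u⁻¹ = autFun δ⁻¹ t * x * (autFun δ⁻¹ t)⁻¹ := by
    intro x hx
    have hδx := autFun_mem δ hx
    have h1 := hte _ hδx
    rw [← autFun_mul _ _ hx, inv_mul_cancel_right, autFun_mul _ _ hx, autFun_conjAut hun hx] at h1
    have h2 := congrArg (autFun δ⁻¹) h1
    rw [autFun_map_inv δ ((Subgroup.mem_normalizer_iff.1 hun x).1 hx),
      autFun_map_mul δ⁻¹ (mul_mem ht hδx) (inv_mem ht), autFun_map_mul δ⁻¹ ht hδx,
      autFun_map_inv δ hx] at h2
    rw [h2]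
    congr 1
    exact eq_inv_of_mul_eq_one_right (by
      rw [← autFun_map_mul δ⁻¹ ht (inv_mem ht), mul_inv_cancel, autFun_map_one])
  set t' := autFun δ⁻¹ t with ht'
  have ht'T : t' ∈ T := autFun_mem _ ht
  have hc : t'⁻¹ * u ∈ centralizerIn S T :=
    ⟨S.mul_mem (S.inv_mem (hT.1 ht'T)) (hUS hu), Subgroup.mem_centralizer_iff.2 fun x hx => by
      calc x * (t'⁻¹ * u) = t'⁻¹ * (t' * x * t'⁻¹) * u := by group
        _ = t'⁻¹ * u * x := by rw [← key x hx]; group⟩
  have := mul_mem (Subgroup.mem_sup_left ht'T) (Subgroup.mem_sup_right (S := T) hc)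
  rwa [mul_inv_cancel_left] at this

end CfsgLib.Fusion.Envelope
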