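import Cfsg.Agent.Lib.Fusion.System.PPrimeResidualNormal
import Cfsg.Agent.Lib.Fusion.System.EnvelopeStage
import Cfsg.Agent.Lib.Fusion.System.FamilySatMain

/-!
# The focal subgroup of `C_F(T)` centralizes a normal subsystem over `T`
-/

set_option autoImplicit false
set_option maxHeartbeats 1000000
set_option linter.style.haveILetI false
set_option linter.unusedSectionVars false

open Subgroup
open scoped Classical

namespace CfsgLib.Fusion.CentFocal

open Cfsg (FusionSystem autInducedBy)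
open Cfsg.FusionSystem (normalizerIn centralizerIn)
open CfsgLib.Fusion

universe u

variable {Ω : Type u} [Group Ω] {S T : Subgroup Ω} {F : FusionSystem S} {E : FusionSystem T}
  {p : ℕ} {P Q W : Subgroup Ω}

/-- Generators of the focal subgroup of `C_F(T)`. -/
def gens (F : FusionSystem S) (T : Subgroup Ω) : Set Ω :=
  {y | ∃ u ∈ centralizerIn S T, ∃ g, IsMap F (Subgroup.zpowers u ⊔ T) g ∧
    (∀ t ∈ T, g t = t) ∧ y = u⁻¹ * g u}

/-- The focal subgroup of `C_F(T)`. -/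
def focal (F : FusionSystem S) (T : Subgroup Ω) : Subgroup Ω := Subgroup.closure (gens F T)

theorem map_mem_cent {R : Subgroup Ω} {g : Ω → Ω} (hg : IsMap F (R ⊔ T) g)
    (hfix : ∀ t ∈ T, g t = t) {c : Ω} (hc : c ∈ R) (hcC : c ∈ centralizerIn S T) :
    g c ∈ centralizerIn S T := by
  have h := map_mem_centralizerIn hg le_sup_right (Subgroup.mem_sup_left hc) hcC.2
  rwa [img_eq_self_of_fix hfix] at h

theorem focal_le : focal F T ≤ centralizerIn S T := by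
  refine (Subgroup.closure_le _).2 ?_
  rintro y ⟨u, hu, g, hg, hfix, rfl⟩
  exact mul_mem (inv_mem hu) (map_mem_cent hg hfix (Subgroup.mem_zpowers u) hu)

theorem le_centralizerIn_of_le (hTS : T ≤ S) {X : Subgroup Ω} (h : X ≤ centralizerIn S T) :
    T ≤ centralizerIn S X := fun t ht => ⟨hTS ht, Subgroup.mem_centralizer_iff.2 fun x hx =>
  ((Subgroup.mem_centralizer_iff.1 (h hx).2) t ht).symm⟩

/-- The maps of `F` inside `T` that extend fixing `X`. -/
noncomputable def fixSystem (F : FusionSystem S) (T X : Subgroup Ω) (hTS : T ≤ S)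
    (hX : X ≤ centralizerIn S T) : FusionSystem T :=
  cSystem F T X (le_centralizerIn_of_le hTS hX) (hX.trans inf_le_left)

theorem isMap_fixSystem_iff {X : Subgroup Ω} {hTS : T ≤ S} {hX : X ≤ centralizerIn S T}
    {f : Ω → Ω} : IsMap (fixSystem F T X hTS hX) P f ↔ CMap F T X P f := isMap_cSystem_iff

/-- A map fixing generators fixes the generated subgroup. -/
theorem fix_closure {G : Set Ω} {g : Ω → Ω} (hg : IsMap F W g) (hW : Subgroup.closure G ≤ W)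
    (h : ∀ y ∈ G, g y = y) {y : Ω} (hy : y ∈ Subgroup.closure G) : g y = y := by
  have key : y ∈ W ∧ g y = y := by
    let K : Subgroup Ω :=
      { carrier := {y | y ∈ W ∧ g y = y}
        one_mem' := ⟨one_mem _, hg.map_one⟩
        mul_mem' := fun {a b} ⟨ha, hga⟩ ⟨hb, hgb⟩ => ⟨mul_mem ha hb, by
          rw [hg.map_mul ha hb, hga, hgb]⟩
        inv_mem' := fun {a} ⟨ha, hga⟩ => ⟨inv_mem ha, by rw [hg.map_inv ha, hga]⟩ }
    exact (Subgroup.closure_le K).2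
      (fun z hz => (⟨hW (Subgroup.subset_closure hz), h z hz⟩ : z ∈ W ∧ g z = z)) hy
  exact key.2

variable [Finite S]

/-- The elements `u⁻¹ d u` for a map `d` comparing an extension `γ` with a map fixing `T`. -/
theorem exists_defect {γ g : Ω → Ω} (hTS : T ≤ S) (hQT : Q ≤ T)
    (hγ : IsMap F (Q ⊔ centralizerIn S T) γ) (hγQ : ∀ x ∈ Q, γ x ∈ Q)
    (hγC : ∀ c ∈ centralizerIn S T, c⁻¹ * γ c ∈ Q ⊓ Subgroup.centralizer (Q : Set Ω))
    {u : Ω} (hu : u ∈ centralizerIn S T) (hg : IsMap F (Subgroup.zpowers u ⊔ T) g)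
    (hfix : ∀ t ∈ T, g t = t) :
    ∃ d, IsMap F (Q ⊔ Subgroup.zpowers (g u)) d ∧ (∀ x ∈ Q, d x = x) ∧
      (g u)⁻¹ * d (g u) ∈ Q ⊓ Subgroup.centralizer (Q : Set Ω) ∧
      γ (u⁻¹ * g u) = u⁻¹ * g u * ((g u)⁻¹ * d (g u))⁻¹ := by
  set C := centralizerIn S T with hC
  have hCS : C ≤ S := inf_le_left
  set v := g u with hv
  have hv' : v ∈ C := map_mem_cent hg hfix (Subgroup.mem_zpowers u) hu
  have hQS : Q ≤ S := hQT.trans hTS
  have hQC : Q ⊔ C ≤ S := sup_le hQS hCS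
  have hwin : ∀ w ∈ C, w * (w⁻¹ * γ w) = γ w := fun w _ => mul_inv_cancel_left _ _
  have hγimg : img (Q ⊔ C) γ = Q ⊔ C := img_eq_of_map_le hQC hγ le_rfl fun z hz =>
    hγ.map_mem_of_sup (fun x hx => Subgroup.mem_sup_left (hγQ x hx)) (fun c hc => by
      rw [← hwin c hc]
      exact mul_mem (Subgroup.mem_sup_right hc) (Subgroup.mem_sup_left (hγC c hc).1)) hz
  obtain ⟨γ', hγ', hγ'1, -⟩ := hγ.exists_inv
  rw [hγimg] at hγ'
  have hW : ∀ w ∈ C, Q ⊔ Subgroup.zpowers w ≤ Q ⊔ C := fun w hw =>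
    sup_le_sup_left (Subgroup.zpowers_le.2 hw) _
  have hγW : ∀ w (hw : w ∈ C), img (Q ⊔ Subgroup.zpowers w) γ = Q ⊔ Subgroup.zpowers w := fun w hw =>
    img_eq_of_map_le ((hW w hw).trans hQC) hγ (hW w hw) fun z hz =>
      (hγ.mono (hW w hw)).map_mem_of_sup (fun x hx => Subgroup.mem_sup_left (hγQ x hx))
        (fun c hc => by
          have hcC : c ∈ C := Subgroup.zpowers_le.2 hw hc
          rw [← hwin c hcC]
          exact mul_mem (Subgroup.mem_sup_right hc) (Subgroup.mem_sup_left (hγC c hcC).1)) hz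
  have hγ'W : ∀ w ∈ C, ∀ z ∈ Q ⊔ Subgroup.zpowers w, γ' z ∈ Q ⊔ Subgroup.zpowers w := by
    intro w hw z hz
    obtain ⟨z', hz', rfl⟩ := (hγ.mono (hW w hw)).mem_img.1 ((hγW w hw).ge hz)
    rwa [hγ'1 _ (hW w hw hz')]
  have hle : Q ⊔ Subgroup.zpowers u ≤ Subgroup.zpowers u ⊔ T :=
    sup_le (hQT.trans le_sup_right) le_sup_left
  have hgm := hg.mono hle
  have hgimg : img (Q ⊔ Subgroup.zpowers u) g = Q ⊔ Subgroup.zpowers v := by
    refine le_antisymm (hgm.img_le_of_forall fun z hz =>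
      hgm.map_mem_of_sup (fun x hx => ?_) (fun c hc => ?_) hz)
      (sup_le (fun x hx => hgm.mem_img.2 ⟨x, Subgroup.mem_sup_left hx, hfix x (hQT hx)⟩)
        (Subgroup.zpowers_le.2 (hgm.mem_img.2
          ⟨u, Subgroup.mem_sup_right (Subgroup.mem_zpowers u), rfl⟩)))
    · rw [hfix x (hQT hx)]; exact Subgroup.mem_sup_left hx
    · have h1 : Subgroup.zpowers u ≤ (Subgroup.zpowers u ⊔ T) := le_sup_left
      have h2 : img (Subgroup.zpowers u) g ≤ Q ⊔ Subgroup.zpowers v := by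
        rw [img, Subgroup.closure_le]
        rintro _ ⟨z, ⟨n, rfl⟩, rfl⟩
        have e : g (u ^ n) = v ^ n := by
          obtain ⟨φ, -, hφ⟩ := id hg
          have := map_zpow φ ⟨u, h1 (Subgroup.mem_zpowers u)⟩ n
          rw [hφ, hφ, Subgroup.coe_zpow] at this
          exact this
        exact e ▸ Subgroup.mem_sup_right (Subgroup.zpow_mem_zpowers v n)
      exact h2 ((hg.mono h1).mem_img.2 ⟨c, hc, rfl⟩)
  obtain ⟨g', hg', hg'1, hg'2⟩ := hgm.exists_inv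
  rw [hgimg] at hg' hg'2
  set Z := Q ⊓ Subgroup.centralizer (Q : Set Ω)
  obtain ⟨zu, hzu⟩ : ∃ z, z = u⁻¹ * γ u := ⟨_, rfl⟩
  obtain ⟨zv, hzv⟩ : ∃ z, z = v⁻¹ * γ v := ⟨_, rfl⟩
  have hzuZ : zu ∈ Z := hzu ▸ hγC u hu
  have hzvZ : zv ∈ Z := hzv ▸ hγC v hv'
  have hγu : γ u = u * zu := by rw [hzu, mul_inv_cancel_left]
  -- the composite
  have hm1 : IsMap F (Q ⊔ Subgroup.zpowers v) (g' ∘ γ') :=
    (hγ'.mono (hW v hv')).comp hg' fun z hz => hγ'W v hv' z hz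
  have hm2 : IsMap F (Q ⊔ Subgroup.zpowers v) (γ ∘ (g' ∘ γ')) :=
    hm1.comp (hγ.mono (hW u hu)) fun z hz => (hg'2 _ (hγ'W v hv' z hz)).1
  have hm3 : IsMap F (Q ⊔ Subgroup.zpowers v) (g ∘ (γ ∘ (g' ∘ γ'))) :=
    hm2.comp hgm fun z hz => (hγW u hu).le
      ((hγ.mono (hW u hu)).mem_img.2 ⟨_, (hg'2 _ (hγ'W v hv' z hz)).1, rfl⟩)
  have hdQ : ∀ x ∈ Q, g (γ (g' (γ' x))) = x := by
    intro x hx
    have hiQ : img Q γ = Q := img_eq_of_map_le hQS hγ le_sup_left hγQ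
    obtain ⟨y, hy, rfl⟩ := (hγ.mono le_sup_left).mem_img.1 (hiQ.ge hx)
    rw [hγ'1 y (Subgroup.mem_sup_left hy)]
    have e : g' y = y := by
      have h3 := hg'1 y (Subgroup.mem_sup_left hy)
      rwa [hfix y (hQT hy)] at h3
    rw [e, hfix _ (hQT (hγQ y hy))]
  have hγv : γ v = v * zv := by rw [hzv, mul_inv_cancel_left]
  have hdγv : g (γ (g' (γ' (γ v)))) = v * zu := by
    rw [hγ'1 v (Subgroup.mem_sup_right hv'), hv,
      hg'1 u (Subgroup.mem_sup_right (Subgroup.mem_zpowers u)),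
      hγu,
      hgm.map_mul (Subgroup.mem_sup_right (Subgroup.mem_zpowers u))
        (Subgroup.mem_sup_left hzuZ.1), hfix _ (hQT hzuZ.1)]
  set d := g ∘ (γ ∘ (g' ∘ γ')) with hd
  have hdv : d v = v * (zu * zv⁻¹) := by
    have h1 : d (v * zv) = v * zu := by rw [← hγv]; exact hdγv
    rw [hm3.map_mul (Subgroup.mem_sup_right (Subgroup.mem_zpowers v))
      (Subgroup.mem_sup_left hzvZ.1), show d zv = zv from hdQ _ hzvZ.1] at h1
    rw [← mul_assoc, ← h1, mul_inv_cancel_right]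
  refine ⟨d, hm3, hdQ, ?_, ?_⟩
  · rw [hdv, inv_mul_cancel_left]
    exact mul_mem hzuZ (inv_mem hzvZ)
  · rw [hdv, inv_mul_cancel_left, hγ.map_mul (inv_mem (Subgroup.mem_sup_right hu))
      (Subgroup.mem_sup_right hv'), hγ.map_inv (Subgroup.mem_sup_right hu), hγv,
      hγu, mul_inv_rev, mul_inv_rev, inv_inv]
    have hxC : u⁻¹ * v ∈ C := mul_mem (inv_mem hu) hv'
    have e1 := Subgroup.mem_centralizer_iff.1 hxC.2 zu⁻¹ (T.inv_mem (hQT hzuZ.1))
    have e2 := Subgroup.mem_centralizer_iff.1 hzuZ.2 zv hzvZ.1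
    calc zu⁻¹ * u⁻¹ * (v * zv) = zu⁻¹ * (u⁻¹ * v) * zv := by group
      _ = u⁻¹ * v * (zu⁻¹ * zv) := by rw [e1]; group
      _ = u⁻¹ * v * (zv * zu⁻¹) := by
        congr 1
        calc zu⁻¹ * zv = zu⁻¹ * (zv * zu) * zu⁻¹ := by group
          _ = zu⁻¹ * (zu * zv) * zu⁻¹ := by rw [e2]
          _ = _ := by group

/-- The automorphisms fixing `Q` and moving by central elements of `W` inside `Q`. -/
noncomputable def stab (F : FusionSystem S) (W Q : Subgroup Ω)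
    (hQW : Q ≤ W) (hZ : Q ⊓ Subgroup.centralizer (Q : Set Ω) ≤ Subgroup.centralizer (W : Set Ω)) :
    Subgroup (MulAut W) where
  carrier := {a | a ∈ F.autGroup W ∧ (∀ x ∈ Q, autFun a x = x) ∧
    ∀ x ∈ W, x⁻¹ * autFun a x ∈ Q ⊓ Subgroup.centralizer (Q : Set Ω)}
  one_mem' := ⟨one_mem _, fun x hx => autFun_one (hQW hx), fun x hx => by
    rw [autFun_one hx, inv_mul_cancel]; exact one_mem _⟩
  mul_mem' := fun {a b} ⟨ha, ha1, ha2⟩ ⟨hb, hb1, hb2⟩ => ⟨mul_mem ha hb, fun x hx => by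
    rw [autFun_mul _ _ (hQW hx), hb1 x hx, ha1 x hx], fun x hx => by
    have h2 := hb2 x hx
    rw [autFun_mul _ _ hx, show autFun b x = x * (x⁻¹ * autFun b x) by group,
      autFun_map_mul a hx (hQW h2.1), ha1 _ h2.1, ← mul_assoc]
    exact mul_mem (ha2 x hx) h2⟩
  inv_mem' := fun {a} ⟨ha, ha1, ha2⟩ => ⟨inv_mem ha, fun x hx => by
    conv_lhs => rw [← ha1 x hx]
    rw [autFun_map_inv a (hQW hx)], fun x hx => by
    have hy := autFun_mem a⁻¹ hx
    have h1 := inv_mem (ha2 _ hy)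
    rwa [autFun_inv_apply a hx, mul_inv_rev, inv_inv] at h1⟩

theorem isPGroup_stab [Fact p.Prime] (hS : IsPGroup p S) (hWS : W ≤ S) {hQW : Q ≤ W}
    {hZ : Q ⊓ Subgroup.centralizer (Q : Set Ω) ≤ Subgroup.centralizer (W : Set Ω)} :
    IsPGroup p (stab F W Q hQW hZ) := by
  obtain ⟨n, hn⟩ := hS.exists_card_eq
  rintro ⟨a, ha, ha1, ha2⟩
  refine ⟨n, Subtype.ext (autFun_ext fun x hx => ?_)⟩
  show autFun (a ^ p ^ n) x = autFun (1 : MulAut W) x
  obtain ⟨e, he⟩ : ∃ e, e = x⁻¹ * autFun a x := ⟨_, rfl⟩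
  have heZ : e ∈ Q ⊓ Subgroup.centralizer (Q : Set Ω) := he ▸ ha2 x hx
  have hax : autFun a x = x * e := by rw [he, mul_inv_cancel_left]
  have key : ∀ j : ℕ, autFun (a ^ j) x = x * e ^ j := by
    intro j
    induction j with
    | zero => simp [autFun_one hx]
    | succ j ih =>
      rw [pow_succ', autFun_mul _ _ hx, ih, autFun_map_mul a hx (pow_mem (hQW heZ.1) j),
        ha1 _ (pow_mem heZ.1 j), hax,
        mul_assoc, ← pow_succ']
  have he1 : e ^ p ^ n = 1 := by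
    rw [← hn]
    exact congrArg Subtype.val
      (pow_card_eq_one' (x := (⟨e, hWS (hQW heZ.1)⟩ : S)))
  rw [key, he1, mul_one, autFun_one hx]

variable [Fact p.Prime]

/-- Over a subgroup containing its centralizer in `T`, the defect commutes with `N_T(Q)`. -/
theorem commute_defect (hS : IsPGroup p S) (hF : F.IsSaturated p) (hT : F.StronglyClosed T)
    (hQT : Q ≤ T) (hQc : ∀ f, IsMap F Q f → centralizerIn T (img Q f) ≤ img Q f)
    {v : Ω} (hv : v ∈ centralizerIn S T) {d : Ω → Ω}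
    (hd : IsMap F (Q ⊔ Subgroup.zpowers v) d) (hdQ : ∀ x ∈ Q, d x = x)
    (hdv : v⁻¹ * d v ∈ Q ⊓ Subgroup.centralizer (Q : Set Ω))
    {t : Ω} (ht : t ∈ normalizerIn T Q) : Commute t (v⁻¹ * d v) := by
  have hTS := hT.1
  set W := Q ⊔ Subgroup.zpowers v with hWdef
  have hQW : Q ≤ W := le_sup_left
  have hvW : v ∈ W := Subgroup.mem_sup_right (Subgroup.mem_zpowers v)
  have hWS : W ≤ S := hd.le
  set Z := Q ⊓ Subgroup.centralizer (Q : Set Ω) with hZdef
  have hvT : ∀ z ∈ T, Commute z v := fun z hz => Subgroup.mem_centralizer_iff.1 hv.2 z hz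
  have hZ : Z ≤ Subgroup.centralizer (W : Set Ω) := by
    intro z hz
    have h : W ≤ Subgroup.centralizer {z} := sup_le
      (fun x hx => Subgroup.mem_centralizer_singleton_iff.2
        (Subgroup.mem_centralizer_iff.1 hz.2 x hx))
      (Subgroup.zpowers_le.2 (Subgroup.mem_centralizer_singleton_iff.2 (hvT z (hQT hz.1)).symm.eq))
    exact Subgroup.mem_centralizer_iff.2 fun x hx =>
      Subgroup.mem_centralizer_singleton_iff.1 (h hx)
  haveI := finite_of_le hWS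
  haveI := finite_mulAut (P := W)
  let L : Subgroup Ω :=
    { carrier := {x | x ∈ W ∧ x⁻¹ * d x ∈ Z}
      one_mem' := ⟨one_mem _, by rw [hd.map_one, inv_mul_cancel]; exact one_mem _⟩
      mul_mem' := fun {a b} ⟨ha, ha'⟩ ⟨hb, hb'⟩ => ⟨mul_mem ha hb, by
        have e : (a * b)⁻¹ * d (a * b) = b⁻¹ * (a⁻¹ * d a) * d b := by
          rw [hd.map_mul ha hb]; group
        rw [e, Subgroup.mem_centralizer_iff.1 (hZ ha') b⁻¹ (inv_mem hb), mul_assoc]
        exact mul_mem ha' hb'⟩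
      inv_mem' := fun {a} ⟨ha, ha'⟩ => ⟨inv_mem ha, by
        rw [hd.map_inv ha, inv_inv]
        have h1 := inv_mem ha'
        have e : a * (d a)⁻¹ = a * ((a⁻¹ * d a)⁻¹ * a⁻¹) := by group
        rw [e, ← Subgroup.mem_centralizer_iff.1 (hZ h1) a⁻¹ (inv_mem ha), ← mul_assoc,
          mul_inv_cancel, one_mul]
        exact h1⟩ }
  have hL : W ≤ L := sup_le (fun x hx => ⟨hQW hx, by
    rw [hdQ x hx, inv_mul_cancel]; exact one_mem _⟩) (Subgroup.zpowers_le.2 ⟨hvW, hdv⟩)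
  have hdW : img W d = W := img_eq_of_map_le hWS hd le_rfl fun x hx => by
    have h1 := mul_mem hx (hQW (hL hx).2.1)
    rwa [mul_inv_cancel_left] at h1
  set a := autOf hd hdW
  have haK : a ∈ stab F W Q hQW hZ := ⟨autOf_mem hd hdW,
    fun x hx => (autFun_autOf hd hdW (hQW hx)).trans (hdQ x hx), fun x hx => by
      rw [autFun_autOf hd hdW hx]; exact (hL hx).2⟩
  -- `t` acts on `W`
  have hconjW : ∀ s : Ω, s ∈ T → s ∈ Subgroup.normalizer (Q : Set Ω) →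
      W ≤ W.comap (MulAut.conj s).toMonoidHom := fun s hsT hsn => sup_le
    (fun x hx => hQW ((Subgroup.mem_normalizer_iff.1 hsn x).1 hx))
    (Subgroup.zpowers_le.2 (show s * v * s⁻¹ ∈ W by
      rw [(hvT s hsT).eq, mul_inv_cancel_right]; exact hvW))
  have htW : t ∈ Subgroup.normalizer (W : Set Ω) := by
    rw [Subgroup.mem_normalizer_iff]
    refine fun x => ⟨fun hx => hconjW t ht.1 ht.2 hx, fun hx => ?_⟩
    have h1 := hconjW t⁻¹ (inv_mem ht.1) (inv_mem ht.2) hx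
    simpa [mul_assoc] using h1
  set c := conjAut t htW with hc
  have hcF : c ∈ autInducedBy S W := conjAut_mem (hTS ht.1) htW
  have hnorm : Subgroup.zpowers c ≤ Subgroup.normalizer (stab F W Q hQW hZ : Set (MulAut W)) := by
    refine Subgroup.zpowers_le.2 ?_
    have key : ∀ (s : Ω) (hs : s ∈ Subgroup.normalizer (W : Set Ω)), s ∈ S →
        s ∈ Subgroup.normalizer (Q : Set Ω) → ∀ b ∈ stab F W Q hQW hZ,
        conjAut s hs * b * (conjAut s hs)⁻¹ ∈ stab F W Q hQW hZ := by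
      intro s hs hsS hsQ b ⟨hb, hb1, hb2⟩
      have hsF : conjAut s hs ∈ F.autGroup W :=
        autInducedBy_le_autGroup hWS (conjAut_mem hsS hs)
      have hval : ∀ x ∈ W, autFun (conjAut s hs * b * (conjAut s hs)⁻¹) x =
          s * autFun b (s⁻¹ * x * s⁻¹⁻¹) * s⁻¹ := fun x hx => by
        rw [autFun_mul _ _ hx, autFun_mul _ _ (autFun_mem _ hx), ← conjAut_inv' hs,
          autFun_conjAut _ hx, autFun_conjAut hs (autFun_mem b
            ((Subgroup.mem_normalizer_iff.1 (inv_mem hs) x).1 hx))]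
      refine ⟨mul_mem (mul_mem hsF hb) (inv_mem hsF), fun x hx => ?_, fun x hx => ?_⟩
      · rw [hval x (hQW hx), hb1 _ ((Subgroup.mem_normalizer_iff.1 (inv_mem hsQ) x).1 hx)]
        group
      · have h2 := hb2 _ ((Subgroup.mem_normalizer_iff.1 (inv_mem hs) x).1 hx)
        have e : x⁻¹ * autFun (conjAut s hs * b * (conjAut s hs)⁻¹) x =
            s * ((s⁻¹ * x * s⁻¹⁻¹)⁻¹ * autFun b (s⁻¹ * x * s⁻¹⁻¹)) * s⁻¹ := by
          rw [hval x hx]; group
        rw [e]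
        set z := (s⁻¹ * x * s⁻¹⁻¹)⁻¹ * autFun b (s⁻¹ * x * s⁻¹⁻¹)
        refine ⟨(Subgroup.mem_normalizer_iff.1 hsQ z).1 h2.1,
          Subgroup.mem_centralizer_iff.2 fun y hy => ?_⟩
        have hy' : s⁻¹ * y * s⁻¹⁻¹ ∈ Q := (Subgroup.mem_normalizer_iff.1 (inv_mem hsQ) y).1 hy
        calc y * (s * z * s⁻¹) = s * ((s⁻¹ * y * s⁻¹⁻¹) * z) * s⁻¹ := by group
          _ = s * (z * (s⁻¹ * y * s⁻¹⁻¹)) * s⁻¹ := by
            rw [Subgroup.mem_centralizer_iff.1 h2.2 _ hy']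
          _ = _ := by group
    rw [Subgroup.mem_normalizer_iff]
    refine fun b => ⟨key t htW (hTS ht.1) ht.2 b, fun hb => ?_⟩
    have h1 := key t⁻¹ (inv_mem htW) (inv_mem (hTS ht.1)) (inv_mem ht.2) _ hb
    rw [conjAut_inv' htW, show (conjAut t htW)⁻¹ * (c * b * c⁻¹) * (conjAut t htW)⁻¹⁻¹ = b by
      rw [hc]; group] at h1
    exact h1
  have hKF : stab F W Q hQW hZ ≤ F.autGroup W := fun b hb => hb.1
  have hA : IsPGroup p (stab F W Q hQW hZ ⊔ Subgroup.zpowers c : Subgroup (MulAut W)) :=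
    (isPGroup_stab hS hWS).to_sup_of_normal_left'
      ((isPGroup_autInducedBy hS).to_le (Subgroup.zpowers_le.2 hcF)) hnorm
  obtain ⟨θ, hθ, hθn, hθA⟩ := exists_conj_pAut hS hF hWS hA
    (sup_le hKF ((Subgroup.zpowers_le.2 hcF).trans (autInducedBy_le_autGroup hWS)))
  obtain ⟨y, ⟨hyS, -⟩, hye⟩ := hθA a (Subgroup.mem_sup_left haK)
  obtain ⟨s, ⟨hsS, -⟩, hse⟩ := hθA c (Subgroup.mem_sup_right (Subgroup.mem_zpowers c))
  obtain ⟨θ₁, hθ₁, hθ₁e⟩ :=
    (isReceptive_iff.1 (IsSaturated.automized_receptive hS hF hθn).2).2 W θ hθ rfl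
  have htext : t ∈ extSub S W θ := ⟨⟨hTS ht.1, htW⟩, s, hsS, fun x hx => by
    rw [← autFun_conjAut htW hx]; exact hse x hx⟩
  have hWext : W ≤ extSub S W θ := le_extSub hθ
  set t' := θ₁ t
  have ht' : t' ∈ T := (stronglyClosed_iff.1 hT).2 (Subgroup.zpowers t) θ₁
    (Subgroup.zpowers_le.2 ht.1) (hθ₁.mono (Subgroup.zpowers_le.2 htext)) t
    (Subgroup.mem_zpowers t)
  have hct : ∀ x ∈ W, θ (t * x * t⁻¹) = t' * θ x * t'⁻¹ := fun x hx => by
    rw [← hθ₁e x hx, ← hθ₁e _ ((Subgroup.mem_normalizer_iff.1 htW x).1 hx),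
      hθ₁.map_conj htext (hWext hx)]
  have hθQ := hθ.mono hQW
  set Q' := img Q θ with hQ'
  have hQ'T : Q' ≤ T := hθQ.img_le_of_forall fun x hx =>
    (stronglyClosed_iff.1 hT).2 Q θ hQT hθQ x hx
  have hyQ : ∀ x ∈ Q', y * x = x * y := by
    intro x hx
    obtain ⟨q, hq, rfl⟩ := hθQ.mem_img.1 hx
    have h1 := hye q (hQW hq)
    rw [autFun_autOf hd hdW (hQW hq), hdQ q hq] at h1
    conv_rhs => rw [h1]
    group
  have htQ' : ∀ x ∈ Q', t'⁻¹ * x * t' ∈ Q' := by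
    intro x hx
    obtain ⟨q, hq, rfl⟩ := hθQ.mem_img.1 hx
    have hq' : t⁻¹ * q * t ∈ Q := by
      have := (Subgroup.mem_normalizer_iff.1 (inv_mem ht.2) q).1 hq
      rwa [inv_inv] at this
    have h1 := hct _ (hQW hq')
    rw [show t * (t⁻¹ * q * t) * t⁻¹ = q by group] at h1
    refine hθQ.mem_img.2 ⟨_, hq', ?_⟩
    rw [h1]; group
  -- the commutator of `y` and `t'` is central in the image
  set k := t'⁻¹ * y⁻¹ * t' * y with hk
  have hkT : k ∈ T := by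
    rw [show k = t'⁻¹ * (y⁻¹ * t' * y⁻¹⁻¹) by rw [hk]; group]
    exact mul_mem (inv_mem ht') ((Subgroup.mem_normalizer_iff.1
      (le_normalizerIn_of_stronglyClosed hT (inv_mem hyS)).2 t').1 ht')
  have hkQ : k ∈ centralizerIn T Q' := by
    refine ⟨hkT, Subgroup.mem_centralizer_iff.2 fun x hx => ?_⟩
    have e2 := hyQ x hx
    have hx' : t' * x * t'⁻¹ ∈ Q' := by
      obtain ⟨q, hq, rfl⟩ := hθQ.mem_img.1 hx
      exact hθQ.mem_img.2 ⟨_, (Subgroup.mem_normalizer_iff.1 ht.2 q).1 hq, hct q (hQW hq)⟩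
    have e3 := hyQ _ hx'
    calc x * k = t'⁻¹ * (t' * x * t'⁻¹ * y⁻¹) * t' * y := by rw [hk]; group
      _ = t'⁻¹ * (y⁻¹ * (y * (t' * x * t'⁻¹)) * y⁻¹) * t' * y := by group
      _ = t'⁻¹ * (y⁻¹ * (t' * x * t'⁻¹)) * t' * y := by rw [e3]; group
      _ = t'⁻¹ * y⁻¹ * t' * (x * y) := by group
      _ = k * x := by rw [← e2, hk]; group
  have hkQ' : k ∈ Q' := hQc θ hθQ hkQ
  have hk3 : k ∈ Subgroup.centralizer (img W θ : Set Ω) := by
    obtain ⟨q, hq, hqk⟩ := hθQ.mem_img.1 hkQ'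
    have hqZ : q ∈ Z := ⟨hq, Subgroup.mem_centralizer_iff.2 fun z hz => by
      refine hθ.inj (mul_mem (hQW hz) (hQW hq)) (mul_mem (hQW hq) (hQW hz)) ?_
      rw [hθ.map_mul (hQW hz) (hQW hq), hθ.map_mul (hQW hq) (hQW hz), hqk]
      exact Subgroup.mem_centralizer_iff.1 hkQ.2 _ (hθQ.mem_img.2 ⟨z, hz, rfl⟩)⟩
    refine Subgroup.mem_centralizer_iff.2 fun w hw => ?_
    obtain ⟨z, hz, rfl⟩ := hθ.mem_img.1 hw
    have := hθ.map_commute hz (hQW hq) (Subgroup.mem_centralizer_iff.1 (hZ hqZ) z hz)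
    rw [hqk] at this
    exact this.eq
  -- conjugation by `t` commutes with `d`
  have hvt : t * v * t⁻¹ = v := by rw [(hvT t ht.1).eq, mul_inv_cancel_right]
  have hdvW : d v ∈ W := hdW.le (hd.mem_img.2 ⟨v, hvW, rfl⟩)
  have h1 : θ (t * d v * t⁻¹) = θ (d v) := by
    rw [hct _ hdvW]
    have e1 : θ (d v) = y * θ v * y⁻¹ := by
      rw [← autFun_autOf hd hdW hvW]; exact hye v hvW
    have e2 : t' * θ v * t'⁻¹ = θ v := by rw [← hct v hvW, hvt]
    rw [e1]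
    set w := θ v
    have e3 : w * k = k * w :=
      Subgroup.mem_centralizer_iff.1 hk3 w (hθ.mem_img.2 ⟨v, hvW, rfl⟩)
    have hty : y * t' = t' * y * k⁻¹ := by rw [hk]; group
    calc t' * (y * w * y⁻¹) * t'⁻¹ = (t' * y) * w * (t' * y)⁻¹ := by group
      _ = (y * t' * k) * w * (y * t' * k)⁻¹ := by rw [hty, inv_mul_cancel_right]
      _ = y * t' * (k * w) * k⁻¹ * t'⁻¹ * y⁻¹ := by group
      _ = y * (t' * w * t'⁻¹) * y⁻¹ := by rw [← e3]; group
      _ = y * w * y⁻¹ := by rw [e2]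
  have h2 := hθ.inj ((Subgroup.mem_normalizer_iff.1 htW _).1 hdvW) hdvW h1
  show t * (v⁻¹ * d v) = v⁻¹ * d v * t
  calc t * (v⁻¹ * d v) = (t * v * t⁻¹)⁻¹ * (t * d v * t⁻¹) * t := by group
    _ = v⁻¹ * d v * t := by rw [hvt, h2]
where
  conjAut_inv' {a : Ω} {R : Subgroup Ω} (ha : a ∈ Subgroup.normalizer (R : Set Ω)) :
      conjAut a⁻¹ (inv_mem ha) = (conjAut a ha)⁻¹ := map_inv R.normalizerMonoidHom ⟨a, ha⟩

end CfsgLib.Fusion.CentFocal
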