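import Cfsg.Agent.Lib.Fusion.System.Factor
import Cfsg.Agent.Lib.Fusion.System.Functor
import Cfsg.Agent.Lib.Fusion.System.Hyperfocal
import Cfsg.Agent.Lib.Fusion.System.TransferApps

/-!
A perfect saturated system has trivial second centre: commutation with an element of the second centre kills the
hyperfocal subgroup, and an automorphism of order prime to `p` centralizing `Z₂ / Z` and `Z` centralizes `Z₂`.
-/

set_option autoImplicit false

namespace CfsgLib.Fusion.PerfectCenter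

open Cfsg (FusionSystem)
open Cfsg.FusionSystem (normalizerIn centralizerIn preimageAlong imageAlong InducedAlong IsFactorSystem)
open scoped Classical

variable {Ω : Type*} [Group Ω] {S : Subgroup Ω} {F : FusionSystem S} {p : ℕ}
variable {Ω' : Type*} [Group Ω'] {θ : S →* Ω'} {S' : Subgroup Ω'} {E : FusionSystem S'}

theorem preimage_bot (hE : F.IsFactorSystem F.center θ E) : preimageAlong θ ⊥ = F.center := by
  obtain ⟨hZS, hker, -, -⟩ := hE
  ext x
  rw [mem_preimageAlong, Subgroup.mem_bot]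
  constructor
  · rintro ⟨hx, h⟩
    rw [ext1_apply θ hx] at h
    exact (hker ⟨x, hx⟩).1 h
  · intro hx
    refine ⟨hZS hx, ?_⟩
    rw [ext1_apply θ (hZS hx)]
    exact (hker ⟨x, hZS hx⟩).2 hx

variable [Finite S]

/-- a map on a subgroup containing the centre induces a map of the factor system -/
theorem exists_push (hE : F.IsFactorSystem F.center θ E) {P' : Subgroup Ω'} (hP' : P' ≤ S') {f : Ω → Ω}
    (hf : IsMap F (preimageAlong θ P') f) :
    ∃ f', IsMap E P' f' ∧ ∀ x ∈ preimageAlong θ P', f' (ext1 θ x) = ext1 θ (f x) := by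
  obtain ⟨hZS, hker, hr, hhom⟩ := id hE
  have hbot := preimage_bot hE
  have hlift : ∀ u : P', ∃ x, x ∈ preimageAlong θ P' ∧ ext1 θ x = u := fun u => by
    obtain ⟨s, hs⟩ := (hr.ge (hP' u.2) : (u : Ω') ∈ θ.range)
    exact ⟨s, mem_preimageAlong.2 ⟨s.2, by rw [ext1_coe, hs]; exact u.2⟩, by rw [ext1_coe, hs]⟩
  choose l hl hle using hlift
  have hwd : ∀ x ∈ preimageAlong θ P', ∀ y ∈ preimageAlong θ P', ext1 θ x = ext1 θ y →
      ext1 θ (f x) = ext1 θ (f y) := by
    intro x hx y hy hxy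
    have hxS := preimageAlong_le θ P' hx
    have hyS := preimageAlong_le θ P' hy
    have hd : x⁻¹ * y ∈ F.center := by
      rw [← hbot, mem_preimageAlong]
      refine ⟨mul_mem (inv_mem hxS) hyS, ?_⟩
      rw [Subgroup.mem_bot, ext1_mul θ (inv_mem hxS) hyS, ext1_inv θ hxS, hxy, inv_mul_cancel]
    have hdS := hZS hd
    have hd' : x⁻¹ * y ∈ preimageAlong θ P' := mul_mem (inv_mem hx) hy
    have h1 : f y = f x * (x⁻¹ * y) := by
      conv_lhs => rw [show y = x * (x⁻¹ * y) by group]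
      rw [hf.map_mul hx hd', center_fixed hf hd' hd]
    rw [h1, ext1_mul θ (hf.mem_S hx) hdS, ext1_apply θ hdS, (hker ⟨_, hdS⟩).2 hd, mul_one]
  let φ' : P' →* Ω' := MonoidHom.mk' (fun u => ext1 θ (f (l u))) fun u v => by
    rw [← ext1_mul θ (hf.mem_S (hl u)) (hf.mem_S (hl v)), ← hf.map_mul (hl u) (hl v)]
    refine hwd _ (hl _) _ (mul_mem (hl u) (hl v)) ?_
    rw [ext1_mul θ (preimageAlong_le θ P' (hl u)) (preimageAlong_le θ P' (hl v)), hle, hle, hle,
      Subgroup.coe_mul]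
  obtain ⟨φ, hφ, hφf⟩ := hf
  have hf : IsMap F (preimageAlong θ P') f := ⟨φ, hφ, hφf⟩
  have hv : ∀ x : preimageAlong θ P', φ x ∈ S := fun x => by rw [hφf x]; exact hf.mem_S x.2
  have hm : ∀ x : preimageAlong θ P', θ ⟨x, preimageAlong_le θ P' x.2⟩ ∈ P' := fun x => by
    rw [← ext1_apply θ]; exact (mem_preimageAlong.1 x.2).2
  have hkey : ∀ x : preimageAlong θ P', φ' ⟨θ ⟨x, preimageAlong_le θ P' x.2⟩, hm x⟩ = θ ⟨φ x, hv x⟩ := fun x => by
    show ext1 θ (f (l _)) = _
    rw [hwd _ (hl _) x x.2 (by rw [hle]; exact (ext1_apply θ _).symm), ext1_apply θ (hf.mem_S x.2)]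
    exact congrArg θ (Subtype.ext (hφf x).symm)
  refine ⟨toFun φ', isMap_toFun ((hhom P' φ').2 ⟨hP', φ, hφ, preimageAlong_le θ P', hv, hm, hkey⟩), fun x hx => ?_⟩
  have h1 := hkey ⟨x, hx⟩
  rw [ext1_apply θ (preimageAlong_le θ P' hx), toFun_apply φ' (hm ⟨x, hx⟩), h1, ext1_apply θ (hf.mem_S hx)]
  exact congrArg θ (Subtype.ext (hφf ⟨x, hx⟩))

/-- maps extend to the second centre, fixing it modulo the centre -/
theorem exists_extension (hE : F.IsFactorSystem F.center θ E) {P' : Subgroup Ω'} (hP' : P' ≤ S') {f : Ω → Ω}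
    (hf : IsMap F (preimageAlong θ P') f) :
    ∃ g, IsMap F (preimageAlong θ (P' ⊔ E.center)) g ∧
      (∀ x ∈ preimageAlong θ P', ext1 θ (g x) = ext1 θ (f x)) ∧
      ∀ z ∈ preimageAlong θ E.center, ext1 θ (g z) = ext1 θ z := by
  obtain ⟨hZS, hker, hr, hhom⟩ := id hE
  obtain ⟨f', hf', hf'e⟩ := exists_push hE hP' hf
  haveI : Finite S' := by
    rw [← hr]
    exact Finite.of_surjective _ θ.rangeRestrict_surjective
  obtain ⟨g', hg', hg'f, hg'c⟩ := (isCentral_iff.1 (isCentral_center (F := E))).2 P' f' hf'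
  obtain ⟨φ', hφ', hφ'g⟩ := hg'
  obtain ⟨hPc, φ, hφ, h1, h2, h3, h4⟩ := (hhom _ φ').1 hφ'
  have hval : ∀ x (hx : x ∈ preimageAlong θ (P' ⊔ E.center)), ext1 θ (toFun φ x) = g' (ext1 θ x) := fun x hx => by
    rw [toFun_apply φ hx, ext1_apply θ (h2 ⟨x, hx⟩), ← h4 ⟨x, hx⟩, hφ'g]
    exact congrArg g' (ext1_apply θ (h1 hx)).symm
  refine ⟨toFun φ, isMap_toFun hφ, fun x hx => ?_, fun z hz => ?_⟩
  · rw [hval x (preimageAlong_mono le_sup_left hx), hg'f _ (mem_preimageAlong.1 hx).2, hf'e x hx]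
  · rw [hval z (preimageAlong_mono le_sup_right hz), hg'c _ (mem_preimageAlong.1 hz).2]

variable [Fact p.Prime]

theorem center_eq_bot (hS : IsPGroup p S) (hF : F.IsSaturated p) (hperf : F.hyperfocalSubgroup p = S)
    (hE : F.IsFactorSystem F.center θ E) : E.center = ⊥ := by
  obtain ⟨hZS, hker, hr, hhom⟩ := id hE
  haveI : Finite S' := by
    rw [← hr]
    exact Finite.of_surjective _ θ.rangeRestrict_surjective
  have hbot := preimage_bot hE
  set Z2 := preimageAlong θ E.center with hZ2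
  have hZZ2 : F.center ≤ Z2 := hbot ▸ preimageAlong_mono bot_le
  have hZ2S : Z2 ≤ S := preimageAlong_le θ _
  have hmemZ : ∀ x ∈ S, ext1 θ x = 1 → x ∈ F.center := fun x hx h => by
    rw [← hbot]; exact mem_preimageAlong.2 ⟨hx, Subgroup.mem_bot.2 h⟩
  have hcong : ∀ x ∈ S, ∀ y ∈ S, ext1 θ x = ext1 θ y → x⁻¹ * y ∈ F.center := fun x hx y hy h =>
    hmemZ _ (mul_mem (inv_mem hx) hy) (by rw [ext1_mul θ (inv_mem hx) hy, ext1_inv θ hx, h, inv_mul_cancel])
  have hZc : ∀ c ∈ F.center, ∀ s ∈ S, s * c = c * s := fun c hc s hs =>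
    Subgroup.mem_centralizer_iff.1 (center_le_centralizer hc) s hs
  -- the extension attached to a map on any subgroup
  have hext : ∀ (P : Subgroup Ω) (f : Ω → Ω), IsMap F P f → F.center ≤ P →
      ∃ g, IsMap F (P ⊔ Z2) g ∧ (∀ x ∈ P, (f x)⁻¹ * g x ∈ F.center) ∧ ∀ z ∈ Z2, z⁻¹ * g z ∈ F.center := by
    intro P f hf hZP
    have hk : preimageAlong θ ⊥ ≤ P := hbot.le.trans hZP
    have hpre := preimageAlong_imgι (α := θ) hf.le hk
    have hP' : imgι θ P ≤ S' := (imgι_le_range P).trans hr.le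
    obtain ⟨g, hg, hg1, hg2⟩ := exists_extension hE hP' (f := f) (by rw [hpre]; exact hf)
    rw [hpre] at hg1
    have hle : P ⊔ Z2 ≤ preimageAlong θ (imgι θ P ⊔ E.center) :=
      sup_le (hpre.symm.le.trans (preimageAlong_mono le_sup_left)) (preimageAlong_mono le_sup_right)
    refine ⟨g, hg.mono hle, fun x hx => ?_, fun z hz => ?_⟩
    · exact hcong _ (hf.mem_S hx) _ (hg.mem_S (hle (Subgroup.mem_sup_left hx))) (hg1 x hx).symm
    · exact hcong _ (hZ2S hz) _ (hg.mem_S (hle (Subgroup.mem_sup_right hz))) (hg2 z hz).symm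
  -- the second centre commutes with `S` modulo the centre
  have hcomm : ∀ z ∈ Z2, ∀ x ∈ S, z * x * z⁻¹ * x⁻¹ ∈ F.center := by
    intro z hz x hx
    have hzS := hZ2S hz
    refine hmemZ _ (mul_mem (mul_mem (mul_mem hzS hx) (inv_mem hzS)) (inv_mem hx)) ?_
    have h1 := Subgroup.mem_centralizer_iff.1 (center_le_centralizer (F := E) (mem_preimageAlong.1 hz).2)
      (ext1 θ x) (hr ▸ (by rw [ext1_apply θ hx]; exact ⟨_, rfl⟩ : ext1 θ x ∈ θ.range))
    rw [ext1_mul θ (mul_mem (mul_mem hzS hx) (inv_mem hzS)) (inv_mem hx), ext1_mul θ (mul_mem hzS hx) (inv_mem hzS),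
      ext1_mul θ hzS hx, ext1_inv θ hzS, ext1_inv θ hx, ← h1, mul_inv_cancel_right, mul_inv_cancel]
  -- the second centre is central in `S`
  have hcent : ∀ z ∈ Z2, ∀ s ∈ S, z * s = s * z := by
    intro z hz
    suffices h : F.hyperfocalSubgroup p ≤ Subgroup.centralizer {z} by
      intro s hs
      have h2 := Subgroup.mem_centralizer_singleton_iff.1 (h (hperf.ge hs))
      first | exact h2 | exact h2.symm
    refine (Subgroup.closure_le _).2 ?_
    rintro _ ⟨P, α, ⟨x, hx⟩, hP, -, rfl⟩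
    rw [SetLike.mem_coe, Subgroup.mem_centralizer_singleton_iff]
    rw [← autFun_apply (α : MulAut P) hx]
    have hα := (mem_autGroup_iff hP).1 α.2
    obtain ⟨f, hf, hff, -⟩ := (isCentral_iff.1 (isCentral_center (F := F))).2 P _ hα
    obtain ⟨g, hg, hg1, hg2⟩ := hext _ f hf le_sup_right
    have hxm : x ∈ P ⊔ F.center := Subgroup.mem_sup_left hx
    set y := autFun (α : MulAut P) x with hy
    have hfy : f x = y := hff x hx
    have hzQ : z ∈ (P ⊔ F.center) ⊔ Z2 := Subgroup.mem_sup_right hz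
    have hxQ : x ∈ (P ⊔ F.center) ⊔ Z2 := Subgroup.mem_sup_left hxm
    obtain ⟨c, hc, hgx⟩ : ∃ c ∈ F.center, g x = y * c := ⟨_, hg1 x hxm, by rw [← hfy]; group⟩
    obtain ⟨d, hd, hgz⟩ : ∃ d ∈ F.center, g z = z * d := ⟨_, hg2 z hz, by group⟩
    have hyS : y ∈ S := hα.mem_S hx
    have hzS := hZ2S hz
    have hk := hcomm z hz x (hP hx)
    have e := center_fixed hg (mul_mem (mul_mem (mul_mem hzQ hxQ) (inv_mem hzQ)) (inv_mem hxQ)) hk
    rw [hg.map_mul (mul_mem (mul_mem hzQ hxQ) (inv_mem hzQ)) (inv_mem hxQ),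
      hg.map_mul (mul_mem hzQ hxQ) (inv_mem hzQ), hg.map_mul hzQ hxQ, hg.map_inv hzQ, hg.map_inv hxQ,
      hgx, hgz] at e
    have e2 : z * d * (y * c) * (z * d)⁻¹ * (y * c)⁻¹ = z * y * z⁻¹ * y⁻¹ := by
      calc z * d * (y * c) * (z * d)⁻¹ * (y * c)⁻¹ = z * (d * (y * c)) * d⁻¹ * (z⁻¹ * c⁻¹) * y⁻¹ := by group
        _ = z * ((y * c) * d) * d⁻¹ * (c⁻¹ * z⁻¹) * y⁻¹ := by
          rw [← hZc d hd _ (mul_mem hyS (hZS hc)), ← hZc c⁻¹ (inv_mem hc) _ (inv_mem hzS)]
        _ = z * y * z⁻¹ * y⁻¹ := by group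
    rw [e2] at e
    have e3 : y * z⁻¹ * y⁻¹ = x * z⁻¹ * x⁻¹ := by
      have := congrArg (z⁻¹ * ·) e
      simpa [mul_assoc] using this
    have e4 : x⁻¹ * y * z⁻¹ = z⁻¹ * (x⁻¹ * y) := by
      calc x⁻¹ * y * z⁻¹ = x⁻¹ * (y * z⁻¹ * y⁻¹) * y := by group
        _ = z⁻¹ * (x⁻¹ * y) := by rw [e3]; group
    have e5 : x⁻¹ * y * z = z * (x⁻¹ * y) := by
      calc x⁻¹ * y * z = z * (z⁻¹ * (x⁻¹ * y)) * z := by group
        _ = z * (x⁻¹ * y * z⁻¹) * z := by rw [e4]
        _ = z * (x⁻¹ * y) := by group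
    first | exact e5 | exact e5.symm
  have hZ2c : Z2 ≤ Subgroup.centralizer (S : Set Ω) := fun z hz =>
    Subgroup.mem_centralizer_iff.2 fun s hs => (hcent z hz s hs).symm
  -- automizers of centric subgroups fix the second centre
  have hkey : ∀ R : Subgroup Ω, F.IsFullyNormalized R → F.IsCentric R →
      ∀ α ∈ F.autGroup R, ∀ z ∈ Z2, autFun α z = z := by
    intro R hRn hRc α hα z hz
    have hQR := le_of_isCentric_of_central hZ2S hZ2c hRc
    have hzR := hQR hz
    have hmove : ∀ β ∈ F.autGroup R, z⁻¹ * autFun β z ∈ F.center := by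
      intro β hβ
      have hm := (mem_autGroup_iff hRn.1).1 hβ
      obtain ⟨g, hg, hg1, hg2⟩ := hext R _ hm (hZZ2.trans hQR)
      have h := mul_mem (hg2 z hz) (inv_mem (hg1 z hzR))
      simpa [mul_assoc] using h
    haveI := finite_of_le hRn.1
    haveI := finite_mulAut (P := R)
    have hco : ∀ β : F.autGroup R, Nat.Coprime (orderOf β) p → autFun (β : MulAut R) z = z := by
      intro β hβ
      set c := z⁻¹ * autFun (β : MulAut R) z with hc
      have hcZ : c ∈ F.center := hmove β β.2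
      have hcR : c ∈ R := hQR (hZZ2 hcZ)
      have hm := (mem_autGroup_iff hRn.1).1 β.2
      have hn : ∀ n : ℕ, autFun ((β : MulAut R) ^ n) z = z * c ^ n := by
        intro n
        induction n with
        | zero => rw [pow_zero, autFun_one hzR, pow_zero, mul_one]
        | succ n ih =>
          rw [pow_succ', autFun_mul _ _ hzR, ih, hm.map_mul hzR (pow_mem hcR n),
            center_fixed hm (pow_mem hcR n) (pow_mem hcZ n), pow_succ', ← mul_assoc z, hc, mul_inv_cancel_left]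
      have h1 := hn (orderOf β)
      rw [← Subgroup.coe_pow, pow_orderOf_eq_one, Subgroup.coe_one, autFun_one hzR, left_eq_mul] at h1
      have h2 := pow_ne_one_of_not_dvd (p := p) hS (a := (⟨c, hZS hcZ⟩ : S))
        ((Fact.out : p.Prime).coprime_iff_not_dvd.1 hβ.symm) (Subtype.ext (by simpa using h1))
      exact (inv_mul_eq_one.1 (congrArg Subtype.val h2)).symm
    obtain ⟨g, hg, β, hβ, he⟩ := exists_conj_mul_residual
      (IsSaturated.automized_receptive hS hF hRn).1 ⟨α, hα⟩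
    have hβz : autFun (β : MulAut R) z = z := by
      clear he
      unfold Cfsg.pResidual at hβ
      induction hβ using Subgroup.closure_induction with
      | mem a ha => exact hco a ha
      | one => exact autFun_one hzR
      | mul a b _ _ ha hb => rw [Subgroup.coe_mul, autFun_mul _ _ hzR, hb, ha]
      | inv a _ ha =>
        conv_lhs => rw [← ha]
        rw [← autFun_mul _ _ hzR, Subgroup.coe_inv, inv_mul_cancel, autFun_one hzR]
    have h1 := he z hzR
    rw [hβz, ← hcent z hz g hg.1, mul_inv_cancel_right] at h1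
    exact h1
  -- hence it is central
  have hZ2cen : F.IsCentral Z2 := by
    refine isCentral_of_fixed hS hF hZ2S fun R f hf x hx hxQ => ?_
    refine (isMap_fixSystem_iff.1 (isMap_of_autGroup_le (E := fixSystem F Z2 hZ2c) hS hF (fun P hP => ?_) hf)).2
      x hx (Or.inl hxQ)
    have hPn : F.IsFullyNormalized P := hP.elim (fun e => by subst e; exact isFullyNormalized_self) fun e => e.2.1
    have hPc : F.IsCentric P := hP.elim (fun e => e ▸ isCentric_self F) fun e => e.1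
    intro α hα
    exact (mem_autGroup_iff hPn.1).2 (isMap_fixSystem_iff.2 ⟨(mem_autGroup_iff hPn.1).1 hα,
      fixOn_of_le ((mem_autGroup_iff hPn.1).1 hα) (le_of_isCentric_of_central hZ2S hZ2c hPc) (hkey P hPn hPc α hα)⟩)
  refine (Subgroup.eq_bot_iff_forall _).2 fun u hu => ?_
  obtain ⟨s, rfl⟩ := (hr.ge ((isCentral_center (F := E)).1 hu) : u ∈ θ.range)
  refine (hker s).2 ((le_sSup hZ2cen : Z2 ≤ F.center) (mem_preimageAlong.2 ⟨s.2, ?_⟩))
  rwa [ext1_coe]

end CfsgLib.Fusion.PerfectCenter
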