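import Cfsg.Agent.Lib.Fusion.System.CentralizerFocal
import Cfsg.Agent.Lib.Fusion.System.Components.Existence

/-!
# A normal subsystem lies in the centralizer of the focal subgroup of `C_F(T)`
-/

set_option autoImplicit false
set_option maxHeartbeats 1000000
set_option linter.style.haveILetI false
set_option linter.unusedSectionVars false

open Subgroup
open scoped Classical

namespace CfsgLib.Fusion.CentFocal

open Cfsg (FusionSystem autInducedBy)
open Cfsg.FusionSystem (normalizerIn centralizerIn)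
open CfsgLib.Fusion
open CfsgLib.Fusion.PPrimeChar (ExtTriv Setup)

universe u

variable {Ω : Type u} [Group Ω] {S T : Subgroup Ω} {F : FusionSystem S} {E : FusionSystem T}
  {p : ℕ} {P Q : Subgroup Ω} {f : Ω → Ω} {G : Set Ω} [Finite S] [Fact p.Prime]

/-- Generators of a subgroup of `C_S(T)` to be centralized by `E`: each is moved by every
extension of a map of `E` only by a defect. -/
structure FixSet (F : FusionSystem S) (E : FusionSystem T) (G : Set Ω) : Prop where
  sub : G ⊆ (centralizerIn S T : Set Ω)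
  inv : ∀ (A : Ω → Ω), IsMap F (T ⊔ centralizerIn S T) A → img T A = T →
    ∀ y ∈ G, A y ∈ Subgroup.closure G
  defect : ∀ (Q : Subgroup Ω) (γ : Ω → Ω), Q ≤ T → IsMap F (Q ⊔ centralizerIn S T) γ →
    (∀ x ∈ Q, γ x ∈ Q) → IsMap E Q γ →
    (∀ c ∈ centralizerIn S T, c⁻¹ * γ c ∈ Q ⊓ Subgroup.centralizer (Q : Set Ω)) →
    ∀ y ∈ G, ∃ v ∈ centralizerIn S T, ∃ d, IsMap F (Q ⊔ Subgroup.zpowers v) d ∧
      (∀ x ∈ Q, d x = x) ∧ v⁻¹ * d v ∈ Q ⊓ Subgroup.centralizer (Q : Set Ω) ∧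
      γ y = y * (v⁻¹ * d v)⁻¹

theorem FixSet.le {G : Set Ω} (h : FixSet F E G) : Subgroup.closure G ≤ centralizerIn S T :=
  (Subgroup.closure_le _).2 h.sub

/-- The focal generators form such a set. -/
theorem fixSet_gens (hT : F.StronglyClosed T) : FixSet F E (gens F T) := by
  have hTS := hT.1
  set C := centralizerIn S T with hC
  refine ⟨fun y hy => focal_le (Subgroup.subset_closure hy), fun A hAW hATi z hz => ?_,
    fun Q γ hQT hγ hγQ _ hγC y hy => ?_⟩
  · obtain ⟨u, hu, g, hg, hfix, rfl⟩ := hz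
    set W := T ⊔ C
    have hTW : T ≤ W := le_sup_left
    have hCW : C ≤ W := le_sup_right
    have hAC : ∀ x ∈ C, A x ∈ C := fun x hx => by
      have h := map_mem_centralizerIn hAW hTW (hCW hx) hx.2
      rwa [hATi] at h
    have hv : g u ∈ C := map_mem_cent hg hfix (Subgroup.mem_zpowers u) hu
    obtain ⟨A', hA', hA'1, -⟩ := hAW.exists_inv
    have hle : Subgroup.zpowers u ⊔ T ≤ W := sup_le (Subgroup.zpowers_le.2 (hCW hu)) hTW
    have hgW : ∀ z ∈ Subgroup.zpowers u ⊔ T, g z ∈ W := fun z hz =>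
      hg.map_mem_of_sup (fun x hx => hCW (map_mem_cent hg hfix hx (Subgroup.zpowers_le.2 hu hx)))
        (fun x hx => by rw [hfix x hx]; exact hTW hx) hz
    have hsrc : Subgroup.zpowers (A u) ⊔ T ≤ img (Subgroup.zpowers u ⊔ T) A :=
      sup_le (Subgroup.zpowers_le.2 ((hAW.mono hle).mem_img.2
        ⟨u, Subgroup.mem_sup_left (Subgroup.mem_zpowers u), rfl⟩))
        (hATi.ge.trans ((hAW.mono hle).img_mono le_sup_right))
    have hm : IsMap F (Subgroup.zpowers (A u) ⊔ T) (A ∘ (g ∘ A')) := by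
      have hs : img (Subgroup.zpowers u ⊔ T) A ≤ img W A := hAW.img_mono hle
      refine ((((hA'.mono hs).comp hg fun z hz => ?_).comp hAW fun z hz => ?_)).mono hsrc
      all_goals obtain ⟨x, hx, rfl⟩ := (hAW.mono hle).mem_img.1 hz
      · rwa [hA'1 x (hle hx)]
      · show g (A' (A x)) ∈ W
        rw [hA'1 x (hle hx)]
        exact hgW x hx
    refine Subgroup.subset_closure ⟨A u, hAC u hu, A ∘ (g ∘ A'), hm, fun t ht => ?_, ?_⟩
    · obtain ⟨x, hx, rfl⟩ := (hAW.mono hTW).mem_img.1 (hATi.ge ht)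
      show A (g (A' (A x))) = A x
      rw [hA'1 x (hTW hx), hfix x hx]
    · show A (u⁻¹ * g u) = (A u)⁻¹ * A (g (A' (A u)))
      rw [hA'1 u (hCW hu), hAW.map_mul (inv_mem (hCW hu)) (hCW hv), hAW.map_inv (hCW hu)]
  · obtain ⟨u, hu, g, hg, hfix, rfl⟩ := hy
    obtain ⟨d, hd, hdQ, hev, hγx⟩ := exists_defect hTS hQT hγ hγQ hγC hu hg hfix
    exact ⟨g u, map_mem_cent hg hfix (Subgroup.mem_zpowers u) hu, d, hd, hdQ, hev, hγx⟩

/-- The maps fixing the focal subgroup are invariant under `Aut_F(T)`. -/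
theorem transport_fix (hS : IsPGroup p S) (hF : F.IsSaturated p) (hT : F.StronglyClosed T)
    (hG : FixSet F E G) {a : MulAut T} (ha : a ∈ F.autGroup T)
    (hf : IsMap (fixSystem F T (Subgroup.closure G) hT.1 hG.le) P f) :
    ∃ k, IsMap (fixSystem F T (Subgroup.closure G) hT.1 hG.le) (img P (autFun a)) k ∧
      ∀ x ∈ P, k (autFun a x) = autFun a (f x) := by
  have hTS := hT.1
  set C := centralizerIn S T with hC
  set W := T ⊔ C with hW
  have hTW : T ≤ W := le_sup_left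
  have hCW : C ≤ W := le_sup_right
  have hWS : W ≤ S := sup_le hTS inf_le_left
  have ham := (mem_autGroup_iff hTS).1 ha
  obtain ⟨-, hrec⟩ := IsSaturated.automized_receptive hS hF
    (Envelope.isFullyNormalized_of_normalized hTS
      ((le_normalizerIn_of_stronglyClosed hT).trans inf_le_right))
  obtain ⟨A, hA, hAa⟩ := (isReceptive_iff.1 hrec).2 T _ ham (img_autFun a)
  have hAW : IsMap F W A := hA.mono (sup_le (le_extSub ham) centralizerIn_le_extSub)
  have hAT : ∀ x ∈ T, A x ∈ T := fun x hx => hAa x hx ▸ autFun_mem a hx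
  have hAC : ∀ x ∈ C, A x ∈ C := fun x hx => by
    have h := map_mem_centralizerIn hAW hTW (hCW hx) hx.2
    rwa [IsMap.img_congr hAa, img_autFun] at h
  have hAi : img W A = W := img_eq_of_map_le hWS hAW le_rfl fun z hz =>
    hAW.map_mem_of_sup (fun x hx => hTW (hAT x hx)) (fun x hx => hCW (hAC x hx)) hz
  have hATi : img T A = T := img_eq_of_map_le hTS hAW hTW hAT
  obtain ⟨A', hA', hA'1, -⟩ := hAW.exists_inv
  rw [hAi] at hA'
  have hX := hG.le
  have hgen : ∀ y ∈ (Subgroup.closure G), A y ∈ (Subgroup.closure G) := by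
    intro y hy
    have key : y ∈ W ∧ A y ∈ (Subgroup.closure G) := by
      let K : Subgroup Ω :=
        { carrier := {y | y ∈ W ∧ A y ∈ (Subgroup.closure G)}
          one_mem' := ⟨one_mem _, by rw [hAW.map_one]; exact one_mem _⟩
          mul_mem' := fun {a b} ⟨ha, hga⟩ ⟨hb, hgb⟩ => ⟨mul_mem ha hb, by
            rw [hAW.map_mul ha hb]; exact mul_mem hga hgb⟩
          inv_mem' := fun {a} ⟨ha, hga⟩ => ⟨inv_mem ha, by
            rw [hAW.map_inv ha]; exact inv_mem hga⟩ }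
      exact (Subgroup.closure_le K).2 (fun z hz => (⟨hCW (hG.sub hz), hG.inv A hAW hATi z hz⟩ :
        z ∈ W ∧ A z ∈ Subgroup.closure G)) hy
    exact key.2
  have hXi : img ((Subgroup.closure G)) A = (Subgroup.closure G) :=
    img_eq_of_map_le (hX.trans inf_le_left) hAW (hX.trans hCW) hgen
  obtain ⟨hP, hfT, g, hg, hgf, hgX⟩ := isMap_fixSystem_iff.1 hf
  have hPX : P ⊔ (Subgroup.closure G) ≤ W := sup_le (hP.trans hTW) (hX.trans hCW)
  have himgP : img P (autFun a) = img P A := IsMap.img_congr fun x hx => (hAa x (hP hx)).symm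
  have hsrc : img P (autFun a) ⊔ (Subgroup.closure G) ≤ img (P ⊔ (Subgroup.closure G)) A := by
    rw [himgP]
    exact sup_le ((hAW.mono hPX).img_mono le_sup_left)
      (hXi.ge.trans ((hAW.mono hPX).img_mono le_sup_right))
  have hgW : ∀ z ∈ P ⊔ (Subgroup.closure G), g z ∈ W := fun z hz =>
    hg.map_mem_of_sup (fun x hx => by rw [hgf x hx]; exact hTW (hfT x hx))
      (fun x hx => by rw [hgX x hx]; exact hCW (hX hx)) hz
  have hm : IsMap F (img P (autFun a) ⊔ (Subgroup.closure G)) (A ∘ (g ∘ A')) := by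
    have hs : img (P ⊔ (Subgroup.closure G)) A ≤ W := hAi ▸ hAW.img_mono hPX
    refine ((((hA'.mono hs).comp hg fun z hz => ?_).comp hAW fun z hz => ?_)).mono hsrc
    all_goals obtain ⟨x, hx, rfl⟩ := (hAW.mono hPX).mem_img.1 hz
    · rwa [hA'1 x (hPX hx)]
    · show g (A' (A x)) ∈ W
      rw [hA'1 x (hPX hx)]
      exact hgW x hx
  refine ⟨A ∘ (g ∘ A'), isMap_fixSystem_iff.2 ⟨?_, fun y hy => ?_, A ∘ (g ∘ A'), hm, fun _ _ => rfl,
    fun y hy => ?_⟩, fun x hx => ?_⟩
  · exact (ham.mono hP).img_le_of_forall fun x hx => autFun_mem a (hP hx)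
  · obtain ⟨x, hx, rfl⟩ := (hAW.mono (hP.trans hTW)).mem_img.1 (himgP.le hy)
    show A (g (A' (A x))) ∈ T
    rw [hA'1 x (hTW (hP hx)), hgf x hx]
    exact hAT _ (hfT x hx)
  · obtain ⟨x, hx, rfl⟩ := (hAW.mono (hX.trans hCW)).mem_img.1 (hXi.ge hy)
    show A (g (A' (A x))) = A x
    rw [hA'1 x (hCW (hX hx)), hgX x hx]
  · show A (g (A' (autFun a x))) = autFun a (f x)
    rw [← hAa x (hP hx), hA'1 x (hTW (hP hx)), hgf x hx, hAa _ (hfT x hx)]

/-- Automorphisms of `T` of order prime to `p` in `E` fix the focal subgroup. -/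
theorem fix_coprime (hS : IsPGroup p S) (hF : F.IsSaturated p) (hE : E.IsNormalIn F p)
    (hG : FixSet F E G)
    {α : MulAut T} (hα : α ∈ E.autGroup T) (hco : Nat.Coprime (orderOf α) p) :
    IsMap (fixSystem F T (Subgroup.closure G) hE.1.2.2.2.1.1 hG.le) T (autFun α) := by
  obtain ⟨⟨hEs, -, hEi⟩, -⟩ := id hE
  obtain ⟨hsub, hT, -, -⟩ := id hEi
  have hTS := hT.1
  have hinv := (isInvariantIn_iff_strongInv hS hF hsub hT).1 hEi
  set C := centralizerIn S T with hC
  set W := T ⊔ C with hW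
  have hTW : T ≤ W := le_sup_left
  have hCW : C ≤ W := le_sup_right
  have hWS : W ≤ S := sup_le hTS inf_le_left
  haveI := finite_of_le hWS
  haveI := finite_mulAut (P := W)
  obtain ⟨w, hw, hwα⟩ : ∃ w ∈ F.autGroup W, Envelope.Witness C w α :=
    Envelope.hasExt_of_normal hE hα
  set k := (orderOf w).factorization p
  obtain ⟨m, hm⟩ := exists_pow_eq_self_of_coprime (x := α) (n := p ^ k)
    (Nat.Coprime.pow_left k hco.symm)
  set γ := (w ^ p ^ k) ^ m with hγdef
  have hγF : γ ∈ F.autGroup W := pow_mem (pow_mem hw _) _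
  have hγW : Envelope.Witness C γ α := by
    have h1 := (hwα.pow hTW hCW (p ^ k)).pow hTW hCW m
    rwa [hm] at h1
  have hN : Nat.Coprime (orderOf γ) p := by
    refine Nat.Coprime.coprime_dvd_left (orderOf_pow_dvd m) ?_
    rw [orderOf_pow_of_dvd (pow_ne_zero _ (Fact.out : p.Prime).ne_zero) (Nat.ordProj_dvd _ _)]
    exact (Nat.coprime_ordCompl (Fact.out : p.Prime) (orderOf_pos w).ne').symm
  have hγm := (mem_autGroup_iff hWS).1 hγF
  have hEm := (mem_autGroup_iff le_rfl).1 hα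
  refine isMap_fixSystem_iff.2 ⟨le_rfl, fun x hx => hEm.mem_S hx, autFun γ,
    hγm.mono (sup_le hTW (hG.le.trans hCW)), hγW.1, fun y hy => fix_closure
      (hγm.mono (sup_le hTW (hG.le.trans hCW))) le_sup_right ?_ hy⟩
  intro x hxG
  obtain ⟨v, hv, d, hd, hdT, hev, hγx⟩ := hG.defect T (autFun γ) le_rfl hγm
    (fun x hx => by rw [hγW.1 x hx]; exact autFun_mem α hx) (hEm.congr fun x hx => hγW.1 x hx)
    hγW.2 x hxG
  obtain ⟨e, he⟩ : ∃ e, e = v⁻¹ * d v := ⟨_, rfl⟩
  rw [← he] at hev hγx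
  -- `e` is fixed by `α`
  have hαe : autFun α e = e := by
    set V := T ⊔ Subgroup.zpowers v
    have hTV : T ≤ V := le_sup_left
    have hvV : v ∈ V := Subgroup.mem_sup_right (Subgroup.mem_zpowers v)
    have hVS : V ≤ S := hd.le
    haveI := finite_of_le hVS
    haveI := finite_mulAut (P := V)
    have hdv : d v = v * e := by rw [he, mul_inv_cancel_left]
    have hdi : img V d = V := img_eq_of_map_le hVS hd le_rfl fun z hz =>
      hd.map_mem_of_sup (fun x hx => by rw [hdT x hx]; exact hTV hx) (fun x hx => by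
        obtain ⟨n, rfl⟩ := hx
        obtain ⟨φ, -, hφ⟩ := id hd
        have h1 := map_zpow φ ⟨v, hvV⟩ n
        rw [hφ, hφ, Subgroup.coe_zpow] at h1
        show d (v ^ n) ∈ V
        rw [show d (v ^ n) = d v ^ n from h1, hdv]
        exact V.zpow_mem (mul_mem hvV (hTV hev.1)) n) hz
    set a := autOf hd hdi with ha
    have hap : ∃ j : ℕ, a ^ p ^ j = 1 := by
      have hZ : T ⊓ Subgroup.centralizer (T : Set Ω) ≤ Subgroup.centralizer (V : Set Ω) := by
        intro z hz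
        have h : V ≤ Subgroup.centralizer {z} := sup_le
          (fun x hx => Subgroup.mem_centralizer_singleton_iff.2
            (Subgroup.mem_centralizer_iff.1 hz.2 x hx))
          (Subgroup.zpowers_le.2 (Subgroup.mem_centralizer_singleton_iff.2
            (Subgroup.mem_centralizer_iff.1 hv.2 z hz.1).symm))
        exact Subgroup.mem_centralizer_iff.2 fun x hx =>
          Subgroup.mem_centralizer_singleton_iff.1 (h hx)
      let L : Subgroup Ω :=
        { carrier := {x | x ∈ V ∧ x⁻¹ * d x ∈ T ⊓ Subgroup.centralizer (T : Set Ω)}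
          one_mem' := ⟨one_mem _, by rw [hd.map_one, inv_mul_cancel]; exact one_mem _⟩
          mul_mem' := fun {a b} ⟨ha, ha'⟩ ⟨hb, hb'⟩ => ⟨mul_mem ha hb, by
            have e : (a * b)⁻¹ * d (a * b) = b⁻¹ * (a⁻¹ * d a) * d b := by
              rw [hd.map_mul ha hb]; group
            rw [e, Subgroup.mem_centralizer_iff.1 (hZ ha') b⁻¹ (inv_mem hb), mul_assoc]
            exact mul_mem ha' hb'⟩
          inv_mem' := fun {a} ⟨ha, ha'⟩ => ⟨inv_mem ha, by
            rw [hd.map_inv ha, inv_inv]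
            have h1 := inv_mem ha'
            have e : a * (d a)⁻¹ = a * ((a⁻¹ * d a)⁻¹ * a⁻¹) := by group
            rw [e, ← Subgroup.mem_centralizer_iff.1 (hZ h1) a⁻¹ (inv_mem ha), ← mul_assoc,
              mul_inv_cancel, one_mul]
            exact h1⟩ }
      have hL : V ≤ L := sup_le (fun x hx => ⟨hTV hx, by
        rw [hdT x hx, inv_mul_cancel]; exact one_mem _⟩)
        (Subgroup.zpowers_le.2 ⟨hvV, he ▸ hev⟩)
      obtain ⟨j, hj⟩ := isPGroup_stab (W := V) (Q := T) (F := F) (hQW := hTV) (hZ := hZ) hS hVS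
        ⟨a, autOf_mem hd hdi, fun x hx => (autFun_autOf hd hdi (hTV hx)).trans (hdT x hx),
          fun x hx => by rw [autFun_autOf hd hdi hx]; exact (hL hx).2⟩
      exact ⟨j, congrArg Subtype.val hj⟩
    obtain ⟨j, hj⟩ := hap
    obtain ⟨θ, hθ, -, hθA⟩ := exists_conj_pAut hS hF hVS (isPGroup_zpowers_of_pow hj)
      (Subgroup.zpowers_le.2 (autOf_mem hd hdi))
    obtain ⟨y, ⟨hyS, -⟩, hye⟩ := hθA a (Subgroup.mem_zpowers a)
    have hθT := hθ.mono hTV
    have hθi : img T θ = T := img_eq_of_map_le hTS hθT le_rfl fun x hx =>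
      (stronglyClosed_iff.1 hT).2 T θ le_rfl hθT x hx
    have hθv : θ v ∈ C := by
      have h := map_mem_centralizerIn hθ hTV hvV hv.2
      rwa [hθi] at h
    have hyC : y ∈ C := by
      refine ⟨hyS, Subgroup.mem_centralizer_iff.2 fun x hx => ?_⟩
      obtain ⟨q, hq, rfl⟩ := hθT.mem_img.1 (hθi.ge hx)
      have h1 := hye q (hTV hq)
      rw [autFun_autOf hd hdi (hTV hq), hdT q hq] at h1
      conv_lhs => rw [h1]
      group
    have hθe : θ e = (θ v)⁻¹ * (y * θ v * y⁻¹) := by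
      rw [← hye v hvV, autFun_autOf hd hdi hvV, hdv, hθ.map_mul hvV (hTV hev.1),
        inv_mul_cancel_left]
    -- transport `α`
    set b := autOf hθT hθi with hbdef
    have hbF : b ∈ F.autGroup T := autOf_mem hθT hθi
    have hα' : b * α * b⁻¹ ∈ E.autGroup T :=
      Envelope.conj_mem_autGroup_of_strongInv hTS le_rfl hinv hbF hα
    obtain ⟨w', hw', hw'α⟩ : ∃ w' ∈ F.autGroup W, Envelope.Witness C w' (b * α * b⁻¹) :=
      Envelope.hasExt_of_normal hE hα'
    have hw'm := (mem_autGroup_iff hWS).1 hw'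
    have hyzC : ∀ c ∈ C, ∃ z ∈ T, (∀ c' ∈ C, Commute z c') ∧ autFun w' c = c * z := by
      intro c hc
      refine ⟨_, (hw'α.2 c hc).1, fun c' hc' => ?_, (mul_inv_cancel_left _ _).symm⟩
      exact Subgroup.mem_centralizer_iff.1 hc'.2 _ (hw'α.2 c hc).1
    obtain ⟨z₁, -, hz₁, hw₁⟩ := hyzC _ hθv
    obtain ⟨z₂, -, hz₂, hw₂⟩ := hyzC _ hyC
    have hfix' : autFun w' (θ e) = θ e := by
      rw [hθe]
      have m1 := hCW hθv
      have m2 := hCW hyC
      rw [hw'm.map_mul (inv_mem m1) (mul_mem (mul_mem m2 m1) (inv_mem m2)), hw'm.map_inv m1,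
        hw'm.map_mul (mul_mem m2 m1) (inv_mem m2), hw'm.map_mul m2 m1, hw'm.map_inv m2, hw₁, hw₂]
      have c1 := (hz₂ _ hθv).eq
      have c2 := (hz₁ _ hyC).eq
      have c3 : z₂ * z₁ = z₁ * z₂ := by
        have hz₂C : z₂ ∈ C := by
          have h1 := map_mem_centralizerIn hw'm hTW m2 hyC.2
          have h2 : img T (autFun w') = T := (IsMap.img_congr hw'α.1).trans (img_autFun _)
          rw [h2, hw₂] at h1
          have := mul_mem (inv_mem hyC) h1
          rwa [inv_mul_cancel_left] at this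
        exact ((hz₁ _ hz₂C).eq).symm
      calc (θ v * z₁)⁻¹ * (y * z₂ * (θ v * z₁) * (y * z₂)⁻¹)
          = z₁⁻¹ * (θ v)⁻¹ * (y * ((z₂ * θ v) * z₁ * z₂⁻¹) * y⁻¹) := by group
        _ = z₁⁻¹ * (θ v)⁻¹ * (y * (θ v * (z₂ * z₁) * z₂⁻¹) * y⁻¹) := by rw [c1]; group
        _ = z₁⁻¹ * ((θ v)⁻¹ * (y * θ v) * (z₁ * y⁻¹)) := by rw [c3]; group
        _ = z₁⁻¹ * ((θ v)⁻¹ * (y * θ v) * (y⁻¹ * z₁)) := by
          rw [(hz₁ _ (inv_mem hyC)).eq]
        _ = z₁⁻¹ * (((θ v)⁻¹ * (y * θ v * y⁻¹)) * z₁) := by group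
        _ = _ := by
          have hmemC : (θ v)⁻¹ * (y * θ v * y⁻¹) ∈ C :=
            mul_mem (inv_mem hθv) (mul_mem (mul_mem hyC hθv) (inv_mem hyC))
          rw [← (hz₁ _ hmemC).eq, inv_mul_cancel_left]
    have heT := hev.1
    have h1 := hw'α.1 (θ e) (hθi.le (hθT.mem_img.2 ⟨e, heT, rfl⟩))
    rw [hfix', ← autFun_autOf hθT hθi heT, ← hbdef, ← autFun_mul _ _ heT, inv_mul_cancel_right,
      autFun_mul _ _ heT] at h1
    have h2 := congrArg (autFun b⁻¹) h1
    rw [autFun_map_inv b heT, autFun_map_inv b (autFun_mem α heT)] at h2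
    exact h2.symm
  have hTn : e ∈ T := hev.1
  have hxW : x ∈ W := hCW (hG.sub hxG)
  have hiter : ∀ j : ℕ, autFun (γ ^ j) x = x * e⁻¹ ^ j := by
    intro j
    induction j with
    | zero => simp [autFun_one hxW]
    | succ j ih =>
      rw [pow_succ', autFun_mul _ _ hxW, ih, autFun_map_mul γ hxW (hTW (pow_mem (inv_mem hTn) j)),
        hγx, hγW.1 _ (pow_mem (inv_mem hTn) j), mul_assoc, pow_succ' e⁻¹]
      congr 1
      congr 1
      have key : ∀ i : ℕ, autFun α (e⁻¹ ^ i) = e⁻¹ ^ i := by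
        intro i
        induction i with
        | zero => rw [pow_zero, autFun_map_one]
        | succ i ihh =>
          rw [pow_succ, autFun_map_mul α (pow_mem (inv_mem hTn) i) (inv_mem hTn), ihh,
            hEm.map_inv hTn, hαe]
      exact key j
  have h1 := hiter (orderOf γ)
  rw [pow_orderOf_eq_one, autFun_one hxW, left_eq_mul] at h1
  obtain ⟨i, hi⟩ := hS ⟨e⁻¹, hTS (inv_mem hTn)⟩
  have he1 : e⁻¹ = 1 := orderOf_eq_one_iff.1 (Nat.eq_one_of_dvd_coprimes (hN.pow_right i)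
    (orderOf_dvd_of_pow_eq_one h1) (orderOf_dvd_of_pow_eq_one (congrArg Subtype.val hi)))
  rw [hγx, he1, mul_one]

/-- An `E`-map of `p`-power order on a fully normalized proper subgroup fixes the focal
subgroup. -/
theorem fix_pElement (hS : IsPGroup p S) (hF : F.IsSaturated p) (hE : E.IsNormalIn F p)
    (hG : FixSet F E G)
    (hQ : E.IsCentric Q) {t : Ω} (ht : t ∈ normalizerIn T Q) {δ : MulAut Q}
    (hδ : δ ∈ Subgroup.closure {b : MulAut Q | b ∈ E.autGroup Q ∧ ∃ k : ℕ, b ^ p ^ k = 1}) :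
    IsMap (fixSystem F T (Subgroup.closure G) hE.1.2.2.2.1.1 hG.le) Q (autFun (δ⁻¹ * conjAut t ht.2 * δ)) := by
  obtain ⟨⟨hEs, -, hEi⟩, -⟩ := id hE
  obtain ⟨hsub, hT, -, -⟩ := id hEi
  have hTS := hT.1
  have hQT := hQ.1
  set C := centralizerIn S T with hC
  have hset : Setup F E p (1 : F.autGroup T →* Unit) :=
    ⟨hS, hF, hTS, hEs, hEi, by simp, fun _ _ => by simp⟩
  haveI := finite_of_le hTS
  haveI := finite_of_le hQT
  haveI := finite_mulAut (P := Q)
  have hQC : Q ⊔ C ≤ S := sup_le (hQT.trans hTS) inf_le_left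
  -- the extension
  have hext : ExtTriv F T Q (autFun δ) := by
    have hδ' := (Subgroup.closure_toSubmonoid_of_finite).le hδ
    induction hδ' using Submonoid.closure_induction with
    | mem b hb => exact hset.extTriv_pElement hQ hb.1 hb.2.choose_spec
    | one => exact ⟨id, isMap_id hQC, fun x hx => (autFun_one hx).symm, fun c _ => by
        rw [id, inv_mul_cancel]; exact one_mem T⟩
    | mul a b ha hb iha ihb =>
      obtain ⟨g₁, hg₁, hg₁e, hg₁c⟩ := ihb (Subgroup.closure_toSubmonoid_of_finite.ge hb)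
      obtain ⟨g₂, hg₂, hg₂e, hg₂c⟩ := iha (Subgroup.closure_toSubmonoid_of_finite.ge ha)
      have hz : ∀ c ∈ C, c⁻¹ * g₁ c ∈ Q := fun c hc => by
        have h3 := map_mem_centralizerIn hg₁ le_sup_left (Subgroup.mem_sup_right hc)
          (Subgroup.centralizer_le hQT hc.2)
        rw [IsMap.img_congr hg₁e, img_autFun] at h3
        exact centralizerIn_le_of_isCentric hQ ⟨hg₁c c hc,
          Subgroup.mul_mem _ (Subgroup.inv_mem _ (Subgroup.centralizer_le hQT hc.2)) h3.2⟩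
      refine ⟨g₂ ∘ g₁, hg₁.comp hg₂ fun z hzz => hg₁.map_mem_of_sup (fun x hx => by
          rw [hg₁e x hx]; exact Subgroup.mem_sup_left (autFun_mem b hx)) (fun c hc => by
          rw [show g₁ c = c * (c⁻¹ * g₁ c) by group]
          exact mul_mem (Subgroup.mem_sup_right hc) (Subgroup.mem_sup_left (hz c hc))) hzz,
        fun x hx => ?_, fun c hc => ?_⟩
      · show g₂ (g₁ x) = _
        rw [hg₁e x hx, hg₂e _ (autFun_mem b hx), autFun_mul _ _ hx]
      · show c⁻¹ * g₂ (g₁ c) ∈ T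
        rw [show g₁ c = c * (c⁻¹ * g₁ c) by group, hg₂.map_mul (Subgroup.mem_sup_right hc)
          (Subgroup.mem_sup_left (hz c hc)), ← mul_assoc]
        exact mul_mem (hg₂c c hc) (by rw [hg₂e _ (hz c hc)]; exact hQT (autFun_mem a (hz c hc)))
  obtain ⟨γ, hγ, hγe, hγc⟩ := hext
  have hγQ : ∀ x ∈ Q, γ x ∈ Q := fun x hx => hγe x hx ▸ autFun_mem δ hx
  have hγE : IsMap E Q γ := ((mem_autGroup_iff hQT).1
    ((Subgroup.closure_le (E.autGroup Q)).2 (fun b hb => hb.1) hδ)).congr hγe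
  have hγC : ∀ c ∈ C, c⁻¹ * γ c ∈ Q ⊓ Subgroup.centralizer (Q : Set Ω) := fun c hc => by
    have h3 := map_mem_centralizerIn hγ le_sup_left (Subgroup.mem_sup_right hc)
      (Subgroup.centralizer_le hQT hc.2)
    rw [IsMap.img_congr hγe, img_autFun] at h3
    have h4 : c⁻¹ * γ c ∈ centralizerIn T Q := ⟨hγc c hc,
      Subgroup.mul_mem _ (Subgroup.inv_mem _ (Subgroup.centralizer_le hQT hc.2)) h3.2⟩
    exact ⟨centralizerIn_le_of_isCentric hQ h4, h4.2⟩
  have hγi : img (Q ⊔ C) γ = Q ⊔ C := img_eq_of_map_le hQC hγ le_rfl fun z hz =>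
    hγ.map_mem_of_sup (fun x hx => Subgroup.mem_sup_left (hγQ x hx)) (fun c hc => by
      rw [show γ c = c * (c⁻¹ * γ c) by group]
      exact mul_mem (Subgroup.mem_sup_right hc) (Subgroup.mem_sup_left (hγC c hc).1)) hz
  set U := Q ⊔ (Subgroup.closure G)
  have hU : U ≤ Q ⊔ C := sup_le_sup_left hG.le _
  -- `t` centralizes the image of the focal subgroup
  have hcom : ∀ y ∈ (Subgroup.closure G), Commute t (γ y) := by
    intro y hy
    have key : y ∈ Q ⊔ C ∧ Commute t (γ y) := by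
      let K : Subgroup Ω :=
        { carrier := {y | y ∈ Q ⊔ C ∧ Commute t (γ y)}
          one_mem' := ⟨one_mem _, by rw [hγ.map_one]; exact Commute.one_right t⟩
          mul_mem' := fun {a b} ⟨ha, hga⟩ ⟨hb, hgb⟩ => ⟨mul_mem ha hb, by
            rw [hγ.map_mul ha hb]; exact hga.mul_right hgb⟩
          inv_mem' := fun {a} ⟨ha, hga⟩ => ⟨inv_mem ha, by
            rw [hγ.map_inv ha]; exact hga.inv_right⟩ }
      refine (Subgroup.closure_le K).2 ?_ hy
      intro z hzG
      obtain ⟨v, hv, d, hd, hdQ, hev, hγx⟩ := hG.defect Q γ hQT hγ hγQ hγE hγC z hzG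
      have hcd := commute_defect hS hF hT hQT (fun f hf => centralizerIn_le_of_isCentric
        (hset.isCentric_of_map hQ hf)) hv hd hdQ hev ht
      refine ⟨Subgroup.mem_sup_right (hG.sub hzG), ?_⟩
      rw [hγx]
      exact Commute.mul_right (Subgroup.mem_centralizer_iff.1 (hG.sub hzG).2 t ht.1) hcd.inv_right
    exact key.2
  obtain ⟨γ', hγ', hγ'1, -⟩ := hγ.exists_inv
  rw [hγi] at hγ'
  have hγU := hγ.mono hU
  have hUimg : ∀ z ∈ U, t * γ z * t⁻¹ ∈ Q ⊔ C := by
    intro z hz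
    have hm := hγU.comp (isMap_conj (F := F) (le_refl S) (hTS ht.1)) fun x hx => hγU.mem_S hx
    exact hm.map_mem_of_sup (fun x hx => Subgroup.mem_sup_left
      ((Subgroup.mem_normalizer_iff.1 ht.2 _).1 (hγQ x hx))) (fun x hx => by
        show t * γ x * t⁻¹ ∈ _
        rw [(hcom x hx).eq, mul_inv_cancel_right]
        exact hγi.le (hγ.mem_img.2 ⟨x, Subgroup.mem_sup_right (hG.le hx), rfl⟩)) hz
  have hval : ∀ x ∈ Q, γ' (t * γ x * t⁻¹) = autFun (δ⁻¹ * conjAut t ht.2 * δ) x := by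
    intro x hx
    have hr := autFun_mem (δ⁻¹ * conjAut t ht.2 * δ) hx
    rw [← hγ'1 _ (Subgroup.mem_sup_left hr), hγe x hx, hγe _ hr, ← autFun_mul _ _ hx,
      show δ * (δ⁻¹ * conjAut t ht.2 * δ) = conjAut t ht.2 * δ by group, autFun_mul _ _ hx,
      autFun_conjAut _ (autFun_mem δ hx)]
  refine isMap_fixSystem_iff.2 ⟨hQT, fun x hx => hQT (autFun_mem _ hx),
    γ' ∘ ((fun x => t * x * t⁻¹) ∘ γ), ?_, hval, fun y hy => ?_⟩
  · exact (hγU.comp (isMap_conj (F := F) (le_refl S) (hTS ht.1)) fun x hx => hγU.mem_S hx).comp hγ'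
      hUimg
  · show γ' (t * γ y * t⁻¹) = y
    rw [(hcom y hy).eq, mul_inv_cancel_right, hγ'1 y (Subgroup.mem_sup_right (hG.le hy))]

/-- All maps of `E` fix the focal subgroup of `C_F(T)`. -/
theorem isMap_fixSystem (hS : IsPGroup p S) (hF : F.IsSaturated p) (hE : E.IsNormalIn F p)
    (hG : FixSet F E G) (hf : IsMap E P f) : IsMap (fixSystem F T (Subgroup.closure G) hE.1.2.2.2.1.1 hG.le) P f := by
  obtain ⟨⟨hEs, -, hEi⟩, -⟩ := id hE
  obtain ⟨hsub, hT, -, -⟩ := id hEi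
  have hTS := hT.1
  have hinv := (isInvariantIn_iff_strongInv hS hF hsub hT).1 hEi
  haveI := finite_of_le hTS
  have hTp := hS.to_le hTS
  set X := fixSystem F T (Subgroup.closure G) hTS hG.le with hXd
  refine isMap_of_autGroup_le hTp hEs (E := X) (fun R hR => ?_) hf
  induction hk : Nat.card T - Nat.card R using Nat.strong_induction_on generalizing R with
  | _ k ih =>
  by_cases hRT : R = T
  · subst R
    intro α hα
    obtain ⟨g, hg, β, hβ, he⟩ := exists_conj_mul_residual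
      (IsSaturated.automized_receptive hTp hEs isFullyNormalized_self).1 ⟨α, hα⟩
    rw [show α = conjAut g hg.2 * (β : MulAut T) from autFun_ext fun z hz => by
      rw [show autFun α z = _ from he z hz, autFun_mul _ _ hz,
        autFun_conjAut hg.2 (autFun_mem _ hz)]]
    refine mul_mem (autInducedBy_le_autGroup le_rfl (conjAut_mem hg.1 hg.2)) ?_
    clear he
    unfold Cfsg.pResidual at hβ
    induction hβ using Subgroup.closure_induction with
    | mem a ha =>
      exact (mem_autGroup_iff le_rfl).2 (fix_coprime hS hF hE hG a.2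
        (by rw [Subgroup.orderOf_coe]; exact ha))
    | one => exact one_mem _
    | mul a b _ _ h1 h2 => exact mul_mem h1 h2
    | inv a _ h1 => exact inv_mem h1
  have hRE : E.IsEssential p R := hR.resolve_left hRT
  have hRc : E.IsCentric R := hRE.1
  have hR' := hRc.1
  have big : ∀ {V : Subgroup Ω} {g : Ω → Ω}, IsMap E V g → Nat.card R < Nat.card V →
      IsMap X V g := fun {V g} hg hV => isMap_of_autGroup_le_above hTp hEs (fun R₁ hT₁ hR₁ => ih _ (by
      have : Nat.card R₁ ≤ Nat.card T :=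
        card_le_of_le' le_rfl (hR₁.elim (fun e => e.le) fun e => e.1.1)
      omega) R₁ hR₁ rfl) hg
  -- move `R` to a fully normalized subgroup
  obtain ⟨Q₀, hRQ, hQ₀⟩ := exists_fullyNormalized (F := F) (hR'.trans hTS)
  obtain ⟨ha₀, hr₀⟩ := IsSaturated.automized_receptive hS hF hQ₀
  obtain ⟨γ₀, hγ₀, hγ₀i, -⟩ := exists_map_normalizer hS ha₀ hr₀ hRQ
  have hNS : normalizerIn T R ≤ normalizerIn S R := inf_le_inf_right _ hTS
  obtain ⟨a, ha, e, he, hae⟩ :=
    decomp_of_strongInv hS hF hT hsub hinv (hγ₀.mono hNS) inf_le_left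
  have hRN : R ≤ normalizerIn T R := le_normalizerIn hR'
  have hlt : Nat.card R < Nat.card (normalizerIn T R) :=
    card_lt_of_lt (inf_le_left.trans hTS) (lt_normalizerIn hTp hR' hRT)
  have heX := (big he hlt).mono hRN
  have heR := he.mono hRN
  have hQimg : img (img R e) (autFun a) = Q₀ := by
    rw [img_img heR, ← hγ₀i]
    exact (IsMap.img_congr fun x hx => hae x (hRN hx)).symm
  set R₁ := img R e with hR₁def
  have ham := (mem_autGroup_iff hTS).1 ha
  have hR₁T : R₁ ≤ T := heR.img_le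
  have hQT : Q₀ ≤ T := hQimg ▸ (ham.mono hR₁T).img_le_of_forall fun x hx => autFun_mem a (hR₁T hx)
  set Q := Q₀ with hQdef
  have hQc : E.IsCentric Q := by
    have hset : Setup F E p (1 : F.autGroup T →* Unit) :=
      ⟨hS, hF, hTS, hEs, hEi, by simp, fun _ _ => by simp⟩
    rw [← hQimg]
    exact hset.isCentric_of_map (isCentric_of_isConj hRc (isConj_iff.2 ⟨e, heR, rfl⟩))
      (ham.mono hR₁T)
  have hQE := isFullyNormalized_of_stronglyClosed hS hF hT hsub hQT hQ₀
  have hQcard : Nat.card Q = Nat.card R := isConj_card hRQ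
  have hQne : Q ≠ T := fun h => hRT (eq_of_le_of_card_le hTS hR' (by rw [← hQcard, h]))
  -- the automizer of `Q`
  haveI := finite_of_le hQT
  haveI := finite_mulAut (P := Q)
  have hQA : E.autGroup Q ≤ X.autGroup Q := by
    obtain ⟨hauto, hrec⟩ := IsSaturated.automized_receptive hTp hEs hQE
    obtain ⟨-, hi⟩ := (isFullyAutomized_iff hTp).1 hauto
    have hAE : autInducedBy T Q ≤ E.autGroup Q := autInducedBy_le_autGroup hQT
    set Γ := E.autGroup Q
    set O := (Subgroup.closure {b : MulAut Q | b ∈ Γ ∧ ∃ k : ℕ, b ^ p ^ k = 1}).subgroupOf Γ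
      with hO
    haveI : O.Normal := by
      refine ⟨fun z hz x => ?_⟩
      rw [hO, Subgroup.mem_subgroupOf, Subgroup.coe_mul, Subgroup.coe_mul, InvMemClass.coe_inv]
      rw [hO, Subgroup.mem_subgroupOf] at hz
      refine (Subgroup.closure_le ((Subgroup.closure _).comap
        (MulAut.conj (x : MulAut Q)).toMonoidHom)).2 (fun y hy => ?_) hz
      obtain ⟨hy1, j, hj⟩ := hy
      exact Subgroup.subset_closure ⟨mul_mem (mul_mem x.2 hy1) (inv_mem x.2), j, by
        show ((x : MulAut Q) * y * (x : MulAut Q)⁻¹) ^ p ^ j = 1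
        rw [conj_pow, hj, mul_one, mul_inv_cancel]⟩
    set A := (autInducedBy T Q).subgroupOf Γ
    have hAp : IsPGroup p A := (isPGroup_autInducedBy hTp).of_equiv
      (Subgroup.subgroupOfEquivOfLe hAE).symm
    have hAO : A ≤ O := fun z hz => by
      obtain ⟨j, hj⟩ := hAp ⟨z, hz⟩
      exact Subgroup.subset_closure ⟨z.2, j, congrArg (Subtype.val ∘ Subtype.val) hj⟩
    -- elements normalizing `Aut_T(Q)` extend
    have hnorm : ∀ n : Γ, n ∈ Subgroup.normalizer (A : Set Γ) →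
        (n : MulAut Q) ∈ X.autGroup Q := by
      intro n hn
      have hsubN : normalizerIn T Q ≤ normalizerIn T Q := le_rfl
      obtain ⟨g, hg, hgn⟩ := FamilySat.exists_ext hrec n.2 hsubN fun u hu => by
        have h1 := (Subgroup.mem_normalizer_iff.1 hn ⟨_, hAE (conjAut_mem hu.1 hu.2)⟩).1
          (Subgroup.mem_subgroupOf.2 (conjAut_mem hu.1 hu.2))
        exact Subgroup.mem_subgroupOf.1 h1
      have h2 : Nat.card R < Nat.card (normalizerIn T Q) := hQcard ▸
        card_lt_of_lt (inf_le_left.trans hTS) (lt_normalizerIn hTp hQT hQne)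
      exact (mem_autGroup_iff hQT).2 (((big hg h2).mono (le_normalizerIn hQT)).congr
        fun z hz => (hgn z hz).symm)
    have hsplit : ∀ δ : Γ, ∃ n d : Γ, δ = n * d ∧ d ∈ O ∧ n ∈ Subgroup.normalizer (A : Set Γ) := by
      intro δ
      obtain ⟨n, d, h1, h2, h3, -⟩ := FamilySat.exists_frattini (D := O) hTp hAp hi δ
      exact ⟨n, d, h1, h2, by rwa [inf_eq_left.2 hAO] at h3⟩
    have hpel : ∀ b ∈ Γ, (∃ j : ℕ, b ^ p ^ j = 1) → b ∈ X.autGroup Q := by
      rintro b hb ⟨j, hj⟩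
      obtain ⟨δ, hδ, hδA⟩ := exists_conj_le_of_not_dvd_relIndex (isPGroup_autInducedBy hTp) hAE hi
        (isPGroup_zpowers_of_pow hj) (Subgroup.zpowers_le.2 hb)
      obtain ⟨n, d, hnd, hd, hn⟩ := hsplit ⟨δ, hδ⟩
      have h1 : δ * b * δ⁻¹ ∈ autInducedBy T Q := hδA (conj_mem_conjBy (Subgroup.mem_zpowers b))
      have h2 := (Subgroup.mem_normalizer_iff.1 (inv_mem hn) ⟨_, hAE h1⟩).1
        (Subgroup.mem_subgroupOf.2 h1)
      obtain ⟨t, ht, hte⟩ := mem_autInducedBy_iff.1 (Subgroup.mem_subgroupOf.1 h2)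
      have htN : t ∈ normalizerIn T Q := ⟨ht, mem_normalizer_of_autFun hte⟩
      have h3 := fix_pElement hS hF hE hG hQc htN (δ := (d : MulAut Q)) hd
      have hδe : δ = (n : MulAut Q) * d := congrArg Subtype.val hnd
      refine (mem_autGroup_iff hQT).2 (h3.congr fun x hx => ?_)
      rw [show conjAut t htN.2 = ((n⁻¹ * ⟨δ * b * δ⁻¹, hAE h1⟩ * n⁻¹⁻¹ : Γ) : MulAut Q) from
        autFun_ext fun z hz => by rw [autFun_conjAut htN.2 hz, hte z hz]]
      congr 1
      rw [Subgroup.coe_mul, Subgroup.coe_mul, inv_inv, InvMemClass.coe_inv]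
      show b = (d : MulAut Q)⁻¹ * ((n : MulAut Q)⁻¹ * (δ * b * δ⁻¹) * (n : MulAut Q)) * (d : MulAut Q)
      rw [hδe]
      group
    intro δ hδ
    obtain ⟨n, d, hnd, hd, hn⟩ := hsplit ⟨δ, hδ⟩
    rw [show δ = (n : MulAut Q) * d from congrArg Subtype.val hnd]
    exact mul_mem (hnorm n hn) ((Subgroup.closure_le _).2 (fun y hy => hpel y hy.1 hy.2) hd)
  -- transport back
  intro κ hκ
  have hR₁κ : ∃ k, IsMap E R₁ k ∧ ∀ x ∈ R, k (e x) = e (autFun κ x) ∧ k (e x) ∈ R₁ := by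
    obtain ⟨e', he', he'1, he'2⟩ := heR.exists_inv
    have hκm := (mem_autGroup_iff hR').1 hκ
    refine ⟨e ∘ (autFun κ ∘ e'), (he'.comp hκm fun y hy => (he'2 y hy).1).comp heR fun y hy =>
      autFun_mem κ (he'2 y hy).1, fun x hx => ?_⟩
    show e (autFun κ (e' (e x))) = _ ∧ e (autFun κ (e' (e x))) ∈ R₁
    rw [he'1 x hx]
    exact ⟨rfl, heR.mem_img.2 ⟨_, autFun_mem κ hx, rfl⟩⟩
  obtain ⟨k₁, hk₁, hk₁e⟩ := hR₁κ
  obtain ⟨k₂, hk₂, hk₂e⟩ := hinv.transport hTS ha hk₁
  rw [hQimg] at hk₂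
  have hmemR₁ : ∀ y ∈ R₁, k₁ y ∈ R₁ := fun y hy => by
    obtain ⟨x, hx, rfl⟩ := heR.mem_img.1 hy
    exact (hk₁e x hx).2
  have hk₂i : img Q k₂ = Q := img_eq_of_map_le hQT hk₂ le_rfl fun y hy => by
    obtain ⟨x, hx, rfl⟩ := (ham.mono hR₁T).mem_img.1 (hQimg.ge hy)
    rw [hk₂e x hx]
    exact hQimg.le ((ham.mono hR₁T).mem_img.2 ⟨_, hmemR₁ x hx, rfl⟩)
  have hk₂X : IsMap X Q k₂ := ((mem_autGroup_iff hQT).1 (hQA (autOf_mem hk₂ hk₂i))).congr
    fun y hy => (autFun_autOf hk₂ hk₂i hy).symm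
  obtain ⟨k₃, hk₃, hk₃e⟩ := transport_fix hS hF hT hG (inv_mem ha) hk₂X
  have hk₃1 : ∀ y ∈ R₁, k₃ y = k₁ y := fun y hy => by
    have hyQ : autFun a y ∈ Q := hQimg.le ((ham.mono hR₁T).mem_img.2 ⟨y, hy, rfl⟩)
    have h := hk₃e _ hyQ
    rwa [autFun_map_inv a (hR₁T hy), hk₂e y hy, autFun_map_inv a (hk₁.mem_S hy)] at h
  have hsrc : img Q (autFun a⁻¹) = R₁ := by
    rw [← hQimg, img_img (ham.mono hR₁T)]
    exact (IsMap.img_congr fun y hy => autFun_map_inv a (hR₁T hy)).trans img_id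
  rw [hsrc] at hk₃
  obtain ⟨e', he', he'1, -⟩ := heX.exists_inv
  have hc := (heX.comp hk₃ fun x hx => heR.mem_img.2 ⟨x, hx, rfl⟩).comp he' fun x hx => by
    show k₃ (e x) ∈ img R e
    rw [hk₃1 _ (heR.mem_img.2 ⟨x, hx, rfl⟩)]
    exact (hk₁e x hx).2
  refine (mem_autGroup_iff hR').2 (hc.congr fun x hx => ?_)
  show autFun κ x = e' (k₃ (e x))
  rw [hk₃1 _ (heR.mem_img.2 ⟨x, hx, rfl⟩), (hk₁e x hx).1, he'1 _ (autFun_mem κ hx)]

/-- The focal subgroup of the centralizer system of `T` lies in `focal`. -/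
theorem focalSubgroup_le {D : FusionSystem (centralizerIn S T)}
    (hD : F.IsCentralizerSystem T D) : D.focalSubgroup ≤ focal F T := by
  refine (Subgroup.closure_le _).2 ?_
  rintro y ⟨R, φ, x, hφ, rfl⟩
  obtain ⟨hR, -, g, hg, hgφ, hgT⟩ := (isMap_of_isCentralizerSystem hD).1 (isMap_toFun hφ)
  refine Subgroup.subset_closure ⟨x, hR x.2, g,
    hg.mono (sup_le_sup_right (Subgroup.zpowers_le.2 x.2) T), hgT, ?_⟩
  rw [hgφ x x.2, toFun_coe]

theorem hom_subset_centralizerHom (hS : IsPGroup p S) (hF : F.IsSaturated p)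
    (hE : E.IsNormalIn F p) (P : Subgroup Ω) : E.Hom P ⊆ F.centralizerHom (focal F T) P := by
  intro φ hφ
  have h := isMap_fixSystem_iff.1
    (isMap_fixSystem hS hF hE (fixSet_gens hE.1.2.2.2.1) (isMap_toFun hφ))
  have hle := le_centralizerIn_of_le hE.1.2.2.2.1.1 (focal_le (F := F) (T := T))
  exact mem_centralizerHom_iff.2 ⟨h.1.trans hle, fun x hx => hle (h.2.1 x hx), h.2.2⟩

end CfsgLib.Fusion.CentFocal
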