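import Cfsg.Agent.Lib.Fusion.System.CentralizerDisplacement
import Cfsg.Agent.Lib.Fusion.System.AlperinDominated

/-!
# For odd `p`, `C_S(T)` is `Z(T)` times elements centralizing a normal subsystem over `T`
-/

set_option autoImplicit false
set_option maxHeartbeats 1000000
set_option linter.style.haveILetI false
set_option linter.unusedSectionVars false

open Subgroup
open scoped Classical Pointwise

namespace CfsgLib.Fusion.CentLift

open Cfsg (FusionSystem autInducedBy thompsonSubgroupAOf)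
open Cfsg.FusionSystem (normalizerIn centralizerIn)
open CfsgLib.Fusion
open CfsgLib.Fusion.JLevel

universe u

variable {Ω : Type u} [Group Ω] {S T : Subgroup Ω} {F : FusionSystem S} {E : FusionSystem T}
  {p : ℕ} {Q J P R : Subgroup Ω} {c : Ω} {f A : Ω → Ω} [Finite S] [Fact p.Prime]

/-- The assumptions on the pair. -/
structure Ctx (F : FusionSystem S) (E : FusionSystem T) (p : ℕ) : Prop where
  isPGroup : IsPGroup p S
  sat : F.IsSaturated p
  normal : E.IsNormalIn F p

namespace Ctx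

variable (h : Ctx F E p)

include h

theorem closed : F.StronglyClosed T := h.normal.1.2.2.2.1

theorem hTS : T ≤ S := h.closed.1

theorem sub : E.IsSubsystemOf F := h.normal.1.2.2.1

theorem strong : StrongInv E F :=
  (isInvariantIn_iff_strongInv h.isPGroup h.sat h.sub h.closed).1 h.normal.1.2.2

theorem isPGroup_T : IsPGroup p T := h.isPGroup.to_le h.hTS

theorem local_of (hQT : Q ≤ T) (hn : F.IsFullyNormalized Q) (hc : centralizerIn T Q ≤ Q) :
    Local F E p Q :=
  ⟨h.isPGroup, h.sat, h.normal.1.1, h.closed, h.sub, h.strong, hQT, hn, hc⟩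

theorem local_top : Local F E p (thompsonSubgroupAOf T) := by
  haveI := finite_of_le h.hTS
  refine h.local_of (thompsonA_le_self T) ?_ centralizer_thompsonA_le
  refine Envelope.isFullyNormalized_of_normalized ((thompsonA_le_self T).trans h.hTS) ?_
  exact ((le_normalizerIn_of_stronglyClosed h.closed).trans inf_le_right).trans
    (normalizer_le_normalizer_thompsonA T)

/-- Automorphisms of `T` extend to `T C_S(T)`. -/
theorem exists_top_ext {α : MulAut T} (hα : α ∈ F.autGroup T) :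
    ∃ A, IsMap F (T ⊔ centralizerIn S T) A ∧ (∀ x ∈ T, A x = autFun α x) ∧
      img T A = T ∧ img (T ⊔ centralizerIn S T) A = T ⊔ centralizerIn S T := by
  have hTS := h.hTS
  have ham := (mem_autGroup_iff hTS).1 hα
  obtain ⟨-, hrec⟩ := IsSaturated.automized_receptive h.isPGroup h.sat
    (Envelope.isFullyNormalized_of_normalized hTS
      ((le_normalizerIn_of_stronglyClosed h.closed).trans inf_le_right))
  obtain ⟨A, hA, hAa⟩ := (isReceptive_iff.1 hrec).2 T _ ham (img_autFun α)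
  have hAW := hA.mono (sup_le (le_extSub ham) centralizerIn_le_extSub :
    T ⊔ centralizerIn S T ≤ _)
  have hi : img T A = T := (IsMap.img_congr hAa).trans (img_autFun α)
  refine ⟨A, hAW, hAa, hi, img_eq_of_map_le (sup_le hTS inf_le_left) hAW le_rfl fun z hz =>
    hAW.map_mem_of_sup (fun x hx => Subgroup.mem_sup_left (hAa x hx ▸ autFun_mem α hx))
      (fun x hx => Subgroup.mem_sup_right ?_) hz⟩
  have h1 := map_mem_centralizerIn hAW le_sup_left (Subgroup.mem_sup_right hx) hx.2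
  rwa [hi] at h1

theorem map_cent (hA : IsMap F (T ⊔ centralizerIn S T) A) (hAT : img T A = T)
    (hc : c ∈ centralizerIn S T) : A c ∈ centralizerIn S T := by
  have h1 := map_mem_centralizerIn hA le_sup_left (Subgroup.mem_sup_right hc) hc.2
  rwa [hAT] at h1

/-- Transport of maps extending fixing `c` by an automorphism of `T C_S(T)`. -/
theorem transport (hA : IsMap F (T ⊔ centralizerIn S T) A) (hAT : img T A = T)
    (hc : c ∈ centralizerIn S T) (hf : Good F T c P f) :
    ∃ k, Good F T (A c) (img P A) k ∧ ∀ x ∈ P, k (A x) = A (f x) := by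
  set W := T ⊔ centralizerIn S T
  have hTW : T ≤ W := le_sup_left
  have hcW : c ∈ W := Subgroup.mem_sup_right hc
  obtain ⟨A', hA', hA'1, -⟩ := hA.exists_inv
  obtain ⟨hP, hfT, g, hg, hgf, hgc⟩ := hf
  have hPX : P ⊔ Subgroup.zpowers c ≤ W := sup_le (hP.trans hTW) (Subgroup.zpowers_le.2 hcW)
  have hgW : ∀ z ∈ P ⊔ Subgroup.zpowers c, g z ∈ W := fun z hz =>
    hg.map_mem_of_sup (fun x hx => by rw [hgf x hx]; exact hTW (hfT x hx))
      (fun x hx => by rw [hgc x hx]; exact (Subgroup.zpowers_le.2 hcW) hx) hz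
  have hsrc : img P A ⊔ Subgroup.zpowers (A c) ≤ img (P ⊔ Subgroup.zpowers c) A :=
    sup_le ((hA.mono hPX).img_mono le_sup_left) (Subgroup.zpowers_le.2
      ((hA.mono hPX).mem_img.2 ⟨c, Subgroup.mem_sup_right (Subgroup.mem_zpowers c), rfl⟩))
  have hm : IsMap F (img P A ⊔ Subgroup.zpowers (A c)) (A ∘ (g ∘ A')) := by
    have hs : img (P ⊔ Subgroup.zpowers c) A ≤ img W A := hA.img_mono hPX
    refine ((((hA'.mono hs).comp hg fun z hz => ?_).comp hA fun z hz => ?_)).mono hsrc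
    all_goals obtain ⟨x, hx, rfl⟩ := (hA.mono hPX).mem_img.1 hz
    · rwa [hA'1 x (hPX hx)]
    · show g (A' (A x)) ∈ W
      rw [hA'1 x (hPX hx)]
      exact hgW x hx
  refine ⟨A ∘ (g ∘ A'), ⟨?_, fun y hy => ?_, A ∘ (g ∘ A'), hm, fun _ _ => rfl, fun y hy => ?_⟩,
    fun x hx => ?_⟩
  · exact ((hA.mono hTW).img_mono hP).trans hAT.le
  · obtain ⟨x, hx, rfl⟩ := (hA.mono (hP.trans hTW)).mem_img.1 hy
    show A (g (A' (A x))) ∈ T
    rw [hA'1 x (hTW (hP hx)), hgf x hx]
    exact mem_of_img_eq hA hTW hAT (hfT x hx)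
  · refine fix_zpowers hm (Subgroup.mem_sup_right (Subgroup.mem_zpowers _)) ?_ hy
    show A (g (A' (A c))) = A c
    rw [hA'1 c hcW, hgc c (Subgroup.mem_zpowers c)]
  · show A (g (A' (A x))) = A (f x)
    rw [hA'1 x (hTW (hP hx)), hgf x hx]

/-- Transport of a whole automizer by an automorphism of `T C_S(T)`. -/
theorem transport_aut {α : MulAut T} (hα : α ∈ F.autGroup T)
    (hA : IsMap F (T ⊔ centralizerIn S T) A) (hAa : ∀ x ∈ T, A x = autFun α x)
    (hc : c ∈ centralizerIn S T) (hRT : R ≤ T) (hR : img R (autFun α) = R)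
    (hgood : ∀ δ ∈ E.autGroup R, Good F T c R (autFun δ))
    {δ : MulAut R} (hδ : δ ∈ E.autGroup R) : Good F T (A c) R (autFun δ) := by
  have hTS := h.hTS
  have hAT : img T A = T := (IsMap.img_congr hAa).trans (img_autFun α)
  have ham := (mem_autGroup_iff hTS).1 hα
  have hback : img R (autFun α⁻¹) = R := by
    conv_lhs => rw [← hR]
    rw [img_img (ham.mono hRT), IsMap.img_congr (f := autFun α⁻¹ ∘ autFun α) (g := id)
      fun x hx => autFun_map_inv α (hRT hx), img_id]
  obtain ⟨k, hk, hke⟩ := h.strong.transport hTS (inv_mem hα) ((mem_autGroup_iff hRT).1 hδ)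
  rw [hback] at hk
  have hkR : ∀ x ∈ R, k x ∈ R := by
    intro x hx
    obtain ⟨y, hy, rfl⟩ :=
      (((mem_autGroup_iff hTS).1 (inv_mem hα)).mono hRT).mem_img.1 (hback.ge hx)
    rw [hke y hy]
    exact mem_of_img_eq ((mem_autGroup_iff hTS).1 (inv_mem hα)) hRT hback (autFun_mem δ hy)
  haveI := finite_of_le hTS
  have hki : img R k = R := img_eq_of_map_le hRT hk le_rfl hkR
  obtain ⟨k', hk', hk'e⟩ := h.transport hA hAT hc
    ((hgood _ (autOf_mem hk hki)).congr fun x hx => (autFun_autOf hk hki hx).symm)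
  rw [IsMap.img_congr (fun x hx => hAa x (hRT hx)), hR] at hk'
  refine hk'.congr fun y hy => ?_
  obtain ⟨x, hx, rfl⟩ : ∃ x ∈ R, autFun α⁻¹ y = x :=
    ⟨_, mem_of_img_eq ((mem_autGroup_iff hTS).1 (inv_mem hα)) hRT hback hy, rfl⟩
  have hx' : autFun α⁻¹ y ∈ R := hx
  have e1 : A (autFun α⁻¹ y) = y := by
    rw [hAa _ (hRT hx'), autFun_inv_apply α (hRT hy)]
  have e2 := hk'e _ hx'
  rw [e1] at e2
  rw [e2, hke y hy, hAa _ (autFun_mem _ (hRT (autFun_mem δ hy))),
    autFun_inv_apply α (hRT (autFun_mem δ hy))]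

end Ctx

/-- The elements whose translates all maps at the top levels fix. -/
structure Top (F : FusionSystem S) (E : FusionSystem T) (c : Ω) : Prop where
  mem : c ∈ centralizerIn S T
  top : ∀ α ∈ E.autGroup T, Good F T c T (autFun α)
  jtop : ∀ α ∈ E.autGroup (thompsonSubgroupAOf T),
    Good F T c (thompsonSubgroupAOf T) (autFun α)

section Lift

variable (h : Local F E p Q)

include h

/-- Automorphisms of `Q` in `F` extend to `Q C_S(Q)`. -/
theorem Local.exists_stab {n : MulAut Q} (hn : n ∈ F.autGroup Q) :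
    ∃ m ∈ stabR F Q, ∀ x ∈ Q, autFun m x = autFun n x := by
  have hm := (mem_autGroup_iff h.hQS).1 hn
  obtain ⟨g, hg, hgn⟩ := (isReceptive_iff.1 (IsSaturated.automized_receptive h.isPGroup h.sat
    h.normalized).2).2 Q _ hm (img_autFun n)
  have hgR := hg.mono (sup_le (le_extSub hm) centralizerIn_le_extSub : base S Q ≤ _)
  have hgQ : img Q g = Q := (IsMap.img_congr hgn).trans (img_autFun n)
  have hi : img (base S Q) g = base S Q := img_eq_of_map_le (base_le h.hQS) hgR le_rfl fun z hz =>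
    hgR.map_mem_of_sup (fun x hx => Subgroup.mem_sup_left (hgn x hx ▸ autFun_mem n hx))
      (fun x hx => Subgroup.mem_sup_right (by
        have := map_mem_centralizerIn hgR le_sup_left (Subgroup.mem_sup_right hx) hx.2
        rwa [hgQ] at this)) hz
  refine ⟨autOf hgR hi, ⟨autOf_mem hgR hi, fun x hx => ?_⟩, fun x hx => ?_⟩
  · rw [autFun_autOf hgR hi hx]
    refine ⟨fun hxQ => hgn x hxQ ▸ autFun_mem n hxQ, fun hxQ => ?_⟩
    obtain ⟨y, hy, he⟩ := (hgR.mono le_sup_left).mem_img.1 (hgQ.ge hxQ)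
    exact hgR.inj (Subgroup.mem_sup_left hy) hx he ▸ hy
  · rw [autFun_autOf hgR hi (Subgroup.mem_sup_left hx), hgn x hx]

theorem Local.range_conj {n : MulAut Q} (hn : n ∈ F.autGroup Q) {δ : MulAut Q}
    (hδ : δ ∈ h.res.range) : n * δ * n⁻¹ ∈ h.res.range := by
  obtain ⟨⟨γ, hγ⟩, rfl⟩ := hδ
  obtain ⟨m, hm, hmn⟩ := h.exists_stab hn
  have hle : lift F T Q ≤ (lift F T Q).comap (MulAut.conj m).toMonoidHom := by
    refine (Subgroup.closure_le _).2 ?_
    rintro a ⟨n', hn', t, ht, b, hb, rfl⟩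
    refine Subgroup.subset_closure ⟨m * n', mul_mem hm hn', t, ht, b, hb, ?_⟩
    show m * (n' * b * n'⁻¹) * m⁻¹ = _
    group
  have hmem : m * γ * m⁻¹ ∈ lift F T Q := hle hγ
  refine ⟨⟨_, hmem⟩, autFun_ext fun x hx => ?_⟩
  have hxR : x ∈ base S Q := Subgroup.mem_sup_left hx
  have hinv : autFun m⁻¹ x = autFun n⁻¹ x := by
    have hnx := autFun_mem n⁻¹ hx
    rw [← autFun_map_inv m (Subgroup.mem_sup_left hnx : autFun n⁻¹ x ∈ base S Q), hmn _ hnx,
      autFun_inv_apply n hx]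
  have h1 := autFun_mem (h.res ⟨γ, hγ⟩) (autFun_mem n⁻¹ hx)
  have e := h.autFun_res ⟨γ, hγ⟩ (autFun_mem n⁻¹ hx)
  rw [h.autFun_res ⟨_, hmem⟩ hx, autFun_mul _ _ hxR, autFun_mul _ _ (autFun_mem _ hxR),
    autFun_mul _ _ hx, autFun_mul _ _ (autFun_mem _ hx), hinv]
  rw [← hmn _ h1, e]

variable (hc : c ∈ centralizerIn S T)

include hc

/-- The automizer extends fixing `c` if the lift fixes `c` and the normalizer maps do. -/
theorem Local.good_aut (hfix : ∀ γ ∈ lift F T Q, autFun γ c = c)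
    (hN : ∀ f, IsMap E (normalizerIn T Q) f → Good F T c (normalizerIn T Q) f)
    {δ : MulAut Q} (hδ : δ ∈ E.autGroup Q) : Good F T c Q (autFun δ) := by
  have hTS := h.hTS
  have hTp := h.isPGroup.to_le hTS
  haveI := finite_of_le hTS
  haveI := finite_of_le h.le
  haveI := finite_mulAut (P := Q)
  obtain ⟨hauto, hrec⟩ := IsSaturated.automized_receptive hTp h.satE
    (isFullyNormalized_of_stronglyClosed h.isPGroup h.sat h.closed h.sub h.le h.normalized)
  obtain ⟨-, hi⟩ := (isFullyAutomized_iff hTp).1 hauto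
  set X := fixC F T c hTS hc
  set Γ := E.autGroup Q with hΓ
  have hAE : autInducedBy T Q ≤ Γ := autInducedBy_le_autGroup h.le
  set D := h.res.range.subgroupOf Γ with hD
  haveI : D.Normal := ⟨fun z hz x => by
    rw [hD, Subgroup.mem_subgroupOf] at hz ⊢
    exact h.range_conj (autGroup_le_ofSubsystem h.sub h.le h.hQS x.2) hz⟩
  set A := (autInducedBy T Q).subgroupOf Γ with hA
  have hAp : IsPGroup p A := (isPGroup_autInducedBy hTp).of_equiv
    (Subgroup.subgroupOfEquivOfLe hAE).symm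
  have hAD : A ≤ D := fun z hz => h.autInducedBy_le_range hz
  obtain ⟨n, d, hnd, hd, hn, -⟩ := FamilySat.exists_frattini (D := D) hTp hAp hi ⟨δ, hδ⟩
  rw [inf_eq_left.2 hAD] at hn
  have hnX : (n : MulAut Q) ∈ X.autGroup Q := by
    obtain ⟨g, hg, hgn⟩ := FamilySat.exists_ext hrec n.2 (le_refl (normalizerIn T Q)) fun u hu => by
      have h1 := (Subgroup.mem_normalizer_iff.1 hn ⟨_, hAE (conjAut_mem hu.1 hu.2)⟩).1
        (Subgroup.mem_subgroupOf.2 (conjAut_mem hu.1 hu.2))
      exact Subgroup.mem_subgroupOf.1 h1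
    exact (mem_fixC_autGroup h.le).2
      (((hN g hg).mono (le_normalizerIn h.le)).congr fun z hz => (hgn z hz).symm)
  have hdX : (d : MulAut Q) ∈ X.autGroup Q := by
    obtain ⟨⟨γ, hγ⟩, he⟩ := hd
    exact (mem_fixC_autGroup h.le).2 ((h.good_of_fix hc hγ (hfix γ hγ)).congr fun x hx => by
      rw [← h.autFun_res ⟨γ, hγ⟩ hx]; exact congrArg (fun a => autFun a x) he.symm)
  have hδe : δ = (n : MulAut Q) * d := congrArg Subtype.val hnd
  exact (mem_fixC_autGroup (hTS := hTS) (hc := hc) h.le).1 (hδe ▸ mul_mem hnX hdX)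

end Lift

namespace Ctx

variable (h : Ctx F E p)

include h

/-- Translates by the centre of `T` reach the top condition. -/
theorem exists_top (hc : c ∈ centralizerIn S T) :
    ∃ z ∈ T ⊓ Subgroup.centralizer (T : Set Ω), Top F E (c * z) := by
  have hTS := h.hTS
  haveI := finite_of_le hTS
  set C := centralizerIn S T with hC
  set W := T ⊔ C with hW
  have hTW : T ≤ W := le_sup_left
  have hCW : C ≤ W := le_sup_right
  have hWS : W ≤ S := sup_le hTS inf_le_left
  haveI := finite_of_le hWS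
  haveI := finite_mulAut (P := W)
  set J := thompsonSubgroupAOf T with hJ
  have hJT : J ≤ T := thompsonA_le_self T
  have hTN : normalizerIn T J = T := inf_eq_left.2
    ((Subgroup.le_normalizer : T ≤ _).trans (normalizer_le_normalizer_thompsonA T))
  have hL := h.local_top
  obtain ⟨z₀, hz₀, hz₀fix, hz₀T⟩ := hL.exists_boundary hc
  have hz₀Z : z₀ ∈ T ⊓ Subgroup.centralizer (T : Set Ω) :=
    ⟨hJT hz₀.1, Subgroup.mem_centralizer_iff.2 fun t ht => (hz₀T t (hTN.ge ht)).eq⟩
  set c₁ := c * z₀ with hc₁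
  have hc₁C : c₁ ∈ C := mul_mem hc ⟨hTS hz₀Z.1, hz₀Z.2⟩
  -- the fixed points in the centre
  let U : Subgroup Ω :=
    { carrier := {e | e ∈ T ⊓ Subgroup.centralizer (T : Set Ω) ∧
        ∀ γ ∈ lift F T J, autFun γ e = e}
      one_mem' := ⟨one_mem _, fun γ hγ => by
        rw [((mem_autGroup_iff (base_le hL.hQS)).1 (hL.lift_stab hγ).1).map_one]⟩
      mul_mem' := fun {a b} ⟨ha, ha'⟩ ⟨hb, hb'⟩ => ⟨mul_mem ha hb, fun γ hγ => by
        rw [autFun_map_mul γ (Subgroup.mem_sup_left (center_le_thompsonA T ha))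
          (Subgroup.mem_sup_left (center_le_thompsonA T hb)), ha' γ hγ, hb' γ hγ]⟩
      inv_mem' := fun {a} ⟨ha, ha'⟩ => ⟨inv_mem ha, fun γ hγ => by
        rw [((mem_autGroup_iff (base_le hL.hQS)).1 (hL.lift_stab hγ).1).map_inv
          (Subgroup.mem_sup_left (center_le_thompsonA T ha)), ha' γ hγ]⟩ }
  have hUT : U ≤ T := fun e he => he.1.1
  have hUC : U ≤ C := fun e he => ⟨hTS he.1.1, he.1.2⟩
  -- the extensions
  let G : Subgroup (MulAut W) :=
    { carrier := {β | β ∈ F.autGroup W ∧ ∃ α ∈ E.autGroup T, Envelope.Witness C β α}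
      one_mem' := ⟨one_mem _, 1, one_mem _, Envelope.Witness.one hTW hCW⟩
      mul_mem' := fun {a b} ⟨ha, α, hα, hw⟩ ⟨hb, α', hα', hw'⟩ =>
        ⟨mul_mem ha hb, α * α', mul_mem hα hα', hw.mul hTW hCW hw'⟩
      inv_mem' := fun {a} ⟨ha, α, hα, hw⟩ => by
        rw [show a⁻¹ = a ^ (orderOf a - 1) from inv_eq_of_mul_eq_one_right (by
          rw [← pow_succ', Nat.sub_add_cancel (orderOf_pos a), pow_orderOf_eq_one])]
        exact ⟨pow_mem ha _, α ^ (orderOf a - 1), pow_mem hα _, hw.pow hTW hCW _⟩ }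
  have hGm : ∀ β ∈ G, IsMap F W (autFun β) := fun β hβ => (mem_autGroup_iff hWS).1 hβ.1
  have hGT : ∀ β ∈ G, ∀ x ∈ T, autFun β x ∈ T := by
    rintro β ⟨-, α, hα, hw⟩ x hx
    rw [hw.1 x hx]
    exact autFun_mem α hx
  let resT : G →* MulAut T := restrictHom G T hTW hGT
  have hresT : ∀ (β : G) (x : Ω), x ∈ T → autFun (resT β) x = autFun (β : MulAut W) x :=
    fun β x hx => autFun_restrictHom β hx
  have hresE : ∀ β : G, resT β ∈ E.autGroup T ∧ Envelope.Witness C (β : MulAut W) (resT β) := by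
    intro β
    obtain ⟨-, α, hα, hw⟩ := β.2
    have e : resT β = α := autFun_ext fun x hx => (hresT β x hx).trans (hw.1 x hx)
    exact e ▸ ⟨hα, hw⟩
  -- the extensions act on the lift
  have hkey : ∀ β : G, ∀ γ ∈ lift F T J, ∃ δ ∈ lift F T J, ∀ x ∈ J,
      autFun γ (autFun (β : MulAut W) x) = autFun (β : MulAut W) (autFun δ x) := by
    intro β γ hγ
    have hαF : resT β ∈ F.autGroup T :=
      autGroup_le_ofSubsystem h.sub le_rfl hTS (hresE β).1
    have hαm := ((mem_autGroup_iff hTS).1 hαF)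
    have hαJ : img J (autFun (resT β)) = J := by
      rw [hJ, img_thompsonA hαm, img_autFun]
    set n := autOf (hαm.mono hJT) hαJ
    obtain ⟨⟨δ, hδ⟩, he⟩ := hL.range_conj (inv_mem (autOf_mem (hαm.mono hJT) hαJ))
      (δ := hL.res ⟨γ, hγ⟩) ⟨_, rfl⟩
    refine ⟨δ, hδ, fun x hx => ?_⟩
    have e2 : ∀ y ∈ J, autFun n y = autFun (β : MulAut W) y := fun y hy => by
      rw [autFun_autOf (hαm.mono hJT) hαJ hy, hresT β y (hJT hy)]
    have e3 : autFun (n * hL.res ⟨δ, hδ⟩) x = autFun (hL.res ⟨γ, hγ⟩ * n) x := by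
      rw [he, show n * (n⁻¹ * hL.res ⟨γ, hγ⟩ * n⁻¹⁻¹) = hL.res ⟨γ, hγ⟩ * n by group]
    rw [autFun_mul _ _ hx, autFun_mul _ _ hx, e2 _ (autFun_mem _ hx), e2 x hx,
      hL.autFun_res _ hx, hL.autFun_res _ (e2 x hx ▸ autFun_mem n hx)] at e3
    exact e3.symm
  have hc₁fix : ∀ γ ∈ lift F T J, autFun γ c₁ = c₁ := hz₀fix
  have hD : ∀ β : G, c₁⁻¹ * autFun (β : MulAut W) c₁ ∈ U := by
    intro β
    set e := c₁⁻¹ * autFun (β : MulAut W) c₁ with he
    have heZ := (hresE β).2.2 c₁ hc₁C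
    refine ⟨heZ, fun γ hγ => ?_⟩
    have hβm := hGm _ β.2
    have hβT : img T (autFun (β : MulAut W)) = T :=
      img_eq_of_map_le hTS hβm hTW (hGT _ β.2)
    have hc' : autFun (β : MulAut W) c₁ ∈ C := h.map_cent hβm hβT hc₁C
    have hgood : ∀ ω ∈ lift F T J, Good F T (autFun (β : MulAut W) c₁) J (autFun ω) := by
      intro ω hω
      obtain ⟨δ, hδ, hδe⟩ := hkey β ω hω
      obtain ⟨k, hk, hke⟩ := h.transport hβm hβT hc₁C (hL.good_of_fix hc₁C hδ (hc₁fix δ hδ))
      have hβJ : img J (autFun (β : MulAut W)) = J := by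
        rw [IsMap.img_congr (fun x hx => (hresT β x (hJT hx)).symm)]
        exact (img_thompsonA ((mem_autGroup_iff hTS).1
          (autGroup_le_ofSubsystem h.sub le_rfl hTS (hresE β).1))).trans (by rw [img_autFun])
      rw [hβJ] at hk
      refine hk.congr fun y hy => ?_
      obtain ⟨x, hx, rfl⟩ := (hβm.mono (hJT.trans hTW)).mem_img.1 (hβJ.ge hy)
      rw [hke x hx, hδe x hx]
    have hfix := hL.fix_of_sub hc' le_rfl (fun ω hω x hx => stab_mem (hL.lift_stab hω) hx)
      (fun f hf => hL.cent_img hf) hgood hγ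
    rw [show autFun (β : MulAut W) c₁ = c₁ * e by rw [he, mul_inv_cancel_left],
      autFun_map_mul γ (Subgroup.mem_sup_right (hL.mem_cent hc₁C))
        (Subgroup.mem_sup_left (center_le_thompsonA T heZ)), hc₁fix γ hγ] at hfix
    exact mul_left_cancel hfix
  have hUinv : ∀ β ∈ G, ∀ e ∈ U, autFun β e ∈ U := by
    intro β hβ e he
    refine ⟨⟨hGT β hβ e he.1.1, Subgroup.mem_centralizer_iff.2 fun t ht => ?_⟩, fun γ hγ => ?_⟩
    · have hm := hGm β hβ
      obtain ⟨t', ht', rfl⟩ : ∃ t' ∈ T, autFun β t' = t :=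
        ⟨autFun β⁻¹ t, hGT _ (inv_mem hβ) t ht, autFun_inv_apply β (hTW ht)⟩
      exact (hm.map_commute (hTW ht') (hTW he.1.1)
        (Subgroup.mem_centralizer_iff.1 he.1.2 t' ht')).eq
    · obtain ⟨δ, hδ, hδe⟩ := hkey ⟨β, hβ⟩ γ hγ
      rw [hδe e (center_le_thompsonA T he.1), he.2 δ hδ]
  letI : CommGroup U :=
    { (inferInstance : Group U) with
      mul_comm := fun a b => Subtype.ext (Subgroup.mem_centralizer_iff.1 b.2.1.2 a a.2.1.1) }
  haveI : Finite U := finite_of_le (hUT.trans hTS)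
  let act : G →* MulAut U := restrictHom G U (hUT.trans hTW) hUinv
  let D : G → U := fun β => ⟨_, hD β⟩
  have hDc : ∀ β : G, autFun (β : MulAut W) c₁ = c₁ * (D β : Ω) := fun β =>
    (mul_inv_cancel_left _ _).symm
  have hc₁W : c₁ ∈ W := hCW hc₁C
  have hDmul : ∀ a b : G, D (a * b) = D a * act a (D b) := fun a b => Subtype.ext (by
    show c₁⁻¹ * autFun ((a : MulAut W) * (b : MulAut W)) c₁ = _ * autFun (a : MulAut W) (D b : Ω)
    rw [autFun_mul _ _ hc₁W, hDc b, autFun_map_mul _ hc₁W (hTW (hUT (D b).2)), mul_assoc])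
  let Wk : Subgroup U :=
    { carrier := {e | ∃ w : G, (∀ x ∈ T, autFun (w : MulAut W) x = x) ∧ D w = e}
      one_mem' := ⟨1, fun x hx => by rw [Subgroup.coe_one, autFun_one (hTW hx)],
        Subtype.ext (by
          show c₁⁻¹ * autFun (1 : MulAut W) c₁ = 1
          rw [autFun_one hc₁W, inv_mul_cancel])⟩
      mul_mem' := fun {a b} ⟨v, hv, hva⟩ ⟨w, hw, hwb⟩ => ⟨v * w, fun x hx => by
        rw [Subgroup.coe_mul, autFun_mul _ _ (hTW hx), hw x hx, hv x hx], by
        rw [hDmul, hva, hwb]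
        congr 1
        exact Subtype.ext (hv _ (hUT b.2))⟩
      inv_mem' := fun {a} ⟨v, hv, hva⟩ => by
        have hv' : ∀ x ∈ T, autFun (v : MulAut W)⁻¹ x = x := fun x hx => by
          conv_lhs => rw [← hv x hx]
          rw [autFun_map_inv _ (hTW hx)]
        refine ⟨v⁻¹, fun x hx => by rw [Subgroup.coe_inv]; exact hv' x hx, ?_⟩
        have e := hDmul v⁻¹ v
        rw [inv_mul_cancel, hva, show act v⁻¹ a = a from Subtype.ext (hv' _ (hUT a.2))] at e
        rw [eq_inv_iff_mul_eq_one, ← e]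
        exact Subtype.ext (by
          show c₁⁻¹ * autFun (1 : MulAut W) c₁ = 1
          rw [autFun_one hc₁W, inv_mul_cancel]) }
  have hWk : ∀ β : G, ∀ e ∈ Wk, act β e ∈ Wk := by
    rintro β e ⟨w, hw, rfl⟩
    have hfix : ∀ x ∈ T, autFun ((β * w * β⁻¹ : G) : MulAut W) x = x := fun x hx => by
      rw [Subgroup.coe_mul, Subgroup.coe_mul, Subgroup.coe_inv, autFun_mul _ _ (hTW hx),
        autFun_mul _ _ (autFun_mem _ (hTW hx)), hw _ (hGT _ (inv_mem β.2) x hx),
        autFun_inv_apply _ (hTW hx)]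
    refine ⟨β * w * β⁻¹, hfix, ?_⟩
    have e := hDmul (β * w * β⁻¹) β
    rw [show act (β * w * β⁻¹) (D β) = D β from Subtype.ext (hfix _ (hUT (D β).2)),
      show β * w * β⁻¹ * β = β * w by group, hDmul] at e
    exact (mul_left_cancel (e.trans (mul_comm _ _))).symm
  obtain ⟨Sy⟩ : Nonempty (Sylow p G) := inferInstance
  have hTp := h.isPGroup_T
  have hA : ∀ q ∈ (Sy : Subgroup G), D q ∈ Wk := by
    intro q hq
    obtain ⟨-, hiT⟩ := (isFullyAutomized_iff hTp).1
      (IsSaturated.automized_receptive hTp h.normal.1.1 isFullyNormalized_self).1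
    obtain ⟨j, hj⟩ := Sy.2 ⟨q, hq⟩
    have hq1 : resT q ^ p ^ j = 1 := by
      rw [← map_pow, show q ^ p ^ j = 1 from congrArg Subtype.val hj, map_one]
    haveI := finite_mulAut (P := T)
    obtain ⟨x, hx, hxI⟩ := exists_conj_le_of_not_dvd_relIndex (isPGroup_autInducedBy hTp)
      (autInducedBy_le_autGroup le_rfl) hiT (isPGroup_zpowers_of_pow hq1)
      (Subgroup.zpowers_le.2 (hresE q).1)
    obtain ⟨t, ht, hte⟩ := mem_autInducedBy_iff.1
      (hxI (conj_mem_conjBy (Subgroup.mem_zpowers (resT q))))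
    set t' := autFun x⁻¹ t with ht'
    have ht'T : t' ∈ T := autFun_mem _ ht
    have hqt : ∀ y ∈ T, autFun (resT q) y = t' * y * t'⁻¹ := by
      intro y hy
      have e := hte _ (autFun_mem x hy)
      rw [autFun_mul _ _ (autFun_mem x hy), autFun_mul _ _ (autFun_mem _ (autFun_mem x hy)),
        autFun_map_inv x hy] at e
      have hm := ((mem_autGroup_iff le_rfl).1 (inv_mem hx) : IsMap E T (autFun x⁻¹))
      have e2 := congrArg (autFun x⁻¹) e
      rwa [autFun_map_inv x (autFun_mem _ hy), hm.map_conj ht (autFun_mem x hy),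
        autFun_map_inv x hy] at e2
    have htW : t' ∈ Subgroup.normalizer (W : Set Ω) := Subgroup.le_normalizer (hTW ht'T)
    have hconj : conjAut t' htW ∈ G := by
      refine ⟨autInducedBy_le_autGroup hWS (conjAut_mem (hTS ht'T) htW),
        conjAut t' (Subgroup.le_normalizer ht'T),
        autInducedBy_le_autGroup le_rfl (conjAut_mem ht'T _), fun y hy => ?_, fun y hy => ?_⟩
      · rw [autFun_conjAut htW (hTW hy), autFun_conjAut _ hy]
      · rw [autFun_conjAut htW (hCW hy), Subgroup.mem_centralizer_iff.1 hy.2 t' ht'T,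
          mul_inv_cancel_right, inv_mul_cancel]
        exact one_mem _
    refine ⟨(⟨_, hconj⟩ : G)⁻¹ * q, fun y hy => ?_, ?_⟩
    · rw [Subgroup.coe_mul, Subgroup.coe_inv, autFun_mul _ _ (hTW hy), ← hresT q y hy, hqt y hy,
        ← autFun_conjAut htW (hTW hy), autFun_map_inv _ (hTW hy)]
    · have hD1 : D ⟨_, hconj⟩ = 1 := Subtype.ext (by
        show c₁⁻¹ * autFun (conjAut t' htW) c₁ = 1
        rw [autFun_conjAut htW hc₁W, Subgroup.mem_centralizer_iff.1 hc₁C.2 t' ht'T,
          mul_inv_cancel_right, inv_mul_cancel])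
      have e := hDmul ⟨_, hconj⟩ ((⟨_, hconj⟩ : G)⁻¹ * q)
      rw [mul_inv_cancel_left, hD1, one_mul] at e
      rw [e]
      refine Subtype.ext ?_
      show ((D ((⟨_, hconj⟩ : G)⁻¹ * q) : U) : Ω) = autFun (conjAut t' htW) _
      have heU := (D ((⟨_, hconj⟩ : G)⁻¹ * q)).2
      rw [autFun_conjAut htW (hTW (hUT heU)), Subgroup.mem_centralizer_iff.1 heU.1.2 t' ht'T,
        mul_inv_cancel_right]
  obtain ⟨z, hz⟩ := Cocycle.exists_boundary (p := p) act D hDmul Wk hWk
    (hTp.to_le hUT) (Sy : Subgroup G) Sy.not_dvd_index hA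
  have hzW : (z : Ω) ∈ W := hTW (hUT z.2)
  set c₂ := c₁ * (z : Ω) with hc₂
  have hc₂C : c₂ ∈ C := mul_mem hc₁C (hUC z.2)
  have htop : ∀ α ∈ E.autGroup T, Good F T c₂ T (autFun α) := by
    intro α hα
    obtain ⟨β, hβ, hw⟩ : ∃ β ∈ F.autGroup W, Envelope.Witness C β α :=
      Envelope.hasExt_of_normal h.normal hα
    set b : G := ⟨β, hβ, α, hα, hw⟩ with hb
    obtain ⟨w, hwT, hwe⟩ := hz b
    have hwz : autFun (w : MulAut W) z = z := hwT _ (hUT z.2)
    have hw2 : autFun (w : MulAut W) c₂ = autFun β c₂ := by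
      rw [hc₂, autFun_map_mul _ hc₁W hzW, autFun_map_mul _ hc₁W hzW, hDc w, hDc b, hwe, hwz]
      show c₁ * ((D b : Ω) * autFun β z * (z : Ω)⁻¹) * z = c₁ * (D b : Ω) * autFun β z
      group
    set β' : MulAut W := (w : MulAut W)⁻¹ * β
    have hβ'm : IsMap F W (autFun β') := (mem_autGroup_iff hWS).1 (mul_mem (inv_mem w.2.1) hβ)
    have hc₂W : c₂ ∈ W := hCW hc₂C
    have hfix : autFun β' c₂ = c₂ := by
      rw [autFun_mul _ _ hc₂W, ← hw2, autFun_map_inv _ hc₂W]
    refine ⟨le_rfl, fun x hx => autFun_mem α hx, autFun β',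
      hβ'm.mono (sup_le hTW (Subgroup.zpowers_le.2 hc₂W)), fun x hx => ?_,
      fun x hx => fix_zpowers hβ'm hc₂W hfix hx⟩
    rw [autFun_mul _ _ (hTW hx), hw.1 x hx]
    have hm := autFun_mem α hx
    conv_lhs => rw [← hwT _ hm]
    rw [autFun_map_inv _ (hTW hm)]
  refine ⟨z₀ * z, mul_mem hz₀Z z.2.1, ?_⟩
  rw [← mul_assoc]
  refine ⟨hc₂C, htop, fun α hα => hL.good_aut hc₂C (fun γ hγ => ?_) ?_ hα⟩
  · rw [hc₂, autFun_map_mul γ (Subgroup.mem_sup_right (hL.mem_cent hc₁C))
      (Subgroup.mem_sup_left (center_le_thompsonA T z.2.1)), hc₁fix γ hγ, z.2.2 γ hγ]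
  · rw [hTN]
    intro f hf
    have hi : img T f = T := eq_of_le_of_card_le le_rfl hf.img_le hf.card_img.ge
    exact (htop _ (autOf_mem hf hi)).congr fun x hx => (autFun_autOf hf hi hx).symm

/-- The top condition is invariant under `Aut_F(T)`. -/
theorem top_map {α : MulAut T} (hα : α ∈ F.autGroup T)
    (hA : IsMap F (T ⊔ centralizerIn S T) A) (hAa : ∀ x ∈ T, A x = autFun α x)
    (hc : Top F E c) : Top F E (A c) := by
  have hAT : img T A = T := (IsMap.img_congr hAa).trans (img_autFun α)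
  refine ⟨h.map_cent hA hAT hc.mem, fun δ hδ => ?_, fun δ hδ => ?_⟩
  · exact h.transport_aut hα hA hAa hc.mem le_rfl (img_autFun α) hc.top hδ
  · refine h.transport_aut hα hA hAa hc.mem (thompsonA_le_self' h.hTS) ?_ hc.jtop hδ
    rw [img_thompsonA ((mem_autGroup_iff h.hTS).1 hα), img_autFun]
where
  thompsonA_le_self' {D : Subgroup Ω} (hD : D ≤ S) : thompsonSubgroupAOf D ≤ D := by
    haveI := finite_of_le hD
    exact thompsonA_le_self D

/-- One subgroup equal to its Thompson subgroup. -/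
theorem good_thompson (hp : p ≠ 2) (hJT : J ≤ T) (hn : F.IsFullyNormalized J)
    (hsc : centralizerIn T J ≤ J) (hJJ : thompsonSubgroupAOf J = J) (hc : Top F E c)
    (hbig : ∀ (P : Subgroup Ω) (f : Ω → Ω), IsMap E P f → level S J < level S P →
      Good F T c P f) {δ : MulAut J} (hδ : δ ∈ E.autGroup J) : Good F T c J (autFun δ) := by
  have hTS := h.hTS
  haveI := finite_of_le hTS
  have hL := h.local_of hJT hn hsc
  set N := normalizerIn T J with hN
  have hJN : J ≤ N := le_normalizerIn hJT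
  haveI := finite_of_le (S := T) (P := N) inf_le_left
  haveI := finite_of_le hJT
  by_cases hle : thompsonSubgroupAOf N ≤ J
  · have he : thompsonSubgroupAOf N = J := by
      rw [← (thompsonA_eq_of_le hJN hle).1, hJJ]
    have hNT : N = T := by
      by_contra hne
      have hlt := lt_normalizerIn h.isPGroup_T (inf_le_left : N ≤ T) hne
      refine hlt.not_ge ?_
      rintro x ⟨hxT, hxN⟩
      have := normalizer_le_normalizer_thompsonA N hxN
      rw [he] at this
      exact ⟨hxT, this⟩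
    rw [hNT] at he
    subst he
    exact hc.jtop δ hδ
  · have hlev : level S J < level S N :=
      level_lt ((inf_le_left : N ≤ T).trans hTS) hJN (by rwa [hJJ])
    have hNbig : ∀ f, IsMap E N f → Good F T c N f := fun f hf => hbig N f hf hlev
    refine hL.good_aut hc.mem (fun γ hγ => hL.fix_of_thompson hc.mem hp (fun f hf => ?_) hγ)
      hNbig hδ
    refine hbig _ f hf (hlev.trans_le ?_)
    rw [← level_thompsonA (P := N) ((inf_le_left : N ≤ T).trans hTS)]
    exact level_mono (hf.le.trans hTS) le_sup_right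

/-- One fully normalized self-centralizing subgroup. -/
theorem good_local (hp : p ≠ 2) (hQT : Q ≤ T) (hn : F.IsFullyNormalized Q)
    (hsc : centralizerIn T Q ≤ Q) (hJn : F.IsFullyNormalized (thompsonSubgroupAOf Q))
    (hc : Top F E c) (hQne : Q ≠ T)
    (hbig : ∀ (P : Subgroup Ω) (f : Ω → Ω), IsMap E P f → level S Q ≤ level S P →
      (level S Q < level S P ∨ Nat.card Q < Nat.card P) → Good F T c P f)
    {δ : MulAut Q} (hδ : δ ∈ E.autGroup Q) : Good F T c Q (autFun δ) := by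
  have hTS := h.hTS
  haveI := finite_of_le hTS
  haveI := finite_of_le hQT
  have hL := h.local_of hQT hn hsc
  set N := normalizerIn T Q with hN
  have hQN : Q ≤ N := le_normalizerIn hQT
  have hNT : N ≤ T := inf_le_left
  haveI := finite_of_le hNT
  have hlt : Q < N := lt_normalizerIn h.isPGroup_T hQT hQne
  have hNbig : ∀ f, IsMap E N f → Good F T c N f := fun f hf =>
    hbig N f hf (level_mono (hNT.trans hTS) hQN) (Or.inr (card_lt_of_lt (hNT.trans hTS) hlt))
  refine hL.good_aut hc.mem (fun γ hγ => ?_) hNbig hδ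
  by_cases hle : thompsonSubgroupAOf N ≤ Q
  swap
  · refine hL.fix_of_thompson hc.mem hp (fun f hf => ?_) hγ
    refine hbig _ f hf (level_mono (hf.le.trans hTS) le_sup_left)
      (Or.inr (card_lt_of_lt (hf.le.trans hTS) (lt_of_le_not_ge le_sup_left fun h' => hle ?_)))
    exact le_sup_right.trans h'
  set J := thompsonSubgroupAOf Q with hJ
  obtain ⟨hJe, -⟩ := thompsonA_eq_of_le hQN hle
  have hJQ : J ≤ Q := thompsonA_le_self Q
  have hJT : J ≤ T := hJQ.trans hQT
  -- `J` is self-centralizing in `T`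
  set V := centralizerIn T J with hV
  have hVQ : V ≤ Q := by
    by_contra hne
    have hQV : Q ≤ Subgroup.normalizer (V : Set Ω) := by
      intro q hq
      have hJn' : q ∈ Subgroup.normalizer (J : Set Ω) :=
        normalizer_le_normalizer_thompsonA Q (Subgroup.le_normalizer hq)
      refine Subgroup.mem_normalizer_iff.2 fun v => ?_
      have key : ∀ r ∈ Subgroup.normalizer (J : Set Ω), r ∈ T → ∀ v ∈ V, r * v * r⁻¹ ∈ V := by
        intro r hr hrT v hv
        refine ⟨T.mul_mem (T.mul_mem hrT hv.1) (T.inv_mem hrT),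
          Subgroup.mem_centralizer_iff.2 fun y hy => ?_⟩
        have hy' := (Subgroup.mem_normalizer_iff.1 (inv_mem hr) y).1 hy
        have e := Subgroup.mem_centralizer_iff.1 hv.2 _ hy'
        rw [inv_inv] at e
        calc y * (r * v * r⁻¹) = r * (r⁻¹ * y * r * v) * r⁻¹ := by group
          _ = r * (v * (r⁻¹ * y * r)) * r⁻¹ := by rw [e]
          _ = _ := by group
      refine ⟨key q hJn' (hQT hq) v, fun hv => ?_⟩
      have h1 := key q⁻¹ (inv_mem hJn') (inv_mem (hQT hq)) _ hv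
      simpa [mul_assoc] using h1
    have hM : Q ⊔ V ≤ T := sup_le hQT inf_le_left
    have hQM : Q ≠ Q ⊔ V := fun e => hne (le_sup_right.trans e.ge)
    haveI := finite_of_le hM
    refine (lt_normalizerIn (h.isPGroup_T.to_le hM) le_sup_left hQM).not_ge ?_
    rintro w ⟨hwM, hwN⟩
    obtain ⟨q, hq, v, hv, rfl⟩ : w ∈ (Q : Set Ω) * (V : Set Ω) := by
      rw [← Subgroup.coe_mul_of_left_le_normalizer_right Q V hQV]
      exact hwM
    have hvN : v ∈ N := by
      refine ⟨hv.1, ?_⟩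
      rw [show v = q⁻¹ * (q * v) by group]
      exact Subgroup.mul_mem _ (Subgroup.inv_mem _ (Subgroup.le_normalizer hq)) hwN
    exact mul_mem hq (hle (centralizer_thompsonA_le ⟨hvN, by rw [← hJe]; exact hv.2⟩))
  have hscJ : centralizerIn T J ≤ J := fun v hv => centralizer_thompsonA_le ⟨hVQ hv, hv.2⟩
  have hlevJ : level S J = level S Q := level_thompsonA (hQT.trans hTS)
  have hJinv : ∀ ω ∈ lift F T Q, ∀ x ∈ J, autFun ω x ∈ J := by
    intro ω hω x hx
    have hm := ((mem_autGroup_iff (base_le hL.hQS)).1 (hL.lift_stab hω).1).mono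
      (le_sup_left : Q ≤ base S Q)
    have e : img J (autFun ω) = J := by
      rw [hJ, img_thompsonA hm, img_eq_of_map_le hL.hQS hm le_rfl fun y hy =>
        stab_mem (hL.lift_stab hω) hy]
    exact mem_of_img_eq hm hJQ e hx
  refine hL.fix_of_sub hc.mem hJQ hJinv
    (fun f hf => cent_img_le h.isPGroup h.sat h.closed hJT hJn hscJ hf) (fun ω hω => ?_) hγ
  have hωE : IsMap E Q (autFun (hL.res ⟨ω, hω⟩)) :=
    (mem_autGroup_iff hQT).1 (hL.res_range ⟨_, rfl⟩)
  have hωJ : ∀ x ∈ J, autFun (hL.res ⟨ω, hω⟩) x ∈ J := fun x hx => by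
    rw [hL.autFun_res _ (hJQ hx)]; exact hJinv ω hω x hx
  have hi : img J (autFun (hL.res ⟨ω, hω⟩)) = J := img_eq_of_map_le hJT hωE hJQ hωJ
  refine (h.good_thompson hp hJT hJn hscJ maxAb_thompsonA.2 hc
    (fun P f hf hP => hbig P f hf (hlevJ ▸ hP.le) (Or.inl (hlevJ ▸ hP)))
    (autOf_mem (hωE.mono hJQ) hi)).congr fun x hx => ?_
  rw [autFun_autOf (hωE.mono hJQ) hi hx, hL.autFun_res _ (hJQ hx)]

/-- One essential subgroup. -/
theorem good_essential (hp : p ≠ 2) (hR : E.IsEssential p R) (hRne : R ≠ T) (hc : Top F E c)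
    (hbig : ∀ c, Top F E c → ∀ (P : Subgroup Ω) (f : Ω → Ω), IsMap E P f →
      level S R ≤ level S P → (level S R < level S P ∨ Nat.card R < Nat.card P) →
      Good F T c P f)
    {κ : MulAut R} (hκ : κ ∈ E.autGroup R) : Good F T c R (autFun κ) := by
  have hTS := h.hTS
  haveI := finite_of_le hTS
  have hS := h.isPGroup
  have hRT : R ≤ T := hR.1.1
  have hRS := hRT.trans hTS
  -- move `R`
  obtain ⟨Q₁, hRQ, hQ₁⟩ := exists_fullyNormalized (F := F) hRS
  obtain ⟨hau₁, hre₁⟩ := IsSaturated.automized_receptive hS h.sat hQ₁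
  obtain ⟨θ₁, hθ₁, hθ₁i, hθ₁N⟩ := exists_map_normalizer hS hau₁ hre₁ hRQ
  haveI := finite_of_le hQ₁.1
  obtain ⟨J₂, hJJ, hJ₂⟩ := exists_fullyNormalized (F := F)
    ((thompsonA_le_self Q₁).trans hQ₁.1)
  obtain ⟨hau₂, hre₂⟩ := IsSaturated.automized_receptive hS h.sat hJ₂
  obtain ⟨θ₂, hθ₂, hθ₂i, -⟩ := exists_map_normalizer hS hau₂ hre₂ hJJ
  have hNN : normalizerIn S Q₁ ≤ normalizerIn S (thompsonSubgroupAOf Q₁) :=
    normalizerIn_le_normalizerIn_thompsonA hS hQ₁.1
  have hθ₂' := hθ₂.mono hNN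
  have hQ₁N : Q₁ ≤ normalizerIn S Q₁ := le_normalizerIn hQ₁.1
  set θ := θ₂ ∘ θ₁ with hθdef
  have hθ : IsMap F (normalizerIn S R) θ := hθ₁.comp hθ₂' hθ₁N
  set Q := img Q₁ θ₂ with hQdef
  have hθ₂Q := hθ₂'.mono hQ₁N
  have hRθ : img R θ = Q := by
    rw [hθdef, ← img_img (hθ₁.mono (le_normalizerIn hRS)), hθ₁i]
  have hQn : F.IsFullyNormalized Q := by
    refine ⟨hθ₂Q.img_le, fun U hU => ?_⟩
    refine (hQ₁.2 U (isConj_trans (isConj_iff.2 ⟨θ₂, hθ₂Q, rfl⟩) hU)).trans ?_
    rw [← hθ₂'.card_img]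
    refine card_le_of_le' inf_le_left fun y hy => ?_
    obtain ⟨x, hx, rfl⟩ := hθ₂'.mem_img.1 hy
    exact map_mem_normalizerIn hθ₂' hQ₁N hx hx.2
  have hJn : F.IsFullyNormalized (thompsonSubgroupAOf Q) := by
    rw [hQdef, ← img_thompsonA hθ₂Q, hθ₂i]
    exact hJ₂
  -- decompose
  have hNS : normalizerIn T R ≤ normalizerIn S R := inf_le_inf_right _ hTS
  obtain ⟨a, ha, e, he, hae⟩ := decomp_of_strongInv hS h.sat h.closed h.sub h.strong
    (hθ.mono hNS) inf_le_left
  have hRN : R ≤ normalizerIn T R := le_normalizerIn hRT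
  have heR := he.mono hRN
  set R₁ := img R e with hR₁
  have hR₁T : R₁ ≤ T := heR.img_le
  have ham := (mem_autGroup_iff hTS).1 ha
  have hQimg : img R₁ (autFun a) = Q := by
    rw [hR₁, img_img heR, ← hRθ]
    exact (IsMap.img_congr fun x hx => hae x (hRN hx)).symm
  have hQT : Q ≤ T := hQimg ▸ (ham.mono hR₁T).img_le_of_forall fun x hx => autFun_mem a (hR₁T hx)
  have hR₁c : centralizerIn T R₁ ≤ R₁ :=
    centralizerIn_le_of_isCentric (isCentric_of_isConj hR.1 (isConj_iff.2 ⟨e, heR, rfl⟩))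
  have hsc : centralizerIn T Q ≤ Q := by
    intro w hw
    have hw' : autFun a⁻¹ w ∈ centralizerIn T R₁ := by
      refine ⟨autFun_mem _ hw.1, Subgroup.mem_centralizer_iff.2 fun x hx => ?_⟩
      have hxQ : autFun a x ∈ Q := hQimg.le ((ham.mono hR₁T).mem_img.2 ⟨x, hx, rfl⟩)
      refine ham.inj (mul_mem (hR₁T hx) (autFun_mem _ hw.1))
        (mul_mem (autFun_mem _ hw.1) (hR₁T hx)) ?_
      rw [autFun_map_mul a (hR₁T hx) (autFun_mem _ hw.1),
        autFun_map_mul a (autFun_mem _ hw.1) (hR₁T hx), autFun_inv_apply a hw.1]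
      exact Subgroup.mem_centralizer_iff.1 hw.2 _ hxQ
    rw [← autFun_inv_apply a hw.1]
    exact hQimg.le ((ham.mono hR₁T).mem_img.2 ⟨_, hR₁c hw', rfl⟩)
  have hQcard : Nat.card Q = Nat.card R := by rw [← hRθ, (hθ.mono (le_normalizerIn hRS)).card_img]
  have hQlev : level S Q = level S R := by rw [← hRθ, level_img (hθ.mono (le_normalizerIn hRS))]
  have hQne : Q ≠ T := fun e' => hRne (eq_of_le_of_card_le hTS hRT (by rw [← hQcard, e']))
  -- move `c`
  obtain ⟨A, hA, hAa, hAT, hAW⟩ := h.exists_top_ext ha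
  obtain ⟨A', hA', hA'1, -⟩ := hA.exists_inv
  rw [hAW] at hA'
  have hc' := h.top_map ha hA hAa hc
  have hA'T : img T A' = T := by
    conv_lhs => rw [← hAT]
    rw [img_img (hA.mono le_sup_left), IsMap.img_congr (f := A' ∘ A) (g := id)
      fun x hx => hA'1 x (Subgroup.mem_sup_left hx), img_id]
  -- transport `κ`
  have hκm := (mem_autGroup_iff hRT).1 hκ
  obtain ⟨e', he', he'1, he'2⟩ := heR.exists_inv
  set k₁ := e ∘ (autFun κ ∘ e') with hk₁def
  have hk₁ : IsMap E R₁ k₁ :=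
    (he'.comp hκm fun y hy => (he'2 y hy).1).comp heR fun y hy => autFun_mem κ (he'2 y hy).1
  have hk₁R : ∀ y ∈ R₁, k₁ y ∈ R₁ := fun y hy =>
    heR.mem_img.2 ⟨_, autFun_mem κ (he'2 y hy).1, rfl⟩
  obtain ⟨k₂, hk₂, hk₂e⟩ := h.strong.transport hTS ha hk₁
  rw [hQimg] at hk₂
  have hk₂i : img Q k₂ = Q := img_eq_of_map_le hQT hk₂ le_rfl fun y hy => by
    obtain ⟨x, hx, rfl⟩ := (ham.mono hR₁T).mem_img.1 (hQimg.ge hy)
    rw [hk₂e x hx]
    exact hQimg.le ((ham.mono hR₁T).mem_img.2 ⟨_, hk₁R x hx, rfl⟩)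
  have hgood : Good F T (A c) Q k₂ :=
    (h.good_local hp hQT hQn hsc hJn hc' hQne
      (fun P f hf h1 h2 => hbig _ hc' P f hf (hQlev ▸ h1) (hQlev ▸ hQcard ▸ h2))
      (autOf_mem hk₂ hk₂i)).congr fun x hx => (autFun_autOf hk₂ hk₂i hx).symm
  obtain ⟨k₃, hk₃, hk₃e⟩ := h.transport hA' hA'T hc'.mem hgood
  rw [hA'1 c (Subgroup.mem_sup_right hc.mem)] at hk₃
  have hA'a : ∀ y ∈ T, A' (autFun a y) = y := fun y hy => by
    rw [← hAa y hy, hA'1 y (Subgroup.mem_sup_left hy)]
  have hsrc : img Q A' = R₁ := by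
    rw [← hQimg, img_img (ham.mono hR₁T),
      IsMap.img_congr (f := A' ∘ autFun a) (g := id) fun y hy => hA'a y (hR₁T hy), img_id]
  rw [hsrc] at hk₃
  have hk₃1 : ∀ y ∈ R₁, k₃ y = k₁ y := fun y hy => by
    have h1 := hk₃e _ (hQimg.le ((ham.mono hR₁T).mem_img.2 ⟨y, hy, rfl⟩))
    rwa [hA'a y (hR₁T hy), hk₂e y hy, hA'a _ (hk₁.mem_S hy)] at h1
  -- back to `R` along `e`
  have hNgood : Good F T c (normalizerIn T R) e := hbig c hc _ e he
    (level_mono ((inf_le_left : normalizerIn T R ≤ T).trans hTS) hRN)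
    (Or.inr (card_lt_of_lt ((inf_le_left : normalizerIn T R ≤ T).trans hTS)
      (lt_normalizerIn h.isPGroup_T hRT hRne)))
  have heX : IsMap (fixC F T c hTS hc.mem) R e :=
    CentFocal.isMap_fixSystem_iff.2 (hNgood.mono hRN)
  have hk₃X : IsMap (fixC F T c hTS hc.mem) R₁ k₃ := CentFocal.isMap_fixSystem_iff.2 hk₃
  obtain ⟨e'', he'', he''1, -⟩ := heX.exists_inv
  have hcomp := (heX.comp hk₃X fun x hx => heR.mem_img.2 ⟨x, hx, rfl⟩).comp he'' fun x hx => by
    show k₃ (e x) ∈ img R e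
    rw [hk₃1 _ (heR.mem_img.2 ⟨x, hx, rfl⟩)]
    exact hk₁R _ (heR.mem_img.2 ⟨x, hx, rfl⟩)
  refine Good.congr (CentFocal.isMap_fixSystem_iff.1 hcomp) fun x hx => ?_
  show autFun κ x = e'' (k₃ (e x))
  rw [hk₃1 _ (heR.mem_img.2 ⟨x, hx, rfl⟩), hk₁def]
  show autFun κ x = e'' (e (autFun κ (e' (e x))))
  rw [he'1 x hx, he''1 _ (autFun_mem κ hx)]

/-- All maps of `E` extend fixing an element satisfying the top condition. -/
theorem good_all (hp : p ≠ 2) : ∀ c, Top F E c → ∀ (P : Subgroup Ω) (f : Ω → Ω),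
    IsMap E P f → Good F T c P f := by
  have hTS := h.hTS
  haveI := finite_of_le hTS
  suffices key : ∀ n, ∀ c, Top F E c → ∀ (P : Subgroup Ω) (f : Ω → Ω), IsMap E P f →
      level S T < level S P + n → Good F T c P f from
    fun c hc P f hf => key (level S T + 1) c hc P f hf (by omega)
  intro n
  induction n with
  | zero =>
    intro c _ P f hf hlt
    exact absurd (level_mono hTS hf.le) (by omega)
  | succ n ih =>
    -- the maps at one level, by decreasing order
    have inner : ∀ k, ∀ c, Top F E c → ∀ (P : Subgroup Ω) (f : Ω → Ω), IsMap E P f →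
        level S T < level S P + (n + 1) → Nat.card T < Nat.card P + k → Good F T c P f := by
      intro k
      induction k with
      | zero =>
        intro c _ P f hf _ hlt
        exact absurd (card_le_of_le' (S := T) le_rfl hf.le) (by omega)
      | succ k ihk =>
        intro c hc P f hf hlev hcard
        refine CentFocal.isMap_fixSystem_iff.1 (isMap_of_autGroup_le_dominated h.isPGroup_T
          h.normal.1.1 (E := fixC F T c hTS hc.mem) (fun R ⟨g, hg, hgR⟩ hR => ?_) hf)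
        have hRT : R ≤ T := hR.elim (fun e => e.le) fun e => e.1.1
        have hlevR : level S P ≤ level S R := by
          rw [← level_img (hg.ofSubsystem h.sub)]
          exact level_mono (hRT.trans hTS) (hg.img_le_of_forall hgR)
        have hcardR : Nat.card P ≤ Nat.card R :=
          hg.card_img ▸ card_le_of_le' (hRT.trans hTS) (hg.img_le_of_forall hgR)
        intro κ hκ
        rw [mem_fixC_autGroup hRT]
        by_cases hRne : R = T
        · subst hRne
          exact hc.top κ hκ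
        rcases lt_or_ge (level S T) (level S R + n) with hb | hb
        · exact ih c hc R _ ((mem_autGroup_iff hRT).1 hκ) hb
        rcases lt_or_ge (Nat.card T) (Nat.card R + k) with hb' | hb'
        · exact ihk c hc R _ ((mem_autGroup_iff hRT).1 hκ) (by omega) hb'
        refine h.good_essential hp (hR.resolve_left hRne) hRne hc (fun c' hc' P' f' hf' h1 h2 => ?_)
          hκ
        rcases h2 with h2 | h2
        · exact ih c' hc' P' f' hf' (by omega)
        · exact ihk c' hc' P' f' hf' (by omega) (by omega)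
    intro c hc P f hf hlev
    exact inner (Nat.card T + 1) c hc P f hf hlev (by omega)

/-- `C_S(T)` consists of translates by `Z(T)` of elements centralizing `E`. -/
theorem exists_translate (hp : p ≠ 2) (hc : c ∈ centralizerIn S T) :
    ∃ z ∈ T ⊓ Subgroup.centralizer (T : Set Ω), c * z ∈ centralizerIn S T ∧
      ∀ (P : Subgroup Ω) (f : Ω → Ω), IsMap E P f → Good F T (c * z) P f := by
  obtain ⟨z, hz, htop⟩ := h.exists_top hc
  exact ⟨z, hz, htop.mem, fun P f hf => h.good_all hp _ htop P f hf⟩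

end Ctx

end CfsgLib.Fusion.CentLift
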