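import Cfsg.Agent.Lib.Fusion.System.CentralizerFocalMain
import Cfsg.Agent.S5251

/-!
# The centralizer in `S` of a normal subsystem
-/

set_option autoImplicit false
set_option maxHeartbeats 1000000
set_option linter.style.haveILetI false
set_option linter.unusedSectionVars false

open Subgroup
open scoped Classical

namespace CfsgLib.Fusion.CentFocal

open Cfsg (FusionSystem autInducedBy)
open Cfsg.FusionSystem (normalizerIn centralizerIn)
open CfsgLib.Fusion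
open CfsgLib.Fusion.PPrimeChar (Setup)

universe u

variable {Ω : Type u} [Group Ω] {S T : Subgroup Ω} {F : FusionSystem S} {E : FusionSystem T}
  {p : ℕ} {P Q : Subgroup Ω} {f : Ω → Ω}

/-- `y` is centralized by `E`. -/
def Works (F : FusionSystem S) (E : FusionSystem T) (y : Ω) : Prop :=
  y ∈ centralizerIn S T ∧ ∀ (P : Subgroup Ω) (f : Ω → Ω), IsMap E P f →
    ∃ g, IsMap F (P ⊔ Subgroup.zpowers y) g ∧ (∀ x ∈ P, g x = f x) ∧ g y = y

/-- The centralizer of `E` in `S`. -/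
def cent (F : FusionSystem S) (E : FusionSystem T) : Subgroup Ω :=
  Subgroup.closure {y | Works F E y}

theorem cent_le : cent F E ≤ centralizerIn S T := (Subgroup.closure_le _).2 fun _ h => h.1

theorem le_cent {Y : Subgroup Ω} (hY : Y ≤ centralizerIn S T)
    (h : ∀ P : Subgroup Ω, E.Hom P ⊆ F.centralizerHom Y P) : Y ≤ cent F E := by
  intro y hy
  refine Subgroup.subset_closure ⟨hY hy, fun P f hf => ?_⟩
  obtain ⟨φ, hφ, hφf⟩ := hf
  obtain ⟨-, -, g, hg, hgf, hgY⟩ := mem_centralizerHom_iff.1 (h P hφ)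
  exact ⟨g, hg.mono (sup_le_sup_left (Subgroup.zpowers_le.2 hy) P), fun x hx => by
    rw [hgf x hx, toFun_apply φ hx, hφf], hgY y hy⟩

theorem fix_zpowers {W : Subgroup Ω} {g : Ω → Ω} {y : Ω} (hg : IsMap F W g) (hy : y ∈ W)
    (h : g y = y) : ∀ z ∈ Subgroup.zpowers y, g z = z := fun z hz =>
  fix_closure hg ((Subgroup.closure_le _).2 (Set.singleton_subset_iff.2 hy))
    (fun x hx => (Set.mem_singleton_iff.1 hx) ▸ h)
    ((Subgroup.zpowers_eq_closure y).le hz)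

variable [Finite S] [Fact p.Prime]

theorem fixSet_works (hS : IsPGroup p S) (hF : F.IsSaturated p) (hE : E.IsNormalIn F p) :
    FixSet F E {y | Works F E y} := by
  obtain ⟨⟨hEs, -, hEi⟩, -⟩ := id hE
  obtain ⟨hsub, hT, -, -⟩ := id hEi
  have hTS := hT.1
  have hinv := (isInvariantIn_iff_strongInv hS hF hsub hT).1 hEi
  set C := centralizerIn S T with hC
  refine ⟨fun y hy => hy.1, fun A hAW hATi y hy => Subgroup.subset_closure ?_,
    fun Q γ hQT hγ hγQ hγE hγC y hy => ?_⟩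
  · set W := T ⊔ C
    have hTW : T ≤ W := le_sup_left
    have hyW : y ∈ W := Subgroup.mem_sup_right hy.1
    have hAy : A y ∈ C := by
      have h := map_mem_centralizerIn hAW hTW hyW hy.1.2
      rwa [hATi] at h
    refine ⟨hAy, fun P f hf => ?_⟩
    have hAT := hAW.mono hTW
    set a := autOf hAT hATi
    have ha : a ∈ F.autGroup T := autOf_mem hAT hATi
    have haA : ∀ x ∈ T, autFun a x = A x := fun x hx => autFun_autOf hAT hATi hx
    obtain ⟨k, hk, hke⟩ := hinv.transport hTS (inv_mem ha) hf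
    obtain ⟨g, hg, hgk, hgy⟩ := hy.2 _ _ hk
    set P₁ := img P (autFun a⁻¹)
    have hP := hf.le
    have hP₁ : P₁ ≤ T := hk.le
    obtain ⟨A', hA', hA'1, -⟩ := hAW.exists_inv
    have hle : P₁ ⊔ Subgroup.zpowers y ≤ W :=
      sup_le (hP₁.trans hTW) (Subgroup.zpowers_le.2 hyW)
    have hgW : ∀ z ∈ P₁ ⊔ Subgroup.zpowers y, g z ∈ W := fun z hz =>
      hg.map_mem_of_sup (fun x hx => by rw [hgk x hx]; exact hTW (hk.mem_S hx)) (fun x hx => by
        rw [fix_zpowers hg (Subgroup.mem_sup_right (Subgroup.mem_zpowers y)) hgy x hx]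
        exact Subgroup.zpowers_le.2 hyW hx) hz
    have hsrc : P ⊔ Subgroup.zpowers (A y) ≤ img (P₁ ⊔ Subgroup.zpowers y) A := by
      refine sup_le (fun x hx => ?_) (Subgroup.zpowers_le.2 ((hAW.mono hle).mem_img.2
        ⟨y, Subgroup.mem_sup_right (Subgroup.mem_zpowers y), rfl⟩))
      refine (hAW.mono hle).mem_img.2 ⟨autFun a⁻¹ x, Subgroup.mem_sup_left
        (((isMap_autFun_of_mem hTS (inv_mem ha)).mono hP).mem_img.2 ⟨x, hx, rfl⟩), ?_⟩
      rw [← haA _ (autFun_mem a⁻¹ (hP hx)), autFun_inv_apply a (hP hx)]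
    have hm : IsMap F (P ⊔ Subgroup.zpowers (A y)) (A ∘ (g ∘ A')) := by
      have hs : img (P₁ ⊔ Subgroup.zpowers y) A ≤ img W A := hAW.img_mono hle
      refine ((((hA'.mono hs).comp hg fun z hz => ?_).comp hAW fun z hz => ?_)).mono hsrc
      all_goals obtain ⟨x, hx, rfl⟩ := (hAW.mono hle).mem_img.1 hz
      · rwa [hA'1 x (hle hx)]
      · show g (A' (A x)) ∈ W
        rw [hA'1 x (hle hx)]
        exact hgW x hx
    refine ⟨A ∘ (g ∘ A'), hm, fun x hx => ?_, ?_⟩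
    · have hx1 := autFun_mem a⁻¹ (hP hx)
      have hxe : A (autFun a⁻¹ x) = x := by rw [← haA _ hx1, autFun_inv_apply a (hP hx)]
      show A (g (A' x)) = f x
      conv_lhs => rw [← hxe]
      rw [hA'1 _ (hTW hx1),
        hgk _ (((isMap_autFun_of_mem hTS (inv_mem ha)).mono hP).mem_img.2 ⟨x, hx, rfl⟩), hke x hx,
        ← haA _ (autFun_mem a⁻¹ (hf.mem_S hx)), autFun_inv_apply a (hf.mem_S hx)]
    · show A (g (A' (A y))) = A y
      rw [hA'1 y hyW, hgy]
  · obtain ⟨g, hg, hgγ, hgy⟩ := hy.2 Q γ hγE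
    obtain ⟨z, hz⟩ : ∃ z, z = y⁻¹ * γ y := ⟨_, rfl⟩
    have hzZ : z ∈ Q ⊓ Subgroup.centralizer (Q : Set Ω) := hz ▸ hγC y hy.1
    set V := Q ⊔ Subgroup.zpowers y
    have hyV : y ∈ V := Subgroup.mem_sup_right (Subgroup.mem_zpowers y)
    have hVC : V ≤ Q ⊔ C := sup_le_sup_left (Subgroup.zpowers_le.2 hy.1) Q
    have hγV := hγ.mono hVC
    have hγi : img V γ = V := img_eq_of_map_le (hVC.trans hγ.le) hγV le_rfl fun w hw =>
      hγV.map_mem_of_sup (fun x hx => Subgroup.mem_sup_left (hγQ x hx)) (fun c hc => by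
        have hcC : c ∈ C := Subgroup.zpowers_le.2 hy.1 hc
        rw [show γ c = c * (c⁻¹ * γ c) by group]
        exact mul_mem (Subgroup.mem_sup_right hc) (Subgroup.mem_sup_left (hγC c hcC).1)) hw
    obtain ⟨γ', hγ', hγ'1, hγ'2⟩ := hγV.exists_inv
    rw [hγi] at hγ' hγ'2
    have hd : IsMap F V (g ∘ γ') := hγ'.comp hg fun w hw => (hγ'2 w hw).1
    have hQi : img Q γ = Q := img_eq_of_map_le (hQT.trans hTS) hγ le_sup_left hγQ
    have hdQ : ∀ x ∈ Q, g (γ' x) = x := fun x hx => by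
      obtain ⟨w, hw, rfl⟩ := (hγ.mono le_sup_left).mem_img.1 (hQi.ge hx)
      rw [hγ'1 w (Subgroup.mem_sup_left hw), hgγ w hw]
    have hdy : g (γ' y) = y * z⁻¹ := by
      have h1 : g (γ' (y * z)) = y := by
        rw [hz, mul_inv_cancel_left, hγ'1 y hyV, hgy]
      have h2 : g (γ' (y * z)) = g (γ' y) * g (γ' z) :=
        hd.map_mul hyV (Subgroup.mem_sup_left hzZ.1)
      rw [h1, hdQ z hzZ.1] at h2
      exact eq_mul_inv_of_mul_eq h2.symm
    refine ⟨y, hy.1, g ∘ γ', hd, hdQ, ?_, ?_⟩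
    · show y⁻¹ * g (γ' y) ∈ _
      rw [hdy, inv_mul_cancel_left]
      exact inv_mem hzZ
    · show γ y = y * (y⁻¹ * g (γ' y))⁻¹
      rw [hdy, inv_mul_cancel_left, inv_inv, hz, mul_inv_cancel_left]

theorem hom_subset_centralizerHom_cent (hS : IsPGroup p S) (hF : F.IsSaturated p)
    (hE : E.IsNormalIn F p) (P : Subgroup Ω) : E.Hom P ⊆ F.centralizerHom (cent F E) P := by
  intro φ hφ
  have h := isMap_fixSystem_iff.1
    (isMap_fixSystem hS hF hE (fixSet_works hS hF hE) (isMap_toFun hφ))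
  have hle := le_centralizerIn_of_le hE.1.2.2.2.1.1 (cent_le (F := F) (E := E))
  exact mem_centralizerHom_iff.2 ⟨h.1.trans hle, fun x hx => hle (h.2.1 x hx), h.2.2⟩

theorem focal_le_cent (hS : IsPGroup p S) (hF : F.IsSaturated p) (hE : E.IsNormalIn F p) :
    focal F T ≤ cent F E :=
  le_cent focal_le (hom_subset_centralizerHom hS hF hE)

/-- A map fixing `Q` on `Q ⟨v⟩` moving `v` centrally moves all elements centrally. -/
theorem defect_all {W : Subgroup Ω} {d : Ω → Ω} {v : Ω} (hW : W = Q ⊔ Subgroup.zpowers v)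
    (hd : IsMap F W d)
    (hv : v ∈ Subgroup.centralizer (Q : Set Ω)) (hdQ : ∀ x ∈ Q, d x = x)
    (hdv : v⁻¹ * d v ∈ Q ⊓ Subgroup.centralizer (Q : Set Ω)) {w : Ω} (hw : w ∈ W) :
    w⁻¹ * d w ∈ Q ⊓ Subgroup.centralizer (Q : Set Ω) := by
  subst hW
  have hZ : ∀ z ∈ Q ⊓ Subgroup.centralizer (Q : Set Ω), ∀ x ∈ Q ⊔ Subgroup.zpowers v,
      x * z = z * x := by
    intro z hz x hx
    have h : Q ⊔ Subgroup.zpowers v ≤ Subgroup.centralizer {z} := sup_le
      (fun x hx => Subgroup.mem_centralizer_singleton_iff.2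
        (Subgroup.mem_centralizer_iff.1 hz.2 x hx))
      (Subgroup.zpowers_le.2 (Subgroup.mem_centralizer_singleton_iff.2
        (Subgroup.mem_centralizer_iff.1 hv z hz.1).symm))
    exact Subgroup.mem_centralizer_singleton_iff.1 (h hx)
  let L : Subgroup Ω :=
    { carrier := {x | x ∈ Q ⊔ Subgroup.zpowers v ∧
        x⁻¹ * d x ∈ Q ⊓ Subgroup.centralizer (Q : Set Ω)}
      one_mem' := ⟨one_mem _, by rw [hd.map_one, inv_mul_cancel]; exact one_mem _⟩
      mul_mem' := fun {a b} ⟨ha, ha'⟩ ⟨hb, hb'⟩ => ⟨mul_mem ha hb, by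
        have e : (a * b)⁻¹ * d (a * b) = b⁻¹ * (a⁻¹ * d a) * d b := by
          rw [hd.map_mul ha hb]; group
        rw [e, hZ _ ha' b⁻¹ (inv_mem hb), mul_assoc]
        exact mul_mem ha' hb'⟩
      inv_mem' := fun {a} ⟨ha, ha'⟩ => ⟨inv_mem ha, by
        rw [hd.map_inv ha, inv_inv]
        have h1 := inv_mem ha'
        have e : a * (d a)⁻¹ = a * ((a⁻¹ * d a)⁻¹ * a⁻¹) := by group
        rw [e, ← hZ _ h1 a⁻¹ (inv_mem ha), ← mul_assoc, mul_inv_cancel, one_mul]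
        exact h1⟩ }
  exact (sup_le (c := L) (fun x hx => ⟨Subgroup.mem_sup_left hx, by
    rw [hdQ x hx, inv_mul_cancel]; exact one_mem _⟩)
    (Subgroup.zpowers_le.2 ⟨Subgroup.mem_sup_right (Subgroup.mem_zpowers v), hdv⟩) hw).2

/-- An extension to `T C_S(T)` carries the centralizer of `E` into itself. -/
theorem map_cent (hS : IsPGroup p S) (hF : F.IsSaturated p) (hE : E.IsNormalIn F p) {A : Ω → Ω}
    (hA : IsMap F (T ⊔ centralizerIn S T) A) (hAT : img T A = T) {y : Ω} (hy : y ∈ cent F E) :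
    A y ∈ cent F E := by
  have hW : cent F E ≤ T ⊔ centralizerIn S T := cent_le.trans le_sup_right
  let K : Subgroup Ω :=
    { carrier := {y | y ∈ T ⊔ centralizerIn S T ∧ A y ∈ cent F E}
      one_mem' := ⟨one_mem _, by rw [hA.map_one]; exact one_mem _⟩
      mul_mem' := fun {a b} ⟨ha, hga⟩ ⟨hb, hgb⟩ => ⟨mul_mem ha hb, by
        rw [hA.map_mul ha hb]; exact mul_mem hga hgb⟩
      inv_mem' := fun {a} ⟨ha, hga⟩ => ⟨inv_mem ha, by rw [hA.map_inv ha]; exact inv_mem hga⟩ }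
  exact ((Subgroup.closure_le K).2 (fun z hz => (⟨hW (Subgroup.subset_closure hz),
    (fixSet_works hS hF hE).inv A hA hAT z hz⟩ :
      z ∈ T ⊔ centralizerIn S T ∧ A z ∈ cent F E)) hy).2

theorem exists_extension (hS : IsPGroup p S) (hF : F.IsSaturated p) (hT : F.StronglyClosed T)
    {a : MulAut T} (ha : a ∈ F.autGroup T) :
    ∃ A, IsMap F (T ⊔ centralizerIn S T) A ∧ img T A = T ∧ ∀ x ∈ T, A x = autFun a x := by
  have ham := (mem_autGroup_iff hT.1).1 ha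
  obtain ⟨-, hrec⟩ := IsSaturated.automized_receptive hS hF
    (Envelope.isFullyNormalized_of_normalized hT.1
      ((le_normalizerIn_of_stronglyClosed hT).trans inf_le_right))
  obtain ⟨A, hA, hAa⟩ := (isReceptive_iff.1 hrec).2 T _ ham (img_autFun a)
  exact ⟨A, hA.mono (sup_le (le_extSub ham) centralizerIn_le_extSub),
    (IsMap.img_congr hAa).trans (img_autFun a), hAa⟩

/-- Maps defined on `T` and an element of the centralizer keep it there. -/
theorem map_cent_of_top (hS : IsPGroup p S) (hF : F.IsSaturated p) (hE : E.IsNormalIn F p)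
    {f : Ω → Ω} {x : Ω} (hx : x ∈ cent F E) (hf : IsMap F (T ⊔ Subgroup.zpowers x) f) :
    f x ∈ cent F E := by
  have hT := hE.1.2.2.2.1
  have hTS := hT.1
  have hfT := hf.mono (le_sup_left : T ≤ _)
  have hfi : img T f = T := img_eq_of_map_le hTS hfT le_rfl fun t ht =>
    (stronglyClosed_iff.1 hT).2 T f le_rfl hfT t ht
  obtain ⟨A, hA, hAT, hAa⟩ := exists_extension hS hF hT (autOf_mem hfT hfi)
  set C := centralizerIn S T
  have hxC := cent_le hx
  have hfx : f x ∈ C := by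
    have h := map_mem_centralizerIn hf (le_sup_left : T ≤ _)
      (Subgroup.mem_sup_right (Subgroup.mem_zpowers x)) hxC.2
    rwa [hfi] at h
  have hWS : T ⊔ C ≤ S := sup_le hTS inf_le_left
  have hAC : ∀ c ∈ C, A c ∈ C := fun c hc => by
    have h := map_mem_centralizerIn hA le_sup_left (Subgroup.mem_sup_right hc) hc.2
    rwa [hAT] at h
  have hAi : img (T ⊔ C) A = T ⊔ C := img_eq_of_map_le hWS hA le_rfl fun z hz =>
    hA.map_mem_of_sup (fun t ht => Subgroup.mem_sup_left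
      (hAT.le ((hA.mono le_sup_left).mem_img.2 ⟨t, ht, rfl⟩)))
      (fun c hc => Subgroup.mem_sup_right (hAC c hc)) hz
  obtain ⟨A', hA', hA'1, hA'2⟩ := hA.exists_inv
  rw [hAi] at hA' hA'2
  have hfW : ∀ z ∈ T ⊔ Subgroup.zpowers x, f z ∈ T ⊔ C := fun z hz =>
    hf.map_mem_of_sup (fun t ht => Subgroup.mem_sup_left
      (hfi.le (hfT.mem_img.2 ⟨t, ht, rfl⟩))) (fun c hc => by
      have hcC : c ∈ C := Subgroup.zpowers_le.2 hxC hc
      have h := map_mem_centralizerIn hf (le_sup_left : T ≤ _) (Subgroup.mem_sup_right hc) hcC.2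
      rw [hfi] at h
      exact Subgroup.mem_sup_right h) hz
  have hh : IsMap F (Subgroup.zpowers x ⊔ T) (A' ∘ f) :=
    (sup_comm T (Subgroup.zpowers x)) ▸ hf.comp hA' hfW
  have hhT : ∀ t ∈ T, A' (f t) = t := fun t ht => by
    rw [← autFun_autOf hfT hfi ht, ← hAa t ht, hA'1 t (Subgroup.mem_sup_left ht)]
  have h1 : x⁻¹ * A' (f x) ∈ focal F T := Subgroup.subset_closure ⟨x, hxC, _, hh, hhT, rfl⟩
  have h2 := mul_mem hx (focal_le_cent hS hF hE h1)
  rw [mul_inv_cancel_left] at h2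
  have h3 := map_cent hS hF hE hA hAT h2
  rwa [(hA'2 _ (Subgroup.mem_sup_right hfx)).2] at h3

/-- Maps on a centric subgroup and an element of the centralizer keep it there. -/
theorem map_cent_of_centric (hS : IsPGroup p S) (hF : F.IsSaturated p) (hE : E.IsNormalIn F p) :
    ∀ {Q : Subgroup Ω} {f : Ω → Ω} {x : Ω}, E.IsCentric Q → x ∈ cent F E →
      IsMap F (Q ⊔ Subgroup.zpowers x) f → f x ∈ cent F E := by
  obtain ⟨⟨hEs, -, hEi⟩, -⟩ := id hE
  obtain ⟨hsub, hT, -, -⟩ := id hEi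
  have hTS := hT.1
  haveI := finite_of_le hTS
  have hTp := hS.to_le hTS
  have hinv := (isInvariantIn_iff_strongInv hS hF hsub hT).1 hEi
  have hset : Setup F E p (1 : F.autGroup T →* Unit) :=
    ⟨hS, hF, hTS, hEs, hEi, by simp, fun _ _ => by simp⟩
  intro Q f x
  induction hk : Nat.card T - Nat.card Q using Nat.strong_induction_on generalizing Q f x with
  | _ k ih =>
  intro hQ hx hf
  have hQT := hQ.1
  by_cases hQeq : Q = T
  · subst hQeq
    exact map_cent_of_top hS hF hE hx hf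
  have hxC := cent_le hx
  have hQm := hf.mono (le_sup_left : Q ≤ _)
  obtain ⟨a, ha, e, he, hae⟩ := decomp_of_strongInv hS hF hT hsub hinv hQm hQT
  -- reduce to a map fixing a conjugate of `Q`
  obtain ⟨eh, heh, hehQ, hehx⟩ : ∃ g, IsMap F (Q ⊔ Subgroup.zpowers x) g ∧
      (∀ z ∈ Q, g z = e z) ∧ g x = x := by
    obtain ⟨φ, hφ, hφe⟩ := id he
    obtain ⟨-, -, g, hg, hgφ, hgY⟩ :=
      mem_centralizerHom_iff.1 (hom_subset_centralizerHom_cent hS hF hE Q hφ)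
    exact ⟨g, hg.mono (sup_le_sup_left (Subgroup.zpowers_le.2 hx) Q), fun z hz => by
      rw [hgφ z hz, toFun_apply φ hz, hφe], hgY x hx⟩
  obtain ⟨A, hA, hAT, hAa⟩ := exists_extension hS hF hT ha
  set C := centralizerIn S T
  have hx₁ : A x ∈ cent F E := map_cent hS hF hE hA hAT hx
  set x₁ := A x with hx₁d
  set V := Q ⊔ Subgroup.zpowers x
  have hmid : ∀ z ∈ V, eh z ∈ T ⊔ C := fun z hz =>
    heh.map_mem_of_sup (fun w hw => Subgroup.mem_sup_left (by rw [hehQ w hw]; exact he.mem_S hw))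
      (fun w hw => by
        rw [fix_zpowers heh (Subgroup.mem_sup_right (Subgroup.mem_zpowers x)) hehx w hw]
        exact Subgroup.mem_sup_right (Subgroup.zpowers_le.2 hxC hw)) hz
  have hg₀ : IsMap F V (A ∘ eh) := heh.comp hA hmid
  obtain ⟨g₀', hg₀', hg₀'1, hg₀'2⟩ := hg₀.exists_inv
  set Q₁ := img Q f with hQ₁
  have hg₀Q : ∀ z ∈ Q, A (eh z) = f z := fun z hz => by
    rw [hehQ z hz, hAa _ (he.mem_S hz), ← hae z hz]
  have hg₀x : A (eh x) = x₁ := by rw [hehx, hx₁d]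
  have hle : Q₁ ⊔ Subgroup.zpowers x₁ ≤ img V (A ∘ eh) := sup_le
    (fun z hz => by
      obtain ⟨w, hw, rfl⟩ := hQm.mem_img.1 hz
      exact hg₀.mem_img.2 ⟨w, Subgroup.mem_sup_left hw, hg₀Q w hw⟩)
    (Subgroup.zpowers_le.2 (hg₀.mem_img.2
      ⟨x, Subgroup.mem_sup_right (Subgroup.mem_zpowers x), hg₀x⟩))
  set d := f ∘ g₀' with hdd
  have hd : IsMap F (Q₁ ⊔ Subgroup.zpowers x₁) d :=
    (hg₀'.mono hle).comp hf fun z hz => (hg₀'2 z (hle hz)).1
  have hdQ : ∀ z ∈ Q₁, d z = z := fun z hz => by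
    obtain ⟨w, hw, rfl⟩ := hQm.mem_img.1 hz
    show f (g₀' (f w)) = f w
    have h2 : g₀' (A (eh w)) = w := hg₀'1 w (Subgroup.mem_sup_left hw)
    rw [hg₀Q w hw] at h2
    rw [h2]
  have hdx : d x₁ = f x := by
    show f (g₀' x₁) = f x
    rw [← hg₀x]
    exact congrArg f (hg₀'1 x (Subgroup.mem_sup_right (Subgroup.mem_zpowers x)))
  rw [← hdx]
  -- the map `d` fixes `R`
  have hRc : E.IsCentric Q₁ := hset.isCentric_of_map hQ hQm
  have hRcard : Nat.card Q₁ = Nat.card Q := hQm.card_img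
  have hR := hRc.1
  have hRne : Q₁ ≠ T := fun h => hQeq (eq_of_le_of_card_le hTS hQT (by rw [← hRcard, h]))
  clear_value d
  clear hdd hdx hg₀' hg₀'1 hg₀'2 hle
  set x' := d x₁ with hx'd
  set W := Q₁ ⊔ Subgroup.zpowers x₁ with hWd
  set W' := Q₁ ⊔ Subgroup.zpowers x' with hW'd
  have hx₁C := cent_le hx₁
  have hx₁Q : x₁ ∈ Subgroup.centralizer (Q₁ : Set Ω) := Subgroup.centralizer_le hR hx₁C.2
  have hRW : Q₁ ≤ W := le_sup_left
  have hx₁W : x₁ ∈ W := Subgroup.mem_sup_right (Subgroup.mem_zpowers x₁)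
  have hWS : W ≤ S := hd.le
  have hx'S : x' ∈ S := hd.mem_S hx₁W
  have hW'S : W' ≤ S := sup_le (hR.trans hTS) (Subgroup.zpowers_le.2 hx'S)
  have hRW' : Q₁ ≤ W' := le_sup_left
  have hx'W : x' ∈ W' := Subgroup.mem_sup_right (Subgroup.mem_zpowers x')
  have hx'Q : x' ∈ Subgroup.centralizer (Q₁ : Set Ω) := by
    refine Subgroup.mem_centralizer_iff.2 fun z hz => ?_
    have := (hd.map_commute (hRW hz) hx₁W (Subgroup.mem_centralizer_iff.1 hx₁Q z hz)).eq
    rwa [hdQ z hz] at this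
  have hZ : Q₁ ⊓ Subgroup.centralizer (Q₁ : Set Ω) ≤ Subgroup.centralizer (W' : Set Ω) := by
    intro z hz
    have h : W' ≤ Subgroup.centralizer {z} := sup_le
      (fun w hw => Subgroup.mem_centralizer_singleton_iff.2
        (Subgroup.mem_centralizer_iff.1 hz.2 w hw))
      (Subgroup.zpowers_le.2 (Subgroup.mem_centralizer_singleton_iff.2
        (Subgroup.mem_centralizer_iff.1 hx'Q z hz.1).symm))
    exact Subgroup.mem_centralizer_iff.2 fun w hw =>
      Subgroup.mem_centralizer_singleton_iff.1 (h hw)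
  haveI := finite_of_le hW'S
  haveI := finite_mulAut (P := W')
  set N := normalizerIn T Q₁ with hNd
  -- the action of `N`
  have hact : ∀ t ∈ N, x'⁻¹ * (t * x' * t⁻¹) ∈ Q₁ ⊓ Subgroup.centralizer (Q₁ : Set Ω) := by
    intro t ht
    have h1 : x'⁻¹ * (t * x' * t⁻¹) ∈ T := by
      rw [show x'⁻¹ * (t * x' * t⁻¹) = x'⁻¹ * t * x'⁻¹⁻¹ * t⁻¹ by group]
      exact mul_mem ((Subgroup.mem_normalizer_iff.1
        (le_normalizerIn_of_stronglyClosed hT (inv_mem hx'S)).2 t).1 ht.1) (inv_mem ht.1)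
    have h2 : x'⁻¹ * (t * x' * t⁻¹) ∈ Subgroup.centralizer (Q₁ : Set Ω) := by
      refine Subgroup.mul_mem _ (Subgroup.inv_mem _ hx'Q) (Subgroup.mem_centralizer_iff.2 fun z hz => ?_)
      have hz' : t⁻¹ * z * t⁻¹⁻¹ ∈ Q₁ := (Subgroup.mem_normalizer_iff.1 (inv_mem ht.2) z).1 hz
      calc z * (t * x' * t⁻¹) = t * ((t⁻¹ * z * t⁻¹⁻¹) * x') * t⁻¹ := by group
        _ = t * (x' * (t⁻¹ * z * t⁻¹⁻¹)) * t⁻¹ := by
          rw [Subgroup.mem_centralizer_iff.1 hx'Q _ hz']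
        _ = _ := by group
    exact ⟨centralizerIn_le_of_isCentric hRc ⟨h1, h2⟩, h2⟩
  have hNW' : N ≤ Subgroup.normalizer (W' : Set Ω) := by
    have key : ∀ t ∈ N, W' ≤ W'.comap (MulAut.conj t).toMonoidHom := fun t ht => sup_le
      (fun z hz => hRW' ((Subgroup.mem_normalizer_iff.1 ht.2 z).1 hz))
      (Subgroup.zpowers_le.2 (show t * x' * t⁻¹ ∈ W' by
        rw [show t * x' * t⁻¹ = x' * (x'⁻¹ * (t * x' * t⁻¹)) by group]
        exact mul_mem hx'W (hRW' (hact t ht).1)))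
    intro t ht
    rw [Subgroup.mem_normalizer_iff]
    refine fun z => ⟨fun hz => key t ht hz, fun hz => ?_⟩
    have h1 := key t⁻¹ (inv_mem ht) hz
    simpa [mul_assoc] using h1
  set K := stab F W' Q₁ hRW' hZ with hKd
  set B := autInducedBy N W' with hBd
  have hBS : B ≤ autInducedBy S W' := fun b hb => by
    obtain ⟨g, hg, hge⟩ := mem_autInducedBy_iff.1 hb
    exact mem_autInducedBy_iff.2 ⟨g, hTS hg.1, hge⟩
  have hnorm : B ≤ Subgroup.normalizer (K : Set (MulAut W')) := by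
    have key : ∀ b ∈ B, ∀ k ∈ K, b * k * b⁻¹ ∈ K := by
      intro b hb k ⟨hk, hk1, hk2⟩
      obtain ⟨s, hs, hbs⟩ := mem_autInducedBy_iff.1 hb
      have hbF : b ∈ F.autGroup W' := autInducedBy_le_autGroup hW'S (hBS hb)
      have hinvs : ∀ z ∈ W', autFun b⁻¹ z = s⁻¹ * z * s⁻¹⁻¹ := fun z hz => by
        have h1 := hbs _ (autFun_mem b⁻¹ hz)
        rw [autFun_inv_apply b hz] at h1
        conv_rhs => rw [h1]
        group
      have hval : ∀ z ∈ W', autFun (b * k * b⁻¹) z =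
          s * autFun k (s⁻¹ * z * s⁻¹⁻¹) * s⁻¹ := fun z hz => by
        rw [autFun_mul _ _ hz, autFun_mul _ _ (autFun_mem _ hz), hinvs z hz,
          hbs _ (autFun_mem k (hinvs z hz ▸ autFun_mem b⁻¹ hz))]
      refine ⟨mul_mem (mul_mem hbF hk) (inv_mem hbF), fun z hz => ?_, fun z hz => ?_⟩
      · rw [hval z (hRW' hz), hk1 _ ((Subgroup.mem_normalizer_iff.1 (inv_mem hs.2) z).1 hz)]
        group
      · have hzs : s⁻¹ * z * s⁻¹⁻¹ ∈ W' := hinvs z hz ▸ autFun_mem b⁻¹ hz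
        have h2 := hk2 _ hzs
        rw [hval z hz, show z⁻¹ * (s * autFun k (s⁻¹ * z * s⁻¹⁻¹) * s⁻¹) =
          s * ((s⁻¹ * z * s⁻¹⁻¹)⁻¹ * autFun k (s⁻¹ * z * s⁻¹⁻¹)) * s⁻¹ by group]
        set w := (s⁻¹ * z * s⁻¹⁻¹)⁻¹ * autFun k (s⁻¹ * z * s⁻¹⁻¹)
        refine ⟨(Subgroup.mem_normalizer_iff.1 hs.2 w).1 h2.1,
          Subgroup.mem_centralizer_iff.2 fun y hy => ?_⟩
        have hy' : s⁻¹ * y * s⁻¹⁻¹ ∈ Q₁ := (Subgroup.mem_normalizer_iff.1 (inv_mem hs.2) y).1 hy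
        calc y * (s * w * s⁻¹) = s * ((s⁻¹ * y * s⁻¹⁻¹) * w) * s⁻¹ := by group
          _ = s * (w * (s⁻¹ * y * s⁻¹⁻¹)) * s⁻¹ := by
            rw [Subgroup.mem_centralizer_iff.1 h2.2 _ hy']
          _ = _ := by group
    intro b hb
    rw [Subgroup.mem_normalizer_iff]
    refine fun k => ⟨key b hb k, fun hk => ?_⟩
    have h1 := key b⁻¹ (inv_mem hb) _ hk
    rwa [show b⁻¹ * (b * k * b⁻¹) * b⁻¹⁻¹ = k by group] at h1
  have hA' : IsPGroup p (K ⊔ B : Subgroup (MulAut W')) :=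
    (isPGroup_stab hS hW'S).to_sup_of_normal_left' ((isPGroup_autInducedBy hS).to_le hBS) hnorm
  obtain ⟨θ, hθ, hθn, hθA⟩ := exists_conj_pAut hS hF hW'S hA'
    (sup_le (fun k hk => hk.1) (hBS.trans (autInducedBy_le_autGroup hW'S)))
  obtain ⟨hauto, hrec⟩ := IsSaturated.automized_receptive hS hF hθn
  have hdW : img W d = W' := by
    refine le_antisymm (hd.img_le_of_forall fun z hz => ?_)
      (sup_le (fun z hz => hd.mem_img.2 ⟨z, hRW hz, hdQ z hz⟩)
        (Subgroup.zpowers_le.2 (hd.mem_img.2 ⟨x₁, hx₁W, rfl⟩)))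
    refine hd.map_mem_of_sup (fun w hw => by rw [hdQ w hw]; exact hRW' hw) (fun w hw => ?_) hz
    obtain ⟨n, rfl⟩ := hw
    obtain ⟨φ, -, hφ⟩ := id hd
    have h1 := map_zpow φ ⟨x₁, hx₁W⟩ n
    rw [hφ, hφ, Subgroup.coe_zpow] at h1
    show d (x₁ ^ n) ∈ W'
    rw [show d (x₁ ^ n) = d x₁ ^ n from h1]
    exact W'.zpow_mem hx'W n
  have hθd : IsMap F W (θ ∘ d) := hd.comp hθ fun z hz => hdW.le (hd.mem_img.2 ⟨z, hz, rfl⟩)
  -- `t` normalizes `W` and extends
  have hNW : ∀ t ∈ N, ∀ z ∈ W, t * z * t⁻¹ ∈ W := fun t ht z hz => by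
    have key : W ≤ W.comap (MulAut.conj t).toMonoidHom := sup_le
      (fun w hw => hRW ((Subgroup.mem_normalizer_iff.1 ht.2 w).1 hw))
      (Subgroup.zpowers_le.2 (show t * x₁ * t⁻¹ ∈ W by
        rw [Subgroup.mem_centralizer_iff.1 hx₁C.2 t ht.1, mul_inv_cancel_right]; exact hx₁W))
    exact key hz
  have hNWn : ∀ t ∈ N, t ∈ Subgroup.normalizer (W : Set Ω) := fun t ht => by
    rw [Subgroup.mem_normalizer_iff]
    refine fun z => ⟨hNW t ht z, fun hz => ?_⟩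
    simpa [mul_assoc] using hNW t⁻¹ (inv_mem ht) _ hz
  obtain ⟨d', hd', hd'1, hd'2⟩ := hd.exists_inv
  rw [hdW] at hd' hd'2
  have hext₁ : N ≤ extSub S W (θ ∘ d) := by
    intro t ht
    refine ⟨⟨hTS ht.1, hNWn t ht⟩, ?_⟩
    set b := conjAut t (hNW' ht) with hb
    have hbB : b ∈ B := conjAut_mem ht _
    have hc := isMap_conj (F := F) hWS (hTS ht.1)
    have hc' : IsMap F W' (d ∘ ((fun z => t * z * t⁻¹) ∘ d')) :=
      (((hd'.comp hc fun z hz => (hd'2 z hz).1)).comp hd fun z hz => hNW t ht _ (hd'2 z hz).1)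
    have hc'i : img W' (d ∘ ((fun z => t * z * t⁻¹) ∘ d')) = W' :=
      img_eq_of_map_le hW'S hc' le_rfl fun z hz =>
        hdW.le (hd.mem_img.2 ⟨_, hNW t ht _ (hd'2 z hz).1, rfl⟩)
    set c := autOf hc' hc'i
    have hcQ : ∀ z ∈ Q₁, autFun c z = t * z * t⁻¹ := fun z hz => by
      rw [autFun_autOf hc' hc'i (hRW' hz)]
      show d (t * d' z * t⁻¹) = _
      have h1 : d' z = z := by
        have h2 := hd'1 z (hRW hz)
        rwa [hdQ z hz] at h2
      rw [h1, hdQ _ ((Subgroup.mem_normalizer_iff.1 ht.2 z).1 hz)]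
    have hcbK : c * b⁻¹ ∈ K := by
      have hm : IsMap F W' (autFun (c * b⁻¹)) := (mem_autGroup_iff hW'S).1
        (mul_mem (autOf_mem hc' hc'i) (inv_mem (autInducedBy_le_autGroup hW'S (hBS hbB))))
      have hbi : ∀ z ∈ W', autFun b⁻¹ z = t⁻¹ * z * t⁻¹⁻¹ := fun z hz => by
        have h1 := autFun_inv_apply b hz
        have h2 := autFun_conjAut (hNW' ht) (autFun_mem b⁻¹ hz)
        rw [← hb, h1] at h2
        conv_rhs => rw [h2]
        group
      have hfix : ∀ z ∈ Q₁, autFun (c * b⁻¹) z = z := fun z hz => by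
        rw [autFun_mul _ _ (hRW' hz), hbi z (hRW' hz),
          hcQ _ ((Subgroup.mem_normalizer_iff.1 (inv_mem ht.2) z).1 hz)]
        group
      refine ⟨mul_mem (autOf_mem hc' hc'i) (inv_mem (autInducedBy_le_autGroup hW'S (hBS hbB))),
        hfix, fun z hz => defect_all hW'd hm hx'Q hfix ?_ hz⟩
      obtain ⟨w, hw⟩ : ∃ w, w = x'⁻¹ * (t⁻¹ * x' * t⁻¹⁻¹) := ⟨_, rfl⟩
      have hwZ : w ∈ Q₁ ⊓ Subgroup.centralizer (Q₁ : Set Ω) := hw ▸ hact t⁻¹ (inv_mem ht)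
      rw [autFun_mul _ _ hx'W, hbi x' hx'W,
        show t⁻¹ * x' * t⁻¹⁻¹ = x' * w by rw [hw, mul_inv_cancel_left],
        autFun_map_mul c hx'W (hRW' hwZ.1), hcQ w hwZ.1, autFun_autOf hc' hc'i hx'W]
      show x'⁻¹ * (d (t * d' x' * t⁻¹) * (t * w * t⁻¹)) ∈ _
      rw [hx'd, hd'1 x₁ hx₁W, Subgroup.mem_centralizer_iff.1 hx₁C.2 t ht.1, mul_inv_cancel_right,
        ← hx'd, inv_mul_cancel_left]
      refine ⟨(Subgroup.mem_normalizer_iff.1 ht.2 w).1 hwZ.1,
        Subgroup.mem_centralizer_iff.2 fun y hy => ?_⟩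
      have hy' : t⁻¹ * y * t⁻¹⁻¹ ∈ Q₁ := (Subgroup.mem_normalizer_iff.1 (inv_mem ht.2) y).1 hy
      calc y * (t * w * t⁻¹) = t * ((t⁻¹ * y * t⁻¹⁻¹) * w) * t⁻¹ := by group
        _ = t * (w * (t⁻¹ * y * t⁻¹⁻¹)) * t⁻¹ := by
          rw [Subgroup.mem_centralizer_iff.1 hwZ.2 _ hy']
        _ = _ := by group
    have hcA : c ∈ K ⊔ B := by
      have := mul_mem (Subgroup.mem_sup_left (T := B) hcbK) (Subgroup.mem_sup_right (S := K) hbB)
      rwa [inv_mul_cancel_right] at this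
    obtain ⟨s, ⟨hsS, -⟩, hse⟩ := hθA c hcA
    refine ⟨s, hsS, fun z hz => ?_⟩
    have hdz : d z ∈ W' := hdW.le (hd.mem_img.2 ⟨z, hz, rfl⟩)
    have h1 := hse (d z) hdz
    rw [autFun_autOf hc' hc'i hdz] at h1
    show θ (d (t * z * t⁻¹)) = s * θ (d z) * s⁻¹
    rw [← h1]
    show _ = θ (d (t * d' (d z) * t⁻¹))
    rw [hd'1 z hz]
  have hext₂ : N ≤ extSub S W' θ := by
    intro t ht
    obtain ⟨s, ⟨hsS, -⟩, hse⟩ :=
      hθA _ (Subgroup.mem_sup_right (S := K) (conjAut_mem ht (hNW' ht)))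
    refine ⟨⟨hTS ht.1, hNW' ht⟩, s, hsS, fun z hz => ?_⟩
    rw [← autFun_conjAut (hNW' ht) hz]
    exact hse z hz
  have hθdi : img W (θ ∘ d) = img W' θ := by rw [← hdW, img_img hd]
  obtain ⟨g₁, hg₁, hg₁e⟩ := (isReceptive_iff.1 hrec).2 W _ hθd hθdi
  obtain ⟨g₂, hg₂, hg₂e⟩ := (isReceptive_iff.1 hrec).2 W' θ hθ rfl
  have hRN : Q₁ ≤ N := le_normalizerIn hR
  have hNT : N ≤ T := inf_le_left
  have hNc : E.IsCentric N := isCentric_mono hRc hRN hNT
  have hlt : Nat.card Q₁ < Nat.card N :=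
    card_lt_of_lt (hNT.trans hTS) (lt_normalizerIn hTp hR hRne)
  have hkN : Nat.card N ≤ Nat.card T := card_le_of_le' hTS hNT
  have hN1 : IsMap F (N ⊔ Subgroup.zpowers x₁) g₁ := hg₁.mono
    (sup_le hext₁ (Subgroup.zpowers_le.2 (le_extSub hθd hx₁W)))
  have hy₁ : θ x' ∈ cent F E := by
    have h1 := ih _ (by omega) rfl hNc hx₁ hN1
    rwa [hg₁e x₁ hx₁W] at h1
  have hN2 : IsMap F (N ⊔ Subgroup.zpowers x') g₂ := hg₂.mono
    (sup_le hext₂ (Subgroup.zpowers_le.2 (le_extSub hθ hx'W)))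
  obtain ⟨g₂', hg₂', hg₂'1, -⟩ := hN2.exists_inv
  have hN2m := hN2.mono (le_sup_left : N ≤ _)
  have hsrc : img N g₂ ⊔ Subgroup.zpowers (θ x') ≤ img (N ⊔ Subgroup.zpowers x') g₂ :=
    sup_le (hN2.img_mono le_sup_left) (Subgroup.zpowers_le.2 (hN2.mem_img.2
      ⟨x', Subgroup.mem_sup_right (Subgroup.mem_zpowers x'), hg₂e x' hx'W⟩))
  have h2 := ih _ (by rw [hN2m.card_img]; omega) rfl (hset.isCentric_of_map hNc hN2m) hy₁
    (hg₂'.mono hsrc)
  rwa [show g₂' (θ x') = x' by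
    rw [← hg₂e x' hx'W, hg₂'1 x' (Subgroup.mem_sup_right (Subgroup.mem_zpowers x'))]] at h2

theorem stronglyClosed_cent (hS : IsPGroup p S) (hF : F.IsSaturated p) (hE : E.IsNormalIn F p) :
    F.StronglyClosed (cent F E) := by
  have hT := hE.1.2.2.2.1
  have hTS := hT.1
  haveI := finite_of_le hTS
  set Y := cent F E with hYd
  have hYS : Y ≤ S := cent_le.trans inf_le_left
  have hconj : ∀ s ∈ S, ∀ x ∈ Y, s * x * s⁻¹ ∈ Y := fun s hs x hx =>
    map_cent_of_top (f := fun z => s * z * s⁻¹) hS hF hE hx (isMap_conj (sup_le hTS (Subgroup.zpowers_le.2 (hYS hx))) hs)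
  let M : FusionSystem S := mkSystem F S
    (fun P f => IsMap F P f ∧ ∀ x ∈ P, (x ∈ Y ↔ f x ∈ Y))
    (fun _ _ h => ⟨h.1, h.1.le, fun _ hx => h.1.mem_S hx⟩)
    (fun P f g h he => ⟨h.1.congr he, fun x hx => by rw [he x hx]; exact h.2 x hx⟩)
    (fun P t hP ht => ⟨isMap_conj hP ht, fun x _ => ⟨hconj t ht x, fun h => by
      simpa [mul_assoc] using hconj t⁻¹ (inv_mem ht) _ h⟩⟩)
    (fun P R f g hf hg h => ⟨hf.1.comp hg.1 h, fun x hx =>
      (hf.2 x hx).trans (hg.2 _ (h x hx))⟩)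
    (fun P f f' hf hf' h => ⟨hf', fun y hy => by
      obtain ⟨x, hx, rfl⟩ := hf.1.mem_img.1 hy
      rw [h x hx]
      exact (hf.2 x hx).symm⟩)
  refine stronglyClosed_iff.2 ⟨hYS, fun R f hR hf x hx => ?_⟩
  refine (((isMap_mkSystem_iff _).1 (isMap_of_autGroup_le hS hF (E := M) (fun V hV => ?_) hf)).2
    x hx).1 (hR hx)
  have hVS : V ≤ S := hV.elim (fun e => e.le) fun e => e.1.1
  have hVc : E.IsCentric (V ⊓ T) := by
    rcases hV with rfl | hV
    · rw [inf_eq_right.2 hTS]; exact isCentric_self E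
    · by_contra hn
      exact (Cfsg.Agent.S5251.result p hS F hF E hE V hV.1 hn).2
        (isRadical_of_isEssential hS hV)
  intro α hα
  have key : ∀ β ∈ F.autGroup V, ∀ y ∈ V, y ∈ Y → autFun β y ∈ Y := fun β hβ y hy hyY =>
    map_cent_of_centric hS hF hE hVc hyY (((mem_autGroup_iff hVS).1 hβ).mono
      (sup_le inf_le_left (Subgroup.zpowers_le.2 hy)))
  refine (mem_autGroup_iff hVS).2 ((isMap_mkSystem_iff _).2
    ⟨(mem_autGroup_iff hVS).1 hα, fun y hy => ⟨key α hα y hy, fun h => ?_⟩⟩)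
  have h1 := key α⁻¹ (inv_mem hα) _ (autFun_mem α hy) h
  rwa [autFun_map_inv α hy] at h1

end CfsgLib.Fusion.CentFocal
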