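import Cfsg.Agent.Lib.Fusion.System.Hyperfocal
import Cfsg.Agent.Lib.Fusion.System.Inner

/-!
# Terminating chains, automizers with normal Sylow subgroup
-/

set_option autoImplicit false

open Subgroup
open scoped Classical

namespace CfsgLib.Fusion

open Cfsg (FusionSystem autInducedBy)
open Cfsg.FusionSystem (normalizerIn centralizerIn)

variable {Ω : Type*} [Group Ω] {S : Subgroup Ω} [Finite S] {F : FusionSystem S} {p : ℕ}
  [Fact p.Prime] {P : Subgroup Ω}

/-- If nothing is absorbed then the system is inner. -/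
theorem Absorbs.isInner (h : Absorbs F p (⊥ : Subgroup Ω)) (hS : IsPGroup p S)
    (hF : F.IsSaturated p) : IsInner F := by
  intro P f hf
  obtain ⟨g, hg, he⟩ := h.conjMod hS hF hf
  exact ⟨g, hg, fun x hx => mul_inv_eq_one.1 (Subgroup.mem_bot.1 (he x hx))⟩

/-- An automorphism of order prime to `p` moving `x` by a fixed `p`-element fixes `x`. -/
theorem autFun_eq_self_of_coprime (hS : IsPGroup p S) (hP : P ≤ S) {α : MulAut P}
    (hα : Nat.Coprime (orderOf α) p) {x : Ω} (hx : x ∈ P)
    (hc : autFun α (x⁻¹ * autFun α x) = x⁻¹ * autFun α x) : autFun α x = x := by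
  have hcP : x⁻¹ * autFun α x ∈ P := mul_mem (inv_mem hx) (autFun_mem α hx)
  have key : ∀ k : ℕ, autFun (α ^ k) x = x * (x⁻¹ * autFun α x) ^ k := by
    intro k
    induction k with
    | zero => rw [pow_zero, pow_zero, autFun_one hx, mul_one]
    | succ k ih =>
      rw [pow_succ, autFun_mul _ _ hx, show autFun α x = x * (x⁻¹ * autFun α x) from
        (mul_inv_cancel_left _ _).symm, autFun_map_mul _ hx hcP, mul_inv_cancel_left, ih,
        pow_succ, ← mul_assoc]
      congr 1
      clear ih
      induction k with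
      | zero => rw [pow_zero, autFun_one hcP]
      | succ k ih => rw [pow_succ, autFun_mul _ _ hcP, hc, ih]
  have h1 := key (orderOf α)
  rw [pow_orderOf_eq_one, autFun_one hx, eq_comm, mul_eq_left] at h1
  obtain ⟨j, hj⟩ := hS ⟨_, hP hcP⟩
  have h2 : (x⁻¹ * autFun α x) ^ p ^ j = 1 := congrArg Subtype.val hj
  have h3 : orderOf (x⁻¹ * autFun α x) = 1 := Nat.eq_one_of_dvd_coprimes
    (Nat.Coprime.pow_right j hα) (orderOf_dvd_of_pow_eq_one h1) (orderOf_dvd_of_pow_eq_one h2)
  exact (inv_mul_eq_one.1 (orderOf_eq_one_iff.1 h3)).symm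

/-- A chain from `S` to `⊥` which is moved down by every map forces nothing to be absorbed. -/
theorem absorbs_bot_of_chain (hS : IsPGroup p S) {n : ℕ} {Q : Fin (n + 1) → Subgroup Ω}
    (hQ0 : Q 0 = S) (hQn : Q (Fin.last n) = ⊥)
    (hstep : ∀ i : Fin n, Subgroup.closure {y : Ω | ∃ x ∈ Q i.castSucc,
      ∃ φ ∈ F.Hom (Subgroup.zpowers x), y = x⁻¹ * φ ⟨x, Subgroup.mem_zpowers x⟩} ≤ Q i.succ) :
    Absorbs F p (⊥ : Subgroup Ω) := by
  refine ⟨bot_le, fun s _ => ?_, fun P hP α hα x hx => ?_⟩
  · rw [Subgroup.normalizer_eq_top]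
    exact Subgroup.mem_top s
  have hα' : Nat.Coprime (orderOf (α : MulAut P)) p := by rwa [Subgroup.orderOf_coe]
  have hm := (mem_autGroup_iff hP).1 α.2
  have key : ∀ i : Fin (n + 1), ∀ z ∈ P, (∀ j, j ≤ i → z ∈ Q j) →
      autFun (α : MulAut P) z = z := by
    intro i
    induction i using Fin.reverseInduction with
    | last =>
        intro z hz h
        have h1 := h _ le_rfl
        rw [hQn, Subgroup.mem_bot] at h1
        subst h1
        exact hm.map_one
    | cast i ih =>
        intro z hz h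
        refine autFun_eq_self_of_coprime hS hP hα' hz (ih _ (mul_mem (inv_mem hz)
          (autFun_mem _ hz)) fun j hj => ?_)
        cases j using Fin.cases with
        | zero =>
            rw [hQ0]
            exact mul_mem (inv_mem (hP hz)) (hm.mem_S hz)
        | succ k =>
            obtain ⟨φ, hφ, hφf⟩ := hm.mono (Subgroup.zpowers_le.2 hz)
            refine hstep k (Subgroup.subset_closure ⟨z, h _ ?_, φ, hφ, ?_⟩)
            · exact Fin.castSucc_le_castSucc_iff.2 (Fin.succ_le_succ_iff.1 hj)
            · rw [hφf]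
  rw [key 0 x hx fun j hj => by rw [Fin.le_zero_iff.1 hj, hQ0]; exact hP hx, inv_mul_cancel]
  exact one_mem _

/-- A group with normal Sylow `p`-subgroup has no strongly `p`-embedded quotient. -/
theorem not_embedded_of_normal_sylow {X : Type*} [Group X] [Finite X] {I : Subgroup X} [I.Normal]
    (R : Sylow p X) [(R : Subgroup X).Normal] {E : Subgroup (X ⧸ I)} :
    ¬ Cfsg.IsStronglyPEmbedded p E := by
  intro hE
  haveI : ((R : Subgroup X).map (QuotientGroup.mk' I)).Normal :=
    Subgroup.Normal.map inferInstance _ (QuotientGroup.mk'_surjective I)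
  have hbot := eq_bot_of_embedded hE (N := (R : Subgroup X).map (QuotientGroup.mk' I))
    (R.2.map _)
  rw [Subgroup.map_eq_bot_iff, QuotientGroup.ker_mk'] at hbot
  have hd : Nat.card (X ⧸ I) ∣ (R : Subgroup X).index := by
    rw [← Subgroup.index_eq_card]
    exact Subgroup.index_dvd_of_le hbot
  exact R.not_dvd_index (hE.1.trans hd)

end CfsgLib.Fusion
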