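import Cfsg.Agent.Lib.Fusion.CharMoved
import Cfsg.Agent.Lib.Fusion.System.Glauberman

/-!
# Systems all of whose automizers of characteristic subgroups are `p`-groups
-/

set_option autoImplicit false
set_option linter.style.haveILetI false

open Subgroup
open scoped Classical

namespace CfsgLib.Fusion

open Cfsg (FusionSystem)

universe u

variable {Ω : Type u} [Group Ω] {S : Subgroup Ω} [Finite S] {F : FusionSystem S} {p : ℕ}
  [Fact p.Prime]

/-- If the automizers of the characteristic subgroups of `S` are `p`-groups then all maps are inner,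
for `p` odd or without a section `S₄`. -/
theorem isInner_of_char_automizers (hS : IsPGroup p S) (hF : F.IsSaturated p) (hfree : Free p F)
    (h : ∀ Q : Subgroup Ω, Q ≤ S → Q ≠ ⊥ → (Q.subgroupOf S).Characteristic →
      IsPGroup p (F.autGroup Q)) : IsInner F := by
  by_contra hne
  obtain ⟨E, hEF, hEc, hEne⟩ := exists_constrained_not_inner_free hS hF hfree hne
  obtain ⟨Q, hQn, hQc⟩ := hEc.2
  obtain ⟨L, hL, ι, hfin, hreal, ⟨T, hT⟩, hc⟩ := exists_model_of_normal_centric hS hEc.1 hQn hQc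
  haveI := hfin
  have hLp : ¬ IsPGroup p L := by
    intro hLp
    refine hEne fun P f hf => ?_
    obtain ⟨hP, -, -, g, hg⟩ := (isMap_realized_iff hreal).1 hf
    have hg' : g ∈ ι.range := by
      rw [← hT, T.is_maximal' (hLp.to_subgroup ⊤) le_top |>.symm]
      exact Subgroup.mem_top g
    obtain ⟨s, rfl⟩ := hg'
    refine ⟨s, s.2, fun x hx => ext1_inj hreal.1 (hf.mem_S hx)
      (S.mul_mem (S.mul_mem s.2 (hP hx)) (S.inv_mem s.2)) ?_⟩
    rw [hg x hx, ext1_conj ι s.2 (hP hx), ext1_coe]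
  have hconj : ∀ (P : Subgroup Ω), P ≤ S → ∀ g : L, (∀ x ∈ P, g * ext1 ι x * g⁻¹ ∈ ι.range) →
      ∃ f, IsMap E P f ∧ ∀ x ∈ P, ext1 ι (f x) = g * ext1 ι x * g⁻¹ :=
    fun P hP g hg => exists_map_of_conj hreal hP hg
  obtain ⟨W, hWT, hW, hWc, g, hgN, hgc, hgW⟩ := exists_charIn_moved L
    (not_involves_of_free (free_of_le hEF hfree) hreal.1 T hT hconj) T hc hLp
  rw [hT] at hWT hWc
  obtain ⟨R, hRS, rfl⟩ := exists_imgι_eq hreal.1 hWT
  have hR1 : R ≠ ⊥ := by
    intro hR
    exact hW (by rw [hR, imgι, Subgroup.bot_subgroupOf, Subgroup.map_bot])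
  have hchar : (R.subgroupOf S).Characteristic := by
    refine Subgroup.characteristic_iff_map_le.2 fun φ => ?_
    rintro _ ⟨x, hx, rfl⟩
    let e : S ≃* ι.range := MonoidHom.ofInjective hreal.1
    have hev : ∀ s : S, ((e s : ι.range) : L) = ι s := fun _ => rfl
    have h2 := hWc (e.symm.trans (φ.trans e)) (e x)
      (show ((e x : ι.range) : L) ∈ imgι ι R by rw [hev, ← ext1_coe]; exact ext1_mem_imgι hRS hx)
    simp only [MulEquiv.trans_apply, MulEquiv.symm_apply_apply] at h2
    rw [hev, ← ext1_coe] at h2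
    exact mem_of_ext1_mem_imgι hreal.1 hRS (φ x).2 h2
  obtain ⟨f, hf, hfg⟩ := hconj R hRS g fun x hx =>
    imgι_le_range R ((Subgroup.mem_normalizer_iff.1 hgN _).1 (ext1_mem_imgι hRS hx))
  have himg : img R f = R := img_eq_of_map_le hRS hf le_rfl fun x hx => by
    refine mem_of_ext1_mem_imgι hreal.1 hRS (hf.mem_S hx) ?_
    rw [hfg x hx]
    exact (Subgroup.mem_normalizer_iff.1 hgN _).1 (ext1_mem_imgι hRS hx)
  let c : F.autGroup R := ⟨autOf (isMap_of_le hEF hf) himg, autOf_mem (isMap_of_le hEF hf) himg⟩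
  have hpow : ∀ j : ℕ, ∀ x ∈ R, ext1 ι (autFun ((c ^ j : F.autGroup R) : MulAut R) x) =
      g ^ j * ext1 ι x * (g ^ j)⁻¹ := by
    intro j
    induction j with
    | zero =>
      intro x hx
      rw [pow_zero, show ((1 : F.autGroup R) : MulAut R) = 1 from rfl, autFun_one hx]
      simp
    | succ j ihj =>
      intro x hx
      have hcx : autFun (c : MulAut R) x = f x := autFun_autOf (isMap_of_le hEF hf) himg hx
      rw [pow_succ, show ((c ^ j * c : F.autGroup R) : MulAut R) =
        (c ^ j : F.autGroup R) * (c : MulAut R) from rfl, autFun_mul _ _ hx, hcx,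
        ihj _ (mem_of_img_eq hf le_rfl himg hx), hfg x hx, pow_succ]
      group
  obtain ⟨k, hk⟩ := h R hRS hR1 hchar c
  obtain ⟨i, hi⟩ := exists_pow_eq_self_of_coprime (x := g) (n := p ^ k)
    (Nat.Coprime.pow_left k hgc.symm)
  refine hgW (hi ▸ pow_mem (mem_centralizer_iff'.2 fun y hy => ?_) i)
  obtain ⟨x, hx, rfl⟩ := (mem_imgι hRS).1 hy
  rw [← hpow _ x hx, hk, show ((1 : F.autGroup R) : MulAut R) = 1 from rfl, autFun_one hx]

end CfsgLib.Fusion
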