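import Cfsg.Agent.Lib.Fusion.System.ConstrainedSub
import Cfsg.Agent.Lib.Fusion.System.GroupNormalSub
import Cfsg.Agent.Lib.Coprime.ExtendedTwoLayer

/-!
# Constrained fusion systems of subnormal subgroups
-/

set_option autoImplicit false

namespace CfsgLib.Fusion

open Cfsg (FusionSystem groupFusionSystem fusionSystemOfSubgroup)
open Cfsg.FusionSystem (normalizerIn centralizerIn)

/-- Constrainedness goes back along an embedding of groups. -/
theorem isConstrained_reflect {A B : Type*} [Group A] [Group B] {p : ℕ} {f : A →* B}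
    (hinj : Function.Injective f) {T : Subgroup A} {T' : Subgroup B} (hT : T.map f = T') {E : FusionSystem T'}
    (hsat : (groupFusionSystem T).IsSaturated p)
    (hmap : ∀ P' (g : B → B), IsMap E P' g ↔
      P' ≤ T' ∧ ∃ a : A, ∀ x ∈ P', f a * x * (f a)⁻¹ ∈ T' ∧ g x = f a * x * (f a)⁻¹)
    (h : E.IsConstrained p) : (groupFusionSystem T).IsConstrained p := by
  obtain ⟨-, Q', hQ'n, hQ'c⟩ := h
  obtain ⟨hQ'T, hQ'ext⟩ := isNormal_iff.1 hQ'n
  set Q := Q'.comap f with hQ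
  have hQT : Q ≤ T := fun x hx => by
    obtain ⟨y, hy, e⟩ := hT.ge (hQ'T hx)
    exact hinj e ▸ hy
  have hQmap : Q.map f = Q' := by
    refine Subgroup.map_comap_eq_self fun x hx => ?_
    obtain ⟨y, -, rfl⟩ := hT.ge (hQ'T hx)
    exact ⟨y, rfl⟩
  have hmT : ∀ {x : A}, x ∈ T → f x ∈ T' := fun {x} hx => hT ▸ ⟨x, hx, rfl⟩
  have hmT' : ∀ {x : A}, f x ∈ T' → x ∈ T := fun {x} hx => by
    obtain ⟨y, hy, e⟩ := hT.ge hx
    exact hinj e ▸ hy
  have hconv : ∀ (a x : A), f a * f x * (f a)⁻¹ = f (a * x * a⁻¹) := fun a x => by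
    rw [map_mul, map_mul, map_inv]
  refine ⟨hsat, Q, isNormal_iff.2 ⟨hQT, fun P g hg => ?_⟩, ⟨hQT, fun R hR => ?_⟩⟩
  · obtain ⟨hP, a, ha⟩ := isMap_group_iff.1 hg
    have hm : IsMap E (P.map f) fun y => f a * y * (f a)⁻¹ := (hmap _ _).2
      ⟨(Subgroup.map_mono hP).trans hT.le, a, fun y hy => by
        obtain ⟨x, hx, rfl⟩ := hy
        exact ⟨by rw [hconv]; exact hmT (ha x hx).1, rfl⟩⟩
    obtain ⟨k, hk, hkg, hkQ⟩ := hQ'ext _ _ hm
    obtain ⟨-, b, hb⟩ := (hmap _ _).1 hk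
    have hle : ∀ x ∈ P ⊔ Q, f x ∈ P.map f ⊔ Q' := fun x hx => by
      rw [← hQmap, ← Subgroup.map_sup]; exact ⟨x, hx, rfl⟩
    refine ⟨fun x => b * x * b⁻¹, isMap_group_iff.2 ⟨sup_le hP hQT, b, fun x hx =>
      ⟨hmT' (hconv b x ▸ (hb _ (hle x hx)).1), rfl⟩⟩, fun x hx => ?_, ?_⟩
    · refine Eq.trans (hinj ?_) (ha x hx).2.symm
      rw [← hconv, ← hconv, ← (hb _ (hle x (Subgroup.mem_sup_left hx))).2]
      exact hkg _ ⟨x, hx, rfl⟩
    · have hmQ : IsMap (groupFusionSystem T) Q fun x => b * x * b⁻¹ := isMap_group_iff.2 ⟨hQT, b, fun x hx =>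
        ⟨hmT' (hconv b x ▸ (hb _ (hle x (Subgroup.mem_sup_right hx))).1), rfl⟩⟩
      have hk' := hk.mono (le_sup_right : Q' ≤ P.map f ⊔ Q')
      ext y
      rw [hmQ.mem_img]
      constructor
      · rintro ⟨x, hx, rfl⟩
        show f (b * x * b⁻¹) ∈ Q'
        rw [← hconv, ← (hb _ (Subgroup.mem_sup_right hx)).2]
        exact hkQ.le (hk'.mem_img.2 ⟨f x, hx, rfl⟩)
      · intro hy
        obtain ⟨z, hz, hzy⟩ := hk'.mem_img.1 (hkQ.ge hy)
        obtain ⟨x, hx, rfl⟩ := hQmap.ge hz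
        rw [(hb _ (Subgroup.mem_sup_right hz)).2, hconv] at hzy
        exact ⟨x, hx, hinj hzy⟩
  · obtain ⟨g, hg, rfl⟩ := isConj_iff.1 hR
    obtain ⟨-, a, ha⟩ := isMap_group_iff.1 hg
    have hm : IsMap E Q' fun y => f a * y * (f a)⁻¹ := (hmap _ _).2 ⟨hQ'T, a, fun y hy => by
      obtain ⟨x, hx, rfl⟩ := hQmap.ge hy
      exact ⟨by rw [hconv]; exact hmT (ha x hx).1, rfl⟩⟩
    intro c hc
    have h1 : f c ∈ img Q' (fun y => f a * y * (f a)⁻¹) := hQ'c.2 _ (isConj_iff.2 ⟨_, hm, rfl⟩)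
      ⟨hmT hc.1, Subgroup.mem_centralizer_iff.2 fun y hy => by
        obtain ⟨z, hz, rfl⟩ := hm.mem_img.1 hy
        obtain ⟨x, hx, rfl⟩ := hQmap.ge hz
        rw [hconv, ← map_mul, ← map_mul]
        exact congrArg f (Subgroup.mem_centralizer_iff.1 hc.2 _ (hg.mem_img.2 ⟨x, hx, (ha x hx).2⟩))⟩
    obtain ⟨z, hz, hzc⟩ := hm.mem_img.1 h1
    obtain ⟨x, hx, rfl⟩ := hQmap.ge hz
    rw [hconv] at hzc
    exact hg.mem_img.2 ⟨x, hx, (ha x hx).2.trans (hinj hzc)⟩

/-- The fusion system of a subnormal subgroup of a group with constrained fusion is constrained. -/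
theorem isConstrained_group_subnormal.{u} {p : ℕ} [Fact p.Prime] :
    ∀ {G : Type u} [Group G] [Finite G] (S : Sylow p G), (groupFusionSystem (S : Subgroup G)).IsConstrained p →
      ∀ (H : Subgroup G), H.IsSubnormal →
        (groupFusionSystem ((S : Subgroup G).subgroupOf H)).IsConstrained p := by
  suffices h : ∀ n (G : Type u) [Group G] [Finite G], Nat.card G = n → ∀ (S : Sylow p G),
      (groupFusionSystem (S : Subgroup G)).IsConstrained p → ∀ (H : Subgroup G), H.IsSubnormal →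
        (groupFusionSystem ((S : Subgroup G).subgroupOf H)).IsConstrained p from
    fun {G} _ _ S hF H hH => h _ G rfl S hF H hH
  intro n
  induction n using Nat.strong_induction_on with
  | _ n ih =>
  intro G _ _ hn S hF H hH
  -- the Sylow subgroup of a normal subgroup
  have step : ∀ (K : Subgroup G), K.Normal → ∃ T : Sylow p K, (T : Subgroup K) = (S : Subgroup G).subgroupOf K ∧
      (groupFusionSystem (T : Subgroup K)).IsConstrained p := by
    intro K hK
    haveI := hK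
    have hTi : ¬ p ∣ ((S : Subgroup G) ⊓ K).relIndex K := not_dvd_relIndex_inf_of_normal S K
    let T : Sylow p K := ((S.2.to_le (inf_le_left : (S : Subgroup G) ⊓ K ≤ S)).of_equiv
      (Subgroup.subgroupOfEquivOfLe (inf_le_right : (S : Subgroup G) ⊓ K ≤ K)).symm).toSylow hTi
    have hT : (T : Subgroup K) = (S : Subgroup G).subgroupOf K := by
      show ((S : Subgroup G) ⊓ K).subgroupOf K = _
      rw [Subgroup.inf_subgroupOf_right]
    refine ⟨T, hT, isConstrained_reflect (f := K.subtype) K.subtype_injective (T' := (S : Subgroup G) ⊓ K)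
      (E := fusionSystemOfSubgroup K ((S : Subgroup G) ⊓ K) inf_le_right) ?_ (isSaturated_group T) (fun P' g => ?_)
      (isConstrained_of_normal S.2 hF (isNormalIn_of_normal S K))⟩
    · rw [hT, Subgroup.subgroupOf_map_subtype]
    · rw [isMap_subgroup_iff]
      exact and_congr_right fun _ => ⟨fun ⟨a, ha, h⟩ => ⟨⟨a, ha⟩, h⟩, fun ⟨a, h⟩ => ⟨a, a.2, h⟩⟩
  by_cases hHn : H.Normal
  · obtain ⟨T, hT, hTc⟩ := step H hHn
    exact hT ▸ hTc
  obtain ⟨K, hK, hHK, hKn⟩ : ∃ K : Subgroup G, K.Normal ∧ H ≤ K ∧ K ≠ ⊤ := by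
    rcases Subgroup.IsSubnormal.lt_normal hH with h | ⟨K, hKn, hle, hlt⟩
    · exact absurd (h ▸ inferInstance) hHn
    · exact ⟨K, hKn, hle, hlt.ne⟩
  obtain ⟨T, hT, hTc⟩ := step K hK
  have hlt : Nat.card K < n := hn ▸ lt_of_le_of_ne (Subgroup.card_le_card_group K)
    (fun he => hKn (Subgroup.eq_top_of_card_eq _ he))
  have h1 := ih _ hlt K rfl T hTc (H.subgroupOf K) hH.subgroupOf
  -- transport along `H.subgroupOf K ≃* H`
  let e : H →* H.subgroupOf K := (Subgroup.subgroupOfEquivOfLe hHK).symm.toMonoidHom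
  have hTH : ((S : Subgroup G).subgroupOf H).map e = (T : Subgroup K).subgroupOf (H.subgroupOf K) := by
    ext y
    constructor
    · rintro ⟨x, hx, rfl⟩
      show ((e x : H.subgroupOf K) : K) ∈ (T : Subgroup K)
      rw [hT]
      exact hx
    · intro hy
      refine ⟨⟨((y : K) : G), y.2⟩, ?_, Subtype.ext (Subtype.ext rfl)⟩
      show ((y : K) : G) ∈ (S : Subgroup G)
      have h2 : (y : K) ∈ (T : Subgroup K) := hy
      rw [hT] at h2
      exact h2
  let U : Sylow p H := ((S.2.to_le (inf_le_left : (S : Subgroup G) ⊓ H ≤ S)).of_equiv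
    (Subgroup.subgroupOfEquivOfLe (inf_le_right : (S : Subgroup G) ⊓ H ≤ H)).symm).toSylow
    (CfsgLib.Coprime.not_dvd_relIndex_inf_of_isSubnormal S hH)
  have hU : (U : Subgroup H) = (S : Subgroup G).subgroupOf H := by
    show ((S : Subgroup G) ⊓ H).subgroupOf H = _
    rw [Subgroup.inf_subgroupOf_right]
  refine isConstrained_reflect (f := e) (Subgroup.subgroupOfEquivOfLe hHK).symm.injective hTH
    (hU ▸ isSaturated_group U) (fun P' g => ?_) h1
  rw [isMap_group_iff]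
  refine and_congr_right fun _ => ⟨fun ⟨a, ha⟩ => ⟨Subgroup.subgroupOfEquivOfLe hHK a, ?_⟩,
    fun ⟨a, ha⟩ => ⟨e a, ha⟩⟩
  have he : e (Subgroup.subgroupOfEquivOfLe hHK a) = a := (Subgroup.subgroupOfEquivOfLe hHK).symm_apply_apply a
  rwa [he]

end CfsgLib.Fusion
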