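import Cfsg.Agent.Lib.Fusion.System.ConstrainedGroup

/-!
# Constrained fusion passes to central quotients
-/

set_option autoImplicit false

namespace CfsgLib.Fusion

open Cfsg (FusionSystem groupFusionSystem)
open Cfsg.FusionSystem (normalizerIn centralizerIn)
open scoped commutatorElement

variable {G : Type*} [Group G] [Finite G] {p : ℕ} [Fact p.Prime]

/-- A central element of `p`-power order lies in each Sylow subgroup. -/
theorem mem_sylow_of_central (S : Sylow p G) {z : G} (hz : z ∈ Subgroup.center G) {k : ℕ}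
    (hk : z ^ p ^ k = 1) : z ∈ (S : Subgroup G) := by
  haveI : (Subgroup.zpowers z).Normal := ⟨fun x hx g => by
    rwa [Subgroup.mem_center_iff.1 (Subgroup.zpowers_le.2 hz hx) g, mul_inv_cancel_right]⟩
  have hp : IsPGroup p (Subgroup.zpowers z) := by
    obtain ⟨i, -, hi⟩ := (Nat.dvd_prime_pow (Fact.out : p.Prime)).1 (orderOf_dvd_of_pow_eq_one hk)
    exact IsPGroup.of_card (n := i) (by rw [Nat.card_zpowers, hi])
  exact hp.le_sylow_of_normal S (Subgroup.mem_zpowers z)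

/-- The fusion system of a central quotient of a group with constrained fusion is constrained. -/
theorem isConstrained_central_quotient (S : Sylow p G)
    (hF : (groupFusionSystem (S : Subgroup G)).IsConstrained p) {Z : Subgroup G} [Z.Normal]
    (hZ : Z ≤ Subgroup.center G) :
    (groupFusionSystem ((S : Subgroup G).map (QuotientGroup.mk' Z))).IsConstrained p := by
  classical
  set F := groupFusionSystem (S : Subgroup G) with hFdef
  obtain ⟨hsat, Q₀, hQ₀n, hQ₀c⟩ := hF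
  have hQn := isNormal_core (F := F)
  set Q := F.core with hQdef
  have hQc : F.IsCentric Q := isCentric_mono hQ₀c (le_core hQ₀n) hQn.1
  obtain ⟨hQS, hQext⟩ := isNormal_iff.1 hQn
  have hZc : ∀ z ∈ Z, ∀ g : G, g * z = z * g := fun z hz g => Subgroup.mem_center_iff.1 (hZ hz) g
  set π := QuotientGroup.mk' Z with hπ
  -- `p`-elements over `S` lie in `S`
  have hback : ∀ y : G, (∃ k : ℕ, y ^ p ^ k = 1) → π y ∈ (S : Subgroup G).map π → y ∈ (S : Subgroup G) := by
    rintro y ⟨k, hk⟩ ⟨s, hs, hsy⟩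
    have hz : s⁻¹ * y ∈ Z := QuotientGroup.eq.1 hsy
    obtain ⟨l, hl⟩ := S.2 ⟨s, hs⟩
    have hl' : s ^ p ^ l = 1 := congrArg Subtype.val hl
    have hc : Commute s (s⁻¹ * y) := hZc _ hz s
    have e : y = s * (s⁻¹ * y) := by group
    have hpow : (s⁻¹ * y) ^ p ^ (l + k) = 1 := by
      have h1 : y ^ p ^ (l + k) = 1 := by rw [pow_add, mul_comm, pow_mul, hk, one_pow]
      rw [e, hc.mul_pow, pow_add, pow_mul s, hl', one_pow, one_mul, ← pow_add] at h1
      exact h1
    rw [e]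
    exact mul_mem hs (mem_sylow_of_central S (hZ hz) hpow)
  have hSp : ∀ (g x : G), x ∈ (S : Subgroup G) → ∃ k : ℕ, (g * x * g⁻¹) ^ p ^ k = 1 := fun g x hx => by
    obtain ⟨k, hk⟩ := S.2 ⟨x, hx⟩
    exact ⟨k, by rw [conj_pow, show x ^ p ^ k = 1 from congrArg Subtype.val hk, mul_one, mul_inv_cancel]⟩
  -- the elements stabilizing `Q` modulo `Z`
  have hQsc := stronglyClosed_of_isNormal hQn
  have hSQ : ∀ s ∈ (S : Subgroup G), ∀ q ∈ Q, s * q * s⁻¹ ∈ Q := fun s hs q hq =>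
    (Subgroup.mem_normalizer_iff.1 (le_normalizerIn_of_stronglyClosed hQsc hs).2 q).1 hq
  let W : Subgroup G :=
    { carrier := {x | x ∈ (S : Subgroup G) ∧ ∀ q ∈ Q, x * q * x⁻¹ * q⁻¹ ∈ Z}
      one_mem' := ⟨one_mem _, fun q _ => by simp [one_mem Z]⟩
      mul_mem' := fun {a b} ha hb => ⟨mul_mem ha.1 hb.1, fun q hq => by
        have h1 := mul_mem (hb.2 q hq) (ha.2 q hq)
        have h2 := hZc _ (hb.2 q hq) a
        have e : a * b * q * (a * b)⁻¹ * q⁻¹ = (b * q * b⁻¹ * q⁻¹) * (a * q * a⁻¹ * q⁻¹) := by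
          calc a * b * q * (a * b)⁻¹ * q⁻¹ = a * (b * q * b⁻¹ * q⁻¹) * (q * a⁻¹ * q⁻¹) := by group
            _ = (b * q * b⁻¹ * q⁻¹) * (a * q * a⁻¹ * q⁻¹) := by rw [h2]; group
        rw [e]; exact h1⟩
      inv_mem' := fun {a} ha => ⟨inv_mem ha.1, fun q hq => by
        have hq' := hSQ a⁻¹ (inv_mem ha.1) q hq
        have h1 := inv_mem (ha.2 _ hq')
        simpa [mul_assoc] using h1⟩ }
  have hWS : W ≤ (S : Subgroup G) := fun x hx => hx.1
  have hcentQ : ∀ c ∈ (S : Subgroup G), (∀ q ∈ Q, q * c = c * q) → c ∈ Q := fun c hc h =>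
    hQc.2 Q (isConj_refl hQS) ⟨hc, Subgroup.mem_centralizer_iff.2 h⟩
  have hWsc : F.StronglyClosed W := stronglyClosed_iff.2 ⟨hWS, fun R f hR hf x hx => by
    obtain ⟨g, hg, hgf, hgQ⟩ := hQext R f hf
    obtain ⟨-, b, hb⟩ := isMap_group_iff.1 hg
    have hxb := hb x (Subgroup.mem_sup_left hx)
    refine ⟨hgf x hx ▸ hg.mem_S (Subgroup.mem_sup_left hx), fun q hq => ?_⟩
    obtain ⟨r, hr, hrq⟩ := (hg.mono (le_sup_right : Q ≤ R ⊔ Q)).mem_img.1 (hgQ.ge hq)
    rw [(hb r (Subgroup.mem_sup_right hr)).2] at hrq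
    rw [← hgf x hx, hxb.2, ← hrq]
    have h1 := Subgroup.Normal.conj_mem (inferInstance : Z.Normal) _ ((hR hx).2 r hr) b
    simpa [mul_assoc] using h1⟩
  have hWQ : W ≤ Q := by
    have hZQ : ∀ {z : G}, z ∈ (S : Subgroup G) → z ∈ Z → z ∈ Q := fun {z} hzS hz => hcentQ z hzS fun q _ => hZc z hz q
    have hZsc : F.StronglyClosed ((S : Subgroup G) ⊓ Z) := stronglyClosed_iff.2 ⟨inf_le_left, fun R f hR hf x hx => by
      obtain ⟨-, g, hg⟩ := isMap_group_iff.1 hf
      refine ⟨hf.mem_S hx, ?_⟩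
      rw [(hg x hx).2]
      exact Subgroup.Normal.conj_mem inferInstance x (hR hx).2 g⟩
    have hWQsc : F.StronglyClosed (W ⊓ Q) := stronglyClosed_iff.2 ⟨inf_le_right.trans hQS, fun R f hR hf x hx =>
      ⟨(stronglyClosed_iff.1 hWsc).2 R f (hR.trans inf_le_left) hf x hx,
        (stronglyClosed_iff.1 hQsc).2 R f (hR.trans inf_le_right) hf x hx⟩⟩
    refine le_core (isNormal_of_series S.2 hsat (n := 3)
      (Qs := ![⊥, (S : Subgroup G) ⊓ Z, W ⊓ Q, W]) rfl rfl ?_ (fun i => ?_) fun i => ?_)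
    · have h1 : (S : Subgroup G) ⊓ Z ≤ W ⊓ Q := fun z hz => ⟨⟨hz.1, fun q _ => by
        rw [← hZc z hz.2 q, mul_inv_cancel_right, mul_inv_cancel]; exact one_mem _⟩, hZQ hz.1 hz.2⟩
      have h2 : W ⊓ Q ≤ W := inf_le_left
      intro i j hij
      fin_cases i <;> fin_cases j <;>
        first | exact le_rfl | exact bot_le | exact h1 | exact h2 | exact h1.trans h2 | (simp at hij)
    · fin_cases i
      · exact hZsc
      · exact hWQsc
      · exact hWsc
    · fin_cases i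
      · show ⁅W, (S : Subgroup G) ⊓ Z⁆ ≤ (⊥ : Subgroup G)
        refine Subgroup.commutator_le.2 fun a _ b hb => ?_
        rw [Subgroup.mem_bot, commutatorElement_eq_one_iff_mul_comm]
        exact hZc b hb.2 a
      · show ⁅W, W ⊓ Q⁆ ≤ (S : Subgroup G) ⊓ Z
        refine Subgroup.commutator_le.2 fun a ha b hb => ⟨?_, by rw [commutatorElement_def]; exact ha.2 b hb.2⟩
        rw [commutatorElement_def]
        exact (S : Subgroup G).mul_mem ((S : Subgroup G).mul_mem ((S : Subgroup G).mul_mem ha.1 (hQS hb.2))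
          ((S : Subgroup G).inv_mem ha.1)) ((S : Subgroup G).inv_mem (hQS hb.2))
      · show ⁅W, W⁆ ≤ W ⊓ Q
        refine Subgroup.commutator_le.2 fun a ha b hb => ?_
        have habW : ⁅a, b⁆ ∈ W := by
          rw [commutatorElement_def]
          exact mul_mem (mul_mem (mul_mem ha hb) (inv_mem ha)) (inv_mem hb)
        refine ⟨habW, hcentQ _ (hWS habW) fun q hq => ?_⟩
        have key : ∀ r ∈ Q, a * b * r * b⁻¹ * a⁻¹ = b * a * r * a⁻¹ * b⁻¹ := by
          intro r hr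
          have hz := ha.2 r hr
          have hw := hb.2 r hr
          set z := a * r * a⁻¹ * r⁻¹ with hzd
          set w := b * r * b⁻¹ * r⁻¹ with hwd
          calc a * b * r * b⁻¹ * a⁻¹ = (a * w * a⁻¹) * (z * r) := by rw [hzd, hwd]; group
            _ = w * (z * r) := by rw [hZc w hw a, mul_inv_cancel_right]
            _ = z * (w * r) := by rw [← mul_assoc w z r, hZc z hz w, mul_assoc z w r]
            _ = (b * z * b⁻¹) * (w * r) := by rw [hZc z hz b, mul_inv_cancel_right]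
            _ = b * a * r * a⁻¹ * b⁻¹ := by rw [hzd, hwd]; group
        have hr : (b * a)⁻¹ * q * (b * a) ∈ Q := by
          have := hSQ (b * a)⁻¹ (inv_mem (mul_mem hb.1 ha.1)) q hq
          rwa [inv_inv] at this
        have h2 : ⁅a, b⁆ * q * ⁅a, b⁆⁻¹ = q := by
          calc ⁅a, b⁆ * q * ⁅a, b⁆⁻¹
              = a * b * ((b * a)⁻¹ * q * (b * a)) * b⁻¹ * a⁻¹ := by
                rw [commutatorElement_def]; group
            _ = b * a * ((b * a)⁻¹ * q * (b * a)) * a⁻¹ * b⁻¹ := key _ hr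
            _ = q := by group
        exact (mul_inv_eq_iff_eq_mul.1 h2).symm
  -- the quotient
  have hsurj : Function.Surjective π := QuotientGroup.mk'_surjective Z
  have hsatq : (groupFusionSystem ((S : Subgroup G).map π)).IsSaturated p := by
    have h := isSaturated_group (Sylow.mapSurjective hsurj S)
    rwa [Sylow.coe_mapSurjective] at h
  refine ⟨hsatq, Q.map π, isNormal_iff.2 ⟨Subgroup.map_mono hQS, fun P g hg => ?_⟩, Subgroup.map_mono hQS,
    fun R hR => ?_⟩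
  · obtain ⟨hP, a, ha⟩ := isMap_group_iff.1 hg
    obtain ⟨a, rfl⟩ := hsurj a
    set P₀ := (S : Subgroup G) ⊓ P.comap π with hP₀
    have hP₀m : P₀.map π = P := by
      refine le_antisymm (Subgroup.map_le_iff_le_comap.2 inf_le_right) fun y hy => ?_
      obtain ⟨x, hx, rfl⟩ := hP hy
      exact ⟨x, ⟨hx, hy⟩, rfl⟩
    have hm : IsMap F P₀ fun x => a * x * a⁻¹ := isMap_group_iff.2 ⟨inf_le_left, a, fun x hx =>
      ⟨hback _ (hSp a x hx.1) (by rw [map_mul, map_mul, map_inv]; exact (ha (π x) hx.2).1), rfl⟩⟩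
    obtain ⟨k, hk, hka, hkQ⟩ := hQext _ _ hm
    obtain ⟨-, b, hb⟩ := isMap_group_iff.1 hk
    have hsup : P ⊔ Q.map π = (P₀ ⊔ Q).map π := by rw [Subgroup.map_sup, hP₀m]
    have hmb : IsMap (groupFusionSystem ((S : Subgroup G).map π)) (P ⊔ Q.map π) fun y => π b * y * (π b)⁻¹ :=
      isMap_group_iff.2 ⟨sup_le hP (Subgroup.map_mono hQS), π b, fun y hy => by
        rw [hsup] at hy
        obtain ⟨x, hx, rfl⟩ := hy
        refine ⟨?_, rfl⟩
        rw [← map_inv, ← map_mul, ← map_mul]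
        exact ⟨_, (hb x hx).1, rfl⟩⟩
    refine ⟨_, hmb, fun y hy => ?_, ?_⟩
    · obtain ⟨x, hx, rfl⟩ := hP₀m.ge hy
      rw [(ha _ hy).2, ← map_inv, ← map_mul, ← map_mul, ← (hb x (Subgroup.mem_sup_left hx)).2, hka x hx]
      simp [map_mul]
    · have hk' := hk.mono (le_sup_right : Q ≤ P₀ ⊔ Q)
      refine img_eq_of_map_le (Subgroup.map_mono hQS) hmb le_sup_right fun y hy => ?_
      obtain ⟨x, hx, rfl⟩ := hy
      refine ⟨b * x * b⁻¹, ?_, by simp [map_mul]⟩
      rw [← (hb x (Subgroup.mem_sup_right hx)).2]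
      exact hkQ.le (hk'.mem_img.2 ⟨x, hx, rfl⟩)
  · obtain ⟨g, hg, rfl⟩ := isConj_iff.1 hR
    obtain ⟨-, a, ha⟩ := isMap_group_iff.1 hg
    obtain ⟨a, rfl⟩ := hsurj a
    have hmQ : IsMap F Q fun x => a * x * a⁻¹ := isMap_group_iff.2 ⟨hQS, a, fun x hx =>
      ⟨hback _ (hSp a x (hQS hx)) (by rw [map_mul, map_mul, map_inv]; exact (ha _ ⟨x, hx, rfl⟩).1), rfl⟩⟩
    have himgQ : img Q (fun x => a * x * a⁻¹) = Q :=
      img_eq_of_map_le hQS hmQ le_rfl fun x hx => (stronglyClosed_iff.1 hQsc).2 _ _ le_rfl hmQ x hx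
    have himg : img (Q.map π) g = Q.map π := by
      refine img_eq_of_map_le (Subgroup.map_mono hQS) hg le_rfl fun y hy => ?_
      obtain ⟨x, hx, rfl⟩ := hy
      exact ⟨a * x * a⁻¹, himgQ.le (hmQ.mem_img.2 ⟨x, hx, rfl⟩), by
        rw [(ha _ ⟨x, hx, rfl⟩).2]; simp [map_mul]⟩
    rw [himg]
    rintro y ⟨hy, hc⟩
    obtain ⟨x, hx, rfl⟩ := hy
    refine ⟨x, hWQ ⟨hx, fun q hq => ?_⟩, rfl⟩
    rw [← QuotientGroup.eq_one_iff]
    show π (x * q * x⁻¹ * q⁻¹) = 1
    rw [map_mul, map_mul, map_mul, ← Subgroup.mem_centralizer_iff.1 hc (π q) ⟨q, hq, rfl⟩, map_inv,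
      mul_inv_cancel_right, map_inv, mul_inv_cancel]

end CfsgLib.Fusion
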