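import Cfsg.Agent.Lib.Fusion.System.Subnormal
import Cfsg.Agent.Lib.Fusion.System.Model
import Cfsg.Agent.Lib.Fusion.System.Invariant

/-!
# Normal subsystems of constrained systems
-/

set_option autoImplicit false
set_option maxHeartbeats 1000000

open Subgroup
open scoped commutatorElement

namespace CfsgLib.Fusion

open Cfsg (FusionSystem)
open Cfsg.FusionSystem (centralizerIn normalizerIn)

variable {Ω : Type*} [Group Ω] {S T : Subgroup Ω} {F : FusionSystem S} {E : FusionSystem T}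
  {p : ℕ} [Finite S] [Fact p.Prime]

/-- In a constrained system a strongly closed subgroup meets the core in a self-centralizing
subgroup. -/
theorem centralizerIn_inf_core_le (hS : IsPGroup p S) (hF : F.IsConstrained p)
    (hT : F.StronglyClosed T) : centralizerIn T (F.core ⊓ T) ≤ F.core := by
  obtain ⟨hsat, Q₀, hQ₀n, hQ₀c⟩ := hF
  have hQn := isNormal_core (F := F)
  set Q := F.core with hQdef
  have hQc : F.IsCentric Q := isCentric_mono hQ₀c (le_core hQ₀n) hQn.1
  have hQS := hQn.1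
  have hTS := hT.1
  set A := centralizerIn T (Q ⊓ T) with hA
  have hAT : A ≤ T := inf_le_left
  have hSQ : ∀ s ∈ S, ∀ q ∈ Q, s * q * s⁻¹ ∈ Q := fun s hs q hq =>
    (Subgroup.mem_normalizer_iff.1
      (le_normalizerIn_of_stronglyClosed (stronglyClosed_of_isNormal hQn) hs).2 q).1 hq
  have hST : ∀ s ∈ S, ∀ t ∈ T, s * t * s⁻¹ ∈ T := fun s hs t ht =>
    (Subgroup.mem_normalizer_iff.1 (le_normalizerIn_of_stronglyClosed hT hs).2 t).1 ht
  have hAfix : ∀ a ∈ A, ∀ m ∈ Q ⊓ T, a * m * a⁻¹ = m := fun a ha m hm => by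
    rw [← Subgroup.mem_centralizer_iff.1 ha.2 m hm, mul_inv_cancel_right]
  have hAsc : F.StronglyClosed A := by
    refine stronglyClosed_iff.2 ⟨hAT.trans hTS, fun R f hR hf x hx => ?_⟩
    obtain ⟨g, hg, hgf, hgQ⟩ := (isNormal_iff.1 hQn).2 R f hf
    refine ⟨(stronglyClosed_iff.1 hT).2 R f (hR.trans hAT) hf x hx,
      Subgroup.mem_centralizer_iff.2 fun m hm => ?_⟩
    haveI := finite_of_le (S := S) (P := Q ⊓ T) (inf_le_left.trans hQS)
    have hle : Q ⊓ T ≤ R ⊔ Q := inf_le_left.trans le_sup_right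
    have himg : img (Q ⊓ T) g = Q ⊓ T := img_eq_of_map_le (inf_le_left.trans hQS) hg hle
      fun z hz => ⟨mem_of_img_eq hg le_sup_right hgQ hz.1,
        (stronglyClosed_iff.1 hT).2 _ _ inf_le_right (hg.mono hle) z hz⟩
    obtain ⟨m', hm', rfl⟩ := (hg.mono hle).mem_img.1 (himg.ge hm)
    have hxs := (le_sup_left : R ≤ R ⊔ Q) hx
    rw [← hgf x hx, ← hg.map_mul (hle hm') hxs, ← hg.map_mul hxs (hle hm'),
      Subgroup.mem_centralizer_iff.1 (hR hx).2 m' hm']
  have hQTsc : F.StronglyClosed (A ⊓ Q) := by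
    refine stronglyClosed_iff.2 ⟨inf_le_right.trans hQS, fun R f hR hf x hx => ⟨?_, ?_⟩⟩
    · exact (stronglyClosed_iff.1 hAsc).2 R f (hR.trans inf_le_left) hf x hx
    · exact (stronglyClosed_iff.1 (stronglyClosed_of_isNormal hQn)).2 R f
        (hR.trans inf_le_right) hf x hx
  have hz : ∀ a ∈ A, ∀ q ∈ Q, a * q * a⁻¹ * q⁻¹ ∈ Q ⊓ T ∧
      ∀ m ∈ Q ⊓ T, a * q * a⁻¹ * q⁻¹ * m = m * (a * q * a⁻¹ * q⁻¹) := by
    intro a ha q hq
    refine ⟨⟨Q.mul_mem (hSQ a (hTS (hAT ha)) q hq) (Q.inv_mem hq), ?_⟩, fun m hm => ?_⟩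
    · rw [show a * q * a⁻¹ * q⁻¹ = a * (q * a⁻¹ * q⁻¹) by group]
      exact T.mul_mem (hAT ha) (hST q (hQS hq) _ (T.inv_mem (hAT ha)))
    · have hm1 : q⁻¹ * m * q ∈ Q ⊓ T := by
        refine ⟨Q.mul_mem (Q.mul_mem (Q.inv_mem hq) hm.1) hq, ?_⟩
        simpa using hST q⁻¹ (S.inv_mem (hQS hq)) m hm.2
      have e := hAfix a ha _ hm1
      have e2 := hAfix a ha _ hm
      calc a * q * a⁻¹ * q⁻¹ * m = a * q * a⁻¹ * (q⁻¹ * m * q) * q⁻¹ := by group
        _ = a * q * a⁻¹ * (a * (q⁻¹ * m * q) * a⁻¹) * q⁻¹ := by rw [e]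
        _ = a * m * a⁻¹ * (a * q * a⁻¹ * q⁻¹) := by group
        _ = m * (a * q * a⁻¹ * q⁻¹) := by rw [e2]
  refine le_core (isNormal_of_series hS hsat (n := 2) (Qs := ![⊥, A ⊓ Q, A]) rfl rfl ?_
    (fun i => ?_) fun i => ?_)
  · intro i j hij
    fin_cases i <;> fin_cases j <;> first | exact le_rfl | exact bot_le | exact inf_le_left |
      simp at hij
  · fin_cases i
    · exact hQTsc
    · exact hAsc
  · fin_cases i
    · show ⁅A, A ⊓ Q⁆ ≤ (⊥ : Subgroup Ω)
      refine Subgroup.commutator_le.2 fun a ha b hb => ?_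
      rw [Subgroup.mem_bot, commutatorElement_eq_one_iff_mul_comm]
      exact (Subgroup.mem_centralizer_iff.1 ha.2 b ⟨hb.2, hAT hb.1⟩).symm
    · show ⁅A, A⁆ ≤ A ⊓ Q
      refine Subgroup.commutator_le.2 fun a ha b hb => ?_
      have habA : ⁅a, b⁆ ∈ A := by
        rw [commutatorElement_def]
        exact A.mul_mem (A.mul_mem (A.mul_mem ha hb) (A.inv_mem ha)) (A.inv_mem hb)
      refine ⟨habA, hQc.2 Q ?_ ⟨hTS (hAT habA), Subgroup.mem_centralizer_iff.2 fun q hq => ?_⟩⟩
      · exact isConj_refl hQS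
      · have key : ∀ r ∈ Q, a * b * r * b⁻¹ * a⁻¹ = b * a * r * a⁻¹ * b⁻¹ := by
          intro r hr
          obtain ⟨hz1, hz2⟩ := hz a ha r hr
          obtain ⟨hw1, hw2⟩ := hz b hb r hr
          set z := a * r * a⁻¹ * r⁻¹ with hzd
          set w := b * r * b⁻¹ * r⁻¹ with hwd
          calc a * b * r * b⁻¹ * a⁻¹ = (a * w * a⁻¹) * (z * r) := by rw [hzd, hwd]; group
            _ = w * (z * r) := by rw [hAfix a ha w hw1]
            _ = z * (w * r) := by rw [← mul_assoc w z r, ← hz2 w hw1, mul_assoc z w r]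
            _ = (b * z * b⁻¹) * (w * r) := by rw [hAfix b hb z hz1]
            _ = b * a * r * a⁻¹ * b⁻¹ := by rw [hzd, hwd]; group
        have hr : (b * a)⁻¹ * q * (b * a) ∈ Q := by
          have := hSQ (b * a)⁻¹ (S.inv_mem (S.mul_mem (hTS (hAT hb)) (hTS (hAT ha)))) q hq
          rwa [inv_inv] at this
        have h1 := key _ hr
        have h2 : ⁅a, b⁆ * q * ⁅a, b⁆⁻¹ = q := by
          calc ⁅a, b⁆ * q * ⁅a, b⁆⁻¹
              = a * b * ((b * a)⁻¹ * q * (b * a)) * b⁻¹ * a⁻¹ := by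
                rw [commutatorElement_def]; group
            _ = b * a * ((b * a)⁻¹ * q * (b * a)) * a⁻¹ * b⁻¹ := h1
            _ = q := by group
        exact (mul_inv_eq_iff_eq_mul.1 h2).symm

/-- A normal subsystem of a constrained system is constrained. -/
theorem isConstrained_of_normal (hS : IsPGroup p S) (hF : F.IsConstrained p)
    (hE : E.IsNormalIn F p) : E.IsConstrained p := by
  have hEsat := hE.1.1
  have hsub := hE.1.2.2.1
  have hT := hE.1.2.2.2.1
  have hTS := hT.1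
  haveI := finite_of_le hTS
  have hQn := isNormal_core (F := F)
  have hQsc := stronglyClosed_of_isNormal hQn
  obtain ⟨n, Qs, h0, hlast, hmono, hi⟩ :=
    exists_series_of_autExtends hS hQn.1 (autExtends_of_isNormal hQn)
  have hsc : ∀ {R : Subgroup Ω}, F.StronglyClosed R → E.StronglyClosed (R ⊓ T) := fun hR =>
    stronglyClosed_iff.2 ⟨inf_le_right, fun U f hU hf x hx =>
      ⟨(stronglyClosed_iff.1 hR).2 U f (hU.trans inf_le_left) (match hf with | ⟨φ, hφ, hφf⟩ => ⟨φ, hsub U hφ, hφf⟩) x hx,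
        hf.mem_S hx⟩⟩
  have hN : E.IsNormal (F.core ⊓ T) := by
    refine isNormal_of_series (hS.to_le hTS) hEsat (Qs := fun i => Qs i ⊓ T)
      (by simp [h0]) (by simp [hlast]) (fun i j hij => inf_le_inf_right _ (hmono hij))
      (fun i => hsc (hi i).1) fun i => le_inf ?_ ?_
    · exact (Subgroup.commutator_mono inf_le_left inf_le_left).trans (hi i).2
    · refine Subgroup.commutator_le.2 fun a ha b hb => ?_
      rw [commutatorElement_def]
      exact T.mul_mem (T.mul_mem (T.mul_mem ha.2 hb.2) (T.inv_mem ha.2)) (T.inv_mem hb.2)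
  refine ⟨hEsat, _, hN, inf_le_right, fun R hR => ?_⟩
  obtain ⟨f, hf, rfl⟩ := isConj_iff.1 hR
  rw [img_eq_of_map_le inf_le_right hf le_rfl fun x hx =>
    (stronglyClosed_iff.1 (hsc hQsc)).2 _ _ le_rfl hf x hx]
  exact fun c hc => ⟨centralizerIn_inf_core_le hS hF hT hc, hc.1⟩

omit [Finite S] [Fact p.Prime] in
/-- A subnormal subsystem of a constrained system is constrained. -/
theorem isConstrained_of_subnormal (h : E.IsSubnormalIn F p) :
    Fact p.Prime → Finite S → IsPGroup p S → F.IsConstrained p → E.IsConstrained p := by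
  induction h with
  | refl => exact fun _ _ _ hF => hF
  | step _ hN ih =>
      intro hp hfin hS hF
      have hle := hN.1.2.2.2.1.1
      exact ih hp (finite_of_le hle) (hS.to_le hle) (isConstrained_of_normal hS hF hN)

end CfsgLib.Fusion
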