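import Cfsg.Agent.Lib.Fusion.System.InnerCriteria

/-!
# Corollaries of the inner criterion
-/

set_option autoImplicit false
set_option linter.style.haveILetI false

open Subgroup
open scoped Classical commutatorElement

namespace CfsgLib.Fusion

open Cfsg (FusionSystem)
open Cfsg.FusionSystem (normalizerIn centralizerIn)

universe u

variable {Ω : Type u} [Group Ω] {S : Subgroup Ω} [Finite S] {F : FusionSystem S} {p : ℕ}
  [Fact p.Prime]

theorem isInner_iff_normalizerSystem_Iof (hp : p ≠ 2) (hS : IsPGroup p S) (hF : F.IsSaturated p)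
    (𝒜 : Set (Subgroup Ω)) (h𝒜 : ∀ A ∈ 𝒜, A ≤ S ∧ IsMulCommutative A) (hne : 𝒜.Nonempty)
    (hinv : ∀ (Q : Subgroup Ω) (f : Ω → Ω), IsMap F Q f → img Q f = Q → (∃ A ∈ 𝒜, A ≤ Q) →
      ∀ x ∈ Iof 𝒜 Q, f x ∈ Iof 𝒜 Q)
    (hrep : ∀ B : Subgroup Ω, B ≤ S → S ≤ Subgroup.normalizer (B : Set Ω) → ⁅⁅B, B⁆, B⁆ = ⊥ →
      (∃ A ∈ 𝒜, ⁅B, B⁆ ≤ A ∧ ¬ B ≤ A) →
      ∃ A ∈ 𝒜, ⁅B, B⁆ ≤ A ∧ ¬ B ≤ A ∧ B ≤ Subgroup.normalizer (A : Set Ω))
    {Z : Subgroup Ω} (hZ : Iof 𝒜 S = Z) :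
    (∀ P, F.Hom P = (Cfsg.innerFusionSystem S).Hom P) ↔
      ∀ N : FusionSystem (normalizerIn S Z), F.IsNormalizerSystem Z N →
        ∀ P, N.Hom P = (Cfsg.innerFusionSystem (normalizerIn S Z)).Hom P := by
  subst hZ
  obtain ⟨A₀, hA₀⟩ := id hne
  rw [← isInner_iff, ← ninner_iff ((Iof_le hA₀ (h𝒜 _ hA₀).1).trans (h𝒜 _ hA₀).1)]
  exact ⟨ninner_of_isInner, isInner_of_ninner_Iof hp hS hF 𝒜 h𝒜 hne hinv hrep⟩

theorem isInner_iff_normalizerSystem_centerThompsonA (hp : p ≠ 2) (hS : IsPGroup p S)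
    (hF : F.IsSaturated p) {D : Subgroup Ω} (hD : F.StronglyClosed D) :
    (∀ P, F.Hom P = (Cfsg.innerFusionSystem S).Hom P) ↔
      ∀ N : FusionSystem (normalizerIn S (Cfsg.centerThompsonAOf D)),
        F.IsNormalizerSystem (Cfsg.centerThompsonAOf D) N →
        ∀ P, N.Hom P = (Cfsg.innerFusionSystem (normalizerIn S (Cfsg.centerThompsonAOf D))).Hom P := by
  have hDf : ∀ (P : Subgroup Ω) (f : Ω → Ω), IsMap F P f → ∀ x ∈ P, x ∈ D → f x ∈ D :=
    fun P f hf x hx hxD => (stronglyClosed_iff.1 hD).2 (P ⊓ D) f inf_le_right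
      (hf.mono inf_le_left) x ⟨hx, hxD⟩
  have hDn : S ≤ Subgroup.normalizer (D : Set Ω) :=
    (le_normalizerIn_of_stronglyClosed hD).trans inf_le_right
  exact isInner_iff_normalizerSystem_Iof hp hS hF (maxAb D)
    (fun A hA => ⟨hA.1.trans hD.1, hA.2.1⟩) (maxAb_nonempty_in hD.1)
    (fun Q f hf himg hex _ hx => maxAb_invariant hDf Q f hf himg hex hx)
    (maxAb_replacement_in hp hS hD.1 hDn) (Iof_maxAb_eq_centerThompsonA hD.1)

omit [Finite S] in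
theorem stronglyClosed_self : F.StronglyClosed S :=
  ⟨le_rfl, fun _ _ _ hφ => (F.le_of_mem hφ).2⟩

/-- A noninner system with no proper noninner saturated subsystem is constrained. -/
theorem isConstrained_of_sparse (hp : p ≠ 2) (hS : IsPGroup p S) (hF : F.IsSaturated p)
    (hne : ¬ IsInner F)
    (hsp : ∀ E : FusionSystem S, E.IsSaturated p → E.IsSubsystemOf F →
      (∀ P, E.Hom P = F.Hom P) ∨ (∀ P, E.Hom P = (Cfsg.innerFusionSystem S).Hom P)) :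
    F.IsConstrained p := by
  obtain ⟨E, hEF, hEc, hEne⟩ := exists_constrained_not_inner hp hS hF hne
  rcases hsp E hEc.1 hEF with h | h
  · exact eq_of_hom h ▸ hEc
  · exact absurd (isInner_iff.2 h) hEne

end CfsgLib.Fusion
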