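import Cfsg.Agent.Lib.Fusion.System.Transvection
import Cfsg.Agent.Lib.Fusion.Sylow
import Cfsg.Agent.Lib.PGroup.Subnormalizer
import Cfsg.Agent.Lib.PGroup.Basic

/-!
# Automorphism groups of elementary abelian groups of order `p³` with an embedded subgroup

A Sylow subgroup of such a group has order at most `p`; two conjugate transvections give a torus.
-/

set_option autoImplicit false
set_option linter.style.haveILetI false
set_option linter.unusedSectionVars false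
set_option maxHeartbeats 1000000

open Subgroup
open scoped Classical

namespace CfsgLib.Fusion.CubeAutomizer

open CfsgLib.Fusion.Transvection

/-- The data of a proper subgroup `M` of `X` containing the normalizers of the nontrivial
subgroups of the Sylow subgroup `Q`. -/
structure Embedded {Γ : Type*} [Group Γ] (p : ℕ) (X Q M : Subgroup Γ) : Prop where
  qle : Q ≤ X
  isP : IsPGroup p Q
  sylow : ¬ p ∣ Q.relIndex X
  ne : Q ≠ ⊥
  mle : M ≤ X
  proper : ¬ X ≤ M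
  norm : ∀ T ≤ Q, T ≠ ⊥ → X ⊓ normalizer (T : Set Γ) ≤ M

section Embedded

variable {Γ : Type*} [Group Γ] [Finite Γ] {p : ℕ} [Fact p.Prime] {X Q M : Subgroup Γ}
  (h : Embedded p X Q M)
include h

theorem Embedded.qM : Q ≤ M := fun _ hx => h.norm Q le_rfl h.ne ⟨h.qle hx, le_normalizer hx⟩

theorem Embedded.sylowM : ¬ p ∣ Q.relIndex M := fun hd =>
  h.sylow (relIndex_mul_relIndex Q M X h.qM h.mle ▸ dvd_mul_of_dvd_left hd _)

theorem Embedded.le_of_meets {K : Subgroup Γ} (hKX : K ≤ X) (hK : IsPGroup p K) {t : Γ} (htK : t ∈ K)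
    (htM : t ∈ M) (ht1 : t ≠ 1) : K ≤ M := by
  set T := K ⊓ M
  obtain ⟨m, hm, hmT⟩ := exists_conj_le_of_not_dvd_relIndex h.isP h.qM h.sylowM
    (hK.to_le (inf_le_left : T ≤ K)) inf_le_right
  have hTne : conjBy m T ≠ ⊥ := fun e => ht1 <| by
    have h1 : m * t * m⁻¹ ∈ conjBy m T := conj_mem_conjBy (mem_inf.2 ⟨htK, htM⟩)
    rw [e, mem_bot, mul_inv_eq_one, mul_eq_left] at h1
    exact h1
  have hNT : X ⊓ normalizer (T : Set Γ) ≤ M := fun x hx => by
    have h1 : m * x * m⁻¹ ∈ normalizer (conjBy m T : Set Γ) := by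
      rw [← conjBy_normalizer]; exact conj_mem_conjBy hx.2
    have h2 := h.norm _ hmT hTne ⟨X.mul_mem (X.mul_mem (h.mle hm) hx.1) (X.inv_mem (h.mle hm)), h1⟩
    have h3 := M.mul_mem (M.mul_mem (M.inv_mem hm) h2) hm
    simpa [mul_assoc] using h3
  by_contra hne
  have hlt : T < K := lt_of_le_of_ne inf_le_left fun e => hne (e.ge.trans inf_le_right)
  have h4 := CfsgLib.Subnormalizer.lt_inf_normalizer hK hlt
  exact h4.not_ge (le_inf inf_le_left fun x hx => hNT ⟨hKX hx.1, hx.2⟩)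

theorem Embedded.mem_of_conj {g t : Γ} (hg : g ∈ X) (ht : t ∈ Q) (ht1 : t ≠ 1)
    (hc : g * t * g⁻¹ ∈ M) : g ∈ M := by
  obtain ⟨m, hm, hmT⟩ := exists_conj_le_of_not_dvd_relIndex h.isP h.qM h.sylowM
    (R := zpowers (g * t * g⁻¹)) (by
      rw [show zpowers (g * t * g⁻¹) = conjBy g (zpowers t) by rw [conjBy, MonoidHom.map_zpowers]; rfl]
      exact isPGroup_conjBy g (h.isP.to_le (zpowers_le.2 ht)))
    (zpowers_le.2 hc)
  have hs : m * (g * t * g⁻¹) * m⁻¹ ∈ Q := hmT (conj_mem_conjBy (mem_zpowers _))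
  set x := m * g
  have hxX : x ∈ X := X.mul_mem (h.mle hm) hg
  have hxQ : conjBy x Q ≤ X := conjBy_le_iff.2 fun y hy =>
    X.mul_mem (X.mul_mem hxX (h.qle hy)) (X.inv_mem hxX)
  have hs' : x * t * x⁻¹ ∈ Q := by simpa [x, mul_assoc] using hs
  have hle := h.le_of_meets hxQ (isPGroup_conjBy x h.isP) (conj_mem_conjBy ht) (h.qM hs')
    (fun e => ht1 (by rwa [mul_inv_eq_one, mul_eq_left] at e))
  obtain ⟨k, hk, hkQ⟩ := exists_conj_le_of_not_dvd_relIndex h.isP h.qM h.sylowM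
    (isPGroup_conjBy x h.isP) hle
  rw [conjBy_conjBy] at hkQ
  have h5 := h.norm Q le_rfl h.ne (show k * x ∈ X ⊓ normalizer (Q : Set Γ) from
    ⟨X.mul_mem (h.mle hk) hxX, conjBy_eq_iff.1 (conjBy_eq_of_le hkQ)⟩)
  exact (M.mul_mem_cancel_left hm).1 ((M.mul_mem_cancel_left hk).1 h5)

/-- No element conjugate into the Sylow subgroup lies with a nontrivial element of it in a
`p`-subgroup. -/
theorem Embedded.not_pgroup {g t q : Γ} (hg : g ∈ X) (hgM : g ∉ M) (ht : t ∈ Q) (ht1 : t ≠ 1)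
    (hq : q ∈ Q) (hq1 : q ≠ 1) {K : Subgroup Γ} (hK : IsPGroup p K) (hqK : q ∈ K)
    (hgK : g * t * g⁻¹ ∈ K) : False := by
  refine hgM (h.mem_of_conj hg ht ht1 ?_)
  exact h.le_of_meets inf_le_left (hK.to_le inf_le_right) (mem_inf.2 ⟨h.qle hq, hqK⟩) (h.qM hq) hq1
    (mem_inf.2 ⟨X.mul_mem (X.mul_mem hg (h.qle ht)) (X.inv_mem hg), hgK⟩)

end Embedded

variable {E : Type*} [CommGroup E] [Finite E] {p : ℕ} [Fact p.Prime]

theorem zpowers_eq_line {A : Subgroup E} (hA : Nat.card A = p) {z : E} (hz : z ∈ A) (hz1 : z ≠ 1) :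
    zpowers z = A := by
  refine eq_of_le_of_card_ge (zpowers_le.2 hz) (le_of_eq ?_)
  rw [hA, Nat.card_zpowers]
  rcases (Nat.dvd_prime Fact.out).1 (hA ▸ Subgroup.orderOf_dvd_natCard A hz) with h | h
  · exact absurd (orderOf_eq_one_iff.1 h) hz1
  · exact h.symm

theorem dlt_mem_map {g : MulAut E} {t : MulAut E} {A : Subgroup E} (hA : ∀ r, dlt t r ∈ A) (r : E) :
    dlt (g * t * g⁻¹) r ∈ A.map g.toMonoidHom := by
  rw [dlt_conj]
  exact mem_map_of_mem g.toMonoidHom (hA _)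

theorem dlt_eq_one_map {g : MulAut E} {t : MulAut E} {A : Subgroup E} (hA : ∀ r ∈ A, dlt t r = 1)
    {r : E} (hr : r ∈ A.map g.toMonoidHom) : dlt (g * t * g⁻¹) r = 1 := by
  obtain ⟨a, ha, rfl⟩ := hr
  rw [dlt_conj, show g⁻¹ (g.toMonoidHom a) = a from MulEquiv.symm_apply_apply g a, hA a ha, map_one]

/-- A transvection of an invariant flag inside a large unipotent group. -/
theorem exists_flag_transvection {Q : Subgroup (MulAut E)} {l H : Subgroup E} (hlH : l ≤ H)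
    (hl : Nat.card l = p) (hH : Nat.card H = p ^ 2) (hE : Nat.card E = p ^ 3)
    (hfix : ∀ q ∈ Q, ∀ x ∈ l, dlt q x = 1) (hstep : ∀ q ∈ Q, ∀ x ∈ H, dlt q x ∈ l)
    (hQ : p ^ 2 ≤ Nat.card Q) (htop : ∀ q ∈ Q, ∀ x, dlt q x ∈ H) :
    ∃ t ∈ Q, t ≠ 1 ∧ (∀ x ∈ H, dlt t x = 1) ∧ ∀ x, dlt t x ∈ l := by
  have hp := (Fact.out : p.Prime)
  have hHlt : H < ⊤ := lt_top_iff_ne_top.2 fun e => by
    rw [e, card_top, hE] at hH
    exact absurd (Nat.pow_right_injective hp.two_le hH) (by norm_num)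
  obtain ⟨v, -, hv⟩ := SetLike.exists_of_lt hHlt
  have hlH' : l < H := lt_of_le_of_ne hlH fun e => by
    rw [e, hH] at hl
    exact absurd (Nat.pow_right_injective hp.two_le (hl.trans (pow_one p).symm)) (by norm_num)
  obtain ⟨w, hw, hwl⟩ := SetLike.exists_of_lt hlH'
  let φ : Q →* (E ⧸ l) × E := MonoidHom.mk' (fun q => (QuotientGroup.mk (dlt (q : MulAut E) v), dlt (q : MulAut E) w))
    fun q₁ q₂ => by
      refine Prod.ext ?_ ?_
      · show QuotientGroup.mk (dlt ((q₁ : MulAut E) * (q₂ : MulAut E)) v) = (QuotientGroup.mk (dlt (q₁ : MulAut E) v) : E ⧸ l) * QuotientGroup.mk (dlt (q₂ : MulAut E) v)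
        rw [dlt_mul, apply_eq (q₂ : MulAut E) v, map_mul, QuotientGroup.mk_mul, QuotientGroup.mk_mul,
          (QuotientGroup.eq_one_iff _).2 (hstep q₁ q₁.2 _ (htop q₂ q₂.2 v)), mul_one, mul_comm]
      · show dlt ((q₁ : MulAut E) * (q₂ : MulAut E)) w = dlt (q₁ : MulAut E) w * dlt (q₂ : MulAut E) w
        rw [dlt_mul, apply_eq (q₂ : MulAut E) w, map_mul, hfix q₁ q₁.2 _ (hstep q₂ q₂.2 w hw), mul_one,
          mul_comm]
  have hgen : ∀ r : E, ∃ (i : ℤ) (x : E), x ∈ H ∧ r = v ^ i * x := fun r => by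
    have htp : zpowers v ⊔ H = ⊤ := by
      refine eq_top_of_le_card _ ?_
      have hlt : H < zpowers v ⊔ H := lt_of_le_of_ne le_sup_right fun e =>
        hv (e.ge (mem_sup_left (mem_zpowers v)))
      obtain ⟨j, hj⟩ := ((IsPGroup.of_card hE).to_subgroup (zpowers v ⊔ H)).exists_card_eq
      have h1 : Nat.card H < Nat.card (zpowers v ⊔ H : Subgroup E) := lt_of_le_of_ne (card_le_of_le hlt.le)
        fun e => hlt.ne (eq_of_le_of_card_ge hlt.le e.ge)
      rw [hH, hj] at h1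
      rw [hE, hj]
      exact Nat.pow_le_pow_right hp.pos ((Nat.pow_lt_pow_iff_right hp.one_lt).1 h1)
    obtain ⟨a, ha, x, hx, rfl⟩ := mem_sup.1 (htp.ge (mem_top r))
    obtain ⟨i, rfl⟩ := mem_zpowers_iff.1 ha
    exact ⟨i, x, hx, rfl⟩
  have hgenH : ∀ x ∈ H, ∃ (i : ℤ) (z : E), z ∈ l ∧ x = w ^ i * z := fun x hx => by
    have htp : zpowers w ⊔ l = H := by
      refine eq_of_le_of_card_ge (sup_le (zpowers_le.2 hw) hlH) ?_
      have hlt : l < zpowers w ⊔ l := lt_of_le_of_ne le_sup_right fun e =>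
        hwl (e.ge (mem_sup_left (mem_zpowers w)))
      obtain ⟨j, hj⟩ := ((IsPGroup.of_card hE).to_subgroup (zpowers w ⊔ l)).exists_card_eq
      have h1 : Nat.card l < Nat.card (zpowers w ⊔ l : Subgroup E) := lt_of_le_of_ne (card_le_of_le hlt.le)
        fun e => hlt.ne (eq_of_le_of_card_ge hlt.le e.ge)
      rw [hl, hj, ← pow_one p, ← pow_mul, one_mul] at h1
      rw [hH, hj]
      exact Nat.pow_le_pow_right hp.pos ((Nat.pow_lt_pow_iff_right hp.one_lt).1 h1)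
    obtain ⟨a, ha, z, hz, rfl⟩ := mem_sup.1 (htp.ge hx)
    obtain ⟨i, rfl⟩ := mem_zpowers_iff.1 ha
    exact ⟨i, z, hz, rfl⟩
  have hfixH : ∀ q : Q, dlt (q : MulAut E) w = 1 → ∀ x ∈ H, dlt (q : MulAut E) x = 1 := fun q hq x hx => by
    obtain ⟨i, z, hz, rfl⟩ := hgenH x hx
    rw [map_mul, map_zpow, hq, hfix q q.2 z hz, one_zpow, one_mul]
  by_cases hker : φ.ker = ⊥
  swap
  · obtain ⟨q, hqk, hq1⟩ := (bot_or_exists_ne_one φ.ker).resolve_left hker
    obtain ⟨h1, h2⟩ := Prod.ext_iff.1 (MonoidHom.mem_ker.1 hqk)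
    refine ⟨q, q.2, fun e => hq1 (Subtype.ext e), hfixH q h2, fun r => ?_⟩
    obtain ⟨i, x, hx, rfl⟩ := hgen r
    rw [map_mul, map_zpow, hfixH q h2 x hx, mul_one]
    exact zpow_mem ((QuotientGroup.eq_one_iff _).1 h1) i
  exfalso
  have hinj : Function.Injective φ := (MonoidHom.ker_eq_bot_iff φ).1 hker
  set R := (H.map (QuotientGroup.mk' l)).prod l
  have hle : φ.range ≤ R := by
    rintro _ ⟨q, rfl⟩
    exact ⟨mem_map_of_mem (QuotientGroup.mk' l) (htop q q.2 v), hstep q q.2 w hw⟩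
  have hHl : Nat.card (H.map (QuotientGroup.mk' l)) = p := by
    have h1 := relIndex_comap (⊥ : Subgroup (E ⧸ l)) (QuotientGroup.mk' l) H
    rw [MonoidHom.comap_bot, QuotientGroup.ker_mk', relIndex_bot_left] at h1
    have h2 := relIndex_mul_relIndex ⊥ l H bot_le hlH
    rw [relIndex_bot_left, relIndex_bot_left, hl, hH, pow_two] at h2
    rw [← h1]
    exact Nat.eq_of_mul_eq_mul_left hp.pos h2
  have hR : Nat.card R = p ^ 2 := by
    rw [Nat.card_congr (prodEquiv (H.map (QuotientGroup.mk' l)) l).toEquiv, Nat.card_prod, hHl, hl, pow_two]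
  have heq : φ.range = R := eq_of_le_of_card_ge hle (by
    rw [hR, ← Nat.card_congr (MonoidHom.ofInjective hinj).toEquiv]; exact hQ)
  obtain ⟨a, ha⟩ := heq.ge (show ((QuotientGroup.mk w : E ⧸ l), (1 : E)) ∈ R from
    ⟨mem_map_of_mem _ hw, l.one_mem⟩)
  obtain ⟨z, hz, hz1⟩ : ∃ z ∈ l, z ≠ 1 := (bot_or_exists_ne_one l).resolve_left fun e => by
    rw [e, card_bot] at hl
    exact hp.ne_one hl.symm
  obtain ⟨b, hb⟩ := heq.ge (show ((1 : E ⧸ l), z) ∈ R from ⟨one_mem _, hz⟩)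
  obtain ⟨ha1, ha2⟩ := Prod.ext_iff.1 ha
  obtain ⟨hb1, hb2⟩ := Prod.ext_iff.1 hb
  simp only [φ, MonoidHom.mk'_apply] at ha1 ha2 hb1 hb2
  have hab : a * b = b * a := hinj (by rw [map_mul, map_mul, mul_comm])
  have hbz : dlt (b : MulAut E) v ∈ l := (QuotientGroup.eq_one_iff _).1 hb1
  have haz : (dlt (a : MulAut E) v)⁻¹ * w ∈ l := QuotientGroup.eq.1 ha1
  have hb3 : dlt (b : MulAut E) (dlt (a : MulAut E) v) = z := by
    have h2 := hfix b b.2 _ haz
    rw [map_mul, map_inv, hb2, inv_mul_eq_one] at h2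
    exact h2
  have h1 := congrArg (fun q : Q => dlt (q : MulAut E) v) hab
  simp only [Subgroup.coe_mul, dlt_mul, apply_eq (b : MulAut E) v, apply_eq (a : MulAut E) v, map_mul,
    hfix a a.2 _ hbz, hb3, mul_one] at h1
  rw [mul_comm, ← mul_assoc, eq_comm, mul_eq_left] at h1
  exact hz1 h1

/-- A Sylow subgroup of an embedded configuration on an elementary group of order `p³` has order
at most `p`. -/
theorem card_le [Finite (MulAut E)] {X Q M : Subgroup (MulAut E)} (h : Embedded p X Q M)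
    (hE : Nat.card E = p ^ 3) {l H : Subgroup E} (hlH : l ≤ H) (hl : Nat.card l = p)
    (hH : Nat.card H = p ^ 2) (hfix : ∀ q ∈ Q, ∀ x ∈ l, dlt q x = 1)
    (hstep : ∀ q ∈ Q, ∀ x ∈ H, dlt q x ∈ l) (htop : ∀ q ∈ Q, ∀ x, dlt q x ∈ H) :
    Nat.card Q ≤ p := by
  have hp := (Fact.out : p.Prime)
  have hM : IsPGroup p E := IsPGroup.of_card hE
  by_contra hcon
  have hQ : p ^ 2 ≤ Nat.card Q := by
    obtain ⟨j, hj⟩ := h.isP.exists_card_eq
    rw [hj] at hcon ⊢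
    exact Nat.pow_le_pow_right hp.pos ((Nat.pow_lt_pow_iff_right hp.one_lt).1
      (by simpa using not_le.1 hcon))
  obtain ⟨t, ht, ht1, htH, htl⟩ := exists_flag_transvection hlH hl hH hE hfix hstep hQ htop
  obtain ⟨g, hg, hgM⟩ := SetLike.not_le_iff_exists.1 h.proper
  set t' := g * t * g⁻¹ with ht'
  set A := l.map g.toMonoidHom with hA
  set Hg := H.map g.toMonoidHom with hHg
  have hAc : Nat.card A = p := by rw [hA, card_map_of_injective g.injective, hl]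
  have hHgc : Nat.card Hg = p ^ 2 := by rw [hHg, card_map_of_injective g.injective, hH]
  have hAHg : A ≤ Hg := map_mono hlH
  have ht'A : ∀ r, dlt t' r ∈ A := dlt_mem_map htl
  have ht'H : ∀ r ∈ Hg, dlt t' r = 1 := fun r hr => dlt_eq_one_map htH hr
  -- the line of the conjugate is outside the hyperplane
  have hAH : ¬ A ≤ H := fun hle => h.not_pgroup hg hgM ht ht1 ht ht1
    (K := stab A H hle) (isPGroup_stab hM A H hle)
    ⟨fun a ha => htH a (hle ha), fun b hb => (htH b hb).symm ▸ A.one_mem, fun r => hlH (htl r)⟩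
    ⟨fun a ha => ht'H a (hAHg ha), fun b _ => ht'A b, fun r => hle (ht'A r)⟩
  obtain ⟨z, hzA, hzH⟩ := SetLike.not_le_iff_exists.1 hAH
  have hz1 : z ≠ 1 := fun e => hzH (e ▸ H.one_mem)
  have hzgen : zpowers z = A := zpowers_eq_line hAc hzA hz1
  -- orbit of the line
  have hzq : ∀ q ∈ Q, dlt q z = 1 → q = 1 := by
    intro q hq hqz
    by_contra hq1
    have hgen : ∀ r, ∃ (i : ℤ) (x : E), x ∈ H ∧ r = z ^ i * x := fun r => by
      have htp : zpowers z ⊔ H = ⊤ := by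
        refine eq_top_of_le_card _ ?_
        have hlt : H < zpowers z ⊔ H := lt_of_le_of_ne le_sup_right fun e =>
          hzH (e.ge (mem_sup_left (mem_zpowers z)))
        obtain ⟨j, hj⟩ := (hM.to_subgroup (zpowers z ⊔ H)).exists_card_eq
        have h1 : Nat.card H < Nat.card (zpowers z ⊔ H : Subgroup E) := lt_of_le_of_ne (card_le_of_le hlt.le)
          fun e => hlt.ne (eq_of_le_of_card_ge hlt.le e.ge)
        rw [hH, hj] at h1
        rw [hE, hj]
        exact Nat.pow_le_pow_right hp.pos ((Nat.pow_lt_pow_iff_right hp.one_lt).1 h1)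
      obtain ⟨a, ha, x, hx, rfl⟩ := mem_sup.1 (htp.ge (mem_top r))
      obtain ⟨i, rfl⟩ := mem_zpowers_iff.1 ha
      exact ⟨i, x, hx, rfl⟩
    have hql : ∀ r, dlt q r ∈ l := fun r => by
      obtain ⟨i, x, hx, rfl⟩ := hgen r
      rw [map_mul, map_zpow, hqz, one_zpow, one_mul]
      exact hstep q hq x hx
    have hqA : ∀ a ∈ A, dlt q a = 1 := fun a ha => by
      rw [← hzgen] at ha
      obtain ⟨i, rfl⟩ := mem_zpowers_iff.1 ha
      rw [map_zpow, hqz, one_zpow]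
    refine h.not_pgroup hg hgM ht ht1 hq hq1 (K := stab A (A ⊔ l) le_sup_left)
      (isPGroup_stab hM _ _ _) ⟨hqA, fun b hb => ?_, fun r => mem_sup_right (hql r)⟩
      ⟨fun a ha => ht'H a (hAHg ha), fun b _ => ht'A b, fun r => mem_sup_left (ht'A r)⟩
    obtain ⟨a, ha, x, hx, rfl⟩ := mem_sup.1 hb
    rw [map_mul, hqA a ha, hfix q hq x hx, one_mul]
    exact A.one_mem
  haveI := Fintype.ofFinite E
  haveI : Fintype Q := Fintype.ofFinite Q
  have hzp : orderOf (QuotientGroup.mk z : E ⧸ H) = p := by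
    refine orderOf_eq_prime ?_ fun e => hzH ((QuotientGroup.eq_one_iff _).1 e)
    have h1 := H.card_mul_index
    rw [hH, hE, pow_succ p 2, index_eq_card] at h1
    have h2 : Nat.card (E ⧸ H) = p := Nat.eq_of_mul_eq_mul_left (pow_pos hp.pos 2) h1
    rw [← h2]
    exact pow_card_eq_one'
  have hqm : ∀ q : Q, ∀ x : E, (QuotientGroup.mk ((q : MulAut E) x) : E ⧸ H) = QuotientGroup.mk x := fun q x => by
    rw [apply_eq, QuotientGroup.mk_mul, (QuotientGroup.eq_one_iff _).2 (htop q q.2 x), mul_one]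
  let f : Q × Fin (p - 1) → {x : E // x ∉ H} := fun c => ⟨(c.1 : MulAut E) (z ^ ((c.2 : ℕ) + 1)), fun hmem => by
    have h1 := hqm c.1 (z ^ ((c.2 : ℕ) + 1))
    rw [(QuotientGroup.eq_one_iff _).2 hmem, QuotientGroup.mk_pow] at h1
    have h2 := Nat.le_of_dvd (Nat.succ_pos _) (orderOf_dvd_of_pow_eq_one h1.symm)
    rw [hzp] at h2
    have := c.2.isLt
    omega⟩
  have hinj : Function.Injective f := by
    rintro ⟨q, i⟩ ⟨q', i'⟩ he
    have he' : (q : MulAut E) (z ^ ((i : ℕ) + 1)) = (q' : MulAut E) (z ^ ((i' : ℕ) + 1)) := congrArg Subtype.val he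
    have h1 := congrArg (QuotientGroup.mk : E → E ⧸ H) he'
    rw [hqm, hqm, QuotientGroup.mk_pow, QuotientGroup.mk_pow] at h1
    have hii : i = i' := by
      refine Fin.ext (Nat.succ_injective (pow_injOn_Iio_orderOf ?_ ?_ h1))
      · rw [Set.mem_Iio, hzp]; have := i.isLt; omega
      · rw [Set.mem_Iio, hzp]; have := i'.isLt; omega
    subst hii
    set k := (i : ℕ) + 1
    have h2 : (((q'⁻¹ * q : Q) : MulAut E)) (z ^ k) = z ^ k := by
      show (q' : MulAut E)⁻¹ ((q : MulAut E) (z ^ k)) = z ^ k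
      rw [he']
      exact MulEquiv.symm_apply_apply _ _
    have hzk : dlt ((q'⁻¹ * q : Q) : MulAut E) z = 1 := by
      have h3 := dlt_eq_one.2 h2
      rw [map_pow] at h3
      set r := dlt ((q'⁻¹ * q : Q) : MulAut E) z
      have hrl : orderOf r ∣ p ^ 3 := hE ▸ orderOf_dvd_natCard r
      have hrk := orderOf_dvd_of_pow_eq_one h3
      refine orderOf_eq_one_iff.1 (Nat.eq_one_of_dvd_coprimes ?_ hrk hrl)
      refine Nat.Coprime.pow_right 3 (Nat.Coprime.symm (hp.coprime_iff_not_dvd.2 fun hd => ?_))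
      have := Nat.le_of_dvd (Nat.succ_pos _) hd
      have := i.isLt
      omega
    have hqq : q = q' := by
      have := hzq _ (q'⁻¹ * q).2 hzk
      exact (inv_mul_eq_one.1 (Subtype.ext this : q'⁻¹ * q = 1)).symm
    rw [hqq]
  have hsurj : Function.Surjective f := by
    refine ((Fintype.bijective_iff_injective_and_card f).2 ⟨hinj, le_antisymm (Fintype.card_le_of_injective f hinj) ?_⟩).2
    rw [Fintype.card_prod, Fintype.card_fin, Fintype.card_subtype_compl, ← Nat.card_eq_fintype_card,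
      ← Nat.card_eq_fintype_card, ← Nat.card_eq_fintype_card, hE]
    rw [show Nat.card {x : E // x ∈ H} = p ^ 2 from hH]
    calc p ^ 3 - p ^ 2 = p ^ 2 * (p - 1) := by rw [pow_succ p 2, Nat.mul_sub, mul_one]
      _ ≤ Nat.card Q * (p - 1) := Nat.mul_le_mul_right _ hQ
  -- a second line on the conjugate hyperplane
  obtain ⟨m, hm, hmA, hmH⟩ : ∃ m ∈ Hg, m ∉ A ∧ m ∉ H := by
    obtain ⟨b, hb, hbA⟩ := SetLike.exists_of_lt (lt_of_le_of_ne hAHg fun e => by
      rw [e, hHgc] at hAc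
      exact absurd (Nat.pow_right_injective hp.two_le (hAc.trans (pow_one p).symm)) (by norm_num))
    by_cases hbH : b ∈ H
    · exact ⟨z * b, Hg.mul_mem (hAHg hzA) hb, fun hc => hbA ((A.mul_mem_cancel_left hzA).1 hc),
        fun hc => hzH ((H.mul_mem_cancel_right hbH).1 hc)⟩
    · exact ⟨b, hb, hbA, hbH⟩
  obtain ⟨⟨q, i⟩, hqi⟩ := hsurj ⟨m, hmH⟩
  have hqi' : (q : MulAut E) (z ^ ((i : ℕ) + 1)) = m := congrArg Subtype.val hqi
  set y := (q : MulAut E) z with hy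
  have hym : m ∈ zpowers y := by
    rw [← hqi', map_pow]
    exact pow_mem (mem_zpowers y) _
  have hyA : y ∉ A := fun hc => hmA (zpowers_le.2 hc hym)
  have hyHg : y ∈ Hg := by
    have hy' : zpowers y = zpowers m := by
      refine (zpowers_eq_line (p := p) ?_ hym fun e => hmH (e ▸ H.one_mem)).symm
      rw [Nat.card_zpowers, hy, MulEquiv.orderOf_eq, ← Nat.card_zpowers, hzgen, hAc]
    exact (zpowers_le.2 hm) (hy' ▸ mem_zpowers y)
  have hq1 : (q : MulAut E) ≠ 1 := fun e => hyA (by rw [hy, e]; exact hzA)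
  set g₂ := (q : MulAut E) * g
  set A₂ := l.map g₂.toMonoidHom with hA₂
  have hA₂y : A₂ = zpowers y := by
    rw [hA₂, show g₂.toMonoidHom = (q : MulAut E).toMonoidHom.comp g.toMonoidHom from rfl, ← Subgroup.map_map,
      ← hA, ← hzgen, MonoidHom.map_zpowers]
    rfl
  have hA₂H : A₂ ≤ Hg := hA₂y ▸ zpowers_le.2 hyHg
  set t'' := g₂ * t * g₂⁻¹
  have hK := isPGroup_stab hM A₂ Hg hA₂H
  have h1 : t' ∈ stab A₂ Hg hA₂H :=
    ⟨fun a ha => ht'H a (hA₂H ha), fun b hb => (ht'H b hb).symm ▸ A₂.one_mem, fun r => hAHg (ht'A r)⟩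
  have h2 : t'' ∈ stab A₂ Hg hA₂H :=
    ⟨fun a ha => dlt_eq_one_map htH (map_mono hlH ha), fun b _ => dlt_mem_map htl b,
      fun r => hA₂H (dlt_mem_map htl r)⟩
  set k := g⁻¹ * (q : MulAut E) * g with hk
  have hkX : k ∈ X := X.mul_mem (X.mul_mem (X.inv_mem hg) (h.qle q.2)) hg
  have hkM : k ∈ M := by
    refine h.mem_of_conj hkX ht ht1 ?_
    refine h.le_of_meets (inf_le_left (b := conjBy g⁻¹ (stab A₂ Hg hA₂H)))
      ((isPGroup_conjBy g⁻¹ hK).to_le inf_le_right) (t := t) ?_ (h.qM ht) ht1 ?_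
    · refine mem_inf.2 ⟨h.qle ht, ?_⟩
      rw [show t = g⁻¹ * t' * g⁻¹⁻¹ by rw [ht']; group]
      exact conj_mem_conjBy h1
    · refine mem_inf.2 ⟨X.mul_mem (X.mul_mem hkX (h.qle ht)) (X.inv_mem hkX), ?_⟩
      rw [show k * t * k⁻¹ = g⁻¹ * t'' * g⁻¹⁻¹ by simp only [hk, t'', g₂]; group]
      exact conj_mem_conjBy h2
  exact hgM (inv_mem_iff.1 (h.mem_of_conj (X.inv_mem hg) q.2 hq1 (by rw [inv_inv]; exact hkM)))

/-- The torus of two conjugate transvections, with the decomposition it respects. -/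
theorem exists_torus_plane [Finite (MulAut E)] {X : Subgroup (MulAut E)} (hM : IsPGroup p E)
    (hsyl : ∀ H : Subgroup (MulAut E), H ≤ X → IsPGroup p H → Nat.card H ≤ p) {u : MulAut E}
    (hu : IsTrv p u) (huX : u ∈ X) {g : MulAut E} (hg : g ∈ X) (hne : g * u * g⁻¹ ∉ zpowers u)
    {a b : ℤ} (hab : ((a * b : ℤ) : ZMod p) = 1) :
    ∃ T ∈ X, ∃ τ τ' : E, τ ≠ 1 ∧ τ ^ p = 1 ∧ τ' ^ p = 1 ∧ dlt u τ' = τ ∧ dlt u τ = 1 ∧
      T τ = τ ^ b ∧ T τ' = τ' ^ a ∧
      T * u * T⁻¹ = u ^ (b * b) ∧ (∀ r, dlt (g * u * g⁻¹) r ∈ zpowers τ') ∧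
      (∀ c, dlt u c = 1 → dlt (g * u * g⁻¹) c = 1 → T c = c) ∧
      (∀ r, ∃ (i j : ℤ) (c : E), dlt u c = 1 ∧ dlt (g * u * g⁻¹) c = 1 ∧ r = τ ^ i * τ' ^ j * c) := by
  have hp := (Fact.out : p.Prime)
  set u' := g * u * g⁻¹
  have hu' : IsTrv p u' := hu.conj g
  have hu'X : u' ∈ X := X.mul_mem (X.mul_mem hg huX) (X.inv_mem hg)
  obtain ⟨τ, τ', h1, h2, h3, h4, hT, hT', hdec⟩ := exists_basis hM hsyl hu hu' huX hu'X hne
  have hτ1 : τ ≠ 1 := fun e => h4 (by rw [e, map_one])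
  have hτp : τ ^ p = 1 := hu.pow_eq_one ⟨τ', h1⟩
  set σ := dlt u' τ with hσ
  have hσT : σ ∈ zpowers τ' := hT' ▸ ⟨τ, rfl⟩
  have hτ'r : τ' ∈ (dlt u').range := hT' ▸ mem_zpowers τ'
  have hτ'p : τ' ^ p = 1 := hu'.pow_eq_one hτ'r
  obtain ⟨j, hj⟩ : ∃ j : ℤ, σ ^ j = τ'⁻¹ := mem_zpowers_iff.1 (by
    rw [hu'.zpowers_eq ⟨τ, rfl⟩ h4]
    exact inv_mem hτ'r)
  have powz : ∀ {w : MulAut E}, IsTrv p w → ∀ r (k : ℤ), (w ^ k) r = r * dlt w r ^ k := by
    intro w hw r k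
    induction k using Int.induction_on with
    | zero => simp
    | succ i hi =>
      rw [zpow_add_one, MulAut.mul_apply, apply_eq w r, map_mul, hi,
        show (w ^ (i : ℤ)) (dlt w r) = dlt w r by
          rw [zpow_natCast, pow_apply w (hw.fix _), hw.fix, one_pow, mul_one],
        zpow_add_one, mul_assoc]
    | pred i hi =>
      rw [zpow_sub_one, MulAut.mul_apply]
      have hinv : w⁻¹ r = r * (dlt w r)⁻¹ := by
        refine (MulEquiv.symm_apply_eq w).2 ?_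
        rw [map_mul, map_inv, apply_eq w (dlt w r), hw.fix, mul_one, apply_eq w r, mul_inv_cancel_right]
      have hfx : (w ^ (-(i : ℤ))) (dlt w r) = dlt w r := by
        rw [zpow_neg, zpow_natCast]
        refine (MulEquiv.symm_apply_eq (w ^ i)).2 ?_
        rw [pow_apply w (hw.fix _), hw.fix, one_pow, mul_one]
      rw [hinv, map_mul, map_inv, hi, hfx, zpow_sub_one, mul_assoc]
  -- one parameter subgroups
  have hx : ∀ c : ℤ, (u ^ c) τ = τ ∧ (u ^ c) τ' = τ' * τ ^ c := fun c =>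
    ⟨by rw [powz hu, h2, one_zpow, mul_one], by rw [powz hu, h1]⟩
  have hy : ∀ c : ℤ, (u' ^ (j * c)) τ = τ * τ' ^ (-c) ∧ (u' ^ (j * c)) τ' = τ' := fun c =>
    ⟨by rw [powz hu', ← hσ, zpow_mul, hj, inv_zpow, zpow_neg],
      by rw [powz hu', h3, one_zpow, mul_one]⟩
  have hcastτ : ∀ {r s : ℤ}, (r : ZMod p) = s → τ ^ r = τ ^ s := fun {r s} e =>
    orderOf_dvd_sub_iff_zpow_eq_zpow.1 ((Int.natCast_dvd_natCast.2 (orderOf_dvd_of_pow_eq_one hτp)).trans
      ((ZMod.intCast_eq_intCast_iff_dvd_sub _ _ _).1 e.symm))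
  have hcastτ' : ∀ {r s : ℤ}, (r : ZMod p) = s → τ' ^ r = τ' ^ s := fun {r s} e =>
    orderOf_dvd_sub_iff_zpow_eq_zpow.1 ((Int.natCast_dvd_natCast.2 (orderOf_dvd_of_pow_eq_one hτ'p)).trans
      ((ZMod.intCast_eq_intCast_iff_dvd_sub _ _ _).1 e.symm))
  have hw : ∀ c d : ℤ, ((c * d : ℤ) : ZMod p) = 1 →
      (u ^ c * u' ^ (j * d) * u ^ c : MulAut E) τ = τ' ^ (-d) ∧
      (u ^ c * u' ^ (j * d) * u ^ c : MulAut E) τ' = τ ^ c := by
    intro c d hcd
    simp only [MulAut.mul_apply]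
    constructor
    · rw [(hx c).1, (hy d).1, map_mul, map_zpow, (hx c).1, (hx c).2, mul_zpow, mul_comm (τ' ^ (-d)),
        ← mul_assoc, ← zpow_mul, ← zpow_one_add,
        hcastτ (s := 0) (by push_cast at hcd ⊢; linear_combination -hcd), zpow_zero, one_mul]
    · rw [(hx c).2, map_mul, map_zpow, (hy d).1, (hy d).2, mul_zpow, ← mul_assoc, mul_comm τ' (τ ^ c),
        mul_assoc, ← zpow_mul, ← zpow_one_add,
        hcastτ' (s := 0) (by push_cast at hcd ⊢; linear_combination -hcd), zpow_zero, mul_one, map_zpow,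
        (hx c).1]
  set W₁ := u ^ (-b) * u' ^ (j * -a) * u ^ (-b)
  set W₂ := u ^ (1 : ℤ) * u' ^ (j * 1) * u ^ (1 : ℤ)
  obtain ⟨e1, e2⟩ := hw (-b) (-a) (by push_cast at hab ⊢; linear_combination hab)
  obtain ⟨e3, e4⟩ := hw 1 1 (by simp)
  set T := W₁ * W₂ with hTdef
  have hTτ : T τ = τ ^ b := by
    show W₁ (W₂ τ) = _
    rw [e3, map_zpow, e2, ← zpow_mul]
    exact congrArg (τ ^ ·) (by ring)
  have hTτ' : T τ' = τ' ^ a := by
    show W₁ (W₂ τ') = _
    rw [e4, map_zpow, e1, ← zpow_mul]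
    exact congrArg (τ' ^ ·) (by ring)
  have hTX : T ∈ X := by
    have hpw : ∀ {c d : ℤ}, u ^ c * u' ^ d * u ^ c ∈ X := fun {c d} =>
      mul_mem (mul_mem (zpow_mem huX c) (zpow_mem hu'X d)) (zpow_mem huX c)
    exact mul_mem hpw hpw
  have hTc : ∀ c, dlt u c = 1 → dlt u' c = 1 → T c = c := fun c hc hc' => by
    have hu1 : ∀ k : ℤ, (u ^ k) c = c := fun k => by rw [powz hu, hc, one_zpow, mul_one]
    have hu2 : ∀ k : ℤ, (u' ^ k) c = c := fun k => by rw [powz hu', hc', one_zpow, mul_one]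
    simp only [T, W₁, W₂, MulAut.mul_apply, hu1, hu2]
  refine ⟨T, hTX, τ, τ', hτ1, hτp, hτ'p, h1, h2, hTτ, hTτ', ?_, fun r => hT' ▸ ⟨r, rfl⟩, hTc, hdec⟩
  rw [mul_inv_eq_iff_eq_mul]
  refine MulEquiv.ext fun r => ?_
  obtain ⟨i, k, c, hc, hc', rfl⟩ := hdec r
  simp only [MulAut.mul_apply, map_mul, map_zpow, hTτ, hTτ', hTc c hc hc', apply_eq u τ, apply_eq u τ',
    apply_eq u c, hc, h1, h2, mul_one, (hx (b * b)).1, (hx (b * b)).2,
    powz hu c, one_zpow, mul_zpow, ← zpow_mul]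
  rw [show b * b * a * k = b * b * (a * k) by ring, hcastτ (r := b * b * (a * k)) (s := b * k) (by
    push_cast at hab ⊢; linear_combination ((b : ZMod p) * k) * hab)]

/-- The torus of two conjugate transvections. -/
theorem exists_torus [Finite (MulAut E)] {X : Subgroup (MulAut E)} (hE : Nat.card E = p ^ 3)
    (hsyl : ∀ H : Subgroup (MulAut E), H ≤ X → IsPGroup p H → Nat.card H ≤ p) {u : MulAut E}
    (hu : IsTrv p u) (huX : u ∈ X) {g : MulAut E} (hg : g ∈ X) (hne : g * u * g⁻¹ ∉ zpowers u)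
    {a b : ℤ} (hab : ((a * b : ℤ) : ZMod p) = 1) :
    ∃ T ∈ X, ∃ τ τ' : E, τ ≠ 1 ∧ dlt u τ' = τ ∧ dlt u τ = 1 ∧ T τ = τ ^ b ∧ T τ' = τ' ^ a ∧
      T * u * T⁻¹ = u ^ (b * b) ∧ (∀ r, dlt (g * u * g⁻¹) r ∈ zpowers τ') ∧
      ∃ d : E, d ≠ 1 ∧ dlt u d = 1 ∧ T d = d := by
  have hp := (Fact.out : p.Prime)
  obtain ⟨T, hTX, τ, τ', hτ1, hτp, hτ'p, h1, h2, hTτ, hTτ', hTu, hT', hTc, hdec⟩ :=
    exists_torus_plane (IsPGroup.of_card hE) hsyl hu huX hg hne hab
  refine ⟨T, hTX, τ, τ', hτ1, h1, h2, hTτ, hTτ', hTu, hT', ?_⟩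
  by_contra hno
  push Not at hno
  have hsub : ∀ r, r ∈ zpowers τ ⊔ zpowers τ' := fun r => by
    obtain ⟨i, k, c, hc, hc', rfl⟩ := hdec r
    have hc1 : c = 1 := by
      by_contra hc1
      exact hno c hc1 hc (hTc c hc hc')
    rw [hc1, mul_one]
    exact mul_mem (mem_sup_left (zpow_mem (mem_zpowers τ) i)) (mem_sup_right (zpow_mem (mem_zpowers τ') k))
  have hcard : Nat.card (zpowers τ ⊔ zpowers τ' : Subgroup E) ∣ Nat.card (zpowers τ) * Nat.card (zpowers τ') :=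
    CfsgLib.PGroup.card_sup_dvd_of_normal _ _
  rw [show zpowers τ ⊔ zpowers τ' = ⊤ from eq_top_iff.2 fun r _ => hsub r, card_top, hE, Nat.card_zpowers,
    Nat.card_zpowers] at hcard
  have h5 := (Nat.le_of_dvd (Nat.mul_pos (orderOf_pos τ) (orderOf_pos τ')) hcard).trans
    (Nat.mul_le_mul (Nat.le_of_dvd hp.pos (orderOf_dvd_of_pow_eq_one hτp))
      (Nat.le_of_dvd hp.pos (orderOf_dvd_of_pow_eq_one hτ'p)))
  rw [← pow_two] at h5
  exact absurd h5 (not_le.2 (Nat.pow_lt_pow_right hp.one_lt (by norm_num)))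


end CfsgLib.Fusion.CubeAutomizer
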