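import Cfsg.Agent.Lib.Fusion.System.TransportNormal
import Cfsg.Prelude.Def_TwoFusion

/-!
# Strongly closed direct factors of the Sylow group
-/

set_option autoImplicit false
set_option linter.style.haveILetI false

open Subgroup
open scoped Classical

namespace CfsgLib.Fusion.DirectFactors

open Cfsg (FusionSystem autInducedBy)
open Cfsg.FusionSystem (normalizerIn centralizerIn)
open CfsgLib.Fusion CfsgLib.Fusion.Transport

universe u

variable {Ω : Type u} [Group Ω] {S : Subgroup Ω} {p : ℕ} {F : FusionSystem S} {S₁ S₂ P Q : Subgroup Ω}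
  {f : Ω → Ω}

/-- The standing data. -/
structure Data (F : FusionSystem S) (p : ℕ) (S₁ S₂ : Subgroup Ω) : Prop where
  pgroup : IsPGroup p S
  sat : F.IsSaturated p
  prod : Cfsg.IsInternalDirectProduct S₁ S₂ S
  closed₁ : F.StronglyClosed S₁
  closed₂ : F.StronglyClosed S₂

namespace Data

variable (D : Data F p S₁ S₂)
include D

theorem le₁ : S₁ ≤ S := D.prod.1
theorem le₂ : S₂ ≤ S := D.prod.2.1

theorem comm {a b : Ω} (ha : a ∈ S₁) (hb : b ∈ S₂) : a * b = b * a := D.prod.2.2.1 a ha b hb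

theorem sup_eq : S₁ ⊔ S₂ = S := D.prod.2.2.2.2

theorem eq_one {a : Ω} (ha : a ∈ S₁) (hb : a ∈ S₂) : a = 1 :=
  mem_bot.1 (D.prod.2.2.2.1.le ⟨ha, hb⟩)

theorem le_centralizer : S₂ ≤ centralizer (S₁ : Set Ω) :=
  fun _ hb => mem_centralizer_iff.2 fun _ ha => D.comm ha hb

theorem centralizer_le {U : Subgroup Ω} (hU : U ≤ S₁) : S₂ ≤ centralizer (U : Set Ω) :=
  D.le_centralizer.trans (Subgroup.centralizer_le hU)

theorem mem_sup {U V : Subgroup Ω} (hU : U ≤ S₁) (hV : V ≤ S₂) {x : Ω} :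
    x ∈ U ⊔ V ↔ ∃ a ∈ U, ∃ b ∈ V, a * b = x := by
  have hn : V ≤ Subgroup.normalizer (U : Set Ω) :=
    (hV.trans (D.centralizer_le hU)).trans (Subgroup.centralizer_le_normalizer _)
  rw [← SetLike.mem_coe, Subgroup.coe_mul_of_right_le_normalizer_left U V hn, Set.mem_mul]
  rfl

theorem decomp {x : Ω} (hx : x ∈ S) : ∃ a ∈ S₁, ∃ b ∈ S₂, a * b = x :=
  (D.mem_sup le_rfl le_rfl).1 (D.sup_eq.ge hx)

theorem card_sup [Finite S] {U V : Subgroup Ω} (hU : U ≤ S₁) (hV : V ≤ S₂) :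
    Nat.card (U ⊔ V : Subgroup Ω) = Nat.card U * Nat.card V := by
  rw [← Nat.card_prod]
  refine (Nat.card_congr (Equiv.ofBijective (fun z : U × V => (⟨z.1 * z.2,
    mul_mem ((le_sup_left : U ≤ U ⊔ V) z.1.2) ((le_sup_right : V ≤ U ⊔ V) z.2.2)⟩ : (U ⊔ V : Subgroup Ω)))
    ⟨?_, ?_⟩)).symm
  · rintro ⟨a, b⟩ ⟨a', b'⟩ h
    have h' : (a : Ω) * b = a' * b' := congrArg Subtype.val h
    have h1 : (a' : Ω)⁻¹ * a = b' * (b : Ω)⁻¹ := by
      rw [eq_mul_inv_iff_mul_eq, mul_assoc, h', inv_mul_cancel_left]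
    have h2 : (a' : Ω)⁻¹ * a = 1 :=
      D.eq_one (mul_mem (inv_mem (hU a'.2)) (hU a.2)) (h1 ▸ mul_mem (hV b'.2) (inv_mem (hV b.2)))
    have h3 : (a : Ω) = a' := (inv_mul_eq_one.1 h2).symm
    rw [h3] at h'
    exact Prod.ext (Subtype.ext h3) (Subtype.ext (mul_left_cancel h'))
  · rintro ⟨x, hx⟩
    obtain ⟨a, ha, b, hb, rfl⟩ := (D.mem_sup hU hV).1 hx
    exact ⟨(⟨a, ha⟩, ⟨b, hb⟩), rfl⟩

theorem normalizerIn_eq (hP : P ≤ S₁) : normalizerIn S P = normalizerIn S₁ P ⊔ S₂ := by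
  refine le_antisymm (fun x hx => ?_) (sup_le (inf_le_inf_right _ D.le₁)
    (le_inf D.le₂ ((D.centralizer_le hP).trans (Subgroup.centralizer_le_normalizer _))))
  obtain ⟨a, ha, b, hb, rfl⟩ := D.decomp hx.1
  refine (D.mem_sup inf_le_left le_rfl).2 ⟨a, mem_inf.2 ⟨ha, ?_⟩, b, hb, rfl⟩
  have hx2 : a * b ∈ Subgroup.normalizer (P : Set Ω) := hx.2
  have h := mul_mem hx2 (inv_mem (Subgroup.centralizer_le_normalizer _ (D.centralizer_le hP hb)))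
  rwa [mul_inv_cancel_right] at h

theorem centralizerIn_eq (hP : P ≤ S₁) : centralizerIn S P = centralizerIn S₁ P ⊔ S₂ := by
  refine le_antisymm (fun x hx => ?_) (sup_le (inf_le_inf_right _ D.le₁)
    (le_inf D.le₂ (D.centralizer_le hP)))
  obtain ⟨a, ha, b, hb, rfl⟩ := D.decomp hx.1
  refine (D.mem_sup inf_le_left le_rfl).2 ⟨a, mem_inf.2 ⟨ha, ?_⟩, b, hb, rfl⟩
  have hx2 : a * b ∈ Subgroup.centralizer (P : Set Ω) := hx.2
  have h := mul_mem hx2 (inv_mem (D.centralizer_le hP hb))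
  rwa [mul_inv_cancel_right] at h

theorem centralizerIn_sup_eq (hP : P ≤ S₁) :
    centralizerIn S (P ⊔ S₂) = centralizerIn S₁ P ⊔ centralizerIn S₂ S₂ := by
  refine le_antisymm (fun x hx => ?_) (sup_le ?_ ?_)
  · obtain ⟨a, ha, b, hb, rfl⟩ := D.decomp hx.1
    have hP' := Subgroup.centralizer_le (le_sup_left : P ≤ P ⊔ S₂) hx.2
    have hS' := Subgroup.centralizer_le (le_sup_right : S₂ ≤ P ⊔ S₂) hx.2
    refine (D.mem_sup inf_le_left inf_le_left).2 ⟨a, mem_inf.2 ⟨ha, ?_⟩, b, mem_inf.2 ⟨hb, ?_⟩, rfl⟩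
    · have h := mul_mem hP' (inv_mem (D.centralizer_le hP hb))
      rwa [mul_inv_cancel_right] at h
    · have haC : a ∈ centralizer (S₂ : Set Ω) :=
        mem_centralizer_iff.2 fun y hy => (D.comm ha hy).symm
      have h := mul_mem (inv_mem haC) hS'
      rwa [inv_mul_cancel_left] at h
  · rintro x ⟨hx, hxc⟩
    refine ⟨D.le₁ hx, mem_centralizer_iff.2 fun y hy => ?_⟩
    obtain ⟨a, ha, b, hb, rfl⟩ := (D.mem_sup hP le_rfl).1 hy
    rw [mul_assoc, ← D.comm hx hb, ← mul_assoc, mem_centralizer_iff.1 hxc a ha, mul_assoc]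
  · rintro x ⟨hx, hxc⟩
    refine ⟨D.le₂ hx, mem_centralizer_iff.2 fun y hy => ?_⟩
    obtain ⟨a, ha, b, hb, rfl⟩ := (D.mem_sup hP le_rfl).1 hy
    rw [mul_assoc, mem_centralizer_iff.1 hxc b hb, ← mul_assoc, D.comm (hP ha) hx, mul_assoc]

omit D in
theorem nle (U V : Subgroup Ω) : normalizerIn U V ≤ U := inf_le_left

omit D in
theorem cle (U V : Subgroup Ω) : centralizerIn U V ≤ U := inf_le_left

theorem autInducedBy_eq (hP : P ≤ S₁) : autInducedBy S P = autInducedBy S₁ P := by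
  ext α
  rw [mem_autInducedBy_iff, mem_autInducedBy_iff]
  refine ⟨fun ⟨g, hg, h⟩ => ?_, fun ⟨g, hg, h⟩ => ⟨g, D.le₁ hg, h⟩⟩
  obtain ⟨a, ha, b, hb, rfl⟩ := D.decomp hg
  refine ⟨a, ha, fun x hx => ?_⟩
  rw [h x hx]
  calc a * b * x * (a * b)⁻¹ = a * (b * x) * b⁻¹ * a⁻¹ := by group
    _ = a * x * a⁻¹ := by rw [← D.comm (hP hx) hb]; group

theorem map_mem₁ {R : Subgroup Ω} (hR : R ≤ S₁) (hf : IsMap F R f) {x : Ω} (hx : x ∈ R) : f x ∈ S₁ :=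
  (stronglyClosed_iff.1 D.closed₁).2 R f hR hf x hx

theorem img_le₁ {R : Subgroup Ω} (hR : R ≤ S₁) (hf : IsMap F R f) : img R f ≤ S₁ :=
  hf.img_le_of_forall fun _ hx => D.map_mem₁ hR hf hx

theorem img₂ [Finite S] {R : Subgroup Ω} (hR : S₂ ≤ R) (hf : IsMap F R f) : img S₂ f = S₂ :=
  img_eq_of_map_le D.le₂ hf hR fun x hx => (stronglyClosed_iff.1 D.closed₂).2 S₂ f le_rfl (hf.mono hR) x hx

theorem img_sup [Finite S] (hP : P ≤ S₁) (hf : IsMap F (P ⊔ S₂) f) :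
    img (P ⊔ S₂) f = img P f ⊔ S₂ := by
  refine le_antisymm (hf.img_le_of_forall fun x hx => ?_)
    (sup_le (hf.img_mono le_sup_left) ((D.img₂ le_sup_right hf).ge.trans (hf.img_mono le_sup_right)))
  obtain ⟨a, ha, b, hb, rfl⟩ := (D.mem_sup hP le_rfl).1 hx
  rw [hf.map_mul ((le_sup_left : P ≤ P ⊔ S₂) ha) ((le_sup_right : S₂ ≤ P ⊔ S₂) hb)]
  exact mul_mem ((le_sup_left : img P f ≤ _) ((hf.mono le_sup_left).mem_img.2 ⟨a, ha, rfl⟩))
    ((le_sup_right : S₂ ≤ _) ((D.img₂ le_sup_right hf).le ((hf.mono le_sup_right).mem_img.2 ⟨b, hb, rfl⟩)))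

variable [Finite S] [Fact p.Prime]

theorem extend_normalized (hP : P ≤ S₁) (hf : IsMap F P f) (hn : F.IsFullyNormalized (img P f)) :
    ∃ g, IsMap F (P ⊔ S₂) g ∧ ∀ x ∈ P, g x = f x := by
  obtain ⟨g, hg, he⟩ := (isReceptive_iff.1 (IsSaturated.automized_receptive D.pgroup D.sat hn).2).2 P f hf rfl
  exact ⟨g, hg.mono (sup_le (le_extSub hf) ((le_inf D.le₂ (D.centralizer_le hP) : S₂ ≤ centralizerIn S P).trans
    centralizerIn_le_extSub)), he⟩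

/-- Every map on a subgroup of the first factor extends over the second. -/
theorem extend (hP : P ≤ S₁) (hf : IsMap F P f) : ∃ g, IsMap F (P ⊔ S₂) g ∧ ∀ x ∈ P, g x = f x := by
  set Q := img P f
  have hQ : Q ≤ S₁ := D.img_le₁ hP hf
  obtain ⟨Q₀, hQQ, hn⟩ := exists_fullyNormalized (F := F) (hQ.trans D.le₁)
  obtain ⟨θ, hθ, rfl⟩ := isConj_iff.1 hQQ
  have hθf : IsMap F P (θ ∘ f) := hf.comp hθ fun x hx => hf.mem_img.2 ⟨x, hx, rfl⟩
  obtain ⟨g₁, hg₁, he₁⟩ := D.extend_normalized hP hθf (by rw [← img_img hf]; exact hn)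
  obtain ⟨g₂, hg₂, he₂⟩ := D.extend_normalized hQ hθ hn
  obtain ⟨g₂', hg₂', hl, hr⟩ := hg₂.exists_inv
  have hi₁ : img P g₁ = img Q θ := by rw [img_img hf]; exact IsMap.img_congr he₁
  have hi₂ : img Q g₂ = img Q θ := IsMap.img_congr he₂
  refine ⟨g₂' ∘ g₁, hg₁.comp hg₂' fun x hx => ?_, fun x hx => ?_⟩
  · rw [D.img_sup hQ hg₂, hi₂, ← hi₁, ← D.img_sup hP hg₁]
    exact hg₁.mem_img.2 ⟨x, hx, rfl⟩
  · have hfx : f x ∈ Q := hf.mem_img.2 ⟨x, hx, rfl⟩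
    show g₂' (g₁ x) = f x
    rw [he₁ x hx, Function.comp_apply, ← he₂ _ hfx, hl _ ((le_sup_left : Q ≤ Q ⊔ S₂) hfx)]

/-- A map of the second factor extends to the whole group. -/
theorem extend₂ {g : Ω → Ω} (hg : IsMap F S₂ g) : ∃ a, IsMap F S a ∧ ∀ y ∈ S₂, a y = g y := by
  have hn : F.IsFullyCentralized S₂ := by
    refine ⟨D.le₂, fun R hR => ?_⟩
    obtain ⟨h, hh, rfl⟩ := isConj_iff.1 hR
    rw [D.img₂ le_rfl hh]
  have himg := D.img₂ le_rfl hg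
  obtain ⟨a, ha, he⟩ := (isReceptive_iff.1 (IsSaturated.isReceptive D.pgroup D.sat hn)).2 S₂ g hg himg
  refine ⟨a, ha.mono fun x hx => ?_, he⟩
  obtain ⟨u, hu, v, hv, rfl⟩ := D.decomp hx
  refine mul_mem (centralizerIn_le_extSub ⟨D.le₁ hu, mem_centralizer_iff.2 fun y hy => (D.comm hu hy).symm⟩)
    (le_extSub hg hv)

/-- A map with a fixed extension over the second factor. -/
def Fixes (F : FusionSystem S) (S₁ S₂ P : Subgroup Ω) (f : Ω → Ω) : Prop :=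
  P ≤ S₁ ∧ ∃ g, IsMap F (P ⊔ S₂) g ∧ (∀ x ∈ P, g x = f x) ∧ ∀ y ∈ S₂, g y = y

theorem frattini (hP : P ≤ S₁) (hf : IsMap F P f) :
    ∃ a f₀, IsMap F S a ∧ img S₁ a = S₁ ∧ Fixes F S₁ S₂ P f₀ ∧ ∀ x ∈ P, f x = a (f₀ x) := by
  obtain ⟨g, hg, he⟩ := D.extend hP hf
  obtain ⟨a, ha, hae⟩ := D.extend₂ (hg.mono le_sup_right)
  obtain ⟨a', ha', hl, hr⟩ := ha.exists_inv
  have hS : img S a = S := img_eq_of_map_le le_rfl ha le_rfl fun x hx => ha.mem_S hx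
  rw [hS] at ha' hr
  refine ⟨a, a' ∘ f, ha, img_eq_of_map_le D.le₁ ha D.le₁ fun x hx =>
    D.map_mem₁ le_rfl (ha.mono D.le₁) hx, ⟨hP, a' ∘ g, hg.comp ha' fun x hx => hg.mem_S hx,
      fun x hx => congrArg a' (he x hx), fun y hy => ?_⟩, fun x hx => ?_⟩
  · show a' (g y) = y
    rw [← hae y hy, hl y (D.le₂ hy)]
  · exact ((hr _ (hf.mem_S hx)).2).symm

/-- The invariant subsystem `C_F(S₂)` on the first factor. -/
theorem isMap_iff_fixes {R' : FusionSystem S₁}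
    (hR' : ∀ P : Subgroup Ω, P ≤ S₁ → R'.Hom P = F.centralizerHom S₂ P) :
    IsMap R' P f ↔ Fixes F S₁ S₂ P f := by
  constructor
  · rintro ⟨φ, hφ, hφf⟩
    have hP := (R'.le_of_mem hφ).1
    rw [hR' P hP] at hφ
    obtain ⟨-, -, -, ψ, hψ, h1, h2⟩ := hφ
    refine ⟨hP, toFun ψ, isMap_toFun hψ, fun x hx => ?_, fun y hy => ?_⟩
    · rw [toFun_apply ψ ((le_sup_left : P ≤ P ⊔ S₂) hx), ← hφf ⟨x, hx⟩]; exact h1 ⟨x, hx⟩
    · rw [toFun_apply ψ ((le_sup_right : S₂ ≤ P ⊔ S₂) hy)]; exact h2 ⟨y, hy⟩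
  · rintro ⟨hP, g, hg, hgf, hgy⟩
    obtain ⟨φ, hφ, hφf⟩ := (hg.mono le_sup_left).congr fun x hx => (hgf x hx).symm
    obtain ⟨ψ, hψ, hψg⟩ := hg
    have hS1c : S₁ ≤ centralizerIn S S₂ :=
      le_inf D.le₁ fun x hx => mem_centralizer_iff.2 fun y hy => (D.comm hx hy).symm
    refine ⟨φ, ?_, hφf⟩
    rw [hR' P hP]
    exact ⟨hφ, hP.trans hS1c, fun x => hS1c (D.map_mem₁ hP (f := toFun φ) (isMap_toFun hφ) x.2 |> fun h => by
        rwa [toFun_coe] at h),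
      ψ, hψ, fun x => by rw [hψg, hφf]; exact hgf x x.2, fun y => (hψg _).trans (hgy y y.2)⟩

theorem isMap_iff_full {R : FusionSystem S₁} (hR : ∀ P : Subgroup Ω, P ≤ S₁ → R.Hom P = F.Hom P) :
    IsMap R P f ↔ P ≤ S₁ ∧ IsMap F P f := by
  constructor
  · rintro ⟨φ, hφ, hφf⟩
    have hP := (R.le_of_mem hφ).1
    exact ⟨hP, φ, hR P hP ▸ hφ, hφf⟩
  · rintro ⟨hP, φ, hφ, hφf⟩
    exact ⟨φ, (hR P hP).symm ▸ hφ, hφf⟩

theorem conj_full {R : FusionSystem S₁} (hR : ∀ P : Subgroup Ω, P ≤ S₁ → R.Hom P = F.Hom P)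
    (hP : P ≤ S₁) (h : F.IsConj P Q) : Q ≤ S₁ ∧ R.IsConj P Q := by
  obtain ⟨f, hf, rfl⟩ := isConj_iff.1 h
  exact ⟨D.img_le₁ hP hf, isConj_iff.2 ⟨f, (D.isMap_iff_full hR).2 ⟨hP, hf⟩, rfl⟩⟩

theorem conj_fixes {R' : FusionSystem S₁}
    (hR' : ∀ P : Subgroup Ω, P ≤ S₁ → R'.Hom P = F.centralizerHom S₂ P) (hP : P ≤ S₁)
    (h : F.IsConj P Q) : ∃ (a : Ω → Ω) (Q' : Subgroup Ω),
      IsMap F S a ∧ img S₁ a = S₁ ∧ Q' ≤ S₁ ∧ R'.IsConj P Q' ∧ img Q' a = Q := by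
  obtain ⟨f, hf, rfl⟩ := isConj_iff.1 h
  obtain ⟨a, f₀, ha, ha₁, hf₀, he⟩ := D.frattini hP hf
  have h₀ := (D.isMap_iff_fixes hR').2 hf₀
  refine ⟨a, img P f₀, ha, ha₁, h₀.img_le, isConj_iff.2 ⟨f₀, h₀, rfl⟩, ?_⟩
  rw [img_img h₀]
  exact IsMap.img_congr fun x hx => (he x hx).symm

theorem card_normalizerIn_map {a : Ω → Ω} (ha : IsMap F S a) (ha₁ : img S₁ a = S₁) (hQ : Q ≤ S₁) :
    Nat.card (normalizerIn S₁ (img Q a)) = Nat.card (normalizerIn S₁ Q) ∧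
      Nat.card (centralizerIn S₁ (img Q a)) = Nat.card (centralizerIn S₁ Q) := by
  obtain ⟨a', ha', hl, hr⟩ := ha.exists_inv
  have hS : img S a = S := img_eq_of_map_le le_rfl ha le_rfl fun x hx => ha.mem_S hx
  rw [hS] at ha' hr
  have hQS := hQ.trans D.le₁
  have ha'₁ : ∀ y ∈ S₁, a' y ∈ S₁ := fun y hy => D.map_mem₁ le_rfl (ha'.mono D.le₁) hy
  have hback : img (img Q a) a' = Q := by
    rw [img_img (ha.mono hQS)]
    exact (IsMap.img_congr (g := id) fun x hx => hl x (hQS hx)).trans img_id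
  have h1 : img (normalizerIn S₁ Q) a = normalizerIn S₁ (img Q a) := by
    have hN : normalizerIn S₁ Q ≤ S := inf_le_left.trans D.le₁
    refine le_antisymm ((ha.mono hN).img_le_of_forall fun x hx =>
      ⟨ha₁.le ((ha.mono D.le₁).mem_img.2 ⟨x, hx.1, rfl⟩), (map_mem_normalizerIn ha hQS (hN hx) hx.2).2⟩) fun y hy => ?_
    have hyS := D.le₁ hy.1
    have h := (map_mem_normalizerIn ha' (ha.mono hQS).img_le hyS hy.2).2
    rw [hback] at h
    exact (ha.mono hN).mem_img.2 ⟨a' y, ⟨ha'₁ y hy.1, h⟩, (hr y hyS).2⟩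
  have h2 : img (centralizerIn S₁ Q) a = centralizerIn S₁ (img Q a) := by
    have hN : centralizerIn S₁ Q ≤ S := inf_le_left.trans D.le₁
    refine le_antisymm ((ha.mono hN).img_le_of_forall fun x hx =>
      ⟨ha₁.le ((ha.mono D.le₁).mem_img.2 ⟨x, hx.1, rfl⟩), (map_mem_centralizerIn ha hQS (hN hx) hx.2).2⟩) fun y hy => ?_
    have hyS := D.le₁ hy.1
    have h := (map_mem_centralizerIn ha' (ha.mono hQS).img_le hyS hy.2).2
    rw [hback] at h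
    exact (ha.mono hN).mem_img.2 ⟨a' y, ⟨ha'₁ y hy.1, h⟩, (hr y hyS).2⟩
  exact ⟨by rw [← h1, (ha.mono ((nle S₁ Q).trans D.le₁)).card_img],
    by rw [← h2, (ha.mono ((cle S₁ Q).trans D.le₁)).card_img]⟩

theorem saturated_full {R : FusionSystem S₁} (hR : ∀ P : Subgroup Ω, P ≤ S₁ → R.Hom P = F.Hom P) :
    R.IsSaturated p := by
  haveI : Finite S₁ := finite_of_le D.le₁
  have hS₁p := D.pgroup.to_le D.le₁
  have hS₂pos : 0 < Nat.card S₂ := by haveI := finite_of_le D.le₂; exact Nat.card_pos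
  have hfn : ∀ P, R.IsFullyNormalized P → F.IsFullyNormalized P := fun P hP =>
    ⟨hP.1.trans D.le₁, fun Q hQ => by
      obtain ⟨hQ1, hRc⟩ := D.conj_full hR hP.1 hQ
      rw [D.normalizerIn_eq hP.1, D.normalizerIn_eq hQ1, D.card_sup (nle _ _) le_rfl, D.card_sup (nle _ _) le_rfl]
      exact Nat.mul_le_mul_right _ (hP.2 Q hRc)⟩
  have hfc : ∀ P, R.IsFullyCentralized P → F.IsFullyCentralized P := fun P hP =>
    ⟨hP.1.trans D.le₁, fun Q hQ => by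
      obtain ⟨hQ1, hRc⟩ := D.conj_full hR hP.1 hQ
      rw [D.centralizerIn_eq hP.1, D.centralizerIn_eq hQ1, D.card_sup (cle _ _) le_rfl, D.card_sup (cle _ _) le_rfl]
      exact Nat.mul_le_mul_right _ (hP.2 Q hRc)⟩
  refine isSaturated_of_axioms (fun P hP => ⟨⟨hP.1, fun Q hQ => ?_⟩, ?_⟩) fun P hP => isReceptive_iff.2 ⟨hP.1, fun U f hf himg => ?_⟩
  · obtain ⟨f, hf, rfl⟩ := isConj_iff.1 hQ
    have h := (IsSaturated.isFullyCentralized D.pgroup D.sat (hfn P hP)).2 _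
      (isConj_iff.2 ⟨f, ((D.isMap_iff_full hR).1 hf).2, rfl⟩)
    rw [D.centralizerIn_eq hP.1, D.centralizerIn_eq hf.img_le, D.card_sup (cle _ _) le_rfl,
      D.card_sup (cle _ _) le_rfl] at h
    exact Nat.le_of_mul_le_mul_right h hS₂pos
  · have hA : R.autGroup P = F.autGroup P := by
      ext α
      rw [mem_autGroup_iff hP.1, mem_autGroup_iff (hP.1.trans D.le₁)]
      exact (D.isMap_iff_full hR).trans (and_iff_right hP.1)
    refine (isFullyAutomized_iff hS₁p).2 ⟨hP.1, ?_⟩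
    rw [hA, ← D.autInducedBy_eq hP.1]
    exact ((isFullyAutomized_iff D.pgroup).1 (IsSaturated.automized_receptive D.pgroup D.sat (hfn P hP)).1).2
  · obtain ⟨hU, hfF⟩ := (D.isMap_iff_full hR).1 hf
    obtain ⟨g, hg, hgf⟩ := (isReceptive_iff.1 (IsSaturated.isReceptive D.pgroup D.sat (hfc P hP))).2 U f hfF himg
    refine ⟨g, (D.isMap_iff_full hR).2 ⟨extSub_le.trans inf_le_left, hg.mono fun n hn => ?_⟩, hgf⟩
    obtain ⟨hn1, h, hh, he⟩ := hn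
    exact ⟨⟨D.le₁ hn1.1, hn1.2⟩, h, D.le₁ hh, he⟩

theorem saturated_fixes {R R' : FusionSystem S₁} (hR : ∀ P : Subgroup Ω, P ≤ S₁ → R.Hom P = F.Hom P)
    (hR' : ∀ P : Subgroup Ω, P ≤ S₁ → R'.Hom P = F.centralizerHom S₂ P) : R'.IsSaturated p := by
  haveI : Finite S₁ := finite_of_le D.le₁
  have hS₁p := D.pgroup.to_le D.le₁
  have hRsat := D.saturated_full hR
  have hsub : ∀ {U : Subgroup Ω} {g : Ω → Ω}, IsMap R' U g → IsMap R U g := fun {U g} hg => by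
    obtain ⟨hU, k, hk, hkg, -⟩ := (D.isMap_iff_fixes hR').1 hg
    exact (D.isMap_iff_full hR).2 ⟨hU, (hk.mono le_sup_left).congr fun x hx => (hkg x hx).symm⟩
  have hmax : ∀ {P : Subgroup Ω} {Q : Subgroup Ω}, P ≤ S₁ → R.IsConj P Q → ∃ Q', R'.IsConj P Q' ∧
      Nat.card (normalizerIn S₁ Q) = Nat.card (normalizerIn S₁ Q') ∧
      Nat.card (centralizerIn S₁ Q) = Nat.card (centralizerIn S₁ Q') := fun {P Q} hP hQ => by
    obtain ⟨f, hf, rfl⟩ := isConj_iff.1 hQ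
    obtain ⟨a, Q', ha, ha₁, hQ', hc, he⟩ := D.conj_fixes hR' hP
      (isConj_iff.2 ⟨f, ((D.isMap_iff_full hR).1 hf).2, rfl⟩)
    refine ⟨Q', hc, ?_⟩
    rw [← he]
    exact D.card_normalizerIn_map ha ha₁ hQ'
  refine isSaturated_of_axioms (fun P hP => ?_) fun P hP => isReceptive_iff.2 ⟨hP.1, fun U f hf himg => ?_⟩
  · have hPR : R.IsFullyNormalized P := ⟨hP.1, fun Q hQ => by
      obtain ⟨Q', hc, hn, -⟩ := hmax hP.1 hQ
      exact hn.le.trans (hP.2 Q' hc)⟩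
    refine ⟨⟨hP.1, fun Q hQ => ?_⟩, ?_⟩
    · obtain ⟨g, hg, rfl⟩ := isConj_iff.1 hQ
      exact (IsSaturated.isFullyCentralized hS₁p hRsat hPR).2 _ (isConj_iff.2 ⟨g, hsub hg, rfl⟩)
    · refine (isFullyAutomized_iff hS₁p).2 ⟨hP.1, fun hd => ?_⟩
      refine ((isFullyAutomized_iff hS₁p).1 (IsSaturated.automized_receptive hS₁p hRsat hPR).1).2 (hd.trans ?_)
      refine Dvd.intro _ (Subgroup.relIndex_mul_relIndex _ _ _ (autInducedBy_le_autGroup hP.1) fun α hα => ?_)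
      exact (mem_autGroup_iff hP.1).2 (hsub ((mem_autGroup_iff hP.1).1 hα))
  · obtain ⟨hU, g, hg, hgf, hgy⟩ := (D.isMap_iff_fixes hR').1 hf
    have hfF : IsMap F U f := (hg.mono le_sup_left).congr fun x hx => (hgf x hx).symm
    have himgF : img (U ⊔ S₂) g = P ⊔ S₂ := by
      rw [D.img_sup hU hg, IsMap.img_congr hgf, himg]
    have hfc : F.IsFullyCentralized (P ⊔ S₂) := by
      refine ⟨sup_le (hP.1.trans D.le₁) D.le₂, fun W hW => ?_⟩
      obtain ⟨k, hk, rfl⟩ := isConj_iff.1 hW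
      have hkP := hk.mono (le_sup_left : P ≤ P ⊔ S₂)
      have hW1 := D.img_le₁ hP.1 hkP
      rw [D.img_sup hP.1 hk, D.centralizerIn_sup_eq hW1, D.centralizerIn_sup_eq hP.1,
        D.card_sup (cle _ _) (cle _ _), D.card_sup (cle _ _) (cle _ _)]
      refine Nat.mul_le_mul_right _ ?_
      obtain ⟨Q', hc, -, hcc⟩ := hmax hP.1 (D.conj_full hR hP.1 (isConj_iff.2 ⟨k, hkP, rfl⟩)).2
      exact hcc.le.trans (hP.2 Q' hc)
    obtain ⟨G, hG, hGg⟩ := (isReceptive_iff.1 (IsSaturated.isReceptive D.pgroup D.sat hfc)).2 _ g hg himgF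
    have hN : extSub S₁ U f ≤ S₁ := extSub_le.trans inf_le_left
    have hle : extSub S₁ U f ⊔ S₂ ≤ extSub S (U ⊔ S₂) g := by
      refine sup_le (fun n hn => ?_) ((le_sup_right : S₂ ≤ U ⊔ S₂).trans (le_extSub hg))
      obtain ⟨hn1, h, hh, he⟩ := hn
      have hconj : ∀ x ∈ U, ∀ y ∈ S₂, n * (x * y) * n⁻¹ = (n * x * n⁻¹) * y := fun x hx y hy => by
        calc n * (x * y) * n⁻¹ = n * x * (y * n⁻¹) := by group
          _ = n * x * n⁻¹ * y := by rw [← D.comm (inv_mem hn1.1) hy]; group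
      have hnU : ∀ x, x ∈ U ↔ n * x * n⁻¹ ∈ U := Subgroup.mem_normalizer_iff.1 hn1.2
      refine ⟨⟨D.le₁ hn1.1, Subgroup.mem_normalizer_iff.2 fun z => ⟨fun hz => ?_, fun hz => ?_⟩⟩, h, D.le₁ hh, fun z hz => ?_⟩
      · obtain ⟨x, hx, y, hy, rfl⟩ := (D.mem_sup hU le_rfl).1 hz
        rw [hconj x hx y hy]
        exact mul_mem ((le_sup_left : U ≤ U ⊔ S₂) ((hnU x).1 hx)) ((le_sup_right : S₂ ≤ U ⊔ S₂) hy)
      · obtain ⟨x, hx, y, hy, hxy⟩ := (D.mem_sup hU le_rfl).1 hz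
        have hx' : n⁻¹ * x * n ∈ U := (hnU _).2 (by simpa [mul_assoc] using hx)
        have : z = (n⁻¹ * x * n) * y := by
          calc z = n⁻¹ * (n * z * n⁻¹) * n := by group
            _ = n⁻¹ * x * (y * n) := by rw [← hxy]; group
            _ = n⁻¹ * x * n * y := by rw [← D.comm hn1.1 hy]; group
        rw [this]
        exact mul_mem ((le_sup_left : U ≤ U ⊔ S₂) hx') ((le_sup_right : S₂ ≤ U ⊔ S₂) hy)
      · obtain ⟨x, hx, y, hy, rfl⟩ := (D.mem_sup hU le_rfl).1 hz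
        have hnx := (hnU x).1 hx
        rw [hconj x hx y hy, hg.map_mul ((le_sup_left : U ≤ U ⊔ S₂) hnx) ((le_sup_right : S₂ ≤ U ⊔ S₂) hy),
          hg.map_mul ((le_sup_left : U ≤ U ⊔ S₂) hx) ((le_sup_right : S₂ ≤ U ⊔ S₂) hy), hgf _ hnx, hgf x hx,
          hgy y hy, he x hx]
        calc h * f x * h⁻¹ * y = h * f x * (h⁻¹ * y) := by group
          _ = h * (f x * y) * h⁻¹ := by rw [D.comm (inv_mem hh) hy]; group
    refine ⟨G, (D.isMap_iff_fixes hR').2 ⟨hN, G, hG.mono hle, fun _ _ => rfl, fun y hy => ?_⟩, fun x hx => ?_⟩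
    · rw [hGg y ((le_sup_right : S₂ ≤ U ⊔ S₂) hy), hgy y hy]
    · rw [hGg x ((le_sup_left : U ≤ U ⊔ S₂) hx), hgf x hx]

/-- Conjugation by an automorphism of the first factor. -/
theorem inv_fixes {a : Ω → Ω} (hP : Fixes F S₁ S₂ P f) (ha : IsMap F S₁ a) :
    ∃ h, Fixes F S₁ S₂ (img P a) h ∧ ∀ x ∈ P, h (a x) = a (f x) := by
  obtain ⟨hPle, g, hg, hgf, hgy⟩ := hP
  obtain ⟨A, hA, hAa⟩ := D.extend le_rfl ha
  rw [D.sup_eq] at hA
  obtain ⟨A', hA', hl, hr⟩ := hA.exists_inv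
  have hS : img S A = S := img_eq_of_map_le le_rfl hA le_rfl fun x hx => hA.mem_S hx
  rw [hS] at hA' hr
  have hPa : img P a ≤ S₁ := D.img_le₁ hPle (ha.mono hPle)
  have hPS := hPle.trans D.le₁
  have hle : img P a ⊔ S₂ ≤ S := sup_le (hPa.trans D.le₁) D.le₂
  have hmaps : ∀ z ∈ img P a ⊔ S₂, A' z ∈ P ⊔ S₂ := fun z hz => by
    obtain ⟨u, hu, v, hv, rfl⟩ := (D.mem_sup hPa le_rfl).1 hz
    obtain ⟨x, hx, rfl⟩ := (ha.mono hPle).mem_img.1 hu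
    rw [hA'.map_mul (ha.mem_S (hPle hx)) (D.le₂ hv), ← hAa x (hPle hx), hl x (hPS hx)]
    refine mul_mem ((le_sup_left : P ≤ P ⊔ S₂) hx) ((le_sup_right : S₂ ≤ P ⊔ S₂) ?_)
    exact (stronglyClosed_iff.1 D.closed₂).2 S₂ A' le_rfl (hA'.mono D.le₂) v hv
  have h1 : IsMap F (img P a ⊔ S₂) (g ∘ A') := (hA'.mono hle).comp hg hmaps
  have h2 : IsMap F (img P a ⊔ S₂) (A ∘ g ∘ A') := h1.comp hA fun z hz => h1.mem_S hz
  refine ⟨A ∘ g ∘ A', ⟨hPa, _, h2, fun _ _ => rfl, fun y hy => ?_⟩, fun x hx => ?_⟩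
  · have hy' := (stronglyClosed_iff.1 D.closed₂).2 S₂ A' le_rfl (hA'.mono D.le₂) y hy
    show A (g (A' y)) = y
    rw [hgy _ hy', (hr y (D.le₂ hy)).2]
  · show A (g (A' (a x))) = a (f x)
    rw [← hAa x (hPle hx), hl x (hPS hx), hgf x hx]
    refine hAa _ ?_
    rw [← hgf x hx]
    exact D.map_mem₁ hPle (hg.mono le_sup_left) hx

theorem normal_in_both {R R' : FusionSystem S₁} (hR : ∀ P : Subgroup Ω, P ≤ S₁ → R.Hom P = F.Hom P)
    (hR' : ∀ P : Subgroup Ω, P ≤ S₁ → R'.Hom P = F.centralizerHom S₂ P) :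
    NormalData R' F p ∧ NormalData R' R p := by
  haveI : Finite S₁ := finite_of_le D.le₁
  have hsat' := D.saturated_fixes hR hR'
  have hsubR : R'.IsSubsystemOf R := subsystem_iff.2 fun P f hf => by
    obtain ⟨hP, k, hk, hkf, -⟩ := (D.isMap_iff_fixes hR').1 hf
    exact (D.isMap_iff_full hR).2 ⟨hP, (hk.mono le_sup_left).congr fun x hx => (hkf x hx).symm⟩
  have hsubF : R'.IsSubsystemOf F := subsystem_iff.2 fun P f hf =>
    ((D.isMap_iff_full hR).1 (isMap_le_of_subsystem hsubR hf)).2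
  have hscR : R.StronglyClosed S₁ := stronglyClosed_iff.2 ⟨le_rfl, fun U f _ hf x hx => hf.mem_S hx⟩
  refine ⟨⟨hsat', D.sat, hsubF, D.closed₁, fun P f a hf ha => ?_, fun P f hP hf => ?_, fun a ha => ?_⟩,
    ⟨hsat', D.saturated_full hR, hsubR, hscR, fun P f a hf ha => ?_, fun P f hP hf => ?_, fun a ha => ?_⟩⟩
  · obtain ⟨h, hh, he⟩ := D.inv_fixes ((D.isMap_iff_fixes hR').1 hf) ha.1
    exact ⟨h, (D.isMap_iff_fixes hR').2 hh, he⟩
  · obtain ⟨a, f₀, ha, ha₁, hf₀, he⟩ := D.frattini hP hf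
    exact ⟨a, f₀, ⟨ha.mono D.le₁, ha₁⟩, (D.isMap_iff_fixes hR').2 hf₀, he⟩
  · obtain ⟨-, g, hg, hga, hgy⟩ := (D.isMap_iff_fixes hR').1 ha.1
    have hC : centralizerIn S S₁ ≤ S := inf_le_left
    have htop : S₁ ⊔ centralizerIn S S₁ = S :=
      le_antisymm (sup_le D.le₁ hC) (D.sup_eq.ge.trans (sup_le_sup_left (le_inf D.le₂ D.le_centralizer) _))
    rw [D.sup_eq] at hg
    refine ⟨g, ?_, hga, fun c hc => ?_⟩
    · rw [htop]
      exact ⟨hg, img_eq_of_map_le le_rfl hg le_rfl fun x hx => hg.mem_S hx⟩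
    · rw [D.centralizerIn_eq le_rfl] at hc
      obtain ⟨z, hz, y, hy, rfl⟩ := (D.mem_sup inf_le_left le_rfl).1 hc
      rw [hg.map_mul (D.le₁ hz.1) (D.le₂ hy), hgy y hy]
      have hgz : g z ∈ S₁ := D.map_mem₁ le_rfl (hg.mono D.le₁) hz.1
      have hzc : g z ∈ centralizer (S₁ : Set Ω) := by
        have h := (map_mem_centralizerIn hg D.le₁ (D.le₁ hz.1) hz.2).2
        rwa [IsMap.img_congr hga, ha.2] at h
      have e : (z * y)⁻¹ * (g z * y) = z⁻¹ * g z := by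
        calc (z * y)⁻¹ * (g z * y) = y⁻¹ * (z⁻¹ * g z * y) := by group
          _ = y⁻¹ * (y * (z⁻¹ * g z)) := by rw [D.comm (mul_mem (inv_mem hz.1) hgz) hy]
          _ = z⁻¹ * g z := by group
      rw [e]
      exact mem_inf.2 ⟨mul_mem (inv_mem hz.1) hgz, mul_mem (inv_mem hz.2) hzc⟩
  · obtain ⟨h, hh, he⟩ := D.inv_fixes ((D.isMap_iff_fixes hR').1 hf) ((D.isMap_iff_full hR).1 ha.1).2
    exact ⟨h, (D.isMap_iff_fixes hR').2 hh, he⟩
  · obtain ⟨a, f₀, ha, ha₁, hf₀, he⟩ := D.frattini hP ((D.isMap_iff_full hR).1 hf).2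
    exact ⟨a, f₀, ⟨(D.isMap_iff_full hR).2 ⟨le_rfl, ha.mono D.le₁⟩, ha₁⟩, (D.isMap_iff_fixes hR').2 hf₀, he⟩
  · have htop : S₁ ⊔ centralizerIn S₁ S₁ = S₁ := sup_eq_left.2 inf_le_left
    have haR := isMap_le_of_subsystem hsubR ha.1
    refine ⟨a, ?_, fun _ _ => rfl, fun c hc => ?_⟩
    · rw [htop]; exact ⟨haR, ha.2⟩
    · have h := map_mem_centralizerIn haR le_rfl hc.1 hc.2
      rw [ha.2] at h
      exact mem_inf.2 ⟨mul_mem (inv_mem hc.1) h.1, mul_mem (inv_mem hc.2) h.2⟩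

end Data

end CfsgLib.Fusion.DirectFactors
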