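import Cfsg.Agent.Lib.Fusion.System.PPrimeIndex
import Cfsg.Agent.Lib.Fusion.System.SubsystemCentric
import Cfsg.Agent.Lib.Fusion.System.Functor

/-!
# A character of `Aut_F(T)` trivial on `Aut_E(T)`, for a normal subsystem `E` over `T`

It extends to the maps of `F` whose source meets `T` in a centric subgroup of `E`.
-/

set_option autoImplicit false
set_option linter.style.haveILetI false
set_option linter.unusedSectionVars false

open Subgroup
open scoped Classical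

namespace CfsgLib.Fusion.PPrimeChar

open Cfsg (FusionSystem autInducedBy)
open Cfsg.FusionSystem (normalizerIn centralizerIn)
open CfsgLib.Fusion.PPrime (EMap HMap autFun_symm autFun_symm')

variable {Ω : Type*} [Group Ω] {S T : Subgroup Ω} [Finite S] {F : FusionSystem S}
  {E : FusionSystem T} {p : ℕ} [Fact p.Prime] {Δ : Type*} [Group Δ]

/-- A normal subsystem and a character of order prime to `p`. -/
structure Setup (F : FusionSystem S) (E : FusionSystem T) (p : ℕ) [Fact p.Prime]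
    (χ : F.autGroup T →* Δ) : Prop where
  isPGroup : IsPGroup p S
  sat : F.IsSaturated p
  le : T ≤ S
  satE : E.IsSaturated p
  inv : E.IsInvariantIn F
  coprime : (Nat.card Δ).Coprime p
  ker : (E.autGroup T).subgroupOf (F.autGroup T) ≤ χ.ker

variable {χ : F.autGroup T →* Δ} {P Q R : Subgroup Ω} {f g : Ω → Ω}

theorem Setup.isMap_sub (h : Setup F E p χ) (hf : IsMap E P f) : IsMap F P f := by
  obtain ⟨φ, hφ, hφf⟩ := hf
  exact ⟨φ, h.inv.1 P hφ, hφf⟩

theorem Setup.conj_E (h : Setup F E p χ) {α : MulAut T} (hα : α ∈ F.autGroup T)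
    (hf : IsMap E P f) : IsMap E (img P (autFun α)) (autFun α ∘ f ∘ autFun α⁻¹) := by
  have hPT : P ≤ T := hf.le
  obtain ⟨φ, hφ, hφf⟩ := id hf
  obtain ⟨χ', hχ', hχe⟩ := h.inv.2.2.1 P hPT φ hφ α hα
  have himg : (P.subgroupOf T).map (T.subtype.comp α.toMonoidHom) = img P (autFun α) := by
    rw [map_subgroupOf_eq_img hPT]
    rfl
  refine (himg ▸ isMap_toFun hχ' : IsMap E (img P (autFun α)) (toFun χ')).congr fun y hy => ?_
  obtain ⟨x, hx, rfl⟩ :=
    (((mem_autGroup_iff h.le).1 hα).mono hPT).mem_img.1 hy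
  have hmem : ((α ⟨x, hPT hx⟩ : T) : Ω) ∈ (P.subgroupOf T).map (T.subtype.comp α.toMonoidHom) :=
    ⟨⟨x, hPT hx⟩, hx, rfl⟩
  show autFun α (f (autFun α⁻¹ (autFun α x))) = _
  rw [autFun_symm (hPT hx), autFun_apply α (hPT hx), toFun_apply χ' hmem,
    hχe ⟨x, hx⟩ ((E.le_of_mem hφ).2 _) hmem, autFun_apply α (hf.mem_S hx)]
  congr 2
  exact Subtype.ext (hφf ⟨x, hx⟩).symm

theorem Setup.exists_decomp (h : Setup F E p χ) (hf : IsMap F P f) (hP : P ≤ T) :
    ∃ a : F.autGroup T, ∃ e, IsMap E P e ∧ ∀ x ∈ P, f x = autFun (a : MulAut T) (e x) := by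
  obtain ⟨φ, hφ, hφf⟩ := hf
  obtain ⟨α, hα, φ₀, hφ₀, hφα⟩ := h.inv.2.2.2 P hP φ hφ
  refine ⟨⟨α, hα⟩, toFun φ₀, isMap_toFun hφ₀, fun x hx => ?_⟩
  have h1 := hφα ⟨x, hx⟩ ((E.le_of_mem hφ₀).2 _)
  rw [hφf ⟨x, hx⟩] at h1
  rw [h1, toFun_apply φ₀ hx, autFun_apply α ((E.le_of_mem hφ₀).2 _)]

theorem Setup.map_mem (h : Setup F E p χ) (hf : IsMap F P f) {x : Ω} (hx : x ∈ P)
    (hxT : x ∈ T) : f x ∈ T :=
  SubsystemCentric.map_mem_of_stronglyClosed h.inv.2.1 hf hx hxT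

/-- `f` is a map of `E` followed by an element of the kernel. -/
def Triv (E : FusionSystem T) (χ : F.autGroup T →* Δ) (P : Subgroup Ω) (f : Ω → Ω) : Prop :=
  ∃ a : F.autGroup T, χ a = 1 ∧ ∃ e, IsMap E P e ∧ ∀ x ∈ P, f x = autFun (a : MulAut T) (e x)

theorem Triv.mono (h : Triv E χ P f) (hQ : Q ≤ P) : Triv E χ Q f := by
  obtain ⟨a, ha, e, he, hfe⟩ := h
  exact ⟨a, ha, e, he.mono hQ, fun x hx => hfe x (hQ hx)⟩

theorem Triv.comp (h : Setup F E p χ) (hf : Triv E χ P f) (hg : Triv E χ R g)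
    (hm : ∀ x ∈ P, f x ∈ R) : Triv E χ P (g ∘ f) := by
  obtain ⟨a, ha, e₁, he₁, hfe⟩ := hf
  obtain ⟨b, hb, e₂, he₂, hge⟩ := hg
  have he₂' := h.conj_E (inv_mem a.2) he₂
  refine ⟨b * a, by rw [map_mul, ha, hb, one_mul], _, he₁.comp he₂' fun x hx => ?_, fun x hx => ?_⟩
  · refine (((mem_autGroup_iff h.le).1 (inv_mem a.2)).mono he₂.le).mem_img.2 ⟨f x, hm x hx, ?_⟩
    rw [hfe x hx, autFun_symm (he₁.mem_S hx)]
  · show g (f x) = autFun ((b : MulAut T) * (a : MulAut T))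
      (autFun (a : MulAut T)⁻¹ (e₂ (autFun (a : MulAut T)⁻¹⁻¹ (e₁ x))))
    rw [inv_inv, ← hfe x hx, autFun_mul _ _ (autFun_mem _ (he₂.mem_S (hm x hx))),
      autFun_symm' (he₂.mem_S (hm x hx)), hge _ (hm x hx)]

theorem Setup.chi_pElement (h : Setup F E p χ) {a : F.autGroup T} {k : ℕ} (hk : a ^ p ^ k = 1) :
    χ a = 1 := by
  refine orderOf_eq_one_iff.1 (Nat.eq_one_of_dvd_coprimes (h.coprime.pow_right k)
    (orderOf_dvd_natCard _) (orderOf_dvd_of_pow_eq_one ?_))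
  rw [← map_pow, hk, map_one]

/-- Automorphisms of `p`-power order of subgroups of `T`. -/
theorem Setup.triv_pElement (h : Setup F E p χ) (hP : P ≤ T) {β : MulAut P}
    (hβ : β ∈ F.autGroup P) {k : ℕ} (hk : β ^ p ^ k = 1) : Triv E χ P (autFun β) := by
  obtain ⟨θ, hθ, -, hθA⟩ := exists_conj_pAut h.isPGroup h.sat (hP.trans h.le)
    (isPGroup_zpowers_of_pow hk) (Subgroup.zpowers_le.2 hβ)
  obtain ⟨s, hs, hsx⟩ := hθA β (Subgroup.mem_zpowers β)
  obtain ⟨γ, e, he, hθe⟩ := h.exists_decomp hθ hP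
  have hTn : s ∈ Subgroup.normalizer (T : Set Ω) :=
    ((le_normalizerIn_of_stronglyClosed h.inv.2.1).trans inf_le_right) hs.1
  set c : F.autGroup T := ⟨CfsgLib.Fusion.conjAut s hTn,
    autInducedBy_le_autGroup h.le (conjAut_mem hs.1 hTn)⟩
  set a := γ⁻¹ * c * γ with had
  have hχ : χ a = 1 := by
    obtain ⟨m, hm⟩ := (isPGroup_autInducedBy h.isPGroup)
      ⟨(c : MulAut T), conjAut_mem hs.1 hTn⟩
    have hc : χ c = 1 := h.chi_pElement (k := m)
      (Subtype.ext (congrArg Subtype.val hm : _))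
    rw [had, map_mul, map_mul, map_inv, hc, mul_one, inv_mul_cancel]
  have hγ := (mem_autGroup_iff h.le).1 γ.2
  have key : ∀ x ∈ P, e (autFun β x) = autFun (a : MulAut T) (e x) := fun x hx => by
    have hex := he.mem_S hx
    have h1 := hsx x hx
    rw [hθe _ (autFun_mem β hx), hθe x hx, ← autFun_conjAut hTn (autFun_mem _ hex)] at h1
    rw [had, Subgroup.coe_mul, Subgroup.coe_mul, Subgroup.coe_inv, autFun_mul _ _ hex,
      autFun_mul _ _ (autFun_mem _ hex), ← h1, autFun_symm (he.mem_S (autFun_mem β hx))]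
  obtain ⟨e', he', he'1, -⟩ := he.exists_inv
  have h2 : Triv E χ P (autFun (a : MulAut T) ∘ e) := ⟨a, hχ, e, he, fun _ _ => rfl⟩
  have h3 : Triv E χ (img P e) e' := ⟨1, map_one χ, e', he', fun y hy => by
    rw [Subgroup.coe_one, autFun_one (he'.mem_S hy)]⟩
  obtain ⟨b, hb, d, hd, hde⟩ := Triv.comp h h2 h3 fun x hx => by
    show autFun (a : MulAut T) (e x) ∈ _
    rw [← key x hx]
    exact he.mem_img.2 ⟨_, autFun_mem β hx, rfl⟩
  refine ⟨b, hb, d, hd, fun x hx => ?_⟩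
  rw [← hde x hx]
  show autFun β x = e' (autFun (a : MulAut T) (e x))
  rw [← key x hx, he'1 _ (autFun_mem β hx)]

/-- `χ` only depends on the restriction to a centric subgroup of `E`, modulo `E`. -/
theorem Setup.chi_eq_one : ∀ (_ : Setup F E p χ) (a : F.autGroup T) (P : Subgroup Ω),
    E.IsCentric P → IsMap E P (autFun (a : MulAut T)) → χ a = 1 := by
  intro h a P
  induction hk : Nat.card T - Nat.card P using Nat.strong_induction_on generalizing a P with
  | _ k ih =>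
  intro hP ha
  haveI : Finite T := finite_of_le h.le
  by_cases hPT : P = T
  · subst hPT
    exact MonoidHom.mem_ker.1 (h.ker (Subgroup.mem_subgroupOf.2 ((mem_autGroup_iff le_rfl).2 ha)))
  have hT : IsPGroup p T := h.isPGroup.to_le h.le
  set N := normalizerIn T P
  have hPN : P ≤ N := le_normalizerIn hP.1
  have hNT : N ≤ T := inf_le_left
  have hlt : P < N := lt_normalizerIn hT hP.1 hPT
  set P' := img P (autFun (a : MulAut T)) with hP'
  have hc' : E.IsCentric P' := isCentric_of_isConj hP (isConj_iff.2 ⟨_, ha, rfl⟩)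
  have ham := (mem_autGroup_iff h.le).1 a.2
  obtain ⟨ψ, hψ, hψe⟩ := (isReceptive_iff.1 (IsSaturated.isReceptive hT h.satE
    (isFullyCentralized_of_isCentric hc'))).2 P _ ha rfl
  have hψN := hψ.mono (show N ≤ extSub T P (autFun (a : MulAut T)) from fun n hn =>
    ⟨hn, autFun (a : MulAut T) n, autFun_mem _ hn.1, fun x hx => ham.map_conj hn.1 (hP.1 hx)⟩)
  have hN' : img N ψ = img N (autFun (a : MulAut T)) := by
    have h1 : img N (autFun (a : MulAut T)) = normalizerIn T P' := by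
      refine le_antisymm (fun y hy => ?_) fun y hy => ?_
      · obtain ⟨n, hn, rfl⟩ := (ham.mono hNT).mem_img.1 hy
        exact ⟨autFun_mem _ hn.1, (map_mem_normalizerIn ham hP.1 hn.1 hn.2).2⟩
      · obtain ⟨n, hn, rfl⟩ := ham.mem_img.1 ((img_autFun (a : MulAut T)).ge hy.1)
        refine (ham.mono hNT).mem_img.2 ⟨n, ⟨hn, ?_⟩, rfl⟩
        refine Subgroup.mem_normalizer_iff.2 fun x => ⟨fun hx => ?_, fun hx => ?_⟩
        · refine ham.mem_of_mem_img hP.1 (T.mul_mem (T.mul_mem hn (hP.1 hx)) (T.inv_mem hn)) ?_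
          rw [ham.map_conj hn (hP.1 hx)]
          exact (Subgroup.mem_normalizer_iff.1 hy.2 _).1
            ((ham.mono hP.1).mem_img.2 ⟨x, hx, rfl⟩)
        · have hxT : x ∈ T := by
            have := T.mul_mem (T.mul_mem (T.inv_mem hn) (hP.1 hx)) hn
            rwa [show n⁻¹ * (n * x * n⁻¹) * n = x by group] at this
          refine ham.mem_of_mem_img hP.1 hxT ((Subgroup.mem_normalizer_iff.1 hy.2 _).2 ?_)
          rw [← ham.map_conj hn hxT]
          exact (ham.mono hP.1).mem_img.2 ⟨_, hx, rfl⟩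
    rw [h1]
    refine eq_of_le_of_card_le inf_le_left (fun y hy => ?_)
      (by rw [hψN.card_img, ← h1, (ham.mono hNT).card_img])
    obtain ⟨n, hn, rfl⟩ := hψN.mem_img.1 hy
    have h2 := map_mem_normalizerIn hψN hPN hn hn.2
    rwa [IsMap.img_congr hψe] at h2
  obtain ⟨ψ', hψ', hψ'1, hψ'2⟩ := (h.isMap_sub hψN).exists_inv
  have hδm : IsMap F N (ψ' ∘ autFun (a : MulAut T)) := (ham.mono hNT).comp hψ' fun x hx =>
    hN'.ge ((ham.mono hNT).mem_img.2 ⟨x, hx, rfl⟩)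
  have hNS : N ≤ S := hNT.trans h.le
  have hδi : img N (ψ' ∘ autFun (a : MulAut T)) = N := img_eq_of_map_le hNS hδm le_rfl
    fun y hy => (hψ'2 _ (hN'.ge ((ham.mono hNT).mem_img.2 ⟨y, hy, rfl⟩))).1
  set δ := autOf hδm hδi with hδ
  have hδF : δ ∈ F.autGroup N := autOf_mem hδm hδi
  have hδP : ∀ x ∈ P, autFun δ x = x := fun x hx => by
    rw [autFun_autOf hδm hδi (hPN hx)]
    show ψ' (autFun (a : MulAut T) x) = x
    rw [← hψe x hx, hψ'1 x (hPN hx)]
  obtain ⟨m, hm⟩ := IsPGroup.iff_card.1 h.isPGroup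
  have hδp : δ ^ p ^ m = 1 := autFun_ext fun y hy => by
    rw [autFun_one hy]
    refine pow_fix_step hNS hm le_rfl hPN hδP (fun n hn => ?_) y hy
    refine centralizerIn_le_of_isCentric hP
      ⟨T.mul_mem (T.inv_mem hn.1) (hNT (autFun_mem δ hn)),
        Subgroup.mem_centralizer_iff.2 fun x hx => ?_⟩
    have hnx : n * x * n⁻¹ ∈ P := (Subgroup.mem_normalizer_iff.1 hn.2 x).1 hx
    have e := ((mem_autGroup_iff hNS).1 hδF).map_conj hn (hPN hx)
    rw [hδP _ hnx, hδP x hx] at e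
    calc x * (n⁻¹ * autFun δ n) = n⁻¹ * (n * x * n⁻¹) * autFun δ n := by group
      _ = n⁻¹ * autFun δ n * x := by rw [e]; group
  obtain ⟨b, hb, e, he, hδe⟩ := h.triv_pElement hNT hδF hδp
  have hψN' : Triv E χ N ψ := ⟨1, map_one χ, ψ, hψN, fun y hy => by
    rw [Subgroup.coe_one, autFun_one (hψN.mem_S hy)]⟩
  obtain ⟨c, hc, d, hd, hcd⟩ := Triv.comp h ⟨b, hb, e, he, hδe⟩ hψN' fun x hx =>
    autFun_mem δ hx
  have hca : IsMap E N (autFun ((c⁻¹ * a : F.autGroup T) : MulAut T)) := hd.congr fun x hx => by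
    rw [Subgroup.coe_mul, Subgroup.coe_inv, autFun_mul _ _ (hNT hx)]
    have h1 := hcd x hx
    change ψ (autFun δ x) = _ at h1
    rw [autFun_autOf hδm hδi hx] at h1
    change ψ (ψ' (autFun (a : MulAut T) x)) = _ at h1
    rw [(hψ'2 _ (hN'.ge ((ham.mono hNT).mem_img.2 ⟨x, hx, rfl⟩))).2] at h1
    rw [h1, autFun_symm (hd.mem_S hx)]
  have h1 := ih _ (by
    have h2 : Nat.card P < Nat.card N := card_lt_of_lt hNS hlt
    have h3 : Nat.card N ≤ Nat.card T := card_le_of_le' h.le hNT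
    omega) _ N rfl (isCentric_mono hP hPN hNT) hca
  rwa [map_mul, map_inv, hc, inv_one, one_mul] at h1

theorem Setup.chi_of_triv (h : Setup F E p χ) (hP : E.IsCentric P) {a : F.autGroup T}
    (hf : Triv E χ P (autFun (a : MulAut T))) : χ a = 1 := by
  obtain ⟨b, hb, e, he, hae⟩ := hf
  have h1 := h.chi_eq_one (b⁻¹ * a) P hP (he.congr fun x hx => by
    rw [Subgroup.coe_mul, Subgroup.coe_inv, autFun_mul _ _ (hP.1 hx), hae x hx,
      autFun_symm (he.mem_S hx)])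
  rwa [map_mul, map_inv, hb, inv_one, one_mul] at h1

/-- Centric subgroups meeting `T` in a centric subgroup of `E`. -/
def family (F : FusionSystem S) (E : FusionSystem T) : Set (Subgroup Ω) :=
  {R | F.IsCentric R ∧ E.IsCentric (R ⊓ T)}

theorem Setup.triv_of_eMap (h : Setup F E p χ) {𝒞 : Set (Subgroup Ω)}
    (hf : EMap F p 𝒞 P f) : Triv E χ (P ⊓ T) f := by
  induction hf with
  | @base R P β k hC hle hR hβ hk =>
    haveI := finite_of_le hR
    haveI : Finite (R ⊓ T : Subgroup Ω) := finite_of_le (inf_le_left.trans hR)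
    have hst : β ∈ FamilySat.autStab (F.autGroup R) (R ⊓ T) inf_le_left := ⟨hβ, fun x hx =>
      ⟨autFun_mem β hx.1, h.map_mem ((mem_autGroup_iff hR).1 hβ) hx.1 hx.2⟩⟩
    obtain ⟨a, ha, e, he, hae⟩ := h.triv_pElement (P := R ⊓ T) inf_le_right
      (FamilySat.autRes_mem_autGroup hR ⟨β, hst⟩) (k := k) (by
        rw [← map_pow, show (⟨β, hst⟩ : FamilySat.autStab (F.autGroup R) (R ⊓ T) inf_le_left) ^ p ^ k
          = 1 from Subtype.ext hk, map_one])
    exact Triv.mono ⟨a, ha, e, he, fun x hx => (FamilySat.autFun_autRes ⟨β, hst⟩ hx).symm.trans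
      (hae x hx)⟩ (inf_le_inf_right T hle)
  | @conj P s hP hs =>
    have hTn : s ∈ Subgroup.normalizer (T : Set Ω) :=
      ((le_normalizerIn_of_stronglyClosed h.inv.2.1).trans inf_le_right) hs
    set c : F.autGroup T := ⟨conjAut s hTn, autInducedBy_le_autGroup h.le (conjAut_mem hs hTn)⟩
    obtain ⟨m, hm⟩ := (isPGroup_autInducedBy h.isPGroup) ⟨(c : MulAut T), conjAut_mem hs hTn⟩
    exact ⟨c, h.chi_pElement (k := m) (Subtype.ext (congrArg Subtype.val hm : _)), id,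
      isMap_id inf_le_right, fun x hx => (autFun_conjAut hTn hx.2).symm⟩
  | @comp P R f g h1 _ hm ih1 ih2 =>
    exact Triv.comp h ih1 ih2 fun x hx => ⟨hm x hx.1, h.map_mem h1.isMap hx.1 hx.2⟩
  | @congr P f g _ he ih =>
    obtain ⟨a, ha, e, he', hae⟩ := ih
    exact ⟨a, ha, e, he', fun x hx => (he x hx.1).trans (hae x hx)⟩

theorem Setup.isCentric_img (h : Setup F E p χ) (hP : E.IsCentric P) (a : F.autGroup T) :
    E.IsCentric (img P (autFun (a : MulAut T))) := by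
  have ham := (mem_autGroup_iff h.le).1 a.2
  have ham' := (mem_autGroup_iff h.le).1 (inv_mem a.2)
  have haP := ham.mono hP.1
  refine ⟨haP.img_le_of_forall fun x hx => autFun_mem _ (hP.1 hx), fun Q hQ => ?_⟩
  obtain ⟨f, hf, rfl⟩ := isConj_iff.1 hQ
  have hback : img (img P (autFun (a : MulAut T))) (autFun (a : MulAut T)⁻¹) = P := by
    rw [img_img haP, IsMap.img_congr (f := autFun (a : MulAut T)⁻¹ ∘ autFun (a : MulAut T))
      (g := id) fun x hx => autFun_symm (hP.1 hx), img_id]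
  have hf' := h.conj_E (inv_mem a.2) hf
  rw [hback] at hf'
  have hc := hP.2 _ (isConj_iff.2 ⟨_, hf', rfl⟩)
  intro y hy
  have hyT : y ∈ T := hy.1
  have hy' : autFun (a : MulAut T)⁻¹ y ∈
      centralizerIn T (img P (autFun (a : MulAut T)⁻¹ ∘ f ∘ autFun (a : MulAut T)⁻¹⁻¹)) := by
    refine ⟨autFun_mem _ hyT, Subgroup.mem_centralizer_iff.2 fun u hu => ?_⟩
    obtain ⟨x, hx, rfl⟩ := hf'.mem_img.1 hu
    show autFun (a : MulAut T)⁻¹ (f (autFun (a : MulAut T)⁻¹⁻¹ x)) * _ = _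
    have hm : f (autFun (a : MulAut T)⁻¹⁻¹ x) ∈ img (img P (autFun (a : MulAut T))) f := by
      rw [inv_inv]
      exact hf.mem_img.2 ⟨_, haP.mem_img.2 ⟨x, hx, rfl⟩, rfl⟩
    have hmT : f (autFun (a : MulAut T)⁻¹⁻¹ x) ∈ T := hf.img_le hm
    exact (ham'.map_commute hmT hyT (Subgroup.mem_centralizer_iff.1 hy.2 _ hm)).eq
  obtain ⟨x, hx, hxy⟩ := hf'.mem_img.1 (hc hy')
  change autFun (a : MulAut T)⁻¹ (f (autFun (a : MulAut T)⁻¹⁻¹ x)) = _ at hxy
  rw [inv_inv] at hxy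
  have hmem := haP.mem_img.2 ⟨x, hx, rfl⟩
  exact hf.mem_img.2 ⟨_, hmem, ham'.inj (hf.mem_S hmem) hyT hxy⟩

theorem Setup.family_conj (h : Setup F E p χ) :
    ∀ R ∈ family F E, ∀ R', F.IsConj R R' → R' ∈ family F E := by
  rintro R ⟨hR, hRT⟩ R' hc
  refine ⟨isCentric_of_isConj hR hc, ?_⟩
  obtain ⟨f, hf, rfl⟩ := isConj_iff.1 hc
  have hfT := hf.mono (inf_le_left : R ⊓ T ≤ R)
  have heq : img (R ⊓ T) f = img R f ⊓ T := by
    refine le_antisymm (le_inf (hf.img_mono inf_le_left) fun y hy => ?_) fun y hy => ?_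
    · obtain ⟨x, hx, rfl⟩ := hfT.mem_img.1 hy
      exact h.map_mem hf hx.1 hx.2
    · obtain ⟨f', hf', hf'1, -⟩ := hf.exists_inv
      obtain ⟨x, hx, rfl⟩ := hf.mem_img.1 hy.1
      have hxT := h.map_mem hf' hy.1 hy.2
      rw [hf'1 x hx] at hxT
      exact hfT.mem_img.2 ⟨x, ⟨hx, hxT⟩, rfl⟩
  obtain ⟨a, e, he, hfe⟩ := h.exists_decomp hfT inf_le_right
  rw [← heq, IsMap.img_congr (g := autFun (a : MulAut T) ∘ e) hfe, ← img_img he]
  exact h.isCentric_img (isCentric_of_isConj hRT (isConj_iff.2 ⟨e, he, rfl⟩)) a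

/-- Restriction of an automorphism of `S` to `T`. -/
theorem Setup.exists_res (h : Setup F E p χ) :
    ∃ ρ : F.autGroup S →* F.autGroup T, ∀ (α : F.autGroup S), ∀ x ∈ T,
      autFun ((ρ α : F.autGroup T) : MulAut T) x = autFun (α : MulAut S) x := by
  haveI := finite_of_le h.le
  let ι : F.autGroup S →* FamilySat.autStab (F.autGroup S) T h.le :=
    (F.autGroup S).subtype.codRestrict _ fun α =>
      ⟨α.2, fun x hx => h.map_mem ((mem_autGroup_iff le_rfl).1 α.2) (h.le hx) hx⟩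
  exact ⟨((FamilySat.autRes (F.autGroup S) T h.le).comp ι).codRestrict _
    fun α => FamilySat.autRes_mem_autGroup le_rfl (ι α),
    fun α x hx => FamilySat.autFun_autRes (ι α) hx⟩

end CfsgLib.Fusion.PPrimeChar
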