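import Cfsg.Agent.Lib.Fusion.System.EnvelopeStage
import Cfsg.Agent.Lib.Fusion.System.FamilySatMain
import Cfsg.Agent.S5243
import Cfsg.Prelude.Def_Local

/-!
# The two steps of the descent to the normal envelope
-/

set_option autoImplicit false
set_option maxHeartbeats 1000000
set_option linter.style.haveILetI false
set_option linter.unusedSectionVars false

open Subgroup
open scoped Classical

namespace CfsgLib.Fusion.Envelope

open Cfsg (FusionSystem autInducedBy)
open Cfsg.FusionSystem (normalizerIn centralizerIn)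
open CfsgLib.Fusion
open CfsgLib.Fusion.Limit (SameLimit)

universe u

variable {Ω : Type u} [Group Ω] {S T U : Subgroup Ω} {F : FusionSystem S} {D : FusionSystem U}
  {E : FusionSystem T} {p : ℕ}

/-- In a group with `p`-solvable quotient, either the `p'`-elements or the `p`-elements of a
subgroup fail to generate it modulo the kernel. -/
theorem not_both {G : Type u} [Group G] {N : Subgroup G} [N.Normal] [Fact p.Prime]
    (hsolv : Cfsg.IsPSolvable p (G ⧸ N)) {A : Subgroup G} [Finite G]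
    (h₁ : A ≤ Subgroup.closure ((N : Set G) ∪ {b : G | b ∈ A ∧ Nat.Coprime (orderOf b) p}))
    (h₂ : A ≤ Subgroup.closure ((N : Set G) ∪ {b : G | b ∈ A ∧ ∃ k : ℕ, b ^ p ^ k = 1})) :
    A ≤ N := by
  obtain ⟨n, M, h0, hl, hmono, hn, hf⟩ := hsolv
  set π := QuotientGroup.mk' N
  have key : ∀ i : Fin (n + 1), A.map π ≤ M i := by
    intro i
    induction i using Fin.reverseInduction with
    | last => rw [hl]; exact le_top
    | cast i ih =>
      haveI := hn i.castSucc
      have hN : (N : Set G) ⊆ ((M i.castSucc).comap π : Set G) := fun x hx => by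
        show π x ∈ M i.castSucc
        rw [(QuotientGroup.eq_one_iff x).2 hx |> (show π x = 1 from ·)]
        exact one_mem _
      have hmem : ∀ b ∈ A, Nat.Coprime (orderOf b) ((M i.castSucc).relIndex (M i.succ)) →
          b ∈ (M i.castSucc).comap π := by
        intro b hb hco
        have hy : π b ∈ M i.succ := ih ⟨b, hb, rfl⟩
        haveI : ((M i.castSucc).subgroupOf (M i.succ)).Normal := Subgroup.Normal.subgroupOf (hn _) _
        have h1 := Subgroup.pow_index_mem ((M i.castSucc).subgroupOf (M i.succ)) ⟨π b, hy⟩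
        have h2 : π b ^ (M i.castSucc).relIndex (M i.succ) ∈ M i.castSucc := h1
        obtain ⟨m, hm⟩ := exists_pow_eq_self_of_coprime
          (hco.coprime_dvd_left (orderOf_map_dvd π b)).symm
        exact (show π b ∈ M i.castSucc from hm ▸ pow_mem h2 m)
      rw [Subgroup.map_le_iff_le_comap]
      rcases hf i with ⟨m, hm⟩ | hco
      · refine h₁.trans ((Subgroup.closure_le _).2 (Set.union_subset hN ?_))
        rintro b ⟨hb, hbo⟩
        exact hmem b hb (hm ▸ hbo.pow_right m)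
      · refine h₂.trans ((Subgroup.closure_le _).2 (Set.union_subset hN ?_))
        rintro b ⟨hb, k, hk⟩
        exact hmem b hb ((hco.symm.pow_left k).coprime_dvd_left (orderOf_dvd_of_pow_eq_one hk))
  have h := key 0
  rw [h0, le_bot_iff, Subgroup.map_eq_bot_iff, QuotientGroup.ker_mk'] at h
  exact h

theorem closure_conj_mem {G : Type*} [Group G] {s : Set G} {a : G}
    (h : ∀ x ∈ s, a * x * a⁻¹ ∈ s) {x : G} (hx : x ∈ Subgroup.closure s) :
    a * x * a⁻¹ ∈ Subgroup.closure s :=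
  (Subgroup.closure_le ((Subgroup.closure s).comap (MulAut.conj a).toMonoidHom)).2
    (fun y hy => Subgroup.subset_closure (h y hy)) hx

variable [Finite S] [Fact p.Prime]

/-- The elements of `U` acting on `T` inside `H`. -/
def preT (U T : Subgroup Ω) (H : Subgroup (MulAut T)) : Subgroup Ω :=
  U ⊓ (H.comap T.normalizerMonoidHom).map (Subgroup.normalizer (T : Set Ω)).subtype

theorem mem_preT {H : Subgroup (MulAut T)} {x : Ω} : x ∈ preT U T H ↔
    x ∈ U ∧ ∃ hx : x ∈ Subgroup.normalizer (T : Set Ω), conjAut x hx ∈ H := by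
  refine and_congr_right fun _ => ⟨?_, fun ⟨hx, h⟩ => ⟨⟨x, hx⟩, h, rfl⟩⟩
  rintro ⟨⟨y, hy⟩, h, rfl⟩
  exact ⟨hy, h⟩

theorem conjAut_mul {a b : Ω} (ha : a ∈ Subgroup.normalizer (T : Set Ω))
    (hb : b ∈ Subgroup.normalizer (T : Set Ω)) :
    conjAut (a * b) (mul_mem ha hb) = conjAut a ha * conjAut b hb :=
  map_mul T.normalizerMonoidHom ⟨a, ha⟩ ⟨b, hb⟩

theorem conjAut_inv {a : Ω} (ha : a ∈ Subgroup.normalizer (T : Set Ω)) :
    conjAut a⁻¹ (inv_mem ha) = (conjAut a ha)⁻¹ :=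
  map_inv T.normalizerMonoidHom ⟨a, ha⟩

/-- A normal subgroup of the automizer of `T` with `p`-quotient gives a subgroup containing the
hyperfocal subgroup. -/
theorem hyperfocal_le_preT (hU : IsPGroup p U) [Finite U] (hD : D.IsSaturated p)
    (hT : D.StronglyClosed T) {H : Subgroup (MulAut T)}
    (hHn : ∀ a ∈ D.autGroup T, ∀ h ∈ H, a * h * a⁻¹ ∈ H)
    (hH : ∀ a ∈ D.autGroup T, Nat.Coprime (orderOf a) p → a ∈ H)
    (hI : autInducedBy T T ≤ H) :
    D.hyperfocalSubgroup p ≤ preT U T H := by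
  haveI := finite_of_le hT.1
  haveI := finite_mulAut (P := T)
  have hUn : U ≤ Subgroup.normalizer (T : Set Ω) :=
    (le_normalizerIn_of_stronglyClosed hT).trans inf_le_right
  have hcA : ∀ x (hx : x ∈ U), conjAut x (hUn hx) ∈ D.autGroup T := fun x hx =>
    autInducedBy_le_autGroup hT.1 (conjAut_mem hx _)
  refine hyperfocal_le ⟨inf_le_left, fun w hw => ?_, fun P hP α hα x hx => ?_⟩
  · have key : ∀ v ∈ U, ∀ z ∈ preT U T H, v * z * v⁻¹ ∈ preT U T H := by
      intro v hv z hz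
      obtain ⟨hzU, hzn, hzH⟩ := mem_preT.1 hz
      refine mem_preT.2 ⟨mul_mem (mul_mem hv hzU) (inv_mem hv),
        mul_mem (mul_mem (hUn hv) hzn) (inv_mem (hUn hv)), ?_⟩
      rw [conjAut_mul (mul_mem (hUn hv) hzn) (inv_mem (hUn hv)), conjAut_mul (hUn hv) hzn,
        conjAut_inv (hUn hv)]
      exact hHn _ (hcA v hv) _ hzH
    rw [Subgroup.mem_normalizer_iff]
    exact fun z => ⟨key w hw z, fun h => by simpa [mul_assoc] using key w⁻¹ (inv_mem hw) _ h⟩
  set A := D.autGroup T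
  set H' := H.subgroupOf A with hH'
  haveI : H'.Normal := ⟨fun h hh a => hHn a a.2 h hh⟩
  have hQ : IsPGroup p (A ⧸ H') := isPGroup_quotient_pResidual H' ((Subgroup.closure_le _).2
    fun a ha => hH a a.2 (by rw [Subgroup.orderOf_coe]; exact ha))
  -- the homomorphism to the quotient
  let γ : U →* A ⧸ H' := (QuotientGroup.mk' H').comp
    (MonoidHom.mk' (fun y : U => (⟨conjAut (y : Ω) (hUn y.2), hcA y y.2⟩ : A))
      fun y z => Subtype.ext (conjAut_mul (hUn y.2) (hUn z.2)))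
  obtain ⟨ψ, hψ, hψe⟩ := exists_map_sup hU hD hT ((mem_autGroup_iff hP).1 α.2)
  have hψT : img T ψ = T := img_eq_of_map_le hT.1 hψ le_sup_right fun t ht =>
    (stronglyClosed_iff.1 hT).2 T ψ le_rfl (hψ.mono le_sup_right) t ht
  have hψm : IsMap D T ψ := hψ.mono (le_sup_right : T ≤ P ⊔ T)
  set b : A := ⟨autOf hψm hψT, autOf_mem hψm hψT⟩ with hb
  set β : A ⧸ H' := QuotientGroup.mk' H' b
  have hstep : ∀ y (hy : y ∈ P), γ ⟨autFun (α : MulAut P) y, hP (autFun_mem _ hy)⟩ =
      β * γ ⟨y, hP hy⟩ * β⁻¹ := by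
    intro y hy
    have hψy : ψ y ∈ U := hψ.mem_S (Subgroup.mem_sup_left hy)
    have e1 : γ ⟨ψ y, hψy⟩ = β * γ ⟨y, hP hy⟩ * β⁻¹ := by
      rw [eq_mul_inv_iff_mul_eq]
      show QuotientGroup.mk' H' ⟨_, hcA _ hψy⟩ * QuotientGroup.mk' H' b =
        QuotientGroup.mk' H' b * QuotientGroup.mk' H' ⟨_, hcA y (hP hy)⟩
      rw [← map_mul, ← map_mul]
      congr 1
      refine Subtype.ext (autFun_ext fun t ht => ?_)
      have hyt : y * t * y⁻¹ ∈ T := (Subgroup.mem_normalizer_iff.1 (hUn (hP hy)) t).1 ht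
      rw [Subgroup.coe_mul, Subgroup.coe_mul, autFun_mul _ _ ht, autFun_mul _ _ ht]
      show autFun (conjAut (ψ y) (hUn hψy)) (autFun (autOf hψm hψT) t) =
        autFun (autOf hψm hψT) (autFun (conjAut y (hUn (hP hy))) t)
      rw [autFun_autOf hψm hψT ht, autFun_conjAut _ ((hψT.le
        (hψm.mem_img.2 ⟨t, ht, rfl⟩))), autFun_conjAut _ ht,
        autFun_autOf hψm hψT hyt, hψ.map_conj (Subgroup.mem_sup_left hy) (Subgroup.mem_sup_right ht)]
    have hz := hψe y hy
    have hzU := hT.1 hz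
    have e2 : γ ⟨_, hzU⟩ = 1 := (QuotientGroup.eq_one_iff _).2
      (show conjAut _ (hUn hzU) ∈ H from hI (conjAut_mem hz _))
    rw [← e1, ← mul_one (γ ⟨autFun (α : MulAut P) y, _⟩), ← e2, ← map_mul]
    exact congrArg γ (Subtype.ext (mul_inv_cancel_left _ _))
  have hiter : ∀ (j : ℕ) (y : Ω) (hy : y ∈ P),
      γ ⟨autFun ((α : MulAut P) ^ j) y, hP (autFun_mem _ hy)⟩ = β ^ j * γ ⟨y, hP hy⟩ * (β ^ j)⁻¹ := by
    intro j
    induction j with
    | zero => intro y hy; simp [autFun_one hy]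
    | succ j ih =>
      intro y hy
      have e : autFun ((α : MulAut P) ^ (j + 1)) y =
          autFun ((α : MulAut P) ^ j) (autFun (α : MulAut P) y) := by
        rw [pow_succ, autFun_mul _ _ hy]
      rw [show (⟨_, hP (autFun_mem ((α : MulAut P) ^ (j + 1)) hy)⟩ : U) =
        ⟨_, hP (autFun_mem ((α : MulAut P) ^ j) (autFun_mem (α : MulAut P) hy))⟩ from Subtype.ext e,
        ih _ (autFun_mem _ hy), hstep y hy, pow_succ, mul_inv_rev]
      group
  have hx1 := hiter (orderOf α) x hx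
  have e0 : (α : MulAut P) ^ orderOf α = 1 := by
    rw [← Subgroup.coe_pow, pow_orderOf_eq_one]; rfl
  rw [show (⟨_, hP (autFun_mem ((α : MulAut P) ^ orderOf α) hx)⟩ : U) = ⟨x, hP hx⟩ from
    Subtype.ext (by
      show autFun ((α : MulAut P) ^ orderOf α) x = x
      rw [e0, autFun_one hx])] at hx1
  obtain ⟨k, hk⟩ := hQ β
  obtain ⟨m, hm⟩ := exists_pow_eq_self_of_coprime (x := β) (n := orderOf α)
    ((hα.pow_right k).coprime_dvd_right (orderOf_dvd_of_pow_eq_one hk))
  have hcm : Commute (β ^ orderOf α) (γ ⟨x, hP hx⟩) := eq_mul_inv_iff_mul_eq.1 hx1 |>.symm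
  have hc := hcm.pow_left m
  rw [hm] at hc
  have hαx := hstep x hx
  rw [hc.eq, mul_inv_cancel_right] at hαx
  have hxa : x⁻¹ * autFun (α : MulAut P) x ∈ U := mul_mem (inv_mem (hP hx)) (hP (autFun_mem _ hx))
  have h1 : γ ⟨_, hxa⟩ = 1 := by
    rw [show (⟨_, hxa⟩ : U) = (⟨x, hP hx⟩ : U)⁻¹ * ⟨_, hP (autFun_mem (α : MulAut P) hx)⟩ from rfl,
      map_mul, map_inv, hαx, inv_mul_cancel]
  exact mem_preT.2 ⟨hxa, hUn hxa,
    (QuotientGroup.eq_one_iff (N := H') (⟨_, hcA _ hxa⟩ : A)).1 h1⟩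

/-- The step by a quotient of `p`-power order. -/
theorem Stage.step_p (hS : IsPGroup p S) (hF : F.IsSaturated p) (hE : E.IsNormalIn F p)
    (h : Stage F E p D) {H : Subgroup (MulAut T)}
    (hHn : ∀ a ∈ F.autGroup T, ∀ x ∈ H, a * x * a⁻¹ ∈ H)
    (hEH : E.autGroup T ≤ H) (hH : ∀ a ∈ D.autGroup T, Nat.Coprime (orderOf a) p → a ∈ H) :
    ∃ (V : Subgroup Ω) (D₀ : FusionSystem V), Stage F E p D₀ ∧ D₀.autGroup T ≤ H := by
  have hT : F.StronglyClosed T := hE.1.2.2.2.1
  have hTS := hT.1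
  have hUS := h.le_S
  have hTU : T ≤ U := le_sup_left.trans h.le
  have hCU : centralizerIn S T ≤ U := le_sup_right.trans h.le
  haveI := finite_of_le hUS
  haveI := finite_of_le hTS
  haveI := finite_mulAut (P := T)
  have hUp := hS.to_le hUS
  have hsub := h.normal.1.2.2.1
  have hDs := h.normal.1.1
  have hTD : D.StronglyClosed T := stronglyClosed_iff.2 ⟨hTU, fun R f hR hf x hx =>
    (stronglyClosed_iff.1 hT).2 R f hR (hf.ofSubsystem hsub) x hx⟩
  have hI : autInducedBy T T ≤ H := (autInducedBy_le_autGroup le_rfl).trans hEH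
  set V := preT U T H with hV
  have hK : D.hyperfocalSubgroup p ≤ V := hyperfocal_le_preT hUp hDs hTD
    (fun a ha => hHn a (autGroup_le_ofSubsystem hsub hTU hTS ha)) hH hI
  have hVU : V ≤ U := inf_le_left
  have hUn : U ≤ Subgroup.normalizer (T : Set Ω) :=
    hUS.trans ((le_normalizerIn_of_stronglyClosed hT).trans inf_le_right)
  have hTV : T ≤ V := fun t ht => mem_preT.2 ⟨hTU ht, hUn (hTU ht), hI (conjAut_mem ht _)⟩
  have hCV : centralizerIn S T ≤ V := fun c hc => mem_preT.2 ⟨hCU hc, hUn (hCU hc), by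
    rw [show conjAut c (hUn (hCU hc)) = 1 from autFun_ext fun t ht => by
      rw [autFun_conjAut _ ht, autFun_one ht, ← Subgroup.mem_centralizer_iff.1 hc.2 t ht,
        mul_inv_cancel_right]]
    exact one_mem H⟩
  -- automorphisms of `U` normalize `V`
  have hinv : ∀ a ∈ F.autGroup U, ∀ x ∈ V, autFun a x ∈ V := by
    intro a ha x hx
    obtain ⟨b, hb, hba⟩ := exists_restrict hT hTU hUS ha
    obtain ⟨hxU, hxn, hxH⟩ := mem_preT.1 hx
    have hm := (mem_autGroup_iff hUS).1 ha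
    refine mem_preT.2 ⟨autFun_mem a hxU, hUn (autFun_mem a hxU), ?_⟩
    rw [show conjAut (autFun a x) (hUn (autFun_mem a hxU)) = b * conjAut x hxn * b⁻¹ from
      autFun_ext fun t ht => by
        have ht' := autFun_mem b⁻¹ ht
        have hxt : x * autFun b⁻¹ t * x⁻¹ ∈ T := (Subgroup.mem_normalizer_iff.1 hxn _).1 ht'
        rw [autFun_conjAut _ ht, autFun_mul _ _ ht, autFun_mul _ _ ht', autFun_conjAut hxn ht',
          hba _ hxt, hm.map_conj hxU (hTU ht'), ← hba _ ht', autFun_inv_apply b ht]]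
    exact hHn b hb _ hxH
  have hVn : U ≤ Subgroup.normalizer (V : Set Ω) := by
    intro w hw
    have key : ∀ v ∈ U, ∀ z ∈ V, v * z * v⁻¹ ∈ V := fun v hv z hz => by
      have hvn : v ∈ Subgroup.normalizer (U : Set Ω) := Subgroup.le_normalizer hv
      rw [← autFun_conjAut hvn (hVU hz)]
      exact hinv _ (autInducedBy_le_autGroup hUS (conjAut_mem (hUS hv) hvn)) z hz
    rw [Subgroup.mem_normalizer_iff]
    exact fun z => ⟨key w hw z, fun hz => by simpa [mul_assoc] using key w⁻¹ (inv_mem hw) _ hz⟩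
  set D₀ := pSystem D p V hVU hK with hD₀
  have h₀ : D₀.IsNormalIn D p := pSystem_isNormalIn hUp hDs hVn
  have hidx : D₀.HasPPowerIndexIn D p := pSystem_hasPPowerIndex
  have hA : AutInv F U D₀ := autInv_pSystem (h.strongInv hS hF) hUS hinv
  haveI := finite_of_le hVU
  have hTVn : V ≤ Subgroup.normalizer (T : Set Ω) := hVU.trans hUn
  refine ⟨V, D₀, h.below hS hF h₀ hA (sup_le hTV hCV)
    (isSubsystemOf_pPowerIndex hUp hE.1.1 h.sub hTU hTV hidx) (fun α hα => ?_)
    (Limit.sameLimit_pPower hUp hDs h₀.1.1 hVU hidx), fun b hb => ?_⟩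
  · obtain ⟨g, hg, β, hβ, he⟩ := exists_conj_mul_residual
      (IsSaturated.automized_receptive (hS.to_le hTS) hE.1.1 isFullyNormalized_self).1 ⟨α, hα⟩
    rw [show α = conjAut g hg.2 * (β : MulAut T) from autFun_ext fun z hz => by
      rw [show autFun α z = _ from he z hz, autFun_mul _ _ hz,
        autFun_conjAut hg.2 (autFun_mem _ hz)]]
    refine (hasExt_conjAut hTV hCV inf_le_right hg.1 hg.2).mul ?_
    clear he hg
    have hcop : ∀ a : MulAut T, a ∈ E.autGroup T → Nat.Coprime (orderOf a) p →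
        HasExt D₀ (centralizerIn S T) a := by
      intro a ha hao
      set W := T ⊔ centralizerIn S T with hW
      obtain ⟨w, hw, hwa⟩ : ∃ w ∈ D.autGroup W, Witness (centralizerIn S T) w a := h.ext a ha
      haveI := finite_of_le (h.le : W ≤ U)
      haveI := finite_mulAut (P := W)
      set k := (orderOf w).factorization p
      obtain ⟨m, hm⟩ := exists_pow_eq_self_of_coprime (x := a) (n := p ^ k)
        (Nat.Coprime.pow_left k hao.symm)
      refine ⟨(w ^ p ^ k) ^ m, ?_, ?_⟩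
      · let w' : D.autGroup W := ⟨w, hw⟩
        refine hidx.2.2 W (sup_le hTV hCV) ⟨(w' ^ p ^ k) ^ m, mem_pResidual
          (Nat.Coprime.coprime_dvd_left (orderOf_pow_dvd m) ?_), rfl⟩
        have ho : orderOf w' = orderOf w := (Subgroup.orderOf_coe w').symm
        rw [orderOf_pow_of_dvd (pow_ne_zero _ (Fact.out : p.Prime).ne_zero)
          (by rw [ho]; exact Nat.ordProj_dvd _ _), ho]
        exact (Nat.coprime_ordCompl (Fact.out : p.Prime) (orderOf_pos w).ne').symm
      · have h1 := (hwa.pow le_sup_left le_sup_right (p ^ k)).pow le_sup_left le_sup_right m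
        rwa [hm] at h1
    haveI : Finite (E.autGroup T) := inferInstance
    unfold Cfsg.pResidual at hβ
    have hβ' := Subgroup.closure_toSubmonoid_of_finite.le hβ
    induction hβ' using Submonoid.closure_induction with
    | mem a ha => exact hcop _ a.2 (by rw [Subgroup.orderOf_coe]; exact ha)
    | one => exact ⟨1, one_mem _, Witness.one le_sup_left le_sup_right⟩
    | mul a a' ha ha' h1 h2 =>
      exact (h1 (Subgroup.closure_toSubmonoid_of_finite.ge ha)).mul
        (h2 (Subgroup.closure_toSubmonoid_of_finite.ge ha'))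
  · obtain ⟨g, hg, β, hβ, he⟩ := exists_conj_mul_residual
      (IsSaturated.automized_receptive (hUp.to_le hVU) h₀.1.1
        (isFullyNormalized_of_normalized hTV hTVn)).1 ⟨b, hb⟩
    rw [show b = conjAut g hg.2 * (β : MulAut T) from autFun_ext fun z hz => by
      rw [show autFun b z = _ from he z hz, autFun_mul _ _ hz,
        autFun_conjAut hg.2 (autFun_mem _ hz)]]
    refine mul_mem (mem_preT.1 hg.1).2.2 ?_
    clear he
    unfold Cfsg.pResidual at hβ
    induction hβ using Subgroup.closure_induction with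
    | mem a ha =>
      exact hH _ (autGroup_le_ofSubsystem h₀.1.2.2.1 hTV hTU a.2)
        (by rw [Subgroup.orderOf_coe]; exact ha)
    | one => exact one_mem H
    | mul a a' _ _ h1 h2 => exact mul_mem h1 h2
    | inv a _ h1 => exact inv_mem h1

/-- Splitting an automorphism of a normal subgroup into `p`-elements and an extendable one. -/
theorem exists_split {V R : Subgroup Ω} {K : FusionSystem V} [Finite V] (hV : IsPGroup p V)
    (hK : K.IsSaturated p) (hR : R ≤ V) (hn : V ≤ Subgroup.normalizer (R : Set Ω)) {a : MulAut R}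
    (ha : a ∈ K.autGroup R) :
    ∃ g ∈ K.autGroup V,
      ∃ π ∈ Subgroup.closure {b : MulAut R | b ∈ K.autGroup R ∧ ∃ k : ℕ, b ^ p ^ k = 1},
        ∀ x ∈ R, autFun a x = autFun g (autFun π x) := by
  haveI := finite_of_le hR
  haveI := finite_mulAut (P := R)
  obtain ⟨haut, hrec⟩ :=
    IsSaturated.automized_receptive hV hK (isFullyNormalized_of_normalized hR hn)
  set X := K.autGroup R
  set O := (Subgroup.closure {b : MulAut R | b ∈ X ∧ ∃ k : ℕ, b ^ p ^ k = 1}).subgroupOf X with hO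
  haveI : O.Normal := ⟨fun z hz x => closure_conj_mem (a := (x : MulAut R))
    (s := {b : MulAut R | b ∈ X ∧ ∃ k : ℕ, b ^ p ^ k = 1}) (fun y hy =>
    ⟨mul_mem (mul_mem x.2 hy.1) (inv_mem x.2), by
      obtain ⟨k, hk⟩ := hy.2
      exact ⟨k, by rw [conj_pow, hk, mul_one, mul_inv_cancel]⟩⟩) hz⟩
  set A := (autInducedBy V R).subgroupOf X
  have hAp : IsPGroup p A := (isPGroup_autInducedBy hV).of_equiv
    (Subgroup.subgroupOfEquivOfLe (autInducedBy_le_autGroup hR)).symm
  have hAO : A ≤ O := fun z hz => by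
    obtain ⟨k, hk⟩ := hAp ⟨z, hz⟩
    exact Subgroup.subset_closure ⟨z.2, k, congrArg (Subtype.val ∘ Subtype.val) hk⟩
  obtain ⟨n, d, hnd, hd, hnn, -⟩ := FamilySat.exists_frattini (D := O) hV hAp
    ((isFullyAutomized_iff hV).1 haut).2 ⟨a, ha⟩
  rw [inf_eq_left.2 hAO] at hnn
  obtain ⟨g, hg, hgn⟩ := FamilySat.exists_ext hrec n.2 (X := V) (le_inf le_rfl hn) fun u hu => by
    have h1 := (Subgroup.mem_normalizer_iff.1 hnn
      ⟨_, autInducedBy_le_autGroup hR (conjAut_mem hu (hn hu))⟩).1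
      (Subgroup.mem_subgroupOf.2 (conjAut_mem hu (hn hu)))
    exact Subgroup.mem_subgroupOf.1 h1
  have hgi : img V g = V := img_eq_of_map_le le_rfl hg le_rfl fun y hy => hg.mem_S hy
  refine ⟨autOf hg hgi, autOf_mem hg hgi, d, hd, fun x hx => ?_⟩
  rw [show a = ((n : MulAut R) * d) from congrArg Subtype.val hnd, autFun_mul _ _ hx,
    autFun_autOf hg hgi (hR (autFun_mem _ hx)), hgn _ (autFun_mem _ hx)]

/-- The step by a quotient of order prime to `p`. -/
theorem Stage.step_p' (hS : IsPGroup p S) (hF : F.IsSaturated p) (hE : E.IsNormalIn F p)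
    (h : Stage F E p D) {H : Subgroup (MulAut T)}
    (hHn : ∀ a ∈ F.autGroup T, ∀ x ∈ H, a * x * a⁻¹ ∈ H)
    (hEH : E.autGroup T ≤ H) (hne : ¬ D.autGroup T ≤ H)
    (hH : ∀ a ∈ D.autGroup T, ∀ k : ℕ, a ^ p ^ k = 1 → a ∈ H) :
    ∃ D₀ : FusionSystem U, Stage F E p D₀ ∧ D₀.autGroup T ≤ H := by
  have hT : F.StronglyClosed T := hE.1.2.2.2.1
  have hTS := hT.1
  have hUS := h.le_S
  have hTU : T ≤ U := le_sup_left.trans h.le
  haveI := finite_of_le hUS
  haveI := finite_of_le hTS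
  haveI := finite_mulAut (P := T)
  have hUp := hS.to_le hUS
  obtain ⟨⟨hDs, -, hDi⟩, -⟩ := h.normal
  have hsub := hDi.1
  have hUn : U ≤ Subgroup.normalizer (T : Set Ω) :=
    hUS.trans ((le_normalizerIn_of_stronglyClosed hT).trans inf_le_right)
  set A := D.autGroup T
  set H' := H.subgroupOf A
  haveI : H'.Normal := ⟨fun z hz x => hHn x (autGroup_le_ofSubsystem hsub hTU hTS x.2) z hz⟩
  haveI : Nontrivial (A ⧸ H') := (QuotientGroup.nontrivial_iff).2 fun htop => hne fun x hx =>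
    (htop ▸ Subgroup.mem_top (⟨x, hx⟩ : A) : _ ∈ H')
  have hco : (Nat.card (A ⧸ H')).Coprime p := by
    rw [Nat.coprime_comm, (Fact.out : p.Prime).coprime_iff_not_dvd]
    intro hd
    refine (default : Sylow p A).not_dvd_index (hd.trans (Subgroup.index_dvd_of_le fun z hz => ?_))
    obtain ⟨k, hk⟩ := (default : Sylow p A).2 ⟨z, hz⟩
    exact hH z z.2 k (congrArg (Subtype.val ∘ Subtype.val) hk)
  obtain ⟨D₀, h₀, -, hED₀, hautU, hres⟩ := Cfsg.Agent.S5243.result p hUp D hDs hTU E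
    (h.normalIn hS hF hE) hco (QuotientGroup.mk' H') (QuotientGroup.mk'_surjective H')
    (fun z hz => by rw [QuotientGroup.ker_mk']; exact hEH hz)
  have hmemU : ∀ g : MulAut U, g ∈ D₀.autGroup U ↔
      g ∈ D.autGroup U ∧ ∃ b ∈ D.autGroup T, b ∈ H ∧ ∀ t ∈ T, autFun b t = autFun g t := by
    intro g
    rw [hautU g]
    constructor
    · rintro ⟨hg, b, hb, hbg⟩
      refine ⟨hg, b, b.2, (QuotientGroup.eq_one_iff b).1 hb, fun t ht => ?_⟩
      rw [autFun_apply _ ht, autFun_apply _ (hTU ht)]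
      exact hbg ⟨t, ht⟩
    · rintro ⟨hg, b, hb, hbH, hbg⟩
      refine ⟨hg, ⟨b, hb⟩, (QuotientGroup.eq_one_iff (⟨b, hb⟩ : A)).2 hbH, fun t => ?_⟩
      rw [← autFun_coe, ← autFun_apply _ (hTU t.2)]
      exact hbg t t.2
  have hD₀s := h₀.1.1
  have hD₀D : D₀.IsSubsystemOf D := h₀.1.2.2.1
  have hD₀F : D₀.IsSubsystemOf F := fun P φ hφ => hsub P (hD₀D P hφ)
  obtain ⟨R, hR⟩ := Limit.exists_residual p hUp hDs
  have hRD₀ := hres R hR
  have hidx : D₀.HasPrimeToPIndexIn D p := (Limit.index_between hR.2.1 hRD₀ hD₀D).2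
  have hTD : D.StronglyClosed T := stronglyClosed_iff.2 ⟨hTU, fun Q f hQ hf x hx =>
    (stronglyClosed_iff.1 hT).2 Q f hQ (hf.ofSubsystem hsub) x hx⟩
  -- automorphisms of a subgroup containing `T` generated by `p`-elements
  have hπ : ∀ (Q : Subgroup Ω), T ≤ Q → Q ≤ U →
      ∀ π ∈ Subgroup.closure {b : MulAut Q | b ∈ D.autGroup Q ∧ ∃ k : ℕ, b ^ p ^ k = 1},
      π ∈ D₀.autGroup Q ∧ ∃ b ∈ D.autGroup T, b ∈ H ∧ ∀ t ∈ T, autFun b t = autFun π t := by
    intro Q hTQ hQ π hπ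
    induction hπ using Subgroup.closure_induction with
    | mem π hπ =>
      obtain ⟨hπD, k, hk⟩ := hπ
      obtain ⟨b, hb, hbe⟩ := exists_restrict hTD hTQ hQ hπD
      refine ⟨Limit.mem_of_index hidx hQ hπD hk, b, hb, hH b hb k (autFun_ext fun t ht => ?_), hbe⟩
      have key : ∀ (j : ℕ) (t : Ω), t ∈ T → autFun (b ^ j) t = autFun (π ^ j) t := by
        intro j
        induction j with
        | zero => intro t ht; simp [autFun_one ht, autFun_one (hTQ ht)]
        | succ j ih =>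
          intro t ht
          rw [pow_succ, pow_succ, autFun_mul _ _ ht, autFun_mul _ _ (hTQ ht),
            ih _ (autFun_mem _ ht), hbe t ht]
      rw [key _ t ht, hk, autFun_one ht, autFun_one (hTQ ht)]
    | one => exact ⟨one_mem _, 1, one_mem _, one_mem _, fun t ht => by
        rw [autFun_one ht, autFun_one (hTQ ht)]⟩
    | mul π π' _ _ h1 h2 =>
      obtain ⟨m1, b, hb, hbH, hbe⟩ := h1
      obtain ⟨m2, b', hb', hbH', hbe'⟩ := h2
      exact ⟨mul_mem m1 m2, b * b', mul_mem hb hb', mul_mem hbH hbH', fun t ht => by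
        rw [autFun_mul _ _ ht, autFun_mul _ _ (hTQ ht), ← hbe' t ht, hbe _ (autFun_mem _ ht)]⟩
    | inv π _ h1 =>
      obtain ⟨m1, b, hb, hbH, hbe⟩ := h1
      refine ⟨inv_mem m1, b⁻¹, inv_mem hb, inv_mem hbH, fun t ht => ?_⟩
      have h2 := hbe _ (autFun_mem b⁻¹ ht)
      rw [autFun_inv_apply b ht] at h2
      conv_rhs => rw [h2]
      rw [autFun_map_inv π (hTQ (autFun_mem b⁻¹ ht))]
  -- invariance
  obtain ⟨-, hRF⟩ : True ∧ R.IsInvariantIn F :=
    ⟨trivial, (Cfsg.Agent.S5141.result p hS F hF D h.normal.1 R hR).1.2.2⟩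
  have hRF' := (isInvariantIn_iff_strongInv hS hF hRF.1 hRF.2.1).1 hRF
  have hR₀ := isInvariantIn_of_between hS hF hD₀s hD₀F hRF hRD₀
  have hR₀' := (isInvariantIn_iff_strongInv hUp hD₀s hR₀.1 hR₀.2.1).1 hR₀
  have hDF := h.strongInv hS hF
  have hA : AutInv F U D₀ := by
    intro a ha P f hf
    obtain ⟨g, hg, r, hr, hfr⟩ := decomp_of_strongInv hUp hD₀s hR₀.2.1 hRD₀ hR₀' hf hf.le
    obtain ⟨kr, hkr, hkre⟩ := hRF'.transport hUS ha hr
    obtain ⟨hgD, b, hb, hbH, hbe⟩ := (hmemU g).1 hg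
    obtain ⟨c, hc, hce⟩ := exists_restrict hT hTU hUS ha
    have hg' : a * g * a⁻¹ ∈ D₀.autGroup U := by
      refine (hmemU _).2 ⟨conj_mem_autGroup_of_strongInv hUS le_rfl hDF ha hgD, c * b * c⁻¹,
        conj_mem_autGroup_of_strongInv hUS hTU hDF hc hb, hHn c hc b hbH, fun t ht => ?_⟩
      have ht' := autFun_mem c⁻¹ ht
      rw [autFun_mul _ _ ht, autFun_mul _ _ ht', autFun_mul _ _ (hTU ht),
        autFun_mul _ _ (autFun_mem _ (hTU ht)), hbe _ ht']
      have e : autFun a⁻¹ t = autFun c⁻¹ t := by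
        conv_lhs => rw [← autFun_inv_apply c ht, hce _ ht', autFun_map_inv a (hTU ht')]
      rw [e]
      exact hce _ (hbe _ ht' ▸ autFun_mem b ht')
    refine ⟨autFun (a * g * a⁻¹) ∘ kr, (hkr.ofSubsystem hRD₀).comp ((mem_autGroup_iff le_rfl).1 hg')
      fun y hy => hkr.mem_S hy, fun x hx => ?_⟩
    show autFun (a * g * a⁻¹) (kr (autFun a x)) = _
    have hrx := hr.mem_S hx
    rw [hkre x hx, autFun_mul _ _ (autFun_mem a hrx), autFun_map_inv a hrx, autFun_mul _ _ hrx,
      ← hfr x hx]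
  refine ⟨D₀, h.below hS hF h₀ hA h.le hED₀ (fun α hα => ?_)
    (Limit.sameLimit_between hUp hDs hD₀s hR hRD₀ hD₀D), fun x hx => ?_⟩
  · obtain ⟨w, hw, hwα⟩ := h.ext α hα
    refine ⟨w, ?_, hwα⟩
    set W := T ⊔ centralizerIn S T
    have hWU : W ≤ U := h.le
    obtain ⟨g, hg, π, hπm, hge⟩ :=
      exists_split hUp hDs hWU (le_normalizer_sup hUS hT) hw
    obtain ⟨hπ₀, b, hb, hbH, hbe⟩ := hπ W le_sup_left hWU π hπm
    have hαD : α ∈ D.autGroup T := (mem_autGroup_iff hTU).2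
      (((mem_autGroup_iff le_rfl).1 hα).ofSubsystem h.sub)
    have hg₀ : g ∈ D₀.autGroup U := by
      refine (hmemU g).2 ⟨hg, α * b⁻¹, mul_mem hαD (inv_mem hb), mul_mem (hEH hα) (inv_mem hbH),
        fun t ht => ?_⟩
      have ht' := autFun_mem b⁻¹ ht
      have h1 := hge _ (Subgroup.mem_sup_left ht')
      rw [hwα.1 _ ht', ← hbe _ ht', autFun_inv_apply b ht] at h1
      rw [autFun_mul _ _ ht, h1]
    refine (mem_autGroup_iff hWU).2 ((((mem_autGroup_iff hWU).1 hπ₀).comp
      ((mem_autGroup_iff le_rfl).1 hg₀) fun y hy => hWU (autFun_mem π hy)).congr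
        fun y hy => hge y hy)
  · obtain ⟨g, hg, π, hπm, hge⟩ := exists_split hUp hD₀s hTU hUn hx
    have hsub' : {b : MulAut T | b ∈ D₀.autGroup T ∧ ∃ k : ℕ, b ^ p ^ k = 1} ⊆
        {b : MulAut T | b ∈ D.autGroup T ∧ ∃ k : ℕ, b ^ p ^ k = 1} :=
      fun y hy => ⟨autGroup_le_ofSubsystem hD₀D hTU hTU hy.1, hy.2⟩
    obtain ⟨-, b, hb, hbH, hbe⟩ := hπ T le_rfl hTU π (Subgroup.closure_mono hsub' hπm)
    obtain ⟨-, c, hc, hcH, hce⟩ := (hmemU g).1 hg
    rw [show x = c * b from autFun_ext fun t ht => by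
      rw [hge t ht, autFun_mul _ _ ht, hbe t ht, hce _ (autFun_mem π ht)]]
    exact mul_mem hcH hbH

/-- The descent reaches `T C_S(T)`. -/
theorem exists_stage (hS : IsPGroup p S) (hF : F.IsSaturated p) (hE : E.IsNormalIn F p)
    [((E.autGroup T).subgroupOf (F.autGroup T)).Normal]
    (hsolv : Cfsg.IsPSolvable p (F.autGroup T ⧸ (E.autGroup T).subgroupOf (F.autGroup T))) :
    ∀ (n : ℕ) {U : Subgroup Ω} (D : FusionSystem U), Stage F E p D →
      Nat.card (D.autGroup T) ≤ n →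
      ∃ D₀ : FusionSystem (T ⊔ centralizerIn S T), Stage F E p D₀ ∧
        D₀.autGroup T = E.autGroup T := by
  intro n
  induction n using Nat.strong_induction_on with
  | _ n ih =>
  intro U D h hn
  have hT : F.StronglyClosed T := hE.1.2.2.2.1
  have hTS := hT.1
  have hTU : T ≤ U := le_sup_left.trans h.le
  haveI := finite_of_le hTS
  haveI := finite_mulAut (P := T)
  have hsub := h.normal.1.2.2.1
  have hEA : E.autGroup T ≤ D.autGroup T := autGroup_le_ofSubsystem h.sub le_rfl hTU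
  have hDF : D.autGroup T ≤ F.autGroup T := autGroup_le_ofSubsystem hsub hTU hTS
  by_cases hdone : D.autGroup T ≤ E.autGroup T
  · obtain rfl := h.eq_sup hS hE hdone
    exact ⟨D, h, le_antisymm hdone hEA⟩
  have hEn : ∀ a ∈ F.autGroup T, ∀ x ∈ E.autGroup T, a * x * a⁻¹ ∈ E.autGroup T := by
    intro a ha x hx
    exact (inferInstance : ((E.autGroup T).subgroupOf (F.autGroup T)).Normal).conj_mem
      ⟨x, hDF (hEA hx)⟩ hx ⟨a, ha⟩
  have hAn : ∀ a ∈ F.autGroup T, ∀ x ∈ D.autGroup T, a * x * a⁻¹ ∈ D.autGroup T := fun a ha x hx =>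
    conj_mem_autGroup_of_strongInv h.le_S hTU (h.strongInv hS hF) ha hx
  have hgen : ∀ (q : MulAut T → Prop), (∀ a x, q x → q (a * x * a⁻¹)) →
      ∀ a ∈ F.autGroup T,
        ∀ y ∈ Subgroup.closure ((E.autGroup T : Set (MulAut T)) ∪ {b | b ∈ D.autGroup T ∧ q b}),
          a * y * a⁻¹ ∈
            Subgroup.closure ((E.autGroup T : Set (MulAut T)) ∪ {b | b ∈ D.autGroup T ∧ q b}) := by
    intro q hq a ha y hy
    refine closure_conj_mem ?_ hy
    rintro x (hx | ⟨hx, hqx⟩)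
    · exact Or.inl (hEn a ha x hx)
    · exact Or.inr ⟨hAn a ha x hx, hq a x hqx⟩
  have hclA : ∀ (q : MulAut T → Prop),
      Subgroup.closure ((E.autGroup T : Set (MulAut T)) ∪ {b | b ∈ D.autGroup T ∧ q b}) ≤
        D.autGroup T := fun q => (Subgroup.closure_le _).2 (by
    rintro x (hx | ⟨hx, -⟩)
    exacts [hEA hx, hx])
  have hlt : ∀ {H : Subgroup (MulAut T)}, ¬ D.autGroup T ≤ H → H ≤ D.autGroup T →
      Nat.card H < n := fun {H} hne hle => by
    refine lt_of_lt_of_le (lt_of_not_ge fun hge => hne ?_) hn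
    exact (Subgroup.eq_of_le_of_card_ge hle hge).ge
  set H₁ := Subgroup.closure ((E.autGroup T : Set (MulAut T)) ∪
    {b | b ∈ D.autGroup T ∧ Nat.Coprime (orderOf b) p})
  set H₂ := Subgroup.closure ((E.autGroup T : Set (MulAut T)) ∪
    {b | b ∈ D.autGroup T ∧ ∃ k : ℕ, b ^ p ^ k = 1})
  by_cases h₁ : D.autGroup T ≤ H₁
  swap
  · obtain ⟨V, D₁, hst, hle⟩ := h.step_p hS hF hE (H := H₁)
      (hgen _ fun a x hx => by rwa [show orderOf (a * x * a⁻¹) = orderOf x from
        (MulAut.conj a).orderOf_eq x])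
      (fun x hx => Subgroup.subset_closure (Or.inl hx))
      (fun x hx hxo => Subgroup.subset_closure (Or.inr ⟨hx, hxo⟩))
    exact ih _ ((Subgroup.card_le_of_le hle).trans_lt (hlt h₁ (hclA _))) D₁ hst le_rfl
  by_cases h₂ : D.autGroup T ≤ H₂
  swap
  · obtain ⟨D₁, hst, hle⟩ := h.step_p' hS hF hE (H := H₂)
      (hgen _ fun a x ⟨k, hk⟩ => ⟨k, by rw [conj_pow, hk, mul_one, mul_inv_cancel]⟩)
      (fun x hx => Subgroup.subset_closure (Or.inl hx)) h₂
      (fun x hx k hk => Subgroup.subset_closure (Or.inr ⟨hx, k, hk⟩))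
    exact ih _ ((Subgroup.card_le_of_le hle).trans_lt (hlt h₂ (hclA _))) D₁ hst le_rfl
  refine absurd (fun x hx => ?_) hdone
  set G := F.autGroup T
  have hpull : ∀ (q : MulAut T → Prop) (_ : D.autGroup T ≤
      Subgroup.closure ((E.autGroup T : Set (MulAut T)) ∪ {b | b ∈ D.autGroup T ∧ q b})),
      (D.autGroup T).subgroupOf G ≤ Subgroup.closure
        (((E.autGroup T).subgroupOf G : Set G) ∪
          {b : G | b ∈ (D.autGroup T).subgroupOf G ∧ q b}) := by
    intro q hq y hy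
    have hmem : ∀ z : MulAut T, z ∈ Subgroup.closure
        ((E.autGroup T : Set (MulAut T)) ∪ {b | b ∈ D.autGroup T ∧ q b}) →
        z ∈ (Subgroup.closure (((E.autGroup T).subgroupOf G : Set G) ∪
          {b : G | b ∈ (D.autGroup T).subgroupOf G ∧ q b})).map G.subtype := by
      refine fun z hz => (Subgroup.closure_le _).2 ?_ hz
      rintro w (hw | hw)
      · exact ⟨⟨w, hDF (hEA hw)⟩, Subgroup.subset_closure (Or.inl hw), rfl⟩
      · exact ⟨⟨w, hDF hw.1⟩, Subgroup.subset_closure (Or.inr ⟨hw.1, hw.2⟩), rfl⟩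
    obtain ⟨w, hw, hwy⟩ := hmem _ (hq hy)
    rwa [show w = y from Subtype.ext hwy] at hw
  refine not_both hsolv (A := (D.autGroup T).subgroupOf G) ?_ ?_ (x := ⟨x, hDF hx⟩) hx
  · refine (hpull _ h₁).trans (Subgroup.closure_mono (Set.union_subset_union_right _ ?_))
    rintro b ⟨hb, hbo⟩
    exact ⟨hb, by rwa [← Subgroup.orderOf_coe]⟩
  · refine (hpull _ h₂).trans (Subgroup.closure_mono (Set.union_subset_union_right _ ?_))
    rintro b ⟨hb, k, hk⟩
    exact ⟨hb, k, Subtype.ext hk⟩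

end CfsgLib.Fusion.Envelope
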