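import Cfsg.Agent.Lib.Fusion.System.Alperin

/-!
# Essential subgroups inside an extraspecial subgroup
-/

set_option autoImplicit false
set_option linter.style.haveILetI false

open Subgroup
open scoped Classical commutatorElement

namespace CfsgLib.Fusion

open Cfsg (FusionSystem autInducedBy IsStronglyPEmbedded)
open Cfsg.FusionSystem (normalizerIn centralizerIn)

/-- A commuting pair of conjugate nontrivial elements of the Sylow subgroup lies inside the embedded subgroup. -/
theorem mem_of_commute_conj {X : Type*} [Group X] [Finite X] {p : ℕ} [Fact p.Prime]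
    {P E : Subgroup X} (hP : IsPGroup p P) (hi : ¬ p ∣ P.index)
    (hE : ∀ T : Subgroup X, T ≤ P → T ≠ ⊥ → Subgroup.normalizer (T : Set X) ≤ E)
    {u v g : X} (hu : u ∈ P) (hu1 : u ≠ 1) (hv : v ∈ P) (hv1 : v ≠ 1)
    (h : Commute u (g * v * g⁻¹)) : g ∈ E := by
  have hN : centralizer ({u} : Set X) ≤ E := by
    refine le_trans ?_ (hE (zpowers u) (zpowers_le.2 hu) (by simpa [zpowers_eq_bot] using hu1))
    refine le_trans ?_ (centralizer_le_normalizer _)
    rw [zpowers_eq_closure, centralizer_closure]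
  have hPE : P ≤ E := le_normalizer.trans (hE P le_rfl fun hb => hu1 (mem_bot.1 (hb ▸ hu)))
  have hy : g * v * g⁻¹ ∈ E := hN (mem_centralizer_singleton_iff.2 h.symm.eq)
  have hyp : IsPGroup p (zpowers (g * v * g⁻¹)) := by
    have h1 := (hP.to_le (zpowers_le.2 hv)).map (MulAut.conj g).toMonoidHom
    rwa [MonoidHom.map_zpowers] at h1
  obtain ⟨e, he, hec⟩ := exists_conj_le_of_not_dvd_relIndex hP hPE
    (fun hd => hi (Subgroup.relIndex_mul_index hPE ▸ hd.mul_right _)) hyp (zpowers_le.2 hy)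
  have h2 : e * g ∈ E := by
    refine mem_of_conj_le hP hi hE (zpowers_le.2 hv) (by simpa [zpowers_eq_bot] using hv1) ?_
    refine conjBy_le_iff.2 fun x hx => ?_
    obtain ⟨k, rfl⟩ := mem_zpowers_iff.1 hx
    have h3 := conjBy_le_iff.1 hec ((g * v * g⁻¹) ^ k) (zpow_mem (mem_zpowers _) k)
    rw [conj_zpow] at h3
    simpa [mul_assoc] using h3
  simpa using mul_mem (inv_mem he) h2

theorem derived_facts {G : Type*} [Group G] [Finite G] {p : ℕ}
    (hD : Nat.card (commutator G) = p) (hDc : commutator G ≤ center G) :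
    (∀ a b : G, ⁅a, b⁆ ∈ commutator G) ∧ ∀ b : G, (centralizer ({b} : Set G)).index ∣ p := by
  have hc : ∀ a b : G, ⁅a, b⁆ ∈ commutator G := fun a b => by
    rw [commutator_def]; exact commutator_mem_commutator (mem_top _) (mem_top _)
  refine ⟨hc, fun b => ?_⟩
  let δ : G →* ↥(commutator G) := MonoidHom.mk' (fun y => ⟨⁅b, y⁆, hc b y⟩) fun x y => by
    apply Subtype.ext
    show ⁅b, x * y⁆ = ⁅b, x⁆ * ⁅b, y⁆
    have h1 := Subgroup.mem_center_iff.1 (hDc (hc b y)) x
    calc ⁅b, x * y⁆ = ⁅b, x⁆ * (x * ⁅b, y⁆) * x⁻¹ := by simp only [commutatorElement_def]; group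
      _ = ⁅b, x⁆ * ⁅b, y⁆ := by rw [h1]; group
  have hker : δ.ker = centralizer ({b} : Set G) := by
    ext y
    rw [MonoidHom.mem_ker, mem_centralizer_singleton_iff]
    exact ⟨fun h => (commutatorElement_eq_one_iff_mul_comm.1 (congrArg Subtype.val h)).symm,
      fun h => Subtype.ext (commutatorElement_eq_one_iff_mul_comm.2 h.symm)⟩
  rw [← hker, index_ker, ← hD]
  exact card_subgroup_dvd_card _

/-- The technical choice: an element outside the subgroup centralizing a given central element. -/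
theorem exists_commute_notMem {G : Type*} [Group G] [Finite G] {p : ℕ} [Fact p.Prime]
    (hD : Nat.card (commutator G) = p) (hDc : commutator G ≤ center G)
    (hbig : Nat.card (center G) * p ^ 2 < Nat.card G) {E : Subgroup G} (hE : E ≠ ⊤)
    {y : G} (hyE : ∀ e ∈ E, Commute e y)
    (hy : (∃ a ∈ E, ∃ b ∈ E, ⁅a, b⁆ ≠ 1) → y ∈ center G) :
    ∃ q, q ∉ E ∧ Commute q y := by
  obtain ⟨hc, hidx⟩ := derived_facts hD hDc
  have hp := (Fact.out : p.Prime)
  by_cases hyc : y ∈ center G
  · obtain ⟨q, -, hq⟩ := SetLike.exists_of_lt (lt_top_iff_ne_top.2 hE)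
    exact ⟨q, hq, (mem_center_iff.1 hyc q)⟩
  by_contra hcon
  push Not at hcon
  have hab : ∀ a ∈ E, ∀ b ∈ E, Commute a b := fun a ha b hb => by
    by_contra hne
    exact hyc (hy ⟨a, ha, b, hb, fun h1 => hne (commutatorElement_eq_one_iff_mul_comm.1 h1)⟩)
  have heq : centralizer ({y} : Set G) = E := le_antisymm
    (fun q hq => not_not.1 fun hn => hcon q hn (mem_centralizer_singleton_iff.1 hq))
    fun e he => mem_centralizer_singleton_iff.2 (hyE e he).eq
  have hi : E.index = p := by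
    refine ((Nat.dvd_prime hp).1 (heq ▸ hidx y)).resolve_left fun h1 => hE (index_eq_one.1 h1)
  obtain ⟨b, -, hb⟩ := SetLike.exists_of_lt (lt_top_iff_ne_top.2 hE)
  have hgen : E ⊔ zpowers b = ⊤ := by
    by_contra h1
    have h2 : E < E ⊔ zpowers b := lt_of_le_of_ne le_sup_left fun h =>
      hb (h.ge (mem_sup_right (mem_zpowers b)))
    have h3 := index_dvd_of_le h2.le
    rw [hi] at h3
    rcases (Nat.dvd_prime hp).1 h3 with h4 | h4
    · exact h1 (index_eq_one.1 h4)
    · exact absurd (index_strictAnti h2 ) (by rw [h4, hi]; exact lt_irrefl _)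
  have hle : E ⊓ centralizer ({b} : Set G) ≤ center G := fun e he => by
    rw [← centralizer_univ, ← coe_top, ← hgen]
    refine fun x hx => ?_
    have h5 : E ⊔ zpowers b ≤ centralizer ({e} : Set G) := sup_le
      (fun a ha => mem_centralizer_singleton_iff.2 (hab a ha e he.1).eq)
      (zpowers_le.2 (mem_centralizer_singleton_iff.2 (mem_centralizer_singleton_iff.1 he.2).symm))
    exact mem_centralizer_singleton_iff.1 (h5 hx)
  have h6 : (E ⊓ centralizer ({b} : Set G)).index ≤ p * p :=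
    index_inf_le.trans (Nat.mul_le_mul hi.le (Nat.le_of_dvd hp.pos (hidx b)))
  have h7 := (E ⊓ centralizer ({b} : Set G)).card_mul_index
  have h8 := card_le_of_le hle
  have : Nat.card G ≤ Nat.card (center G) * (p * p) := h7 ▸ Nat.mul_le_mul h8 h6
  rw [pow_two] at hbig
  omega

variable {Ω : Type*} [Group Ω] {S : Subgroup Ω} {F : FusionSystem S} {p : ℕ}

/-- No essential subgroup lies properly inside a large subgroup with central derived group of order `p`. -/
theorem eq_of_essential_le_derived_prime [Finite S] [Fact p.Prime] (hS : IsPGroup p S)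
    (hF : F.IsSaturated p) {Q : Subgroup Ω} (hQS : Q ≤ S)
    (hD : Nat.card (commutator ↥Q) = p) (hDc : commutator ↥Q ≤ center ↥Q)
    (hbig : Nat.card (center ↥Q) * p ^ 2 < Nat.card Q) {E : Subgroup Ω} (hEQ : E ≤ Q) (hE : F.IsEssential p E) : E = Q := by
  obtain ⟨hc, hn, _, M, hM⟩ := hE
  by_contra hne
  haveI := finite_of_le hn.1
  haveI := finite_of_le hQS
  haveI := finite_mulAut (P := E)
  obtain ⟨hcom, -⟩ := derived_facts hD hDc
  set X := F.autGroup E with hX
  set I := (Cfsg.Inn E).subgroupOf X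
  set π := QuotientGroup.mk' I
  set A := (autInducedBy S E).subgroupOf X with hA
  have hAp : IsPGroup p A := (isPGroup_autInducedBy hS).of_equiv
    (Subgroup.subgroupOfEquivOfLe (autInducedBy_le_autGroup hn.1)).symm
  have hAi : ¬ p ∣ A.index :=
    ((isFullyAutomized_iff hS).1 (IsSaturated.automized_receptive hS hF hn).1).2
  have hi : ¬ p ∣ (A.map π).index :=
    fun h => hAi (h.trans (Subgroup.index_map_dvd A (QuotientGroup.mk'_surjective I)))
  obtain ⟨M', hM', hnorm⟩ := exists_conj_embedded (hAp.map π) hM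
  -- the centre
  obtain ⟨z0, hz0⟩ : ∃ z0 : ↥(commutator ↥Q), ∀ w, w ∈ zpowers z0 := by
    haveI := isCyclic_of_prime_card hD
    exact IsCyclic.exists_generator
  have hZE : ∀ w : ↥Q, w ∈ center ↥Q → (w : Ω) ∈ E := fun w hw => by
    refine centralizerIn_le_of_isCentric hc ⟨hQS w.2, mem_centralizer_iff.2 fun e he => ?_⟩
    exact congrArg Subtype.val (mem_center_iff.1 hw ⟨e, hEQ he⟩)
  let zE : ↥E := ⟨((z0 : ↥Q) : Ω), hZE _ (hDc z0.2)⟩
  have hzE : ∀ a b : Ω, a ∈ Q → b ∈ Q → ∃ k : ℤ, ((zE : Ω)) ^ k = ⁅a, b⁆ := fun a b ha hb => by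
    obtain ⟨k, hk⟩ := mem_zpowers_iff.1 (hz0 ⟨⁅(⟨a, ha⟩ : ↥Q), ⟨b, hb⟩⁆, hcom _ _⟩)
    refine ⟨k, ?_⟩
    have := congrArg (fun w : ↥(commutator ↥Q) => ((w : ↥Q) : Ω)) hk
    simpa [commutatorElement_def, zE] using this
  have hzc : ∀ q ∈ Q, Commute q (zE : Ω) := fun q hq =>
    congrArg Subtype.val (mem_center_iff.1 (hDc z0.2) ⟨q, hq⟩)
  have hnormal : Q ≤ Subgroup.normalizer (E : Set Ω) := by
    have key : ∀ q ∈ Q, ∀ e ∈ E, q * e * q⁻¹ ∈ E := fun q hq e he => by
      obtain ⟨k, hk⟩ := hzE q e hq (hEQ he)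
      have h1 : q * e * q⁻¹ = ⁅q, e⁆ * e := by rw [commutatorElement_def]; group
      rw [h1, ← hk]
      exact mul_mem (zpow_mem zE.2 k) he
    exact fun q hq => Subgroup.mem_normalizer_iff.2 fun e => ⟨key q hq e, fun h => by
      simpa [mul_assoc] using key q⁻¹ (inv_mem hq) _ h⟩
  -- conjugations by elements of `Q`
  let c : ∀ q, q ∈ Q → ↥X := fun q hq => ⟨conjAut q (hnormal hq),
    autInducedBy_le_autGroup hn.1 (conjAut_mem (hQS hq) (hnormal hq))⟩
  have hc1 : ∀ q (hq : q ∈ Q), q ∉ E → π (c q hq) ≠ 1 := fun q hq hqE h1 => by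
    rw [QuotientGroup.mk'_apply, QuotientGroup.eq_one_iff] at h1
    exact hqE (mem_of_conjAut_mem_inn (hQS hq) (hnormal hq) hn.1 (centralizerIn_le_of_isCentric hc) h1)
  have hcP : ∀ q (hq : q ∈ Q), π (c q hq) ∈ A.map π := fun q hq =>
    mem_map_of_mem π (conjAut_mem (hQS hq) (hnormal hq))
  have hcval : ∀ q (hq : q ∈ Q) (x : ↥E), (((c q hq : MulAut E) x : ↥E) : Ω) = q * x * q⁻¹ :=
    fun q hq x => (autFun_coe _ x).symm.trans (autFun_conjAut (hnormal hq) x.2)
  have hzEc : ∀ e : ↥E, Commute e zE := fun e => Subtype.ext (hzc _ (hEQ e.2))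
  have hchoice : ∀ a : MulAut E, ∃ q ∈ Q, q ∉ E ∧ Commute q ((a zE : ↥E) : Ω) := by
    intro a
    have hEne : E.subgroupOf Q ≠ ⊤ := fun h => hne (le_antisymm hEQ (subgroupOf_eq_top.1 h))
    obtain ⟨q, hq, hqy⟩ := exists_commute_notMem hD hDc hbig hEne
      (y := ⟨(a zE : ↥E), hEQ (a zE).2⟩)
      (fun e he => Subtype.ext (by
        have h1 := ((hzEc (a.symm ⟨(e : Ω), he⟩)).map a.toMonoidHom)
        simp only [MulEquiv.coe_toMonoidHom, MulEquiv.apply_symm_apply] at h1
        have h2 := congrArg Subtype.val h1.eq; exact h2))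
      (fun ⟨u, hu, v, hv, huv⟩ => by
        -- the centre is generated by a commutator of `E`
        set u' : ↥E := ⟨(u : Ω), hu⟩
        set v' : ↥E := ⟨(v : Ω), hv⟩
        obtain ⟨k, hk⟩ := mem_zpowers_iff.1 (mem_zpowers_of_prime_card (p := p) hD
          (g := (⟨⁅u, v⁆, hcom u v⟩ : ↥(commutator ↥Q))) (fun e1 => huv (congrArg Subtype.val e1))
          (g' := z0))
        have hk' : zE = ⁅u', v'⁆ ^ k := Subtype.ext (by
          have := congrArg (fun w : ↥(commutator ↥Q) => ((w : ↥Q) : Ω)) hk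
          simpa [commutatorElement_def, zE, u', v'] using this.symm)
        have hval : a zE = ⁅a u', a v'⁆ ^ k := by rw [hk', map_zpow, map_commutatorElement]
        have hmem := zpow_mem (hcom ⟨((a u' : ↥E) : Ω), hEQ (a u').2⟩ ⟨((a v' : ↥E) : Ω), hEQ (a v').2⟩) k
        refine hDc ?_
        convert hmem using 1
        apply Subtype.ext
        show ((a zE : ↥E) : Ω) = _
        rw [hval]
        simp [commutatorElement_def])
    exact ⟨q, q.2, hq, congrArg Subtype.val hqy.eq⟩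
  -- every automorphism lies in the embedded subgroup
  refine hM' (top_unique fun y _ => ?_)
  obtain ⟨g, rfl⟩ := QuotientGroup.mk'_surjective I y
  obtain ⟨q, hq, hqE, hqc⟩ := hchoice (g : MulAut E)
  obtain ⟨r, hr, hrE, hrc⟩ := hchoice (g : MulAut E).symm
  refine mem_of_commute_conj (hAp.map π) hi hnorm (hcP q hq) (hc1 q hq hqE) (hcP r hr) (hc1 r hr hrE) ?_
  rw [← map_inv, ← map_mul, ← map_mul]
  refine Commute.map ?_ π
  -- the two transvections commute
  set a := (g : MulAut E)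
  set t := (c q hq : MulAut E)
  set r' := (c r hr : MulAut E)
  refine Subtype.ext ?_
  show t * (a * r' * a⁻¹) = a * r' * a⁻¹ * t
  ext x : 1
  simp only [MulAut.mul_apply, MulAut.inv_def]
  have ht : ∀ x : ↥E, ∃ k : ℤ, t x = zE ^ k * x := fun x => by
    obtain ⟨k, hk⟩ := hzE q x hq (hEQ x.2)
    refine ⟨k, Subtype.ext ?_⟩
    rw [hcval q hq, Subgroup.coe_mul, Subgroup.coe_zpow, hk, commutatorElement_def]
    group
  have hr' : ∀ x : ↥E, ∃ k : ℤ, r' x = zE ^ k * x := fun x => by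
    obtain ⟨k, hk⟩ := hzE r x hr (hEQ x.2)
    refine ⟨k, Subtype.ext ?_⟩
    rw [hcval r hr, Subgroup.coe_mul, Subgroup.coe_zpow, hk, commutatorElement_def]
    group
  have htfix : t (a zE) = a zE := Subtype.ext (by rw [hcval q hq]; exact hqc.mul_inv_cancel)
  have hr'fix : r' (a.symm zE) = a.symm zE := Subtype.ext (by rw [hcval r hr]; exact hrc.mul_inv_cancel)
  obtain ⟨i, hi'⟩ := ht x
  obtain ⟨j, hj⟩ := hr' (a.symm x)
  rw [hi', hj, map_mul, map_zpow, MulEquiv.apply_symm_apply, map_mul, map_zpow, htfix, hi',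
    map_mul a.symm, map_zpow a.symm, map_mul r', map_zpow r', hr'fix, hj, map_mul a, map_mul a,
    map_zpow a, map_zpow a, MulEquiv.apply_symm_apply, MulEquiv.apply_symm_apply, ← mul_assoc,
    ← mul_assoc]
  congr 1
  exact (((hzEc (a zE)).zpow_zpow j i)).eq

/-- An essential subgroup inside an extraspecial subgroup of order at least `p ^ 4` is everything. -/
theorem eq_of_essential_le_extraspecial [Finite S] [Fact p.Prime] (hS : IsPGroup p S)
    (hF : F.IsSaturated p) {Q : Subgroup Ω} (hQS : Q ≤ S) (hQ : Cfsg.IsExtraspecial p ↥Q)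
    (hbig : p ^ 3 < Nat.card Q) {E : Subgroup Ω} (hEQ : E ≤ Q) (hE : F.IsEssential p E) : E = Q :=
  eq_of_essential_le_derived_prime hS hF hQS (by rw [hQ.1.2.2]; exact hQ.2) hQ.1.2.2.le
    (by rw [hQ.2, ← pow_succ']; exact hbig) hEQ hE

end CfsgLib.Fusion
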