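import Cfsg.Agent.Lib.Fusion.System.EssentialCube
import Mathlib.Data.Nat.Choose.Dvd

/-!
# Essential subgroups of order `p⁴`

An essential subgroup has no chain of characteristic subgroups with factors of order at most `p`.
-/

set_option autoImplicit false
set_option linter.style.haveILetI false

open Subgroup
open scoped commutatorElement

namespace CfsgLib.Fusion.EssentialFourth

variable {H : Type*} [Group H] {p : ℕ} [hp : Fact p.Prime]

/-- Two steps: an automorphism of `p`-power order is trivial on a group of prime order. -/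
theorem fix_of_card_le {A : Type*} [Group A] [Finite A] (hA : IsPGroup p A) (hc : Nat.card A ≤ p)
    (σ : MulAut A) {k : ℕ} (hσ : σ ^ p ^ k = 1) : σ = 1 := by
  have hpr := hp.out
  obtain ⟨j, hj⟩ := hA.exists_card_eq
  rcases Nat.lt_or_ge j 1 with h | h
  · obtain rfl : j = 0 := by omega
    haveI := (Nat.card_eq_one_iff_unique.1 (by rw [hj, pow_zero])).1
    exact MulEquiv.ext fun a => Subsingleton.elim _ _
  · have hjp : Nat.card A = p := le_antisymm hc (by rw [hj]; exact Nat.le_self_pow (by omega) p)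
    haveI := isCyclic_of_prime_card hjp
    haveI : Finite (MulAut A) :=
      Finite.of_injective (fun a : MulAut A => (a : A → A)) DFunLike.coe_injective
    have h1 : orderOf σ ∣ p ^ k := orderOf_dvd_of_pow_eq_one hσ
    have h2 : orderOf σ ∣ p - 1 := by
      have := orderOf_dvd_natCard σ
      rwa [IsCyclic.card_mulAut, hjp, Nat.totient_prime hpr] at this
    refine orderOf_eq_one_iff.1 (Nat.eq_one_of_dvd_coprimes ?_ h1 h2)
    refine Nat.Coprime.pow_left k ((hpr.coprime_iff_not_dvd).2 fun hd => ?_)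
    have := Nat.le_of_dvd (by have := hpr.two_le; omega) hd
    have := hpr.two_le
    omega

section NoChain

variable [Finite H]

/-- A chain of characteristic subgroups with factors of order at most `p` is impossible. -/
theorem no_char_chain (hH : IsPGroup p H) (X : Subgroup (MulAut H))
    (hcore : Cfsg.pCore p X = (Cfsg.Inn H).subgroupOf X) (hdvd : p ∣ ((Cfsg.Inn H).subgroupOf X).index)
    (C : ℕ → Subgroup H) (k : ℕ) (h0 : C 0 = ⊤) (hk : C k = ⊥)
    (hch : ∀ i, ∀ σ : MulAut H, ∀ x ∈ C i, σ x ∈ C i) (hle : ∀ i, C (i + 1) ≤ C i)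
    (hidx : ∀ i < k, Nat.card (C i) ≤ p * Nat.card (C (i + 1))) : False := by
  classical
  have hnorm : ∀ i, (C i).Normal := fun i => ⟨fun n hn g => hch i (MulAut.conj g) n hn⟩
  haveI : Finite (MulAut H) :=
    Finite.of_injective (fun a : MulAut H => (a : H → H)) DFunLike.coe_injective
  let K : Subgroup X :=
    { carrier := {σ | ∀ i < k, ∀ x ∈ C i, x⁻¹ * (σ : MulAut H) x ∈ C (i + 1)}
      one_mem' := fun i _ x _ => by simp
      mul_mem' := fun {σ τ} hσ hτ i hi x hx => by
        have h1 := hσ i hi _ (hch i τ x hx)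
        have h2 := mul_mem (hτ i hi x hx) h1
        rw [Subgroup.coe_mul, MulAut.mul_apply]
        simpa [mul_assoc] using h2
      inv_mem' := fun {σ} hσ i hi x hx => by
        have h1 := inv_mem (hσ i hi _ (hch i (σ : MulAut H)⁻¹ x hx))
        rw [MulAut.apply_inv_self] at h1
        simpa [mul_assoc] using h1 }
  have hKn : K.Normal := ⟨fun σ hσ τ i hi x hx => by
    have h1 := hch (i + 1) τ _ (hσ i hi _ (hch i (τ : MulAut H)⁻¹ x hx))
    simp only [map_mul, map_inv, MulAut.apply_inv_self] at h1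
    simpa [MulAut.mul_apply] using h1⟩
  have hKp : IsPGroup p K := by
    intro σ
    -- downward induction along the chain
    have key : ∀ j, j ≤ k → ∃ n, ∀ x ∈ C (k - j), (((σ : X) : MulAut H) ^ p ^ n) x = x := by
      intro j
      induction j with
      | zero =>
        intro _
        exact ⟨0, fun x hx => by rw [Nat.sub_zero, hk, mem_bot] at hx; simp [hx]⟩
      | succ j ih =>
        intro hj
        obtain ⟨n, hn⟩ := ih (by omega)
        obtain ⟨m, hm⟩ := (hH.to_subgroup (C (k - j))).exists_card_eq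
        refine ⟨n + m, fun x hx => ?_⟩
        set τ := ((σ : X) : MulAut H) ^ p ^ n with hτ
        have hτK : (⟨τ, by exact pow_mem (σ : X).2 _⟩ : X) ∈ K := by
          have := pow_mem σ.2 (p ^ n)
          exact this
        have hc : x⁻¹ * τ x ∈ C (k - j) := by
          have := hτK (k - (j + 1)) (by omega) x hx
          rwa [show k - (j + 1) + 1 = k - j by omega] at this
        have hpow : ∀ e : ℕ, (τ ^ e) x = x * (x⁻¹ * τ x) ^ e := by
          intro e
          induction e with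
          | zero => simp
          | succ e ih2 =>
            rw [pow_succ', MulAut.mul_apply, ih2, map_mul, map_pow, hn _ hc, pow_succ', ← mul_assoc,
              mul_inv_cancel_left]
        have h1 : (x⁻¹ * τ x) ^ p ^ m = 1 := by
          have h := pow_card_eq_one' (x := (⟨_, hc⟩ : C (k - j)))
          rw [hm] at h
          exact congrArg Subtype.val h
        rw [pow_add, pow_mul, ← hτ, hpow, h1, mul_one]
    obtain ⟨n, hn⟩ := key k le_rfl
    rw [Nat.sub_self, h0] at hn
    refine ⟨n, Subtype.ext (Subtype.ext (MulEquiv.ext fun x => ?_))⟩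
    exact hn x (mem_top x)
  have hKI : K ≤ (Cfsg.Inn H).subgroupOf X := hcore ▸ (haveI := hKn; CfsgLib.Coprime.le_pCore hKp)
  have hpel : ∀ σ : X, (∃ n, σ ^ p ^ n = 1) → σ ∈ K := by
    rintro σ ⟨n, hσ⟩ i hi x hx
    haveI := hnorm (i + 1)
    set A := C i
    set B := (C (i + 1)).subgroupOf A with hB
    let e : A ≃* A :=
      { toFun := fun a => ⟨(σ : MulAut H) a, hch i _ a a.2⟩
        invFun := fun a => ⟨(σ : MulAut H)⁻¹ a, hch i _ a a.2⟩
        left_inv := fun a => Subtype.ext (MulAut.inv_apply_self _ _ _)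
        right_inv := fun a => Subtype.ext (MulAut.apply_inv_self _ _ _)
        map_mul' := fun a b => Subtype.ext (map_mul (σ : MulAut H) (a : H) b) }
    have he : B.map e.toMonoidHom = B := by
      ext a
      rw [Subgroup.mem_map_equiv, hB, Subgroup.mem_subgroupOf, Subgroup.mem_subgroupOf]
      refine ⟨fun h => ?_, fun h => hch (i + 1) _ _ h⟩
      have h1 := hch (i + 1) (σ : MulAut H) _ h
      have h2 : (σ : MulAut H) ((e.symm a : A) : H) = a := congrArg Subtype.val (e.apply_symm_apply a)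
      rwa [h2] at h1
    set τ : MulAut (A ⧸ B) := QuotientGroup.congr B B e he with hτdef
    have hτ : ∀ j : ℕ, ∀ a : A, (τ ^ j) (a : A ⧸ B) = ((e ^ j : MulAut A) a : A) := by
      intro j
      induction j with
      | zero => intro a; rfl
      | succ j ih =>
        intro a
        rw [pow_succ', MulAut.mul_apply, ih, pow_succ', MulAut.mul_apply]
        rfl
    have he' : ∀ j : ℕ, ∀ a : A, (((e ^ j : MulAut A) a : A) : H) = ((σ : MulAut H) ^ j) a := by
      intro j
      induction j with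
      | zero => intro a; rfl
      | succ j ih =>
        intro a
        rw [pow_succ', MulAut.mul_apply, pow_succ', MulAut.mul_apply, ← ih]
        rfl
    have hτ1 : τ = 1 := by
      refine fix_of_card_le ((hH.to_subgroup A).to_quotient B) ?_ τ (k := n) (MulEquiv.ext fun q => ?_)
      · have h1 := Subgroup.card_eq_card_quotient_mul_card_subgroup B
        rw [hB, Nat.card_congr (Subgroup.subgroupOfEquivOfLe (hle i)).toEquiv] at h1
        refine Nat.le_of_mul_le_mul_right ?_ (Nat.card_pos (α := C (i + 1)))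
        exact h1.ge.trans (hidx i hi)
      · obtain ⟨a, rfl⟩ := QuotientGroup.mk_surjective q
        rw [hτ]
        refine congrArg _ (Subtype.ext ?_)
        rw [he', ← SubmonoidClass.coe_pow, hσ]
        rfl
    have h1 : ((e ⟨x, hx⟩ : A) : A ⧸ B) = ((⟨x, hx⟩ : A) : A ⧸ B) := by
      have h0 := hτ 1 ⟨x, hx⟩
      rw [pow_one, hτ1] at h0
      exact h0.symm
    have h2 : (⟨x, hx⟩ : A)⁻¹ * e ⟨x, hx⟩ ∈ B := QuotientGroup.eq.1 h1.symm
    exact h2
  haveI : ((Cfsg.Inn H).subgroupOf X).Normal := hcore ▸ CfsgLib.Coprime.pCore_normal' (G := X) p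
  obtain ⟨P⟩ : Nonempty (Sylow p X) := inferInstance
  refine P.not_dvd_index' ?_ (hdvd.trans (Subgroup.index_dvd_of_le (show (P : Subgroup X) ≤ _ from
    fun σ hσ => hKI (hpel σ ?_))))
  · exact Subgroup.FiniteIndex.index_ne_zero
  · obtain ⟨n, hn⟩ := P.isPGroup' ⟨σ, hσ⟩
    exact ⟨n, congrArg Subtype.val hn⟩

end NoChain

/-- Power formula for central commutators. -/
theorem mul_pow_choose {x y c : H} (hyx : y * x = x * c * y) (hcx : Commute c x) (hcy : Commute c y) (n : ℕ) :
    (x * y) ^ n = x ^ n * c ^ n.choose 2 * y ^ n := by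
  have hyn : ∀ m : ℕ, y ^ m * x = x * c ^ m * y ^ m := by
    intro m
    induction m with
    | zero => simp
    | succ m ih =>
      calc y ^ (m + 1) * x = y ^ m * (y * x) := by rw [pow_succ, mul_assoc]
        _ = y ^ m * x * c * y := by rw [hyx]; simp only [mul_assoc]
        _ = x * c ^ m * (y ^ m * c) * y := by rw [ih]; simp only [mul_assoc]
        _ = x * c ^ (m + 1) * y ^ (m + 1) := by
          rw [((hcy.pow_right m).symm).eq, pow_succ, pow_succ]; simp only [mul_assoc]
  induction n with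
  | zero => simp
  | succ n ih =>
    calc (x * y) ^ (n + 1) = x ^ n * c ^ n.choose 2 * (y ^ n * x) * y := by
          rw [pow_succ, ih]; simp only [mul_assoc]
      _ = x ^ n * (c ^ n.choose 2 * x) * c ^ n * y ^ n * y := by rw [hyn]; simp only [mul_assoc]
      _ = x ^ (n + 1) * (c ^ n.choose 2 * c ^ n) * y ^ (n + 1) := by
          rw [(hcx.pow_left _).eq, pow_succ, pow_succ]; simp only [mul_assoc]
      _ = x ^ (n + 1) * c ^ (n + 1).choose 2 * y ^ (n + 1) := by
          rw [← pow_add, show (n + 1).choose 2 = n + n.choose 2 by rw [Nat.choose_succ_succ' n 1, Nat.choose_one_right],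
            Nat.add_comm (n.choose 2) n]

section Pieces

variable [Finite H]

theorem card_mul_le {A B : Subgroup H} (hH : IsPGroup p H) (hlt : A < B) :
    p * Nat.card A ≤ Nat.card B := by
  obtain ⟨i, hi⟩ := (hH.to_subgroup A).exists_card_eq
  obtain ⟨j, hj⟩ := (hH.to_subgroup B).exists_card_eq
  have h1 : Nat.card A < Nat.card B := by
    by_contra h
    exact hlt.ne (eq_of_le_of_card_ge hlt.le (not_lt.1 h))
  rw [hi, hj] at h1 ⊢
  rw [← pow_succ']
  exact Nat.pow_le_pow_right hp.out.pos ((Nat.pow_lt_pow_iff_right hp.out.one_lt).1 h1)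

theorem eq_top_of_lt (hcard : Nat.card H = p ^ 4) {A B : Subgroup H} (hlt : A < B)
    (hA : p ^ 3 ≤ Nat.card A) : B = ⊤ :=
  eq_top_of_le_card _ <| by
    rw [hcard, pow_succ']
    exact (Nat.mul_le_mul_left p hA).trans (card_mul_le (IsPGroup.of_card hcard) hlt)

theorem card_le_of_ne_top (hcard : Nat.card H = p ^ 4) {A : Subgroup H} (hA : A ≠ ⊤) :
    Nat.card A ≤ p ^ 3 := by
  have h := card_mul_le (IsPGroup.of_card hcard) (lt_of_le_of_ne le_top hA)
  rw [card_top, hcard, pow_succ' p 3] at h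
  exact Nat.le_of_mul_le_mul_left h hp.out.pos

/-- Elements in a chain of five. -/
def chain5 (A B D : Subgroup H) : ℕ → Subgroup H
  | 0 => ⊤
  | 1 => A
  | 2 => B
  | 3 => D
  | _ => ⊥

theorem no_chain5 (hcard : Nat.card H = p ^ 4) (X : Subgroup (MulAut H))
    (hcore : Cfsg.pCore p X = (Cfsg.Inn H).subgroupOf X) (hdvd : p ∣ ((Cfsg.Inn H).subgroupOf X).index)
    (A B D : Subgroup H) (hA : ∀ σ : MulAut H, ∀ x ∈ A, σ x ∈ A) (hB : ∀ σ : MulAut H, ∀ x ∈ B, σ x ∈ B)
    (hD : ∀ σ : MulAut H, ∀ x ∈ D, σ x ∈ D) (hBA : B ≤ A) (hDB : D ≤ B)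
    (h1 : p ^ 4 ≤ p * Nat.card A) (h2 : Nat.card A ≤ p * Nat.card B)
    (h3 : Nat.card B ≤ p * Nat.card D) (h4 : Nat.card D ≤ p) : False := by
  refine no_char_chain (IsPGroup.of_card hcard) X hcore hdvd (chain5 A B D) 4 rfl rfl ?_ ?_ ?_
  · intro i σ x hx
    match i with
    | 0 => exact mem_top _
    | 1 => exact hA σ x hx
    | 2 => exact hB σ x hx
    | 3 => exact hD σ x hx
    | n + 4 =>
      rw [show chain5 A B D (n + 4) = ⊥ from rfl, mem_bot] at hx ⊢
      rw [hx, map_one]
  · intro i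
    match i with
    | 0 => exact le_top
    | 1 => exact hBA
    | 2 => exact hDB
    | 3 => exact bot_le
    | n + 4 => exact le_rfl
  · intro i hi
    match i, hi with
    | 0, _ => show Nat.card (⊤ : Subgroup H) ≤ _; rw [card_top, hcard]; exact h1
    | 1, _ => exact h2
    | 2, _ => exact h3
    | 3, _ => show Nat.card D ≤ p * Nat.card (⊥ : Subgroup H); rw [card_bot, mul_one]; exact h4

/-- No element of order at least `p³` in class two. -/
theorem pow_sq_eq_one (hcard : Nat.card H = p ^ 4) (X : Subgroup (MulAut H))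
    (hcore : Cfsg.pCore p X = (Cfsg.Inn H).subgroupOf X) (hdvd : p ∣ ((Cfsg.Inn H).subgroupOf X).index)
    (hcl : ∀ a b : H, ⁅a, b⁆ ∈ center H ∧ ⁅a, b⁆ ^ p = 1) (g : H) : g ^ p ^ 2 = 1 := by
  classical
  have hpr := hp.out
  have hG : IsPGroup p H := IsPGroup.of_card hcard
  have hpow4 : ∀ y : H, y ^ p ^ 4 = 1 := fun y => hcard ▸ pow_card_eq_one'
  by_contra hg
  by_cases hcyc : ∃ x : H, x ^ p ^ 3 ≠ 1
  · obtain ⟨x, hx⟩ := hcyc
    have hord : orderOf x = p ^ 4 := orderOf_eq_prime_pow hx (hpow4 x)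
    have hall : ∀ y : H, ∃ j : ℤ, x ^ j = y := fun y => mem_zpowers_iff.1 ((show zpowers x = ⊤ from
      eq_top_of_card_eq _ (by rw [Nat.card_zpowers, hord, hcard])).ge (mem_top y))
    have hcar : ∀ (m : ℕ) (σ : MulAut H), ∀ y ∈ zpowers (x ^ m), σ y ∈ zpowers (x ^ m) := by
      intro m σ y hy
      obtain ⟨i, rfl⟩ := mem_zpowers_iff.1 hy
      obtain ⟨j, hj⟩ := hall (σ x)
      rw [map_zpow, map_pow, ← hj, ← zpow_natCast (x ^ j) m, ← zpow_mul, ← zpow_mul]
      refine mem_zpowers_iff.2 ⟨j * i, ?_⟩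
      rw [← zpow_natCast, ← zpow_mul]; congr 1; ring
    have hc : ∀ i ≤ 4, Nat.card (zpowers (x ^ p ^ i)) = p ^ (4 - i) := fun i hi => by
      rw [Nat.card_zpowers, orderOf_pow' x (pow_ne_zero _ hpr.ne_zero), hord,
        Nat.gcd_eq_right (pow_dvd_pow p hi), Nat.pow_div hi hpr.pos]
    refine no_chain5 hcard X hcore hdvd _ _ _ (hcar (p ^ 1)) (hcar (p ^ 2)) (hcar (p ^ 3))
      (zpowers_le.2 ?_) (zpowers_le.2 ?_) ?_ ?_ ?_ ?_
    · rw [pow_succ p 1, pow_mul]; exact pow_mem (mem_zpowers _) _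
    · rw [pow_succ p 2, pow_mul]; exact pow_mem (mem_zpowers _) _
    · rw [hc 1 (by norm_num), ← pow_succ']
    · rw [hc 1 (by norm_num), hc 2 (by norm_num), ← pow_succ']
    · rw [hc 2 (by norm_num), hc 3 (by norm_num), ← pow_succ']
    · rw [hc 3 (by norm_num), pow_one]
  push Not at hcyc
  have hord : orderOf g = p ^ 3 := orderOf_eq_prime_pow hg (hcyc g)
  have hI : (zpowers g).index = p := by
    have h := (zpowers g).card_mul_index
    rw [Nat.card_zpowers, hord, hcard, pow_succ] at h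
    exact Nat.eq_of_mul_eq_mul_left (pow_pos hpr.pos 3) h
  haveI : (zpowers g).Normal := normal_of_index_eq_minFac_card (by
    rw [hI, hcard, Nat.pow_minFac (by norm_num), hpr.minFac_eq])
  have hyp : ∀ y : H, y ^ p ∈ zpowers (g ^ p) := fun y => by
    obtain ⟨j, hj⟩ := mem_zpowers_iff.1 (hI ▸ (zpowers g).pow_index_mem y)
    have h1 : g ^ (j * (p ^ 2 : ℕ)) = 1 := by
      rw [zpow_mul, zpow_natCast, hj, ← pow_mul, ← pow_succ', hcyc]
    rw [← orderOf_dvd_iff_zpow_eq_one, hord] at h1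
    have h2 : (p : ℤ) ∣ j := by
      have h3 : (p : ℤ) * (p : ℤ) ^ 2 ∣ j * (p : ℤ) ^ 2 := by
        rw [← pow_succ']; push_cast at h1; exact h1
      exact (mul_dvd_mul_iff_right (pow_ne_zero 2 (by exact_mod_cast hpr.ne_zero))).1 h3
    obtain ⟨i, rfl⟩ := h2
    exact mem_zpowers_iff.2 ⟨i, by rw [← hj, zpow_mul, zpow_natCast]⟩
  have hmul : ∀ a b : H, (a * b) ^ p ^ 2 = a ^ p ^ 2 * b ^ p ^ 2 := fun a b => by
    obtain ⟨hc, hcp⟩ := hcl a⁻¹ b
    rw [mul_pow_choose (c := ⁅a⁻¹, b⁆) (by rw [commutatorElement_def]; group)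
      ((mem_center_iff.1 hc a).symm) ((mem_center_iff.1 hc b).symm)]
    obtain ⟨m, hm⟩ := hpr.dvd_choose_pow (n := 2) (k := 2) (by norm_num)
      (by have := hpr.two_le; nlinarith)
    rw [hm, pow_mul, hcp, one_pow, mul_one]
  let f : H →* H := MonoidHom.mk' (fun y => y ^ p ^ 2) hmul
  have hD : f.range ≤ zpowers (g ^ p ^ 2) := by
    rintro _ ⟨y, rfl⟩
    show y ^ p ^ 2 ∈ _
    obtain ⟨i, hi⟩ := mem_zpowers_iff.1 (hyp y)
    refine mem_zpowers_iff.2 ⟨i, ?_⟩
    rw [show p ^ 2 = p * p from sq p, pow_mul, pow_mul y, ← hi, ← zpow_natCast ((g ^ p) ^ i), ← zpow_mul,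
      mul_comm, zpow_mul, zpow_natCast]
  have hc2 : Nat.card (zpowers (g ^ p ^ 2)) = p := by
    rw [Nat.card_zpowers, orderOf_pow' g (pow_ne_zero _ hpr.ne_zero), hord,
      Nat.gcd_eq_right (pow_dvd_pow p (by norm_num)), Nat.pow_div (by norm_num) hpr.pos]
    norm_num
  have hc1 : Nat.card (zpowers (g ^ p)) = p ^ 2 := by
    rw [Nat.card_zpowers, orderOf_pow' g hpr.ne_zero, hord,
      Nat.gcd_eq_right (dvd_pow_self p (by norm_num)), pow_succ, Nat.mul_div_cancel _ hpr.pos]
  have hD2 : f.range = zpowers (g ^ p ^ 2) := le_antisymm hD (zpowers_le.2 ⟨g, rfl⟩)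
  have hK : Nat.card f.ker * p = p ^ 4 := by
    have h := f.ker.card_mul_index
    rwa [index_ker, hD2, hc2, hcard] at h
  refine no_chain5 hcard X hcore hdvd f.ker (zpowers (g ^ p)) f.range ?_ ?_ ?_ ?_ ?_ ?_ ?_ ?_ ?_
  · intro σ x hx
    rw [MonoidHom.mem_ker] at hx ⊢
    show (σ x) ^ p ^ 2 = 1
    rw [← map_pow, show x ^ p ^ 2 = 1 from hx, map_one]
  · intro σ x hx
    obtain ⟨i, rfl⟩ := mem_zpowers_iff.1 hx
    rw [map_zpow, map_pow]
    exact zpow_mem (hyp _) i
  · rintro σ _ ⟨y, rfl⟩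
    exact ⟨σ y, (map_pow σ y (p ^ 2)).symm⟩
  · refine zpowers_le.2 (MonoidHom.mem_ker.2 ?_)
    show (g ^ p) ^ p ^ 2 = 1
    rw [← pow_mul, ← pow_succ', hcyc]
  · rw [hD2]; refine zpowers_le.2 ?_; rw [sq, pow_mul]; exact pow_mem (mem_zpowers _) _
  · rw [mul_comm, hK]
  · rw [hc1, ← pow_succ']
    exact (Nat.eq_of_mul_eq_mul_right hpr.pos (hK.trans (pow_succ p 3))).le
  · rw [hc1, hD2, hc2, ← sq]
  · rw [hD2, hc2]

end Pieces

end CfsgLib.Fusion.EssentialFourth
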