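import Cfsg.Agent.Lib.Fusion.System.EssentialFourth
import Mathlib.GroupTheory.NoncommCoprod

/-!
# Abelian essential subgroups of order `p⁴`
-/

set_option autoImplicit false
set_option linter.style.haveILetI false

open Subgroup
open scoped commutatorElement

namespace CfsgLib.Fusion.EssentialFourth

variable {H : Type*} [Group H] [Finite H] {p : ℕ} [hp : Fact p.Prime]

/-- Exponents of an element killed by `n` are read modulo `n`. -/
theorem pow_val_add {n : ℕ} [NeZero n] {x : H} (hx : x ^ n = 1) (a b : ZMod n) :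
    x ^ (a + b).val = x ^ a.val * x ^ b.val := by
  rw [← pow_add, ZMod.val_add, ← pow_eq_pow_mod _ hx]

theorem pow_val_one {n : ℕ} (hn : 1 < n) (x : H) : x ^ (1 : ZMod n).val = x := by
  haveI : Fact (1 < n) := ⟨hn⟩
  rw [ZMod.val_one, pow_one]

variable (hcard : Nat.card H = p ^ 4) (hab : ∀ a b : H, a * b = b * a) (hexp : ∀ y : H, y ^ p ^ 2 = 1)
include hcard hab hexp

/-- An abelian group of order `p⁴` and exponent dividing `p²`. -/
theorem abelian_shapes : (∀ y : H, y ^ p = 1) ∨
    Nonempty (H ≃* Multiplicative (ZMod (p ^ 2) × ZMod p × ZMod p)) ∨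
    (Nonempty (H ≃* Multiplicative (ZMod (p ^ 2) × ZMod (p ^ 2))) ∧
      ∀ w : H, w ^ p = 1 → ∃ y, y ^ p = w) := by
  classical
  have hpr := hp.out
  have hG : IsPGroup p H := IsPGroup.of_card hcard
  by_cases he : ∀ y : H, y ^ p = 1
  · exact Or.inl he
  right
  let f : H →* H := MonoidHom.mk' (fun y => y ^ p) fun a b => (Commute.mul_pow (hab a b) p)
  haveI : NeZero (p ^ 2) := ⟨pow_ne_zero _ hpr.ne_zero⟩
  haveI : NeZero p := ⟨hpr.ne_zero⟩
  push Not at he
  obtain ⟨x, hx⟩ := he
  have hxord : orderOf x = p ^ 2 := orderOf_eq_prime_pow (by rwa [pow_one]) (hexp x)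
  have hp2 : 1 < p ^ 2 := Nat.one_lt_pow (by norm_num) hpr.one_lt
  have hrk : f.range ≤ f.ker := by
    rintro _ ⟨y, rfl⟩
    show (y ^ p) ^ p = 1
    rw [← pow_mul, ← sq, hexp]
  have hmulRK : Nat.card f.range * Nat.card f.ker = p ^ 4 := by
    have h := f.ker.card_mul_index
    rwa [index_ker, hcard, mul_comm] at h
  have hxR : x ^ p ∈ f.range := ⟨x, rfl⟩
  by_cases hr : f.range ≤ zpowers (x ^ p)
  · left
    have hRcard : Nat.card f.range = p := by
      rw [le_antisymm hr (zpowers_le.2 hxR), Nat.card_zpowers]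
      exact orderOf_eq_prime (by rw [← pow_mul, ← sq, hexp]) hx
    have hKcard : Nat.card f.ker = p ^ 3 := by
      rw [hRcard, pow_succ' p 3] at hmulRK
      exact Nat.eq_of_mul_eq_mul_left hpr.pos hmulRK
    have hA0 : zpowers (x ^ p) ≤ f.ker := zpowers_le.2 (hrk hxR)
    have hA0card : Nat.card (zpowers (x ^ p)) = p := by
      rw [← le_antisymm hr (zpowers_le.2 hxR), hRcard]
    obtain ⟨y, hy, hyA⟩ : ∃ y ∈ f.ker, y ∉ zpowers (x ^ p) :=
      SetLike.not_le_iff_exists.1 fun hle => by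
        have h := Subgroup.card_le_of_le hle
        rw [hKcard, hA0card] at h
        exact absurd h (not_le.2 (by
          calc p = p ^ 1 := (pow_one p).symm
            _ < p ^ 3 := Nat.pow_lt_pow_right hpr.one_lt (by norm_num)))
    have hlt1 : zpowers (x ^ p) < zpowers (x ^ p) ⊔ zpowers y :=
      lt_of_le_of_ne le_sup_left fun e => hyA (e.ge ((le_sup_right : zpowers y ≤ zpowers (x ^ p) ⊔ zpowers y) (mem_zpowers y)))
    have hA1 : zpowers (x ^ p) ⊔ zpowers y ≤ f.ker := sup_le hA0 (zpowers_le.2 hy)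
    obtain ⟨z, hz, hzA⟩ : ∃ z ∈ f.ker, z ∉ zpowers (x ^ p) ⊔ zpowers y :=
      SetLike.not_le_iff_exists.1 fun hle => by
        have h1 : f.ker = zpowers (x ^ p) ⊔ zpowers y := le_antisymm hle hA1
        have h2 : Nat.card (zpowers y : Subgroup H) ≤ p := by
          rw [Nat.card_zpowers]; exact Nat.le_of_dvd hpr.pos (orderOf_dvd_of_pow_eq_one hy)
        let m : ↥(zpowers (x ^ p)) × ↥(zpowers y) → ↥(zpowers (x ^ p) ⊔ zpowers y) := fun v =>
          ⟨v.1 * v.2, mul_mem ((le_sup_left : zpowers (x ^ p) ≤ _) v.1.2)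
            ((le_sup_right : zpowers y ≤ zpowers (x ^ p) ⊔ zpowers y) v.2.2)⟩
        have hm : Function.Surjective m := by
          rintro ⟨w, hw⟩
          haveI : (zpowers y).Normal := ⟨fun n hn g => by rwa [hab g, mul_inv_cancel_right]⟩
          rw [← SetLike.mem_coe, Subgroup.mul_normal, Set.mem_mul] at hw
          obtain ⟨a, ha, b, hb, rfl⟩ := hw
          exact ⟨(⟨a, ha⟩, ⟨b, hb⟩), rfl⟩
        have h3 := Nat.card_le_card_of_surjective m hm
        rw [Nat.card_prod, hA0card, ← h1, hKcard] at h3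
        exact absurd (h3.trans (Nat.mul_le_mul_left p h2)) (not_le.2 (by
          rw [← sq]; exact Nat.pow_lt_pow_right hpr.one_lt (by norm_num)))
    have hlt2 : zpowers (x ^ p) ⊔ zpowers y < zpowers (x ^ p) ⊔ zpowers y ⊔ zpowers z :=
      lt_of_le_of_ne le_sup_left fun e => hzA (e.ge ((le_sup_right : zpowers z ≤ zpowers (x ^ p) ⊔ zpowers y ⊔ zpowers z) (mem_zpowers z)))
    let ψ : Multiplicative (ZMod (p ^ 2) × ZMod p × ZMod p) →* H := MonoidHom.mk'
      (fun v => x ^ (Multiplicative.toAdd v).1.val * y ^ (Multiplicative.toAdd v).2.1.val *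
        z ^ (Multiplicative.toAdd v).2.2.val) fun u v => by
        show x ^ (_ + _ : ZMod (p ^ 2)).val * y ^ (_ + _ : ZMod p).val * z ^ (_ + _ : ZMod p).val = _
        rw [pow_val_add (hexp x), pow_val_add (show y ^ p = 1 from hy), pow_val_add (show z ^ p = 1 from hz)]
        have lc : ∀ a b c : H, a * (b * c) = b * (a * c) := fun a b c => by
          rw [← mul_assoc, hab a b, mul_assoc]
        simp only [mul_assoc, hab, lc]
    have hxr : x ∈ ψ.range := ⟨Multiplicative.ofAdd (1, 0, 0), by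
      show x ^ _ * y ^ (0 : ZMod p).val * z ^ (0 : ZMod p).val = x
      rw [ZMod.val_zero, pow_zero, pow_zero, mul_one, mul_one]
      exact pow_val_one hp2 x⟩
    have hyr : y ∈ ψ.range := ⟨Multiplicative.ofAdd (0, 1, 0), by
      show x ^ (0 : ZMod (p ^ 2)).val * y ^ (1 : ZMod p).val * z ^ (0 : ZMod p).val = y
      rw [ZMod.val_zero, pow_zero, ZMod.val_zero, pow_zero, one_mul, mul_one]
      exact pow_val_one hpr.one_lt y⟩
    have hzr : z ∈ ψ.range := ⟨Multiplicative.ofAdd (0, 0, 1), by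
      show x ^ (0 : ZMod (p ^ 2)).val * y ^ (0 : ZMod p).val * z ^ (1 : ZMod p).val = z
      rw [ZMod.val_zero, pow_zero, ZMod.val_zero, pow_zero, one_mul, one_mul]
      exact pow_val_one hpr.one_lt z⟩
    set A2 := zpowers (x ^ p) ⊔ zpowers y ⊔ zpowers z
    have hA2k : A2 ≤ f.ker := sup_le hA1 (zpowers_le.2 hz)
    have hA2card : p ^ 3 ≤ Nat.card A2 := by
      have h1 := card_mul_le hG hlt1
      rw [hA0card] at h1
      calc p ^ 3 = p * (p * p) := by ring
        _ ≤ p * Nat.card (zpowers (x ^ p) ⊔ zpowers y : Subgroup H) := Nat.mul_le_mul_left p h1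
        _ ≤ _ := card_mul_le hG hlt2
    have hA2r : A2 < ψ.range := lt_of_le_of_ne
      (sup_le (sup_le (zpowers_le.2 (pow_mem hxr p)) (zpowers_le.2 hyr)) (zpowers_le.2 hzr))
      fun e => hx (MonoidHom.mem_ker.1 (hA2k (e ▸ hxr)))
    have hsurj : Function.Surjective ψ :=
      MonoidHom.range_eq_top.1 (eq_top_of_lt hcard hA2r hA2card)
    have hb : Function.Bijective ψ := (Nat.bijective_iff_surjective_and_card ψ).2 ⟨hsurj, by
      show Nat.card (ZMod (p ^ 2) × ZMod p × ZMod p) = _
      rw [Nat.card_prod, Nat.card_prod, Nat.card_zmod, Nat.card_zmod, hcard]; ring⟩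
    exact ⟨(MulEquiv.ofBijective ψ hb).symm⟩
  · right
    obtain ⟨w, hw, hwA⟩ := SetLike.not_le_iff_exists.1 hr
    obtain ⟨y, rfl⟩ := hw
    have hlt : zpowers (x ^ p) < zpowers (x ^ p) ⊔ zpowers (y ^ p) :=
      lt_of_le_of_ne le_sup_left fun e => hwA (e.ge ((le_sup_right : zpowers (y ^ p) ≤ zpowers (x ^ p) ⊔ zpowers (y ^ p)) (mem_zpowers (y ^ p))))
    have hA1 : zpowers (x ^ p) ⊔ zpowers (y ^ p) ≤ f.range :=
      sup_le (zpowers_le.2 hxR) (zpowers_le.2 ⟨y, rfl⟩)
    have hA0card : Nat.card (zpowers (x ^ p)) = p := by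
      rw [Nat.card_zpowers]; exact orderOf_eq_prime (by rw [← pow_mul, ← sq, hexp]) hx
    have hA1card : p ^ 2 ≤ Nat.card (zpowers (x ^ p) ⊔ zpowers (y ^ p) : Subgroup H) := by
      have h1 := card_mul_le hG hlt
      rwa [hA0card, ← sq] at h1
    have hRK : f.range = f.ker ∧ zpowers (x ^ p) ⊔ zpowers (y ^ p) = f.range := by
      have h1 := Subgroup.card_le_of_le hrk
      have h2 := Subgroup.card_le_of_le hA1
      have h3 : Nat.card f.ker ≤ p ^ 2 := by
        by_contra hlt'
        have h4 := Nat.mul_lt_mul_of_le_of_lt (hA1card.trans h2) (not_le.1 hlt') (Nat.card_pos (α := f.range))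
        rw [hmulRK, ← pow_add] at h4
        exact lt_irrefl _ h4
      exact ⟨eq_of_le_of_card_ge hrk (h3.trans (hA1card.trans h2)),
        eq_of_le_of_card_ge hA1 ((h1.trans h3).trans hA1card)⟩
    refine ⟨?_, fun u hu => ?_⟩
    swap
    · exact hRK.1.ge (MonoidHom.mem_ker.2 hu)
    let ψ : Multiplicative (ZMod (p ^ 2) × ZMod (p ^ 2)) →* H := MonoidHom.mk'
      (fun v => x ^ (Multiplicative.toAdd v).1.val * y ^ (Multiplicative.toAdd v).2.val) fun u v => by
        show x ^ (_ + _ : ZMod (p ^ 2)).val * y ^ (_ + _ : ZMod (p ^ 2)).val = _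
        rw [pow_val_add (hexp x), pow_val_add (hexp y)]
        generalize x ^ (Multiplicative.toAdd v).1.val = A
        generalize y ^ (Multiplicative.toAdd u).2.val = B
        simp only [mul_assoc]
        rw [← mul_assoc A B, hab A B, mul_assoc]
    have hxr : x ∈ ψ.range := ⟨Multiplicative.ofAdd (1, 0), by
      show x ^ (1 : ZMod (p ^ 2)).val * y ^ (0 : ZMod (p ^ 2)).val = x
      rw [ZMod.val_zero, pow_zero, mul_one]; exact pow_val_one hp2 x⟩
    have hyr : y ∈ ψ.range := ⟨Multiplicative.ofAdd (0, 1), by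
      show x ^ (0 : ZMod (p ^ 2)).val * y ^ (1 : ZMod (p ^ 2)).val = y
      rw [ZMod.val_zero, pow_zero, one_mul]; exact pow_val_one hp2 y⟩
    have hker_le : f.ker ≤ ψ.range := by
      rw [← hRK.1, ← hRK.2]
      exact sup_le (zpowers_le.2 (pow_mem hxr p)) (zpowers_le.2 (pow_mem hyr p))
    have hsurj : Function.Surjective ψ := by
      intro h
      have h1 : h ^ p ∈ zpowers (x ^ p) ⊔ zpowers (y ^ p) := hRK.2.ge ⟨h, rfl⟩
      haveI : (zpowers (y ^ p)).Normal := ⟨fun n hn g => by rwa [hab g, mul_inv_cancel_right]⟩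
      rw [← SetLike.mem_coe, Subgroup.mul_normal, Set.mem_mul] at h1
      obtain ⟨a, ha, b, hb, hab'⟩ := h1
      obtain ⟨i, rfl⟩ := mem_zpowers_iff.1 ha
      obtain ⟨j, rfl⟩ := mem_zpowers_iff.1 hb
      have h2 : f (h * (x ^ i * y ^ j)⁻¹) = 1 := by
        rw [map_mul, map_inv, map_mul, map_zpow, map_zpow]
        show h ^ p * ((x ^ p) ^ i * (y ^ p) ^ j)⁻¹ = 1
        rw [hab', mul_inv_cancel]
      have h3 := mul_mem (hker_le (MonoidHom.mem_ker.2 h2))
        (mul_mem (zpow_mem hxr i) (zpow_mem hyr j))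
      rw [inv_mul_cancel_right] at h3
      exact h3
    have hb : Function.Bijective ψ := (Nat.bijective_iff_surjective_and_card ψ).2 ⟨hsurj, by
      show Nat.card (ZMod (p ^ 2) × ZMod (p ^ 2)) = _
      rw [Nat.card_prod, Nat.card_zmod, hcard]; ring⟩
    exact ⟨(MulEquiv.ofBijective ψ hb).symm⟩

/-- The homocyclic case needs a prime below five. -/
theorem homocyclic_prime (X : Subgroup (MulAut H)) (hcore : Cfsg.pCore p X = (Cfsg.Inn H).subgroupOf X)
    (hdvd : p ∣ ((Cfsg.Inn H).subgroupOf X).index) (hom : ∀ w : H, w ^ p = 1 → ∃ y, y ^ p = w) :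
    p = 2 ∨ p = 3 := by
  classical
  have hpr := hp.out
  by_contra hne
  rw [not_or] at hne
  have hp5 : 5 ≤ p := by
    by_contra h
    have h2 := hpr.two_le
    rcases (show p = 2 ∨ p = 3 ∨ p = 4 by omega) with rfl | rfl | rfl
    · exact hne.1 rfl
    · exact hne.2 rfl
    · exact absurd hpr (by norm_num)
  haveI : Finite (MulAut H) :=
    Finite.of_injective (fun a : MulAut H => (a : H → H)) DFunLike.coe_injective
  have hInn : (Cfsg.Inn H).subgroupOf X = ⊥ := by
    refine (Subgroup.eq_bot_iff_forall _).2 fun σ hσ => ?_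
    obtain ⟨c, hc⟩ := hσ
    refine Subtype.ext (MulEquiv.ext fun q => ?_)
    show (σ : MulAut H) q = q
    rw [show (σ : MulAut H) q = c * q * c⁻¹ from (DFunLike.congr_fun hc q).symm, hab c q, mul_inv_cancel_right]
  rw [hInn, index_bot] at hdvd
  obtain ⟨σ, hσ⟩ := exists_prime_orderOf_dvd_card' (G := X) p hdvd
  have hσp : ((σ : MulAut H)) ^ p = 1 := by
    rw [← SubmonoidClass.coe_pow, ← hσ, pow_orderOf_eq_one]; rfl
  set s : MulAut H := (σ : MulAut H)
  let D : H →* H := MonoidHom.mk' (fun h => h⁻¹ * s h) fun a b => by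
    rw [map_mul, mul_inv_rev]
    calc b⁻¹ * a⁻¹ * (s a * s b) = b⁻¹ * (a⁻¹ * s a) * s b := by simp only [mul_assoc]
      _ = (a⁻¹ * s a) * b⁻¹ * s b := by rw [hab b⁻¹ (a⁻¹ * s a)]
      _ = a⁻¹ * s a * (b⁻¹ * s b) := by simp only [mul_assoc]
  have hs : ∀ h, s h = h * D h := fun h => (mul_inv_cancel_left h (s h)).symm
  -- `σ` moves some element of order `p`
  obtain ⟨v, hv, hv1⟩ : ∃ v : H, v ^ p = 1 ∧ D v ≠ 1 := by
    by_contra hall
    push Not at hall
    let K : Subgroup X :=
      { carrier := {τ | ∀ w : H, w ^ p = 1 → (τ : MulAut H) w = w}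
        one_mem' := fun w _ => rfl
        mul_mem' := fun {a b} ha hb w hw => by rw [Subgroup.coe_mul, MulAut.mul_apply, hb w hw, ha w hw]
        inv_mem' := fun {a} ha w hw => by
          conv_lhs => rw [← ha w hw]
          exact MulAut.inv_apply_self _ _ _ }
    have hKn : K.Normal := ⟨fun a ha b w hw => by
      have h1 := ha ((b : MulAut H)⁻¹ w) (by rw [← map_pow, hw, map_one])
      simp only [Subgroup.coe_mul, InvMemClass.coe_inv, MulAut.mul_apply, h1, MulAut.apply_inv_self]⟩
    have hKp : IsPGroup p K := by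
      rintro ⟨τ, hτ⟩
      refine ⟨1, Subtype.ext (Subtype.ext (MulEquiv.ext fun h => ?_))⟩
      set t : MulAut H := (τ : MulAut H)
      have hfixw : ∀ w : H, w ^ p = 1 → t w = w := hτ
      have hd : (h⁻¹ * t h) ^ p = 1 := by
        rw [(Commute.mul_pow (hab _ _)), ← map_pow, hfixw (h ^ p) (by rw [← pow_mul, ← sq, hexp]), inv_pow,
          inv_mul_cancel]
      have hj : ∀ j : ℕ, (t ^ j) h = h * (h⁻¹ * t h) ^ j := by
        intro j
        induction j with
        | zero => simp
        | succ j ih =>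
          rw [pow_succ', MulAut.mul_apply, ih, map_mul, map_pow, hfixw _ hd, pow_succ', ← mul_assoc,
            mul_inv_cancel_left]
      show (t ^ p ^ 1) h = h
      rw [pow_one, hj, hd, mul_one]
    have hKbot : K ≤ ⊥ := hInn ▸ hcore ▸ (haveI := hKn; CfsgLib.Coprime.le_pCore hKp)
    have hσK : σ ∈ K := fun w hw => by rw [show (σ : MulAut H) w = s w from rfl, hs, hall w hw, mul_one]
    rw [Subgroup.mem_bot.1 (hKbot hσK), orderOf_one] at hσ
    exact hpr.one_lt.ne hσ
  -- the square of `D` kills elements of order `p`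
  let W : Subgroup H := (MonoidHom.mk' (fun y : H => y ^ p) fun a b => Commute.mul_pow (hab a b) p).ker
  obtain ⟨x, rfl⟩ := hom v hv
  have hDp : ∀ h, D (h ^ p) = (D h) ^ p := fun h => map_pow D h p
  have hW2 : Nat.card W = p ^ 2 := by
    set g := MonoidHom.mk' (fun y : H => y ^ p) fun a b => Commute.mul_pow (hab a b) p with hg
    have hWR : W = g.range := by
      refine le_antisymm (fun w hw => hom w hw) ?_
      rintro _ ⟨y, rfl⟩
      show (y ^ p) ^ p = 1
      rw [← pow_mul, ← sq, hexp]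
    have h := W.card_mul_index
    rw [show W.index = Nat.card g.range from index_ker g, ← hWR, hcard, ← sq,
      show p ^ 4 = (p ^ 2) ^ 2 by ring] at h
    exact Nat.pow_left_injective (by norm_num) h
  have hDD : ∀ u : H, u ^ p = 1 → D (D u) = 1 := by
    intro u hu
    set Dr : W →* W := MonoidHom.mk' (fun w => ⟨D w, show (D w) ^ p = 1 by
        rw [← map_pow, show (w : H) ^ p = 1 from w.2, map_one]⟩) fun a b => Subtype.ext (map_mul D (a : H) b)
    -- a nontrivial fixed point
    obtain ⟨w, hw1, hwf⟩ : ∃ w : W, w ≠ 1 ∧ Dr w = 1 := by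
      have hZ : IsPGroup p (zpowers s) := IsPGroup.of_card (n := 1) (by
        rw [Nat.card_zpowers, pow_one]
        exact orderOf_eq_prime hσp fun h1 => by
          rw [show σ = 1 from Subtype.ext h1, orderOf_one] at hσ; exact hpr.one_lt.ne hσ)
      have hmod := hZ.card_modEq_card_fixedPoints H
      have h1 : (1 : H) ∈ MulAction.fixedPoints (zpowers s) H := fun a => map_one (a : MulAut H)
      have hdvdfix : p ∣ Nat.card (MulAction.fixedPoints (zpowers s) H) :=
        (Nat.ModEq.dvd_iff hmod dvd_rfl).1 (hcard ▸ dvd_pow_self p (by norm_num))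
      haveI : Nonempty (MulAction.fixedPoints (zpowers s) H) := ⟨⟨1, h1⟩⟩
      have h2 : 1 < Nat.card (MulAction.fixedPoints (zpowers s) H) :=
        lt_of_lt_of_le hpr.one_lt (Nat.le_of_dvd Nat.card_pos hdvdfix)
      haveI : Nontrivial (MulAction.fixedPoints (zpowers s) H) := Finite.one_lt_card_iff_nontrivial.1 h2
      obtain ⟨⟨h, hh⟩, hne'⟩ := exists_ne (⟨1, h1⟩ : MulAction.fixedPoints (zpowers s) H)
      have hh' : s h = h := hh ⟨s, mem_zpowers s⟩
      have hh1 : h ≠ 1 := fun e => hne' (Subtype.ext e)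
      by_cases hhp : h ^ p = 1
      · exact ⟨⟨h, hhp⟩, fun e => hh1 (congrArg Subtype.val e), Subtype.ext (by
          show h⁻¹ * s h = 1; rw [hh', inv_mul_cancel])⟩
      · refine ⟨⟨h ^ p, show (h ^ p) ^ p = 1 by rw [← pow_mul, ← sq, hexp]⟩,
          fun e => hhp (congrArg Subtype.val e), Subtype.ext ?_⟩
        show (h ^ p)⁻¹ * s (h ^ p) = 1
        rw [map_pow, hh', inv_mul_cancel]
    have hkpos : 1 < Nat.card Dr.ker :=
      Finite.one_lt_card_iff_nontrivial.2 ⟨⟨⟨w, MonoidHom.mem_ker.2 hwf⟩, 1, fun e => hw1 (congrArg Subtype.val e)⟩⟩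
    have hmul := Dr.ker.card_mul_index
    rw [index_ker, hW2] at hmul
    obtain ⟨i, hi, hir⟩ := (Nat.dvd_prime_pow hpr).1 (Dvd.intro_left _ hmul)
    have hi1 : i ≤ 1 := by
      by_contra h
      obtain rfl : i = 2 := by omega
      rw [hir] at hmul
      have := Nat.eq_of_mul_eq_mul_right (pow_pos hpr.pos 2) (hmul.trans (one_mul _).symm)
      omega
    -- the image has order at most `p` and is invariant, so `σ` fixes it
    let e : ↥Dr.range →* ↥Dr.range := (Dr.comp Dr.range.subtype).codRestrict _ fun r => ⟨r, rfl⟩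
    have hfix : ∀ r ∈ Dr.range, Dr r = 1 := by
      intro r hr
      have hinv : ∀ w ∈ Dr.range, (⟨s w, show (s (w : H)) ^ p = 1 by
          rw [← map_pow, show (w : H) ^ p = 1 from w.2, map_one]⟩ : W) ∈ Dr.range := fun w hw => by
        have h2 : (⟨s w, show (s (w : H)) ^ p = 1 by
          rw [← map_pow, show (w : H) ^ p = 1 from w.2, map_one]⟩ : W) = w * Dr w := Subtype.ext (hs w)
        rw [h2]; exact mul_mem hw ⟨w, rfl⟩
      let τ : MulAut Dr.range := MulEquiv.ofBijective
        (MonoidHom.mk' (fun w : Dr.range => (⟨_, hinv w w.2⟩ : Dr.range))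
          fun a b => Subtype.ext (Subtype.ext (map_mul s ((a : W) : H) ((b : W) : H))))
        ((Finite.injective_iff_bijective).1 fun a b hab' =>
          Subtype.ext (Subtype.ext (s.injective (congrArg (fun q : Dr.range => ((q : W) : H)) hab'))))
      have hτj : ∀ (j : ℕ) (w : Dr.range), ((((τ ^ j) w : Dr.range) : W) : H) = (s ^ j) ((w : W) : H) := by
        intro j
        induction j with
        | zero => intro w; rfl
        | succ j ih =>
          intro w
          rw [pow_succ', MulAut.mul_apply, pow_succ', MulAut.mul_apply, ← ih]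
          rfl
      have hWp : IsPGroup p W := (IsPGroup.of_card hcard).to_subgroup W
      have hτ1 := fix_of_card_le (hWp.to_subgroup Dr.range) (by rw [hir]; exact (Nat.pow_le_pow_right hpr.pos hi1).trans (pow_one p).le)
        τ (k := 1) (MulEquiv.ext fun w => Subtype.ext (Subtype.ext (by
          rw [hτj, pow_one, hσp]; rfl)))
      have h4 : τ ⟨r, hr⟩ = ⟨r, hr⟩ := by rw [hτ1]; rfl
      have h3 : s ((r : W) : H) = r := congrArg (fun q : Dr.range => ((q : W) : H)) h4
      exact Subtype.ext (show (r : H)⁻¹ * s r = 1 by rw [h3, inv_mul_cancel])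
    exact congrArg Subtype.val (hfix _ ⟨⟨u, hu⟩, rfl⟩)
  set a := D x with ha
  set b := D a with hb
  set c := D b with hc
  have hap : a ^ p = D (x ^ p) := (hDp x).symm
  have hbp : b ^ p = 1 := by rw [hb, ← hDp, hap, hDD _ hv]
  have hcp : c ^ p = 1 := by rw [hc, ← hDp, hbp, map_one]
  have hd1 : D c = 1 := by
    exact hDD b hbp
  have hpow : ∀ n : ℕ, (s ^ n) x = x * a ^ n * b ^ n.choose 2 * c ^ n.choose 3 := by
    intro n
    induction n with
    | zero => simp
    | succ n ih =>
      have e2 : (n + 1).choose 2 = n + n.choose 2 := by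
        rw [Nat.choose_succ_succ' n 1, Nat.choose_one_right]
      have e3 : (n + 1).choose 3 = n.choose 2 + n.choose 3 := Nat.choose_succ_succ' n 2
      have lc : ∀ a b c : H, a * (b * c) = b * (a * c) := fun a b c => by
        rw [← mul_assoc, hab a b, mul_assoc]
      rw [pow_succ' s n, MulAut.mul_apply, ih, map_mul, map_mul, map_mul, map_pow, map_pow, map_pow, hs x, hs a,
        hs b, hs c, hd1, mul_one, ← ha, ← hb, ← hc, (Commute.mul_pow (hab a b)), (Commute.mul_pow (hab b c)),
        e2, e3, pow_add, pow_add, pow_add, pow_one]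
      simp only [mul_assoc, hab, lc]
  have h1 := hpow p
  rw [hσp, MulAut.one_apply] at h1
  have hdvd2 : p ∣ p.choose 2 := hpr.dvd_choose_self (by norm_num) (by omega)
  have hdvd3 : p ∣ p.choose 3 := hpr.dvd_choose_self (by norm_num) (by omega)
  obtain ⟨m2, hm2⟩ := hdvd2
  obtain ⟨m3, hm3⟩ := hdvd3
  rw [hm2, hm3, pow_mul, pow_mul, hbp, hcp, one_pow, one_pow, mul_one, mul_one, left_eq_mul, hap] at h1
  exact hv1 h1

end CfsgLib.Fusion.EssentialFourth
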