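import Cfsg.Agent.Lib.Fusion.System.EssentialFourthAbelian

/-!
# Classification of essential subgroups of order `p⁴`
-/

set_option autoImplicit false
set_option linter.style.haveILetI false

open Subgroup
open scoped commutatorElement

namespace CfsgLib.Fusion.EssentialFourth

variable {H : Type*} [Group H] [Finite H] {p : ℕ} [hp : Fact p.Prime]

theorem center_card_ge (hcard : Nat.card H = p ^ 4) : p ≤ Nat.card (center H) := by
  haveI : Nontrivial H := Finite.one_lt_card_iff_nontrivial.1 (by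
    rw [hcard]; exact Nat.one_lt_pow (by norm_num) hp.out.one_lt)
  haveI := (IsPGroup.of_card hcard).center_nontrivial
  obtain ⟨k, hk⟩ := ((IsPGroup.of_card hcard).to_subgroup (center H)).exists_card_eq
  have h1 := Finite.one_lt_card_iff_nontrivial.2 (inferInstance : Nontrivial (center H))
  rw [hk] at h1 ⊢
  exact Nat.le_self_pow (fun e => by rw [e, pow_zero] at h1; exact lt_irrefl _ h1) p

/-- A group with a quotient of order at most `p` by a central subgroup is commutative. -/
theorem comm_of_small_quotient {K : Type*} [Group K] [Finite K] (hK : IsPGroup p K) (Z : Subgroup K)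
    (hZ : Z ≤ center K) (hle : Nat.card K ≤ p * Nat.card Z) (a b : K) : a * b = b * a := by
  haveI : Z.Normal := ⟨fun n hn g => by rwa [mem_center_iff.1 (hZ hn) g, mul_inv_cancel_right]⟩
  have h1 := Subgroup.card_eq_card_quotient_mul_card_subgroup Z
  rw [h1] at hle
  have h2 : Nat.card (K ⧸ Z) ≤ p := Nat.le_of_mul_le_mul_right hle Nat.card_pos
  obtain ⟨k, hk⟩ := (hK.to_quotient Z).exists_card_eq
  haveI : IsCyclic (K ⧸ Z) := by
    rcases (show k = 0 ∨ 1 ≤ k by omega) with rfl | hk1
    · haveI := (Nat.card_eq_one_iff_unique.1 (by rw [hk, pow_zero])).1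
      infer_instance
    · exact isCyclic_of_prime_card (le_antisymm h2 (by rw [hk]; exact Nat.le_self_pow (by omega) p))
  exact commutative_of_cyclic_center_quotient (QuotientGroup.mk' Z) (by rw [QuotientGroup.ker_mk']; exact hZ) a b

/-- Commutation with an element whose commutators are central has a small image. -/
theorem card_le_centralizer_mul {t : H} (ht : ∀ h : H, ⁅h, t⁆ ∈ center H)
    (hZ : Nat.card (center H) = p) : Nat.card H ≤ p * Nat.card (centralizer ({t} : Set H)) := by
  let f : H →* center H := MonoidHom.mk' (fun h => ⟨⁅h, t⁆, ht h⟩) fun a b => Subtype.ext (by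
    show ⁅a * b, t⁆ = ⁅a, t⁆ * ⁅b, t⁆
    have hc := mem_center_iff.1 (ht b)
    calc ⁅a * b, t⁆ = a * ⁅b, t⁆ * t * a⁻¹ * t⁻¹ := by simp only [commutatorElement_def]; group
      _ = ⁅b, t⁆ * a * t * a⁻¹ * t⁻¹ := by rw [hc a]
      _ = ⁅b, t⁆ * ⁅a, t⁆ := by simp only [commutatorElement_def]; group
      _ = ⁅a, t⁆ * ⁅b, t⁆ := (hc _).symm)
  have hk : f.ker = centralizer ({t} : Set H) := by
    ext h
    rw [MonoidHom.mem_ker, mem_centralizer_singleton_iff]
    refine ⟨fun e => ?_, fun e => Subtype.ext (commutatorElement_eq_one_iff_mul_comm.2 ?_)⟩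
    · have := commutatorElement_eq_one_iff_mul_comm.1 (congrArg Subtype.val e)
      first | exact this | exact this.symm
    · first | exact e | exact e.symm
  have h := f.ker.card_mul_index
  rw [index_ker, hk] at h
  rw [← h, mul_comm]
  exact Nat.mul_le_mul_right _ (hZ ▸ Subgroup.card_le_card_group f.range)

theorem center_ne_prime (hcard : Nat.card H = p ^ 4) (X : Subgroup (MulAut H))
    (hcore : Cfsg.pCore p X = (Cfsg.Inn H).subgroupOf X) (hdvd : p ∣ ((Cfsg.Inn H).subgroupOf X).index) :
    Nat.card (center H) ≠ p := by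
  classical
  intro hZ
  have hpr := hp.out
  have hG : IsPGroup p H := IsPGroup.of_card hcard
  set Z := center H with hZdef
  have hq : Nat.card (H ⧸ Z) = p ^ 3 := by
    have h := Subgroup.card_eq_card_quotient_mul_card_subgroup Z
    rw [hcard, hZ, pow_succ] at h
    exact (Nat.eq_of_mul_eq_mul_right hpr.pos h).symm
  have hchZ : ∀ σ : MulAut H, ∀ z ∈ Z, σ z ∈ Z := fun σ z hz => by
    have h : (Z.map σ.toMonoidHom) = Z := Subgroup.characteristic_iff_map_eq.1 inferInstance σ
    exact h ▸ ⟨z, hz, rfl⟩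
  by_cases hc : ∀ u v : H ⧸ Z, u * v = v * u
  · have hcz : ∀ a t : H, ⁅a, t⁆ ∈ Z := fun a t => by
      rw [← QuotientGroup.eq_one_iff]
      have h := commutatorElement_eq_one_iff_mul_comm.2 (hc (a : H ⧸ Z) t)
      exact h
    obtain ⟨a, b, hab⟩ : ∃ a b : H, a * b ≠ b * a := by
      by_contra hall
      push Not at hall
      have htop : Z = ⊤ := eq_top_iff.2 fun g _ => mem_center_iff.2 fun h => hall h g
      rw [htop, card_top, hcard] at hZ
      exact absurd hZ.symm (ne_of_lt (by
        calc p = p ^ 1 := (pow_one p).symm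
          _ < p ^ 4 := Nat.pow_lt_pow_right hpr.one_lt (by norm_num)))
    set Ca := centralizer ({a} : Set H)
    set Cb := centralizer ({b} : Set H)
    have hA := card_le_centralizer_mul (t := a) (fun h => hcz h a) hZ
    have hB := card_le_centralizer_mul (t := b) (fun h => hcz h b) hZ
    obtain ⟨w, hw, hwZ⟩ : ∃ w ∈ Ca ⊓ Cb, w ∉ Z := SetLike.not_le_iff_exists.1 fun hle => by
      have h1 := Subgroup.card_le_of_le hle
      rw [hZ] at h1
      have h2 : (Ca ⊓ Cb).index ≤ p * p := by
        refine (Subgroup.index_inf_le (H := Ca) (K := Cb)).trans (Nat.mul_le_mul ?_ ?_)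
        · exact Nat.le_of_mul_le_mul_left (by rw [Ca.card_mul_index, mul_comm]; exact hA) Nat.card_pos
        · exact Nat.le_of_mul_le_mul_left (by rw [Cb.card_mul_index, mul_comm]; exact hB) Nat.card_pos
      have h3 := Nat.mul_le_mul h1 h2
      rw [(Ca ⊓ Cb).card_mul_index, hcard, show p * (p * p) = p ^ 3 by ring] at h3
      exact absurd h3 (not_le.2 (Nat.pow_lt_pow_right hpr.one_lt (by norm_num)))
    obtain ⟨hwa, hwb⟩ := mem_inf.1 hw
    rw [mem_centralizer_singleton_iff] at hwa hwb
    set M := centralizer ({w} : Set H)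
    have hMne : M ≠ ⊤ := fun e => hwZ (mem_center_iff.2 fun g => by
      have := mem_centralizer_singleton_iff.1 (e.ge (mem_top g))
      first | exact this | exact this.symm)
    have haM : a ∈ M := mem_centralizer_singleton_iff.2 (by first | exact hwa | exact hwa.symm)
    have hbM : b ∈ M := mem_centralizer_singleton_iff.2 (by first | exact hwb | exact hwb.symm)
    have hZM : Z ≤ M := fun z hz => mem_centralizer_singleton_iff.2 (by
      have := mem_center_iff.1 hz w
      first | exact this | exact this.symm)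
    have hwM : w ∈ M := mem_centralizer_singleton_iff.2 rfl
    have hlt : Z < Z ⊔ zpowers w := lt_of_le_of_ne le_sup_left fun e =>
      hwZ (e.ge ((le_sup_right : zpowers w ≤ Z ⊔ zpowers w) (mem_zpowers w)))
    have hle : (Z ⊔ zpowers w).subgroupOf M ≤ center M := fun m hm => mem_center_iff.2 fun g => Subtype.ext (by
      have hN : Z ⊔ zpowers w ≤ centralizer ({(g : H)} : Set H) := by
        refine sup_le (fun z hz => mem_centralizer_singleton_iff.2 ?_) (zpowers_le.2 (mem_centralizer_singleton_iff.2 ?_))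
        · have := mem_center_iff.1 hz (g : H)
          first | exact this | exact this.symm
        · have := mem_centralizer_singleton_iff.1 g.2
          first | exact this | exact this.symm
      have := mem_centralizer_singleton_iff.1 (hN hm)
      first | exact this | exact this.symm)
    have hZw : Z ⊔ zpowers w ≤ M := sup_le hZM (zpowers_le.2 hwM)
    refine hab (congrArg Subtype.val (comm_of_small_quotient (hG.to_subgroup M) _ hle ?_ ⟨a, haM⟩ ⟨b, hbM⟩))
    rw [Nat.card_congr (Subgroup.subgroupOfEquivOfLe hZw).toEquiv]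
    have h1 := card_mul_le hG hlt
    rw [hZ] at h1
    calc Nat.card M ≤ p ^ 3 := card_le_of_ne_top hcard hMne
      _ = p * (p * p) := by ring
      _ ≤ _ := Nat.mul_le_mul_left p h1
  · push Not at hc
    obtain ⟨u, v, huv⟩ := hc
    obtain ⟨hzc, -, -⟩ := EssentialCube.center_data hq huv
    set Z2 := (center (H ⧸ Z)).comap (QuotientGroup.mk' Z) with hZ2def
    have hZ2mem : ∀ t : H, t ∈ Z2 ↔ ∀ h : H, ⁅h, t⁆ ∈ Z := by
      intro t
      rw [hZ2def, mem_comap, mem_center_iff]
      constructor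
      · intro ht h
        rw [← QuotientGroup.eq_one_iff]
        exact commutatorElement_eq_one_iff_mul_comm.2 (ht (h : H ⧸ Z))
      · intro ht q
        obtain ⟨h, rfl⟩ := QuotientGroup.mk_surjective q
        exact commutatorElement_eq_one_iff_mul_comm.1 ((QuotientGroup.eq_one_iff _).2 (ht h))
    have hZle : Z ≤ Z2 := fun z hz => (hZ2mem z).2 fun h => by
      rw [commutatorElement_eq_one_iff_mul_comm.2 (mem_center_iff.1 hz h)]; exact one_mem _
    have hch2 : ∀ σ : MulAut H, ∀ t ∈ Z2, σ t ∈ Z2 := fun σ t ht => (hZ2mem _).2 fun h => by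
      have h1 := hchZ σ _ ((hZ2mem t).1 ht (σ⁻¹ h))
      rwa [map_commutatorElement, MulAut.apply_inv_self] at h1
    have hZ2card : Nat.card Z2 = p * p := by
      have h := Z2.card_mul_index
      rw [hZ2def, index_comap_of_surjective _ (QuotientGroup.mk'_surjective Z)] at h
      have h2 := (center (H ⧸ Z)).card_mul_index
      rw [hzc, hq] at h2
      rw [← hZ2def, hcard] at h
      have h3 : (center (H ⧸ Z)).index = p * p := Nat.eq_of_mul_eq_mul_left hpr.pos (h2.trans (by ring))
      rw [h3, show p ^ 4 = p * p * (p * p) by ring] at h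
      exact Nat.eq_of_mul_eq_mul_right (Nat.mul_pos hpr.pos hpr.pos) h
    have hne : ¬ Z2 ≤ Z := fun hle => by
      have h1 := Subgroup.card_le_of_le hle
      rw [hZ2card, hZ] at h1
      exact absurd h1 (not_le.2 ((Nat.lt_mul_iff_one_lt_right hpr.pos).2 hpr.one_lt))
    obtain ⟨t, ht, htZ⟩ := SetLike.not_le_iff_exists.1 hne
    have hZ2eq : Z ⊔ zpowers t = Z2 := by
      refine eq_of_le_of_card_ge (sup_le hZle (zpowers_le.2 ht)) ?_
      have h1 := card_mul_le hG (show Z < Z ⊔ zpowers t from lt_of_le_of_ne le_sup_left fun e =>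
        htZ (e.ge ((le_sup_right : zpowers t ≤ Z ⊔ zpowers t) (mem_zpowers t))))
      rw [hZ] at h1
      rw [hZ2card]; exact h1
    set C := centralizer (Z2 : Set H) with hC
    have hCt : centralizer ({t} : Set H) ≤ C := fun g hg => by
      rw [hC, ← hZ2eq, mem_centralizer_iff]
      intro m hm
      have hN : Z ⊔ zpowers t ≤ centralizer ({g} : Set H) := by
        refine sup_le (fun z hz => mem_centralizer_singleton_iff.2 ?_) (zpowers_le.2 (mem_centralizer_singleton_iff.2 ?_))
        · have := mem_center_iff.1 hz g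
          first | exact this | exact this.symm
        · have := mem_centralizer_singleton_iff.1 hg
          first | exact this | exact this.symm
      have := mem_centralizer_singleton_iff.1 (hN hm)
      first | exact this | exact this.symm
    have hCne : C ≠ ⊤ := fun e => htZ (mem_center_iff.2 fun g =>
      ((mem_centralizer_iff.1 (e.ge (mem_top g))) t ht).symm)
    have hCsmall := card_le_of_ne_top hcard hCne
    have hCbig : p ^ 4 ≤ p * Nat.card C := hcard ▸ (card_le_centralizer_mul ((hZ2mem t).1 ht) hZ).trans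
      (Nat.mul_le_mul_left p (Subgroup.card_le_of_le hCt))
    have hZ2C : Z2 ≤ C := fun g hg => by
      rw [hC, ← hZ2eq, mem_centralizer_iff]
      intro m hm
      rw [← hZ2eq] at hg
      have hN : Z ⊔ zpowers t ≤ centralizer ((Z ⊔ zpowers t : Subgroup H) : Set H) := by
        have hZc : Z ≤ centralizer ((Z ⊔ zpowers t : Subgroup H) : Set H) :=
          fun z hz => mem_centralizer_iff.2 fun m _ => mem_center_iff.1 hz m
        refine sup_le hZc (zpowers_le.2 (mem_centralizer_iff.2 fun m hm => ?_))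
        have hN2 : Z ⊔ zpowers t ≤ centralizer ({t} : Set H) := by
          refine sup_le (fun z hz => mem_centralizer_singleton_iff.2 ?_) (zpowers_le.2 (mem_centralizer_singleton_iff.2 rfl))
          have := mem_center_iff.1 hz t
          first | exact this | exact this.symm
        have := mem_centralizer_singleton_iff.1 (hN2 hm)
        first | exact this | exact this.symm
      exact mem_centralizer_iff.1 (hN hg) m hm
    refine no_chain5 hcard X hcore hdvd C Z2 Z ?_ hch2 hchZ hZ2C hZle hCbig ?_ ?_ hZ.le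
    · intro σ g hg
      refine mem_centralizer_iff.2 fun m hm => σ⁻¹.injective ?_
      rw [map_mul, map_mul, MulAut.inv_apply_self]
      exact mem_centralizer_iff.1 hg _ (hch2 σ⁻¹ m hm)
    · rw [hZ2card, show p * (p * p) = p ^ 3 by ring]; exact hCsmall
    · rw [hZ2card, hZ]

set_option maxHeartbeats 1000000 in
/-- The shapes of essential subgroups of order `p⁴`, read on the automizer. -/
theorem classify {H : Type*} [Group H] [Finite H] {p : ℕ} [hp : Fact p.Prime] (hcard : Nat.card H = p ^ 4)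
    (X : Subgroup (MulAut H)) (hcore : Cfsg.pCore p X = (Cfsg.Inn H).subgroupOf X)
    (hdvd : p ∣ ((Cfsg.Inn H).subgroupOf X).index) :
    ((∀ a b : H, a * b = b * a) ∧ ∀ y : H, y ^ p = 1) ∨
    Nonempty (H ≃* Multiplicative (ZMod (p ^ 2) × ZMod p × ZMod p)) ∨
    ((p = 2 ∨ p = 3) ∧ Nonempty (H ≃* Multiplicative (ZMod (p ^ 2) × ZMod (p ^ 2)))) ∨
    (Odd p ∧ ∃ (E : Type) (_ : Group E) (_ : Finite E), Cfsg.IsExtraspecial p E ∧ Nat.card E = p ^ 3 ∧
      (∀ x : E, x ^ p = 1) ∧ Nonempty (H ≃* E × Multiplicative (ZMod p))) ∨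
    (p = 2 ∧ Nonempty (H ≃* QuaternionGroup 2 × Multiplicative (ZMod 2))) ∨
    (¬ IsMulCommutative H ∧ (∀ x : H, x ^ (p ^ 2) = 1) ∧ IsCyclic (center H) ∧
      Nat.card (center H) = p ^ 2) := by
  classical
  have hpr := hp.out
  have hG : IsPGroup p H := IsPGroup.of_card hcard
  by_cases hab : ∀ a b : H, a * b = b * a
  · have hexp := pow_sq_eq_one hcard X hcore hdvd fun a b => by
      rw [commutatorElement_eq_one_iff_mul_comm.2 (hab a b)]
      exact ⟨one_mem _, one_pow p⟩
    rcases abelian_shapes hcard hab hexp with h | h | ⟨h, hom⟩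
    · exact Or.inl ⟨hab, h⟩
    · exact Or.inr (Or.inl h)
    · exact Or.inr (Or.inr (Or.inl ⟨homocyclic_prime hcard hab hexp X hcore hdvd hom, h⟩))
  right; right; right
  push Not at hab
  obtain ⟨a, b, hab⟩ := hab
  set Z := center H with hZdef
  have hZcard : Nat.card Z = p ^ 2 := by
    obtain ⟨k, hk⟩ := (hG.to_subgroup Z).exists_card_eq
    have h1 := center_card_ge hcard
    have h2 := center_ne_prime hcard X hcore hdvd
    rw [← hZdef, hk] at h1 h2
    have hk0 : k ≠ 0 := fun e => by rw [e, pow_zero] at h1; exact absurd hpr.one_lt (not_lt.2 h1)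
    have hk1 : k ≠ 1 := fun e => h2 (by rw [e, pow_one])
    have hk3 : k ≤ 2 := by
      by_contra hlt
      refine hab (comm_of_small_quotient hG Z le_rfl ?_ a b)
      rw [hcard, hk, ← pow_succ']
      exact Nat.pow_le_pow_right hpr.pos (by omega)
    rw [hk]; congr 1; omega
  have hq : Nat.card (H ⧸ Z) = p ^ 2 := by
    have h := Subgroup.card_eq_card_quotient_mul_card_subgroup Z
    rw [hcard, hZcard, show p ^ 4 = p ^ 2 * p ^ 2 by ring] at h
    exact (Nat.eq_of_mul_eq_mul_right (pow_pos hpr.pos 2) h).symm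
  have hqc : ∀ u v : H ⧸ Z, u * v = v * u := by
    haveI := IsPGroup.isMulCommutative_of_card_eq_prime_sq hq
    exact fun u v => IsMulCommutative.is_comm.comm u v
  have hqp : ∀ g : H, g ^ p ∈ Z := fun g => by
    rw [← QuotientGroup.eq_one_iff, QuotientGroup.mk_pow]
    by_contra hne
    have hd : orderOf (g : H ⧸ Z) ∣ p ^ 2 := hq ▸ orderOf_dvd_natCard _
    obtain ⟨i, hi, hie⟩ := (Nat.dvd_prime_pow hpr).1 hd
    have hi2 : i = 2 := by
      by_contra h
      refine hne (orderOf_dvd_iff_pow_eq_one.1 ?_)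
      rw [hie]; exact (pow_dvd_pow p (show i ≤ 1 by omega)).trans (pow_one p).dvd
    haveI : IsCyclic (H ⧸ Z) := isCyclic_of_orderOf_eq_card _ (by rw [hie, hi2, hq])
    exact hab (commutative_of_cyclic_center_quotient (QuotientGroup.mk' Z) (QuotientGroup.ker_mk' Z).le a b)
  have hcz : ∀ u v : H, ⁅u, v⁆ ∈ Z := fun u v => by
    rw [← QuotientGroup.eq_one_iff]
    exact commutatorElement_eq_one_iff_mul_comm.2 (hqc (u : H ⧸ Z) v)
  have hcm : ∀ u v : H, ∀ g : H, g * ⁅u, v⁆ = ⁅u, v⁆ * g := fun u v g => mem_center_iff.1 (hcz u v) g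
  have hbil : ∀ u v w : H, ⁅u, v * w⁆ = ⁅u, v⁆ * ⁅u, w⁆ := fun u v w => by
    calc ⁅u, v * w⁆ = ⁅u, v⁆ * (v * ⁅u, w⁆) * v⁻¹ := by simp only [commutatorElement_def]; group
      _ = ⁅u, v⁆ * ⁅u, w⁆ := by rw [hcm u w v]; group
  have hcp : ∀ u v : H, ⁅u, v⁆ ^ p = 1 := fun u v => by
    let f : H →* H := MonoidHom.mk' (fun w => ⁅u, w⁆) (hbil u)
    show (f v) ^ p = 1
    rw [← map_pow]
    exact commutatorElement_eq_one_iff_mul_comm.2 (mem_center_iff.1 (hqp v) u)
  have hexp := pow_sq_eq_one hcard X hcore hdvd fun u v => ⟨hcz u v, hcp u v⟩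
  by_cases hcyc : IsCyclic Z
  · exact Or.inr (Or.inr ⟨fun h => hab (h.is_comm.comm a b), hexp, hcyc, hZcard⟩)
  have hzp : ∀ z ∈ Z, z ^ p = 1 := fun z hz => by
    by_contra hne
    refine hcyc (isCyclic_of_orderOf_eq_card (⟨z, hz⟩ : Z) ?_)
    rw [← Subgroup.orderOf_coe, hZcard]
    exact orderOf_eq_prime_pow (by rwa [pow_one]) (hexp z)
  -- generation by `a`, `b` and the centre
  have hA : Z < Z ⊔ zpowers a := lt_of_le_of_ne le_sup_left fun e =>
    hab (mem_center_iff.1 (e.ge ((le_sup_right : zpowers a ≤ Z ⊔ zpowers a) (mem_zpowers a))) b).symm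
  have hAc : Z ⊔ zpowers a ≤ centralizer ({a} : Set H) := by
    refine sup_le (fun z hz => mem_centralizer_singleton_iff.2 ?_) (zpowers_le.2 (mem_centralizer_singleton_iff.2 rfl))
    have := mem_center_iff.1 hz a
    first | exact this | exact this.symm
  have hB : Z ⊔ zpowers a < Z ⊔ zpowers a ⊔ zpowers b := lt_of_le_of_ne le_sup_left fun e => hab (by
    have := mem_centralizer_singleton_iff.1 (hAc (e.ge
      ((le_sup_right : zpowers b ≤ Z ⊔ zpowers a ⊔ zpowers b) (mem_zpowers b))))
    first | exact this | exact this.symm)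
  have hA3 : p ^ 3 ≤ Nat.card (Z ⊔ zpowers a : Subgroup H) := by
    have h := card_mul_le hG hA
    rwa [hZcard, ← pow_succ'] at h
  have hgen : ∀ G' : Subgroup H, Z ≤ G' → a ∈ G' → b ∈ G' → G' = ⊤ := fun G' h1 h2 h3 => top_le_iff.1 <|
    (eq_top_of_lt hcard hB hA3).ge.trans (sup_le (sup_le h1 (zpowers_le.2 h2)) (zpowers_le.2 h3))
  set c := ⁅a, b⁆ with hcdef
  have hc1 : c ≠ 1 := fun e => hab (commutatorElement_eq_one_iff_mul_comm.1 e)
  set K := zpowers c with hKdef
  have hKcard : Nat.card K = p := by rw [hKdef, Nat.card_zpowers]; exact orderOf_eq_prime (hcp a b) hc1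
  have hKZ : K ≤ Z := zpowers_le.2 (hcz a b)
  have hone : ∀ u v : H, ⁅u, v⁆ ∈ K ↔ ⁅v, u⁆ ∈ K := fun u v => by
    rw [← commutatorElement_inv u v, inv_mem_iff]
  have hKall : ∀ u v : H, ⁅u, v⁆ ∈ K := by
    have hone' : ∀ u : H, ⁅u, a⁆ ∈ K → ⁅u, b⁆ ∈ K → ∀ v, ⁅u, v⁆ ∈ K := fun u h1 h2 v => by
      let f : H →* H := MonoidHom.mk' (fun w => ⁅u, w⁆) (hbil u)
      have h : K.comap f = ⊤ := hgen _ (fun z hz => by
        show ⁅u, z⁆ ∈ K
        rw [commutatorElement_eq_one_iff_mul_comm.2 (mem_center_iff.1 hz u)]; exact one_mem _) h1 h2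
      exact h.ge (mem_top v)
    have haa : ∀ u : H, ⁅u, u⁆ ∈ K := fun u => by
      rw [commutatorElement_eq_one_iff_mul_comm.2 rfl]; exact one_mem _
    have ha' := hone' a (haa a) (mem_zpowers c)
    have hb' := hone' b ((hone a b).1 (mem_zpowers c)) (haa b)
    exact fun u => hone' u ((hone a u).1 (ha' u)) ((hone b u).1 (hb' u))
  have hKch : ∀ σ : MulAut H, ∀ x ∈ K, σ x ∈ K := fun σ x hx => by
    obtain ⟨i, rfl⟩ := mem_zpowers_iff.1 hx
    rw [map_zpow, hcdef, map_commutatorElement]
    exact zpow_mem (hKall _ _) i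
  have hZch : ∀ σ : MulAut H, ∀ z ∈ Z, σ z ∈ Z := fun σ z hz => by
    have h : (Z.map σ.toMonoidHom) = Z := Subgroup.characteristic_iff_map_eq.1 inferInstance σ
    exact h ▸ ⟨z, hz, rfl⟩
  have hmulp : ∀ u v : H, (u * v) ^ p = u ^ p * ⁅u⁻¹, v⁆ ^ p.choose 2 * v ^ p := fun u v =>
    mul_pow_choose (by rw [commutatorElement_def]; group) ((hcm _ _ u).symm) ((hcm _ _ v).symm) p
  let M : Subgroup H :=
    { carrier := {x | x ^ p ∈ K}
      one_mem' := by rw [Set.mem_setOf_eq, one_pow]; exact one_mem _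
      mul_mem' := fun {u v} hu hv => by
        rw [Set.mem_setOf_eq, hmulp]; exact mul_mem (mul_mem hu (pow_mem (hKall _ _) _)) hv
      inv_mem' := fun {u} hu => by rw [Set.mem_setOf_eq, inv_pow]; exact inv_mem hu }
  by_cases hb0 : ∃ x : H, x ^ p ∉ K
  · exfalso
    obtain ⟨x, hx⟩ := hb0
    have hMch : ∀ σ : MulAut H, ∀ y ∈ M, σ y ∈ M := fun σ y hy => by
      show (σ y) ^ p ∈ K
      rw [← map_pow]; exact hKch σ _ hy
    have hZM : Z ≤ M := fun z hz => by show z ^ p ∈ K; rw [hzp z hz]; exact one_mem _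
    have hMne : M ≠ ⊤ := fun e => hx (e.ge (mem_top x) : x ∈ M)
    haveI : M.Normal := ⟨fun y hy g => hMch (MulAut.conj g) y hy⟩
    haveI : K.Normal := ⟨fun y hy g => hKch (MulAut.conj g) y hy⟩
    have hZeq : K ⊔ zpowers (x ^ p) = Z := by
      refine eq_of_le_of_card_ge (sup_le hKZ (zpowers_le.2 (hqp x))) ?_
      have h1 := card_mul_le hG (show K < K ⊔ zpowers (x ^ p) from lt_of_le_of_ne le_sup_left fun e =>
        hx (e.ge ((le_sup_right : zpowers (x ^ p) ≤ K ⊔ zpowers (x ^ p)) (mem_zpowers _))))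
      rwa [hKcard, ← sq, ← hZcard] at h1
    have hMx : ∀ g : H, ∃ i : ℤ, ((x : H ⧸ M) ^ i) = (g : H ⧸ M) := fun g => by
      have h1 : g ^ p ∈ K ⊔ zpowers (x ^ p) := hZeq.ge (hqp g)
      rw [← SetLike.mem_coe, Subgroup.normal_mul, Set.mem_mul] at h1
      obtain ⟨k, hk, w, hw, hkw⟩ := h1
      obtain ⟨i, rfl⟩ := mem_zpowers_iff.1 hw
      refine ⟨i, ?_⟩
      rw [← QuotientGroup.mk_zpow]
      refine (QuotientGroup.eq.2 ?_)
      show ((x ^ i)⁻¹ * g) ^ p ∈ K
      rw [hmulp, ← hkw, inv_pow, ← zpow_natCast (x ^ i), ← zpow_mul, mul_comm i, zpow_mul, zpow_natCast]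
      have hcomm : Commute k ((x ^ p) ^ i) := (mem_center_iff.1 (hKZ hk) _).symm
      rw [hcomm.eq, ← mul_assoc, mul_assoc _ (⁅((x ^ i)⁻¹)⁻¹, g⁆ ^ p.choose 2) ((x ^ p) ^ i),
        ← (Commute.pow_right (hcm ((x ^ i)⁻¹)⁻¹ g ((x ^ p) ^ i)) (p.choose 2)).eq, ← mul_assoc, inv_mul_cancel, one_mul]
      exact mul_mem (pow_mem (hKall _ _) _) hk
    have hMbig : p ^ 4 ≤ p * Nat.card M := by
      rw [← hcard, Subgroup.card_eq_card_quotient_mul_card_subgroup M]
      refine Nat.mul_le_mul_right _ ?_
      have hxp : (x : H ⧸ M) ^ p = 1 := by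
        rw [← QuotientGroup.mk_pow, QuotientGroup.eq_one_iff]
        show (x ^ p) ^ p ∈ K
        rw [← pow_mul, ← sq, hexp]; exact one_mem _
      have htop : zpowers (x : H ⧸ M) = ⊤ := eq_top_iff.2 fun q _ => by
        obtain ⟨g, rfl⟩ := QuotientGroup.mk_surjective q
        exact mem_zpowers_iff.2 (hMx g)
      rw [← card_top (G := H ⧸ M), ← htop, Nat.card_zpowers]
      exact Nat.le_of_dvd hpr.pos (orderOf_dvd_of_pow_eq_one hxp)
    refine no_chain5 hcard X hcore hdvd M Z K hMch hZch hKch hZM hKZ hMbig ?_ ?_ hKcard.le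
    · rw [hZcard, ← pow_succ']; exact card_le_of_ne_top hcard hMne
    · rw [hZcard, hKcard, ← sq]
  push Not at hb0
  -- all `p`th powers lie in the derived subgroup
  obtain ⟨z, hz, hzK⟩ : ∃ z ∈ Z, z ∉ K := SetLike.not_le_iff_exists.1 fun hle => by
    have h1 := Subgroup.card_le_of_le hle
    rw [hZcard, hKcard] at h1
    exact absurd h1 (not_le.2 (lt_self_pow₀ hpr.one_lt (by norm_num)))
  -- a complement through `a'` and `b'`
  have split : ∀ a' b' : H, ⁅a', b'⁆ ≠ 1 → a' ^ p ∈ K → b' ^ p ∈ K →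
      ∃ Q : Subgroup H, Nat.card Q = p ^ 3 ∧ a' ∈ Q ∧ b' ∈ Q ∧
        (∀ q ∈ Q, q ∈ Z → q ∈ K) ∧ Nonempty (H ≃* Q × Multiplicative (ZMod p)) := by
    intro a' b' hne ha' hb'
    have hbn : ∀ i j : ℕ, ∀ g h : H, ⁅g ^ i, h ^ j⁆ ∈ K := fun i j g h => hKall _ _
    let Q : Subgroup H :=
      { carrier := {q | ∃ i j : ℕ, ∃ k ∈ K, q = a' ^ i * b' ^ j * k}
        one_mem' := ⟨0, 0, 1, one_mem _, by simp⟩
        mul_mem' := by
          rintro _ _ ⟨i, j, k, hk, rfl⟩ ⟨i', j', k', hk', rfl⟩
          refine ⟨i + i', j + j', ⁅b' ^ j, a' ^ i'⁆ * k * k', mul_mem (mul_mem (hbn _ _ _ _) hk) hk', ?_⟩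
          have hkc := mem_center_iff.1 (hKZ hk)
          calc a' ^ i * b' ^ j * k * (a' ^ i' * b' ^ j' * k')
              = a' ^ i * b' ^ j * ((a' ^ i' * b' ^ j') * k) * k' := by
                rw [hkc (a' ^ i' * b' ^ j')]; simp only [mul_assoc]
            _ = a' ^ i * (⁅b' ^ j, a' ^ i'⁆ * a' ^ i') * b' ^ j * b' ^ j' * k * k' := by
                simp only [commutatorElement_def]; group
            _ = a' ^ i * a' ^ i' * (b' ^ j * b' ^ j' * ⁅b' ^ j, a' ^ i'⁆) * k * k' := by
                rw [← hcm _ _ (a' ^ i'), hcm _ _ (b' ^ j * b' ^ j')]; simp only [mul_assoc]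
            _ = a' ^ (i + i') * b' ^ (j + j') * (⁅b' ^ j, a' ^ i'⁆ * k * k') := by
                rw [pow_add, pow_add]; simp only [mul_assoc]
        inv_mem' := by
          rintro _ ⟨i, j, k, hk, rfl⟩
          have hpow : ∀ n : ℕ, ∃ i' j' : ℕ, ∃ k' ∈ K, (a' ^ i * b' ^ j * k) ^ n = a' ^ i' * b' ^ j' * k' := by
            intro n
            induction n with
            | zero => exact ⟨0, 0, 1, one_mem _, by simp⟩
            | succ n ih =>
              obtain ⟨i', j', k', hk', e⟩ := ih
              refine ⟨i' + i, j' + j, ⁅b' ^ j', a' ^ i⁆ * k' * k, mul_mem (mul_mem (hbn _ _ _ _) hk') hk, ?_⟩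
              rw [pow_succ, e]
              have hkc := mem_center_iff.1 (hKZ hk')
              calc a' ^ i' * b' ^ j' * k' * (a' ^ i * b' ^ j * k)
                  = a' ^ i' * b' ^ j' * ((a' ^ i * b' ^ j) * k') * k := by
                    rw [hkc (a' ^ i * b' ^ j)]; simp only [mul_assoc]
                _ = a' ^ i' * (⁅b' ^ j', a' ^ i⁆ * a' ^ i) * b' ^ j' * b' ^ j * k' * k := by
                    simp only [commutatorElement_def]; group
                _ = a' ^ i' * a' ^ i * (b' ^ j' * b' ^ j * ⁅b' ^ j', a' ^ i⁆) * k' * k := by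
                    rw [← hcm _ _ (a' ^ i), hcm _ _ (b' ^ j' * b' ^ j)]; simp only [mul_assoc]
                _ = a' ^ (i' + i) * b' ^ (j' + j) * (⁅b' ^ j', a' ^ i⁆ * k' * k) := by
                    rw [pow_add, pow_add]; simp only [mul_assoc]
          rw [Set.mem_setOf_eq, inv_eq_of_mul_eq_one_right (show (a' ^ i * b' ^ j * k) *
            (a' ^ i * b' ^ j * k) ^ (p ^ 4 - 1) = 1 by
              rw [← pow_succ', Nat.sub_add_cancel (Nat.one_le_pow _ _ hpr.pos), ← hcard, pow_card_eq_one'])]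
          exact hpow _ }
    have hQa : a' ∈ Q := ⟨1, 0, 1, one_mem _, by simp⟩
    have hQb : b' ∈ Q := ⟨0, 1, 1, one_mem _, by simp⟩
    have hKQ : K ≤ Q := fun k hk => ⟨0, 0, k, hk, by simp⟩
    have hQZ : ∀ q ∈ Q, q ∈ Z → q ∈ K := by
      rintro q ⟨i, j, k, hk, e⟩ hz
      -- bracketing with `a'` and `b'` shows that `p` divides both exponents
      let fa : H →* H := MonoidHom.mk' (fun w => ⁅a', w⁆) (hbil a')
      let fb : H →* H := MonoidHom.mk' (fun w => ⁅b', w⁆) (hbil b')
      have hfix : ∀ u : H, ⁅u, q⁆ = 1 := fun u => commutatorElement_eq_one_iff_mul_comm.2 (mem_center_iff.1 hz u)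
      have hkk : ∀ u : H, ⁅u, k⁆ = 1 := fun u =>
        commutatorElement_eq_one_iff_mul_comm.2 (mem_center_iff.1 (hKZ hk) u)
      have hself : ∀ u : H, ⁅u, u⁆ = 1 := fun u => commutatorElement_eq_one_iff_mul_comm.2 rfl
      have hj : ⁅a', b'⁆ ^ j = 1 := by
        have h := hfix a'
        rw [e] at h
        change fa _ = 1 at h
        rw [map_mul, map_mul, map_pow, map_pow] at h
        change ⁅a', a'⁆ ^ i * ⁅a', b'⁆ ^ j * ⁅a', k⁆ = 1 at h
        rwa [hself, hkk, one_pow, one_mul, mul_one] at h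
      have hi : ⁅b', a'⁆ ^ i = 1 := by
        have h := hfix b'
        rw [e] at h
        change fb _ = 1 at h
        rw [map_mul, map_mul, map_pow, map_pow] at h
        change ⁅b', a'⁆ ^ i * ⁅b', b'⁆ ^ j * ⁅b', k⁆ = 1 at h
        rwa [hself, hkk, one_pow, mul_one, mul_one] at h
      rw [← orderOf_dvd_iff_pow_eq_one, orderOf_eq_prime (hcp a' b') hne] at hj
      rw [← orderOf_dvd_iff_pow_eq_one, orderOf_eq_prime (hcp b' a') (fun e1 => hne (by
        rw [← commutatorElement_inv, e1, inv_one]))] at hi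
      obtain ⟨i', rfl⟩ := hi
      obtain ⟨j', rfl⟩ := hj
      rw [e, pow_mul, pow_mul]
      exact mul_mem (mul_mem (pow_mem ha' _) (pow_mem hb' _)) hk
    have hzQ : z ∉ Q := fun h => hzK (hQZ z h hz)
    set W := zpowers z with hWdef
    have hWcard : Nat.card W = p := by
      rw [hWdef, Nat.card_zpowers]
      exact orderOf_eq_prime (hzp z hz) fun e => hzK (e ▸ one_mem K)
    have hcommQW : ∀ (q : Q) (w : W), Commute (q : H) (w : H) := fun q w =>
      mem_center_iff.1 ((zpowers_le.2 hz : W ≤ Z) w.2) q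
    let f := MonoidHom.noncommCoprod Q.subtype W.subtype hcommQW
    have hdisj : ∀ w ∈ W, w ∈ Q → w = 1 := fun w hw hwQ => by
      obtain ⟨i, rfl⟩ := mem_zpowers_iff.1 hw
      exact CfsgLib.GenExtraspecial.zpow_eq_one_of_mem (hzp z hz) hzQ hwQ
    have hinj : Function.Injective f := by
      refine (injective_iff_map_eq_one f).2 ?_
      rintro ⟨q, w⟩ h
      change (q : H) * (w : H) = 1 at h
      have hw1 : (w : H) = 1 := hdisj w w.2 (by rw [eq_inv_of_mul_eq_one_right h]; exact inv_mem q.2)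
      rw [hw1, mul_one] at h
      exact Prod.ext (Subtype.ext h) (Subtype.ext hw1)
    have hsurj : Function.Surjective f := by
      refine MonoidHom.range_eq_top.1 ?_
      have hZf : Z ≤ f.range := by
        have hlt : K < K ⊔ W := lt_of_le_of_ne le_sup_left fun e =>
          hzK (e.ge ((le_sup_right : W ≤ K ⊔ W) (mem_zpowers z)))
        have hle : K ⊔ W ≤ Z := sup_le hKZ (zpowers_le.2 hz)
        have h1 := card_mul_le hG hlt
        rw [hKcard, ← sq, ← hZcard] at h1
        rw [← eq_of_le_of_card_ge hle h1]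
        refine sup_le (fun k hk => ⟨(⟨k, hKQ hk⟩, 1), mul_one k⟩) (fun w hw => ⟨(1, ⟨w, hw⟩), one_mul w⟩)
      have ha : a' ∈ f.range := ⟨(⟨a', hQa⟩, 1), mul_one a'⟩
      have hb : b' ∈ f.range := ⟨(⟨b', hQb⟩, 1), mul_one b'⟩
      have hlta : Z < Z ⊔ zpowers a' := lt_of_le_of_ne le_sup_left fun e => hne (by
        have hmem : a' ∈ Z := e.ge ((le_sup_right : zpowers a' ≤ Z ⊔ zpowers a') (mem_zpowers a'))
        exact commutatorElement_eq_one_iff_mul_comm.2 (mem_center_iff.1 hmem b').symm)
      have hcent : Z ⊔ zpowers a' ≤ centralizer ({a'} : Set H) := by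
        refine sup_le (fun z hz => mem_centralizer_singleton_iff.2 ?_)
          (zpowers_le.2 (mem_centralizer_singleton_iff.2 rfl))
        have := mem_center_iff.1 hz a'
        first | exact this | exact this.symm
      have hlt : Z ⊔ zpowers a' < f.range := lt_of_le_of_ne (sup_le hZf (zpowers_le.2 ha)) fun e => hne (by
        have := mem_centralizer_singleton_iff.1 (hcent (e.ge hb))
        refine commutatorElement_eq_one_iff_mul_comm.2 ?_
        first | exact this | exact this.symm)
      refine eq_top_of_lt hcard hlt ?_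
      have h := card_mul_le hG hlta
      rwa [hZcard, ← pow_succ'] at h
    have hb : Function.Bijective f := ⟨hinj, hsurj⟩
    refine ⟨Q, ?_, hQa, hQb, hQZ, ⟨(MulEquiv.ofBijective f hb).symm.trans
      ((MulEquiv.refl Q).prodCongr (mulEquivOfPrimeCardEq hWcard (Nat.card_zmod p)))⟩⟩
    have h := Nat.card_congr (Equiv.ofBijective f hb)
    rw [Nat.card_prod, hWcard, hcard, pow_succ] at h
    exact Nat.eq_of_mul_eq_mul_right hpr.pos h
  rcases hpr.eq_two_or_odd' with rfl | hodd
  · refine Or.inr (Or.inl ⟨rfl, ?_⟩)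
    have hctwo : ∀ m : ℤ, c ^ (2 * m) = 1 := fun m => by
      rw [zpow_mul, zpow_two, ← sq, hcp a b, one_zpow]
    have hKval : ∀ k ∈ K, k = 1 ∨ k = c := fun k hk => by
      obtain ⟨i, rfl⟩ := mem_zpowers_iff.1 hk
      rcases Int.emod_two_eq_zero_or_one i with h | h
      · left; obtain ⟨m, rfl⟩ := Int.dvd_of_emod_eq_zero h; exact hctwo m
      · right
        obtain ⟨m, hm⟩ : (2 : ℤ) ∣ i - 1 := by omega
        rw [show i = 2 * m + 1 by omega, zpow_add, zpow_one, hctwo m, one_mul]
    have hKc : ∀ k ∈ K, k ≠ 1 → k = c := fun k hk h1 => (hKval k hk).resolve_left h1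
    have hsq : ∀ u v : H, (u * v) ^ 2 = u ^ 2 * ⁅u⁻¹, v⁆ * v ^ 2 := fun u v => by
      rw [hmulp u v, Nat.choose_self, pow_one]
    -- no element of order two outside the centre
    have hnone : ∀ t : H, t ∉ Z → t ^ 2 ≠ 1 := by
      intro t ht ht2
      obtain ⟨r, hr⟩ : ∃ r : H, r ^ 2 ≠ 1 := by
        by_contra hcon
        push Not at hcon
        have hi : ∀ y : H, y⁻¹ = y := fun y => inv_eq_of_mul_eq_one_right (by rw [← sq, hcon])
        exact hab (by rw [← hi (a * b), mul_inv_rev, hi, hi])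
      have hrZ : r ∉ Z := fun h => hr (hzp r h)
      set M0 := Z ⊔ zpowers r with hM0
      set M1 := Z ⊔ Subgroup.closure {y : H | y ^ 2 ≠ 1} with hM1
      have hM0card : 2 ^ 3 ≤ Nat.card M0 := by
        have h := card_mul_le hG (show Z < M0 from lt_of_le_of_ne le_sup_left fun e =>
          hrZ (e.ge ((le_sup_right : zpowers r ≤ M0) (mem_zpowers r))))
        rwa [hZcard, ← pow_succ'] at h
      have hin : ∀ y ∈ M0, y ∉ Z → y ^ 2 ≠ 1 := by
        intro y hy hyZ
        rw [hM0, ← SetLike.mem_coe, Subgroup.normal_mul, Set.mem_mul] at hy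
        obtain ⟨w, hw, u, hu, rfl⟩ := hy
        obtain ⟨i, rfl⟩ := mem_zpowers_iff.1 hu
        rw [(show Commute w (r ^ i) from (mem_center_iff.1 hw _).symm).mul_pow, hzp w hw, one_mul]
        rcases Int.emod_two_eq_zero_or_one i with h | h
        · refine absurd (mul_mem hw ?_) hyZ
          obtain ⟨m, rfl⟩ := Int.dvd_of_emod_eq_zero h
          rw [zpow_mul, zpow_two, ← sq]; exact zpow_mem (hqp r) m
        · obtain ⟨m, hm⟩ : (2 : ℤ) ∣ i - 1 := by omega
          rw [show i = 2 * m + 1 by omega, zpow_add, zpow_one, (Commute.zpow_self r (2 * m)).mul_pow]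
          intro h1
          refine hr ?_
          have h2 : (r ^ (2 * m)) ^ 2 = 1 := by
            rw [zpow_mul, zpow_two, ← sq]; exact hzp _ (zpow_mem (hqp r) m)
          rwa [h2, one_mul] at h1
      have htM : t ∉ M0 := fun h => hin t h ht ht2
      have hM0ne : M0 ≠ ⊤ := fun e => htM (e.ge (mem_top t))
      have hrt : ⁅r, t⁆ ≠ 1 := fun e => hrZ <| mem_center_iff.2 fun g => by
        have hlt : M0 < M0 ⊔ zpowers t := lt_of_le_of_ne le_sup_left fun e' =>
          htM (e'.ge ((le_sup_right : zpowers t ≤ M0 ⊔ zpowers t) (mem_zpowers t)))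
        have hle : M0 ⊔ zpowers t ≤ centralizer ({r} : Set H) := by
          refine sup_le (sup_le (fun z hz => mem_centralizer_singleton_iff.2 ?_)
            (zpowers_le.2 (mem_centralizer_singleton_iff.2 rfl))) (zpowers_le.2 (mem_centralizer_singleton_iff.2 ?_))
          · have := mem_center_iff.1 hz r
            first | exact this | exact this.symm
          · have := commutatorElement_eq_one_iff_mul_comm.1 e
            first | exact this | exact this.symm
        have := mem_centralizer_singleton_iff.1 (hle ((eq_top_of_lt hcard hlt hM0card).ge (mem_top g)))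
        first | exact this | exact this.symm
      have hr2 : r ^ 2 = c := hKc _ (hb0 r) hr
      have hout : ∀ y : H, y ∉ M0 → y ^ 2 = 1 := by
        intro y hy
        have hidx : M0.index = 2 := by
          have h1 := M0.card_mul_index
          have h2 := card_le_of_ne_top hcard hM0ne
          rw [le_antisymm h2 hM0card, hcard] at h1
          omega
        have hyt : y * t ∈ M0 := by
          rw [Subgroup.mul_mem_iff_of_index_two hidx]; exact iff_of_false hy htM
        set m := y * t with hm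
        have hy' : y = m * t := by
          rw [hm, mul_assoc, ← sq, ht2, mul_one]
        rw [hy', hsq, ht2, mul_one]
        by_cases hmZ : m ∈ Z
        · rw [hzp m hmZ, one_mul, commutatorElement_eq_one_iff_mul_comm.2]
          exact (mem_center_iff.1 (inv_mem hmZ) t).symm
        · have hm2 : m ^ 2 = c := hKc _ (hb0 m) (hin m hyt hmZ)
          have hmt : ⁅m⁻¹, t⁆ ≠ 1 := fun e => hrt (by
            have hlt' : Z < Z ⊔ zpowers m := lt_of_le_of_ne le_sup_left fun e' =>
              hmZ (e'.ge ((le_sup_right : zpowers m ≤ Z ⊔ zpowers m) (mem_zpowers m)))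
            have hle' : Z ⊔ zpowers m ≤ centralizer ({t} : Set H) := by
              refine sup_le (fun z hz => mem_centralizer_singleton_iff.2 ?_) (zpowers_le.2 ?_)
              · have := mem_center_iff.1 hz t
                first | exact this | exact this.symm
              · rw [← inv_mem_iff, mem_centralizer_singleton_iff]
                have := commutatorElement_eq_one_iff_mul_comm.1 e
                first | exact this | exact this.symm
            have hMm : Z ⊔ zpowers m = M0 := eq_of_le_of_card_ge (sup_le le_sup_left (zpowers_le.2 hyt)) (by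
              refine (card_le_of_ne_top hcard hM0ne).trans ?_
              have h := card_mul_le hG hlt'
              rwa [hZcard, ← pow_succ'] at h)
            have := mem_centralizer_singleton_iff.1 (hle' (hMm.ge
              ((le_sup_right : zpowers r ≤ M0) (mem_zpowers r))))
            refine commutatorElement_eq_one_iff_mul_comm.2 ?_
            first | exact this | exact this.symm)
          rw [hm2, hKc _ (hKall _ _) hmt, ← sq]; exact hcp a b
      have hM1le : M1 ≤ M0 := sup_le le_sup_left ((Subgroup.closure_le _).2 fun y hy => by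
        by_contra hy'
        exact hy (hout y hy'))
      have hM1ne : M1 ≠ ⊤ := fun e => hM0ne (top_le_iff.1 (e ▸ hM1le))
      have hM01 : M0 ≤ M1 := sup_le le_sup_left (zpowers_le.2
        ((le_sup_right : Subgroup.closure {y : H | y ^ 2 ≠ 1} ≤ M1) (Subgroup.subset_closure hr)))
      refine no_chain5 hcard X hcore hdvd M1 Z K ?_ hZch hKch le_sup_left hKZ ?_ ?_ ?_ hKcard.le
      · intro σ y hy
        have hle : M1 ≤ M1.comap σ.toMonoidHom := sup_le
          (fun w hw => (le_sup_left : Z ≤ M1) (hZch σ w hw))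
          ((Subgroup.closure_le _).2 fun w hw => (le_sup_right : Subgroup.closure {y : H | y ^ 2 ≠ 1} ≤ M1) (Subgroup.subset_closure
            (show (σ w) ^ 2 ≠ 1 by rw [← map_pow, Ne, map_eq_one_iff σ σ.injective]; exact hw)))
        exact hle hy
      · rw [pow_succ' 2 3]; exact Nat.mul_le_mul_left 2 (hM0card.trans (Subgroup.card_le_of_le hM01))
      · rw [hZcard, ← pow_succ']; exact card_le_of_ne_top hcard hM1ne
      · rw [hZcard, hKcard, ← sq]
    have haZ : a ∉ Z := fun h => hab (mem_center_iff.1 h b).symm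
    have hbZ : b ∉ Z := fun h => hab (mem_center_iff.1 h a)
    obtain ⟨Q, hQcard, haQ, hbQ, hQZ, ⟨e⟩⟩ := split a b hc1 (hb0 a) (hb0 b)
    have hQinv : ∀ q : Q, q ^ 2 = 1 → (q : H) ∈ K := by
      intro q hq2
      have hqZ : (q : H) ∈ Z := by
        by_contra h
        exact hnone q h (congrArg Subtype.val hq2)
      exact hQZ q q.2 hqZ
    have hu : CfsgLib.Coprime.UniqueOrderP 2 Q := fun x y hx hy hx1 => by
      have hxc : (x : H) = c := hKc _ (hQinv x hx) fun e => hx1 (Subtype.ext e)
      rcases hKval _ (hQinv y hy) with h | h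
      · rw [show y = 1 from Subtype.ext h]; exact one_mem _
      · rw [show y = x from Subtype.ext (h.trans hxc.symm)]; exact mem_zpowers x
    rcases CfsgLib.Coprime.cyclic_or_quaternion_of_unique (IsPGroup.of_card hQcard) hu with h | ⟨-, n, ⟨e2⟩⟩
    · haveI := h
      exact absurd (congrArg Subtype.val (IsMulCommutative.is_comm.comm (⟨a, haQ⟩ : Q) ⟨b, hbQ⟩)) hab
    · have hn : (2 : ℕ) ^ n = 2 := by
        have hc := Nat.card_congr e2.toEquiv
        rw [hQcard, Nat.card_eq_fintype_card, QuaternionGroup.card] at hc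
        omega
      exact ⟨e.trans (MulEquiv.prodCongr (hn ▸ e2) (MulEquiv.refl _))⟩
  · refine Or.inl ⟨hodd, ?_⟩
    obtain ⟨m, hm⟩ : p ∣ p.choose 2 := hpr.dvd_choose_self (by norm_num) (by
      rcases hodd with ⟨k, hk⟩; have := hpr.two_le; omega)
    let f : H →* H := MonoidHom.mk' (fun x => x ^ p) fun u v => by
      rw [hmulp, hm, pow_mul, hcp, one_pow, mul_one]
    have hall : ∀ x : H, x ^ p = 1 := by
      by_contra hne
      have hfne : f.ker ≠ ⊤ := fun e => hne fun x => MonoidHom.mem_ker.1 (e.ge (mem_top x))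
      have hfch : ∀ σ : MulAut H, ∀ x ∈ f.ker, σ x ∈ f.ker := fun σ x hx => by
        rw [MonoidHom.mem_ker] at hx ⊢
        show (σ x) ^ p = 1
        rw [← map_pow, show x ^ p = 1 from hx, map_one]
      have hbig : p ^ 4 ≤ p * Nat.card f.ker := by
        rw [← hcard, ← f.ker.card_mul_index, index_ker, mul_comm]
        refine Nat.mul_le_mul_right _ (hKcard ▸ Subgroup.card_le_of_le ?_)
        rintro _ ⟨x, rfl⟩
        exact hb0 x
      refine no_chain5 hcard X hcore hdvd f.ker Z K hfch hZch hKch (fun w hw => MonoidHom.mem_ker.2 (hzp w hw))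
        hKZ hbig ?_ ?_ hKcard.le
      · rw [hZcard, ← pow_succ']; exact card_le_of_ne_top hcard hfne
      · rw [hZcard, hKcard, ← sq]
    obtain ⟨Q, hQcard, haQ, hbQ, -, ⟨e⟩⟩ := split a b hc1 (hb0 a) (hb0 b)
    obtain ⟨E, iE, iEf, ⟨eE⟩⟩ : ∃ (E : Type) (_ : Group E) (_ : Finite E), Nonempty (Q ≃* E) := by
      obtain ⟨E, iE, iF, hE⟩ := Finite.exists_type_univ_nonempty_mulEquiv.{_, 0} Q
      exact ⟨E, iE, inferInstance, hE⟩
    have hEc : Nat.card E = p ^ 3 := by rw [← Nat.card_congr eE.toEquiv, hQcard]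
    have hEexp : ∀ x : E, x ^ p = 1 := fun x => eE.symm.injective (by
      rw [map_pow, map_one]; exact Subtype.ext (hall _))
    refine ⟨E, iE, iEf, ?_, hEc, hEexp, ⟨e.trans (MulEquiv.prodCongr eE (MulEquiv.refl _))⟩⟩
    refine CfsgLib.GenExtraspecial.isExtraspecial_of_cube (a := eE ⟨a, haQ⟩) (b := eE ⟨b, hbQ⟩) hEc ?_ hEexp
    rw [← map_mul, ← map_mul]
    exact fun h => hab (congrArg Subtype.val (eE.injective h))

end CfsgLib.Fusion.EssentialFourth
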