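import Cfsg.Agent.Lib.Fusion.System.Alperin
import Cfsg.Agent.Lib.Qd.Elementary
import Cfsg.Prelude.Def_Transfer

/-!
An abelian essential subgroup of order `p²` is elementary abelian and its automizer contains `SL_2(p)`:
a group of automorphisms of an elementary abelian group of order `p²` with `p` dividing its order and
trivial `p`-core contains two transvections with different fixed lines.
-/

set_option autoImplicit false

namespace CfsgLib.Fusion.EssentialPlane

open Cfsg (FusionSystem)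

section Plane

variable {H : Type*} [Group H] [Finite H] {p : ℕ} [Fact p.Prime]

omit [Finite H] in
theorem pow_val_mul {x : H} (hx : x ^ p = 1) (a b : ZMod p) :
    x ^ (a + b).val = x ^ a.val * x ^ b.val := by
  rw [← pow_add, ZMod.val_add, ← pow_eq_pow_mod _ hx]

omit [Finite H] in
/-- an automorphism of order dividing `p` fixes an invariant subgroup of order `p` pointwise -/
theorem fix_of_invariant {u : MulAut H} (hu : u ^ p = 1) {w : H} (hw : w ^ p = 1)
    (hinv : u w ∈ Submonoid.powers w) : u w = w := by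
  obtain ⟨c, hc⟩ := hinv
  replace hc : w ^ c = u w := hc
  have hpow : ∀ j : ℕ, (u ^ j) w = w ^ c ^ j := by
    intro j
    induction j with
    | zero => simp
    | succ j ih => rw [pow_succ', MulAut.mul_apply, ih, map_pow, ← hc, ← pow_mul, pow_succ']
  have h1 := hpow p
  rw [hu, MulAut.one_apply] at h1
  have h2 : c ^ p % p = c % p := by
    have h : ((c ^ p : ℕ) : ZMod p) = (c : ZMod p) := by rw [Nat.cast_pow, ZMod.pow_card]
    exact (ZMod.natCast_eq_natCast_iff' _ _ _).1 h
  rw [← hc, pow_eq_pow_mod c hw, ← h2, ← pow_eq_pow_mod _ hw, ← h1]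

variable (hcomm : ∀ a b : H, a * b = b * a) (hexp : ∀ a : H, a ^ p = 1) (hcard : Nat.card H = p ^ 2)
include hcomm hexp hcard

/-- an automorphism of order `p` is a transvection -/
theorem exists_axis {u : MulAut H} (hu : u ^ p = 1) (hu1 : u ≠ 1) :
    ∃ x : H, x ≠ 1 ∧ u x = x ∧ (∀ r, u r = r → r ∈ Subgroup.zpowers x) ∧
      ∀ r, r⁻¹ * u r ∈ Subgroup.zpowers x := by
  classical
  have hp := (Fact.out : p.Prime)
  let δ : H →* H := MonoidHom.mk' (fun r => r⁻¹ * u r) fun a b => by
    rw [map_mul, mul_inv_rev, hcomm b⁻¹ a⁻¹]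
    calc a⁻¹ * b⁻¹ * (u a * u b) = a⁻¹ * (b⁻¹ * u a) * u b := by group
      _ = a⁻¹ * u a * (b⁻¹ * u b) := by rw [hcomm b⁻¹ (u a)]; group
  -- a fixed point
  have hor : orderOf u = p := orderOf_eq_prime hu hu1
  haveI : Fintype H := Fintype.ofFinite H
  have hG : IsPGroup p (Subgroup.zpowers u) := IsPGroup.of_card (n := 1) (by rw [Nat.card_zpowers, hor, pow_one])
  obtain ⟨x, hx, hx1⟩ := hG.exists_fixed_point_of_prime_dvd_card_of_fixed_point H
    (by rw [hcard]; exact dvd_pow_self p two_ne_zero) (a := (1 : H))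
    (fun g => map_one (g : MulAut H))
  have hux : u x = x := hx ⟨u, Subgroup.mem_zpowers u⟩
  have hxo : orderOf x = p := orderOf_eq_prime (hexp x) (Ne.symm hx1)
  have hle : Subgroup.zpowers x ≤ δ.ker := Subgroup.zpowers_le.2 (by
    show x⁻¹ * u x = 1
    rw [hux, inv_mul_cancel])
  have hne : δ.ker ≠ ⊤ := fun h => hu1 (MulEquiv.ext fun r => by
    have : r⁻¹ * u r = 1 := MonoidHom.mem_ker.1 (h ▸ Subgroup.mem_top r : r ∈ δ.ker)
    exact (inv_mul_eq_one.1 this).symm)
  have hk : Nat.card δ.ker = p := by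
    obtain ⟨i, hi, hie⟩ := (Nat.dvd_prime_pow hp).1 (hcard ▸ δ.ker.card_subgroup_dvd_card)
    have h1 : p ∣ Nat.card δ.ker := by
      rw [← hxo, ← Nat.card_zpowers]; exact Subgroup.card_dvd_of_le hle
    rcases (show i = 0 ∨ i = 1 ∨ i = 2 by omega) with rfl | rfl | rfl
    · rw [hie, pow_zero, Nat.dvd_one] at h1; exact absurd h1 hp.ne_one
    · rw [hie, pow_one]
    · exact absurd (Subgroup.eq_top_of_card_eq _ (by rw [hie, hcard])) hne
  have hker : δ.ker = Subgroup.zpowers x :=
    (Subgroup.eq_of_le_of_card_ge hle (by rw [Nat.card_zpowers, hxo, hk])).symm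
  refine ⟨x, Ne.symm hx1, hux, fun r hr => hker ▸ ?_, fun r => hker ▸ ?_⟩
  · show r⁻¹ * u r = 1
    rw [hr, inv_mul_cancel]
  · set w := r⁻¹ * u r
    show w⁻¹ * u w = 1
    have hR : Nat.card δ.range = p := by
      have h1 := δ.ker.card_mul_index
      rw [hk, Subgroup.index_ker, hcard, sq] at h1
      exact Nat.eq_of_mul_eq_mul_left hp.pos h1
    rw [inv_mul_eq_one]
    by_cases hw : w = 1
    · rw [hw, map_one]
    refine (fix_of_invariant hu (hexp w) ?_).symm
    have hgen : δ.range = Subgroup.zpowers w :=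
      (Subgroup.eq_of_le_of_card_ge (Subgroup.zpowers_le.2 (MonoidHom.mem_range.2 ⟨r, rfl⟩ : w ∈ δ.range)) (by
        rw [hR, Nat.card_zpowers, orderOf_eq_prime (hexp w) hw])).symm
    have h2 : u w ∈ δ.range := MonoidHom.mem_range.2 ⟨u r, by
      show (u r)⁻¹ * u (u r) = u (r⁻¹ * u r)
      rw [map_mul, map_inv]⟩
    rw [hgen, ← mem_powers_iff_mem_zpowers] at h2
    exact h2

/-- a group of automorphisms with trivial `p`-core contains, for each of its transvections, a copy of
`SL_2(p)` in coordinates adapted to that transvection -/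
theorem exists_sl_two_hom (X : Subgroup (MulAut H)) (hcore : Cfsg.pCore p X = ⊥) (a : X)
    (ha : orderOf a = p) :
    ∃ (x y : H) (L : Matrix.SpecialLinearGroup (Fin 2) (ZMod p) →* MulAut H),
      Function.Injective L ∧ L.range ≤ X ∧ x ≠ 1 ∧ y ∉ Subgroup.zpowers x ∧
      (a : MulAut H) x = x ∧ (a : MulAut H) y = y * x ∧
      ∀ (A : Matrix.SpecialLinearGroup (Fin 2) (ZMod p)) (c : Fin 2 → ZMod p),
        L A (x ^ (c 0).val * y ^ (c 1).val) =
          x ^ (A.1.mulVec c 0).val * y ^ (A.1.mulVec c 1).val := by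
  classical
  have hp := (Fact.out : p.Prime)
  haveI : Finite (MulAut H) := Finite.of_injective (fun a : MulAut H => (a : H → H)) DFunLike.coe_injective
  have ha' : (a : MulAut H) ^ p = 1 := by rw [← Subgroup.coe_pow, ← ha, pow_orderOf_eq_one, Subgroup.coe_one]
  have hne : ∀ g : X, orderOf g = p → (g : MulAut H) ≠ 1 := fun g hg h => hp.ne_one (by
    rw [← hg, show g = 1 from Subtype.ext h, orderOf_one])
  obtain ⟨x, hx1, hux, hfix, hrange⟩ := exists_axis hcomm hexp hcard ha' (hne a ha)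
  have zsame : ∀ {c d : H}, c ∈ Subgroup.zpowers d → c ≠ 1 → Subgroup.zpowers c = Subgroup.zpowers d :=
    fun {c d} h hc => Subgroup.eq_of_le_of_card_ge (Subgroup.zpowers_le.2 h) (by
      rw [Nat.card_zpowers, Nat.card_zpowers, orderOf_eq_prime (hexp c) hc]
      exact Nat.le_of_dvd hp.pos (orderOf_dvd_of_pow_eq_one (hexp d)))
  -- a second transvection with another axis
  obtain ⟨b, hb, hbx⟩ : ∃ b : X, orderOf b = p ∧ (b : MulAut H) x ≠ x := by
    by_contra hcon
    push Not at hcon
    let Q : Subgroup X :=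
      { carrier := {g | (g : MulAut H) x = x ∧ ∀ r, r⁻¹ * (g : MulAut H) r ∈ Subgroup.zpowers x}
        one_mem' := ⟨rfl, fun r => by
          rw [Subgroup.coe_one, MulAut.one_apply, inv_mul_cancel]; exact one_mem _⟩
        mul_mem' := fun {g k} hg hk => ⟨by rw [Subgroup.coe_mul, MulAut.mul_apply, hk.1, hg.1], fun r => by
          rw [Subgroup.coe_mul, MulAut.mul_apply]
          have h := mul_mem (hk.2 r) (hg.2 ((k : MulAut H) r))
          rwa [mul_assoc, mul_inv_cancel_left] at h⟩
        inv_mem' := fun {g} hg => ⟨by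
          rw [Subgroup.coe_inv]; conv_lhs => rw [← hg.1]
          exact MulEquiv.symm_apply_apply _ _, fun r => by
          have h := inv_mem (hg.2 (((g⁻¹ : X) : MulAut H) r))
          have e : (g : MulAut H) (((g⁻¹ : X) : MulAut H) r) = r := by
            rw [Subgroup.coe_inv]; exact MulEquiv.apply_symm_apply (g : MulAut H) r
          rw [mul_inv_rev, inv_inv, e] at h
          exact h⟩ }
    have hQp : ∀ g ∈ Q, (g : X) ^ p = 1 := fun g hg => by
      refine Subtype.ext (MulEquiv.ext fun r => ?_)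
      obtain ⟨i, hi⟩ := Subgroup.mem_zpowers_iff.1 (hg.2 r)
      have hgr : (g : MulAut H) r = r * x ^ i := by rw [hi, mul_inv_cancel_left]
      have hpow : ∀ j : ℕ, ((g : MulAut H) ^ j) r = r * (x ^ i) ^ j := by
        intro j
        induction j with
        | zero => simp
        | succ j ih =>
          rw [pow_succ', MulAut.mul_apply, ih, map_mul, map_pow, map_zpow, hg.1, hgr, mul_assoc, ← pow_succ']
      rw [Subgroup.coe_pow, hpow, hexp, mul_one, Subgroup.coe_one, MulAut.one_apply]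
    have hall : ∀ g : X, (g : X) ^ p = 1 → g ∈ Q := fun g hg => by
      rcases eq_or_ne g 1 with rfl | hg1
      · exact one_mem _
      have hgo : orderOf g = p := orderOf_eq_prime hg hg1
      obtain ⟨z, hz1, -, hzfix, hzr⟩ := exists_axis hcomm hexp hcard
        (by rw [← Subgroup.coe_pow, hg, Subgroup.coe_one]) (hne g hgo)
      refine ⟨hcon g hgo, fun r => ?_⟩
      rw [zsame (hzfix x (hcon g hgo)) hx1]
      exact hzr r
    haveI : Q.Normal := ⟨fun g hg k => hall _ (by rw [conj_pow, hQp g hg, mul_one, mul_inv_cancel])⟩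
    have hQ : IsPGroup p Q := fun g => ⟨1, Subtype.ext (by
      rw [pow_one, Subgroup.coe_pow, hQp g g.2]; rfl)⟩
    have haQ : a ∈ Q := hall a (by rw [← ha, pow_orderOf_eq_one])
    have h1 : a = 1 := Subgroup.mem_bot.1 (hcore ▸ CfsgLib.Coprime.le_pCore hQ haQ)
    exact hne a ha (by rw [h1]; rfl)
  have hb' : (b : MulAut H) ^ p = 1 := by rw [← Subgroup.coe_pow, ← hb, pow_orderOf_eq_one, Subgroup.coe_one]
  obtain ⟨y, hy1, hby, hbfix, hbrange⟩ := exists_axis hcomm hexp hcard hb' (hne b hb)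
  have hyx : y ∉ Subgroup.zpowers x := fun h => hbx (by
    obtain ⟨i, hi⟩ := Subgroup.mem_zpowers_iff.1 ((zsame h hy1).ge (Subgroup.mem_zpowers x))
    rw [← hi, map_zpow, hby])
  -- normalise
  obtain ⟨x', hx'⟩ : ∃ x', x' = y⁻¹ * (a : MulAut H) y := ⟨_, rfl⟩
  have hx'1 : x' ≠ 1 := fun h => hyx (hfix y (by
    rw [hx', inv_mul_eq_one] at h; exact h.symm))
  have hx'x : x' ∈ Subgroup.zpowers x := hx' ▸ hrange y
  have hax' : (a : MulAut H) x' = x' := by
    obtain ⟨i, hi⟩ := Subgroup.mem_zpowers_iff.1 hx'x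
    rw [← hi, map_zpow, hux]
  have hay : (a : MulAut H) y = y * x' := by rw [hx', mul_inv_cancel_left]
  have hyx' : y ∉ Subgroup.zpowers x' := fun h => hyx (Subgroup.zpowers_le.2 hx'x h)
  obtain ⟨w, hw⟩ : ∃ w, w = x'⁻¹ * (b : MulAut H) x' := ⟨_, rfl⟩
  have hw1 : w ≠ 1 := fun h => hyx' (by
    rw [hw, inv_mul_eq_one] at h
    exact (zsame (hbfix x' h.symm) hx'1).ge (Subgroup.mem_zpowers y))
  obtain ⟨j, hj⟩ : ∃ j : ℕ, w ^ j = y :=
    mem_powers_iff_mem_zpowers.2 ((zsame (hw ▸ hbrange x') hw1).ge (Subgroup.mem_zpowers y))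
  obtain ⟨v, hv⟩ : ∃ v : X, v = b ^ j := ⟨_, rfl⟩
  have hbw : (b : MulAut H) w = w := by
    obtain ⟨i, hi⟩ := Subgroup.mem_zpowers_iff.1 (hw ▸ hbrange x' : w ∈ Subgroup.zpowers y)
    rw [← hi, map_zpow, hby]
  have hbx' : (b : MulAut H) x' = x' * w := by rw [hw, mul_inv_cancel_left]
  have hbpow : ∀ k : ℕ, ((b : MulAut H) ^ k) x' = x' * w ^ k ∧ ((b : MulAut H) ^ k) y = y := by
    intro k
    induction k with
    | zero => simp
    | succ k ih =>
      constructor
      · rw [pow_succ', MulAut.mul_apply, ih.1, map_mul, map_pow, hbw, hbx', mul_assoc, ← pow_succ']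
      · rw [pow_succ', MulAut.mul_apply, ih.2, hby]
  have hvx : (v : MulAut H) x' = x' * y ∧ (v : MulAut H) y = y := by
    rw [hv, Subgroup.coe_pow]
    exact ⟨by rw [(hbpow j).1, hj], (hbpow j).2⟩
  -- coordinates
  let e : Multiplicative (Fin 2 → ZMod p) →* H :=
    MonoidHom.mk' (fun c => x' ^ (c.toAdd 0).val * y ^ (c.toAdd 1).val) fun c d => by
      simp only [toAdd_mul, Pi.add_apply, pow_val_mul (hexp x'), pow_val_mul (hexp y)]
      calc x' ^ (c.toAdd 0).val * x' ^ (d.toAdd 0).val * (y ^ (c.toAdd 1).val * y ^ (d.toAdd 1).val)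
          = x' ^ (c.toAdd 0).val * (x' ^ (d.toAdd 0).val * y ^ (c.toAdd 1).val) * y ^ (d.toAdd 1).val := by group
        _ = x' ^ (c.toAdd 0).val * y ^ (c.toAdd 1).val * (x' ^ (d.toAdd 0).val * y ^ (d.toAdd 1).val) := by
            rw [hcomm (x' ^ (d.toAdd 0).val)]; group
  have hinj : Function.Injective e := by
    rw [injective_iff_map_eq_one]
    intro c hc
    replace hc : x' ^ (c.toAdd 0).val * y ^ (c.toAdd 1).val = 1 := hc
    have h1 : c.toAdd 1 = 0 := by
      by_contra h
      refine hyx' ?_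
      have hm : y ^ (c.toAdd 1).val ∈ Subgroup.zpowers x' := by
        rw [eq_inv_of_mul_eq_one_right hc]
        exact inv_mem (pow_mem (Subgroup.mem_zpowers _) _)
      have hyk : y ^ (c.toAdd 1).val ≠ 1 := fun h2 => h (by
        have h3 := orderOf_dvd_of_pow_eq_one h2
        rw [orderOf_eq_prime (hexp y) hy1] at h3
        exact (ZMod.val_eq_zero _).1 (Nat.eq_zero_of_dvd_of_lt h3 (ZMod.val_lt _)))
      rw [← zsame hm hyk, zsame (pow_mem (Subgroup.mem_zpowers y) _) hyk]
      exact Subgroup.mem_zpowers y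
    rw [h1, ZMod.val_zero, pow_zero, mul_one] at hc
    have h0 : c.toAdd 0 = 0 := by
      have h3 := orderOf_dvd_of_pow_eq_one hc
      rw [orderOf_eq_prime (hexp x') hx'1] at h3
      exact (ZMod.val_eq_zero _).1 (Nat.eq_zero_of_dvd_of_lt h3 (ZMod.val_lt _))
    refine Multiplicative.toAdd.injective (funext fun i => ?_)
    fin_cases i
    · exact h0
    · exact h1
  have hbij : Function.Bijective e := (Nat.bijective_iff_injective_and_card _).2 ⟨hinj, by
    rw [hcard, Nat.card_congr Multiplicative.toAdd, Nat.card_pi]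
    simp⟩
  let E := MulEquiv.ofBijective e hbij
  let L : Matrix.SpecialLinearGroup (Fin 2) (ZMod p) →* MulAut H :=
    { toFun := fun A => (E.symm.trans
        (AddEquiv.toMultiplicative (Matrix.SpecialLinearGroup.toLin' A).toAddEquiv)).trans E
      map_one' := MulEquiv.ext fun h => by simp
      map_mul' := fun A B => MulEquiv.ext fun h => by simp [Matrix.mulVec_mulVec] }
  have hL : ∀ A c, L A (e (Multiplicative.ofAdd c)) = e (Multiplicative.ofAdd (A.1.mulVec c)) := fun A c => by
    show E (Multiplicative.ofAdd (Matrix.SpecialLinearGroup.toLin' A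
      (Multiplicative.toAdd (E.symm (E (Multiplicative.ofAdd c)))))) = _
    rw [MulEquiv.symm_apply_apply, toAdd_ofAdd, Matrix.SpecialLinearGroup.toLin'_apply]
    rfl
  have heq : ∀ c : Fin 2 → ZMod p, e (Multiplicative.ofAdd c) = x' ^ (c 0).val * y ^ (c 1).val := fun c => rfl
  have hup : L (CfsgLib.Qd.up 1) = (a : MulAut H) := MulEquiv.ext fun h => by
    obtain ⟨c, rfl⟩ := hbij.2 h
    obtain ⟨c, rfl⟩ := Multiplicative.ofAdd.surjective c
    rw [hL, heq, heq, map_mul, map_pow, map_pow, hax', hay]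
    simp only [CfsgLib.Qd.up_coe, Matrix.mulVec, dotProduct, Fin.sum_univ_two, Matrix.of_apply, Matrix.cons_val',
      Matrix.cons_val_zero, Matrix.cons_val_one, Matrix.cons_val_fin_one, one_mul, zero_mul, zero_add]
    rw [pow_val_mul (hexp x'), (show Commute y x' from hcomm y x').mul_pow, mul_assoc,
      hcomm (x' ^ (c 1).val)]
  have hlo : L (CfsgLib.Qd.lo 1) = (v : MulAut H) := MulEquiv.ext fun h => by
    obtain ⟨c, rfl⟩ := hbij.2 h
    obtain ⟨c, rfl⟩ := Multiplicative.ofAdd.surjective c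
    rw [hL, heq, heq, map_mul, map_pow, map_pow, hvx.1, hvx.2]
    simp only [CfsgLib.Qd.lo_coe, Matrix.mulVec, dotProduct, Fin.sum_univ_two, Matrix.of_apply, Matrix.cons_val',
      Matrix.cons_val_zero, Matrix.cons_val_one, Matrix.cons_val_fin_one, one_mul, zero_mul, add_zero]
    rw [pow_val_mul (hexp y), (show Commute x' y from hcomm x' y).mul_pow, mul_assoc]
  have hLinj : Function.Injective L := by
    rw [injective_iff_map_eq_one]
    intro A hA
    refine Subtype.ext (Matrix.ext_iff_mulVec.2 fun c => ?_)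
    have h := hL A c
    rw [hA, MulAut.one_apply] at h
    rw [Matrix.SpecialLinearGroup.coe_one, Matrix.one_mulVec]
    exact (Multiplicative.ofAdd.injective (hinj h)).symm
  have hrange : L.range ≤ X := by
    rw [MonoidHom.range_eq_map, ← CfsgLib.Qd.closure_up_lo (p := p) (lam := 1) one_ne_zero, MonoidHom.map_closure,
      Subgroup.closure_le]
    rintro _ ⟨A, rfl | rfl, rfl⟩
    · rw [hup]; exact a.2
    · rw [hlo]; exact v.2
  exact ⟨x', y, L, hLinj, hrange, hx'1, hyx', hax', hay, fun A c => by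
    rw [← heq, ← heq]; exact hL A c⟩

/-- a group of automorphisms with trivial `p`-core and order divisible by `p` contains `SL_2(p)` -/
theorem exists_sl_two (X : Subgroup (MulAut H)) (hdvd : p ∣ Nat.card X) (hcore : Cfsg.pCore p X = ⊥) :
    ∃ K : Subgroup X, Nonempty (K ≃* Matrix.SpecialLinearGroup (Fin 2) (ZMod p)) := by
  haveI : Finite (MulAut H) := Finite.of_injective (fun a : MulAut H => (a : H → H)) DFunLike.coe_injective
  obtain ⟨a, ha⟩ := exists_prime_orderOf_dvd_card' (G := X) p hdvd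
  obtain ⟨-, -, L, hLinj, hrange, -⟩ := exists_sl_two_hom hcomm hexp hcard X hcore a ha
  exact ⟨L.range.subgroupOf X,
    ⟨(Subgroup.subgroupOfEquivOfLe hrange).trans (MonoidHom.ofInjective hLinj).symm⟩⟩

end Plane

variable {Ω : Type*} [Group Ω] {S : Subgroup Ω} [Finite S] {F : FusionSystem S} {p : ℕ} [Fact p.Prime]
  {H : Subgroup Ω}

/-- the order of the automizer of an essential subgroup is divisible by `p` -/
theorem dvd_card_autGroup (hH : F.IsEssential p H) : p ∣ Nat.card (F.autGroup H) := by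
  obtain ⟨-, -, hn, E, hE⟩ := hH
  haveI := hn
  refine hE.1.trans ?_
  rw [← Subgroup.index_eq_card]
  exact Subgroup.index_dvd_card _

/-- the `p`-core of the automizer of an abelian essential subgroup is trivial -/
theorem pCore_autGroup_eq_bot (hS : IsPGroup p S) (hH : F.IsEssential p H)
    (hcomm : ∀ a b : H, a * b = b * a) : Cfsg.pCore p (F.autGroup H) = ⊥ := by
  have h := (CfsgLib.Fusion.isRadical_of_isEssential hS hH).2
  have hinn : Cfsg.Inn H = ⊥ := (Subgroup.eq_bot_iff_forall _).2 fun g hg => by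
    obtain ⟨b, rfl⟩ := hg
    exact MulEquiv.ext fun r => by simp [hcomm b r]
  rw [hinn] at h
  exact (Subgroup.map_eq_bot_iff_of_injective _ (Subgroup.subtype_injective _)).1 h

theorem isCyclic_mulAut_comm {A : Type*} [Group A] [IsCyclic A] (a b : MulAut A) : a * b = b * a := by
  obtain ⟨g, hg⟩ := IsCyclic.exists_generator (α := A)
  obtain ⟨i, hi⟩ := Subgroup.mem_zpowers_iff.1 (hg (a g))
  obtain ⟨j, hj⟩ := Subgroup.mem_zpowers_iff.1 (hg (b g))
  refine MulEquiv.ext fun r => ?_
  obtain ⟨k, rfl⟩ := Subgroup.mem_zpowers_iff.1 (hg r)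
  simp only [MulAut.mul_apply, map_zpow, ← hi, ← hj, ← _root_.zpow_mul, mul_comm j i]

theorem essential_card_sq (hS : IsPGroup p S) (hH : F.IsEssential p H) (hcard : Nat.card H = p ^ 2) :
    Cfsg.IsElementaryAbelian p H ∧
      ∃ K : Subgroup ↥(F.autGroup H), Nonempty (↥K ≃* Matrix.SpecialLinearGroup (Fin 2) (ZMod p)) := by
  classical
  have hp := (Fact.out : p.Prime)
  haveI := CfsgLib.Fusion.finite_of_le hH.1.1
  haveI hab : IsMulCommutative H := IsPGroup.isMulCommutative_of_card_eq_prime_sq hcard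
  have hcomm : ∀ a b : H, a * b = b * a := fun a b => mul_comm' a b
  have hdvd := dvd_card_autGroup hH
  have hcore := pCore_autGroup_eq_bot hS hH hcomm
  haveI := CfsgLib.Fusion.finite_mulAut (P := H)
  have hexp : ∀ a : H, a ^ p = 1 := by
    intro a
    have h1 : orderOf a ∣ p ^ 2 := hcard ▸ orderOf_dvd_natCard a
    obtain ⟨i, hi, hie⟩ := (Nat.dvd_prime_pow hp).1 h1
    refine orderOf_dvd_iff_pow_eq_one.1 ?_
    rcases (show i = 0 ∨ i = 1 ∨ i = 2 by omega) with rfl | rfl | rfl
    · rw [hie, pow_zero]; exact one_dvd _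
    · rw [hie, pow_one]
    · exfalso
      haveI : IsCyclic H := isCyclic_of_orderOf_eq_card a (by rw [hie, hcard])
      obtain ⟨b, hb⟩ := exists_prime_orderOf_dvd_card' (G := F.autGroup H) p hdvd
      have hc : ∀ g k : F.autGroup H, g * k = k * g := fun g k =>
        Subtype.ext (isCyclic_mulAut_comm (g : MulAut H) k)
      haveI : (Subgroup.zpowers b).Normal := ⟨fun g hg k => by
        rwa [hc k g, mul_inv_cancel_right]⟩
      have hbp : IsPGroup p (Subgroup.zpowers b) := IsPGroup.of_card (n := 1) (by rw [Nat.card_zpowers, hb, pow_one])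
      have h2 : b = 1 := Subgroup.mem_bot.1 (hcore ▸ CfsgLib.Coprime.le_pCore hbp (Subgroup.mem_zpowers b))
      rw [h2, orderOf_one] at hb
      exact hp.ne_one hb.symm
  refine ⟨⟨hab, fun a ha => congrArg Subtype.val (hexp ⟨a, ha⟩)⟩, ?_⟩
  exact exists_sl_two hcomm hexp hcard _ hdvd hcore

end CfsgLib.Fusion.EssentialPlane
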