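import Cfsg.Agent.Lib.Fusion.System.Constrained

/-!
# The families of largest abelian subgroups, inside a fusion system
-/

set_option autoImplicit false
set_option linter.style.haveILetI false

open Subgroup
open scoped Classical commutatorElement

namespace CfsgLib.Fusion

open Cfsg (FusionSystem)
open Cfsg.FusionSystem (normalizerIn centralizerIn)

variable {Ω : Type*} [Group Ω] {S : Subgroup Ω} {F : FusionSystem S} {D A : Subgroup Ω}
  {f : Ω → Ω} {p : ℕ}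

theorem map_mem_maxAb_sub (hDS : D ≤ S) {A : Subgroup S} (hA : A ∈ maxAb (D.subgroupOf S)) :
    A.map S.subtype ∈ maxAb D := by
  refine ⟨(Subgroup.map_mono hA.1).trans (Subgroup.map_subgroupOf_eq_of_le hDS).le,
    isMulCommutative_map _ hA.2.1, fun C hC hCc => ?_⟩
  rw [← Nat.card_congr (A.equivMapOfInjective S.subtype S.subtype_injective).toEquiv,
    ← Nat.card_congr (Subgroup.subgroupOfEquivOfLe (hC.trans hDS)).toEquiv]
  exact hA.2.2 _ (Subgroup.comap_mono hC) (isMulCommutative_subgroupOf hCc)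

theorem subgroupOf_mem_maxAb (hDS : D ≤ S) (hA : A ∈ maxAb D) :
    A.subgroupOf S ∈ maxAb (D.subgroupOf S) := by
  refine ⟨Subgroup.comap_mono hA.1, isMulCommutative_subgroupOf hA.2.1, fun C hC hCc => ?_⟩
  rw [Nat.card_congr (Subgroup.subgroupOfEquivOfLe (hA.1.trans hDS)).toEquiv,
    Nat.card_congr (C.equivMapOfInjective S.subtype S.subtype_injective).toEquiv]
  exact hA.2.2 _ ((Subgroup.map_mono hC).trans (Subgroup.map_subgroupOf_eq_of_le hDS).le)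
    (isMulCommutative_map _ hCc)

variable [Finite S]

theorem maxAb_nonempty_in (hDS : D ≤ S) : (maxAb D).Nonempty := by
  obtain ⟨A, hA⟩ := maxAb_nonempty (D.subgroupOf S)
  exact ⟨_, map_mem_maxAb_sub hDS hA⟩

theorem maxAb_replacement_in [Fact p.Prime] (hp : p ≠ 2) (hS : IsPGroup p S) (hDS : D ≤ S)
    (hDn : S ≤ Subgroup.normalizer (D : Set Ω)) (B : Subgroup Ω) (hBS : B ≤ S)
    (hBn : S ≤ Subgroup.normalizer (B : Set Ω)) (_ : ⁅⁅B, B⁆, B⁆ = ⊥)
    (hU : ∃ U ∈ maxAb D, ⁅B, B⁆ ≤ U ∧ ¬ B ≤ U) :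
    ∃ A ∈ maxAb D, ⁅B, B⁆ ≤ A ∧ ¬ B ≤ A ∧ B ≤ Subgroup.normalizer (A : Set Ω) := by
  haveI : (D.subgroupOf S).Normal := (Subgroup.normal_subgroupOf_iff_le_normalizer hDS).2 hDn
  haveI : (B.subgroupOf S).Normal := (Subgroup.normal_subgroupOf_iff_le_normalizer hBS).2 hBn
  have hcomm : (⁅B.subgroupOf S, B.subgroupOf S⁆).map S.subtype = ⁅B, B⁆ := by
    rw [Subgroup.map_commutator, Subgroup.map_subgroupOf_eq_of_le hBS]
  obtain ⟨U, hU, hU1, hU2⟩ := hU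
  obtain ⟨A, hA, hA1, hA2, hA3⟩ := maxAb_replacement (p := p) hS hp (D.subgroupOf S)
    (B := B.subgroupOf S) ⟨U.subgroupOf S, subgroupOf_mem_maxAb hDS hU,
      fun x hx => hU1 (hcomm.le ⟨x, hx, rfl⟩),
      fun h => hU2 fun x hx => h (show (⟨x, hBS hx⟩ : S) ∈ B.subgroupOf S from hx)⟩
  refine ⟨_, map_mem_maxAb_sub hDS hA, hcomm.ge.trans (Subgroup.map_mono hA1),
    fun h => hA2 fun x hx => ?_, ?_⟩
  · obtain ⟨y, hy, hyx⟩ := h hx
    rwa [← S.subtype_injective hyx]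
  · exact (Subgroup.map_subgroupOf_eq_of_le hBS).ge.trans
      ((Subgroup.map_mono hA3).trans (Subgroup.le_normalizer_map S.subtype))

omit [Finite S] in
theorem img_mem_maxAb {Q : Subgroup Ω} (hf : IsMap F Q f) (hA : A ∈ maxAb D) (hAQ : A ≤ Q)
    (hD : ∀ x ∈ Q, x ∈ D → f x ∈ D) : img A f ∈ maxAb D := by
  have hfA := hf.mono hAQ
  refine ⟨fun y hy => ?_, ⟨⟨fun a b => ?_⟩⟩, fun C hC hCc => hfA.card_img.symm ▸ hA.2.2 C hC hCc⟩
  · obtain ⟨x, hx, rfl⟩ := hfA.mem_img.1 hy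
    exact hD x (hAQ hx) (hA.1 hx)
  · obtain ⟨x, hx, hxa⟩ := hfA.mem_img.1 a.2
    obtain ⟨y, hy, hyb⟩ := hfA.mem_img.1 b.2
    refine Subtype.ext ?_
    show (a : Ω) * b = b * a
    rw [← hxa, ← hyb]
    exact hfA.map_commute hx hy (congrArg Subtype.val (hA.2.1.is_comm.comm (⟨x, hx⟩ : A) ⟨y, hy⟩))

omit [Finite S] in
theorem maxAb_invariant (hD : ∀ (P : Subgroup Ω) (f : Ω → Ω), IsMap F P f → ∀ x ∈ P, x ∈ D → f x ∈ D)
    (Q : Subgroup Ω) (f : Ω → Ω) (hf : IsMap F Q f) (himg : img Q f = Q)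
    (hex : ∃ A ∈ maxAb D, A ≤ Q) {x : Ω} (hx : x ∈ Iof (maxAb D) Q) : f x ∈ Iof (maxAb D) Q := by
  obtain ⟨A₀, hA₀, hA₀Q⟩ := hex
  obtain ⟨f', hf', h1, h2⟩ := hf.exists_inv
  rw [himg] at hf' h2
  simp only [Iof, Subgroup.mem_iInf]
  rintro A ⟨hA, hAQ⟩
  have hA' : img A f' ∈ maxAb D := img_mem_maxAb hf' hA hAQ fun y hy hyD => hD Q f' hf' y hy hyD
  have hA'Q : img A f' ≤ Q := fun y hy => by
    obtain ⟨z, hz, rfl⟩ := (hf'.mono hAQ).mem_img.1 hy
    exact (h2 z (hAQ hz)).1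
  obtain ⟨z, hz, hzx⟩ := (hf'.mono hAQ).mem_img.1 (Iof_le hA' hA'Q hx)
  rw [← hzx, (h2 z (hAQ hz)).2]
  exact hz

theorem mem_of_commute_maxAb_in (hDS : D ≤ S) (hA : A ∈ maxAb D) {x : Ω} (hxD : x ∈ D)
    (hx : ∀ a ∈ A, a * x = x * a) : x ∈ A := by
  set C := Subgroup.closure ((A : Set Ω) ∪ {x}) with hC
  have hc : IsMulCommutative C := by
    refine Subgroup.isMulCommutative_closure ?_
    rintro u (hu | rfl) v (hv | rfl)
    · exact congrArg Subtype.val (hA.2.1.is_comm.comm (⟨u, hu⟩ : A) ⟨v, hv⟩)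
    · exact hx u hu
    · exact (hx v hv).symm
    · rfl
  have hCD : C ≤ D := (Subgroup.closure_le _).2 (Set.union_subset hA.1 (Set.singleton_subset_iff.2 hxD))
  rw [eq_of_le_of_card_le (hCD.trans hDS)
    (fun a ha => Subgroup.subset_closure (Or.inl ha)) (hA.2.2 _ hCD hc)]
  exact Subgroup.subset_closure (Or.inr rfl)

theorem center_le_Iof_maxAb (hDS : D ≤ S) (Q : Subgroup Ω) :
    D ⊓ Subgroup.centralizer (D : Set Ω) ≤ Iof (maxAb D) Q := fun x hx => by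
  simp only [Iof, Subgroup.mem_iInf]
  exact fun A hA => mem_of_commute_maxAb_in hDS hA.1 hx.1 fun a ha =>
    Subgroup.mem_centralizer_iff.1 hx.2 a (hA.1.1 ha)

/-- `Z(J(D))` as an intersection, without finiteness of the ambient group. -/
theorem Iof_maxAb_eq_centerThompsonA (hDS : D ≤ S) :
    Iof (maxAb D) S = Cfsg.centerThompsonAOf D := by
  rw [Cfsg.centerThompsonAOf, thompsonSubgroupAOf_eq]
  apply le_antisymm
  · intro x hx
    have hx' : ∀ A ∈ maxAb D, x ∈ A := fun A hA => Iof_le hA (hA.1.trans hDS) hx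
    obtain ⟨A₀, hA₀⟩ := maxAb_nonempty_in hDS
    exact ⟨le_sSup hA₀ (hx' _ hA₀), commute_sSup_of_commute fun A hA a ha =>
      congrArg Subtype.val (hA.2.1.is_comm.comm (⟨a, ha⟩ : A) ⟨x, hx' A hA⟩)⟩
  · refine le_Iof fun A hA _ x hx => mem_of_commute_maxAb_in hDS hA
      ((sSup_le fun B hB => hB.1 : sSup (maxAb D) ≤ D) hx.1)
      fun a ha => Subgroup.mem_centralizer_iff.1 hx.2 a (le_sSup hA ha)

/-- The basic facts on `I(T)` for the largest abelian subgroups of `T`. -/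
theorem Iof_maxAb_facts [Fact p.Prime] (hS : IsPGroup p S) {T : Subgroup Ω} (hT : T ≤ S) :
    Iof (maxAb T) T ≤ T ∧ (T ≠ ⊥ → Iof (maxAb T) T ≠ ⊥) ∧
      normalizerIn S T ≤ normalizerIn S (Iof (maxAb T) T) := by
  obtain ⟨A₀, hA₀⟩ := maxAb_nonempty_in hT
  have hI : Iof (maxAb T) T ≤ T := (Iof_le hA₀ hA₀.1).trans hA₀.1
  refine ⟨hI, fun hne => ?_, fun s hs => ?_⟩
  · haveI := finite_of_le hT
    haveI : Nontrivial T := (Subgroup.nontrivial_iff_ne_bot T).2 hne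
    haveI := (hS.to_le hT).center_nontrivial
    obtain ⟨z, hz⟩ := exists_ne (1 : Subgroup.center T)
    intro h
    refine hz (Subtype.ext (Subtype.ext ?_))
    have h2 : ((z : T) : Ω) ∈ Iof (maxAb T) T := center_le_Iof_maxAb hT T
      ⟨(z : T).2, Subgroup.mem_centralizer_iff.2 fun w hw =>
        congrArg Subtype.val (Subgroup.mem_center_iff.1 z.2 ⟨w, hw⟩)⟩
    rw [h, Subgroup.mem_bot] at h2
    exact h2
  · refine ⟨hs.1, conjBy_eq_iff.1 (eq_of_le_of_card_le (hI.trans hT) (conjBy_le_iff.2 fun x hx => ?_)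
      (card_conjBy s _).ge)⟩
    refine maxAb_invariant (F := nSystem (Cfsg.innerFusionSystem S) (normalizerIn S T) T le_rfl hT)
      ?_ T _ (isMap_conj (le_normalizerIn hT) hs) ?_ ⟨A₀, hA₀, hA₀.1⟩ hx
    · intro P f hf y hy hyT
      obtain ⟨-, -, g, hg, hgf, hgT⟩ := isMap_nSystem_iff.1 hf
      rw [← hgf y hy]
      exact mem_of_img_eq hg le_sup_right hgT hyT
    · rw [img_conj]; exact conjBy_eq_iff.2 hs.2

end CfsgLib.Fusion
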