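import Cfsg.Agent.Lib.Fusion.System.FamilySatAt
import Cfsg.Agent.Lib.Fusion.System.TopCriterion

/-!
# Saturation from saturation on a generating family

If `F` is generated by, and saturated on, a conjugation closed family, and every other class has a
member `Q` with an element of `N_S(Q) ∖ Q` acting on `Q` as an element of `O_p(Aut_F(Q))`, then
`F` is saturated.
-/

set_option autoImplicit false
set_option linter.style.haveILetI false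
set_option linter.unusedSectionVars false

open Subgroup
open scoped Classical

namespace CfsgLib.Fusion.FamilySat

open Cfsg (FusionSystem autInducedBy)
open Cfsg.FusionSystem (normalizerIn centralizerIn)

variable {Ω : Type*} [Group Ω] {S : Subgroup Ω} [Finite S] {F : FusionSystem S} {p : ℕ}
  [Fact p.Prime] {P Q C X : Subgroup Ω} {f : Ω → Ω}

/-- An automorphism extends to any subgroup whose automorphisms it conjugates into `Aut_S`. -/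
theorem exists_ext (hC : F.IsReceptive C) {a : MulAut C} (ha : a ∈ F.autGroup C)
    (hXN : X ≤ normalizerIn S C)
    (hX : ∀ (n : Ω) (hn : n ∈ X), a * conjAut n (hXN hn).2 * a⁻¹ ∈ autInducedBy S C) :
    ∃ g, IsMap F X g ∧ ∀ x ∈ C, g x = autFun a x := by
  obtain ⟨g, hg, hga⟩ := (isReceptive_iff.1 hC).2 C (autFun a)
    ((mem_autGroup_iff hC.1).1 ha) (img_autFun a)
  refine ⟨g, hg.mono fun n hn => ⟨hXN hn, ?_⟩, hga⟩
  obtain ⟨h, hh, hh'⟩ := mem_autInducedBy_iff.1 (hX n hn)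
  refine ⟨h, hh, fun x hx => ?_⟩
  rw [← hh' _ (autFun_mem a hx), ← autFun_mul _ _ hx, inv_mul_cancel_right, autFun_mul _ _ hx,
    autFun_conjAut (hXN hn).2 hx]

/-- A relation on the maps between the members of the class of `P`, closed under composition and
inversion. -/
structure ClassRel (F : FusionSystem S) (P : Subgroup Ω)
    (Rel : Subgroup Ω → (Ω → Ω) → Prop) : Prop where
  congr : ∀ (Q : Subgroup Ω) (f g : Ω → Ω), Rel Q f → (∀ x ∈ Q, g x = f x) → Rel Q g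
  comp : ∀ (Q : Subgroup Ω) (f g : Ω → Ω), F.IsConj P Q → IsMap F Q f →
    IsMap F (img Q f) g → Rel Q f → Rel (img Q f) g → Rel Q (g ∘ f)
  inv : ∀ (Q : Subgroup Ω) (f f' : Ω → Ω), F.IsConj P Q → IsMap F Q f → IsMap F (img Q f) f' →
    (∀ x ∈ Q, f' (f x) = x) → Rel Q f → Rel (img Q f) f'

theorem ClassRel.cancel {Rel : Subgroup Ω → (Ω → Ω) → Prop} (hR : ClassRel F P Rel) {f v : Ω → Ω}
    (hQ : F.IsConj P Q) (hf : IsMap F Q f) (hv : IsMap F (img Q f) v)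
    (h₁ : Rel (img Q f) v) (h₂ : Rel Q (v ∘ f)) : Rel Q f := by
  have hvf : IsMap F Q (v ∘ f) := hf.comp hv fun x hx => hf.mem_img.2 ⟨x, hx, rfl⟩
  obtain ⟨v', hv', hv'1, -⟩ := hv.exists_inv
  have hQ' : F.IsConj P (img Q f) := isConj_trans hQ (isConj_iff.2 ⟨f, hf, rfl⟩)
  have h3 := hR.inv _ v v' hQ' hv hv' hv'1 h₁
  rw [img_img hf] at hv' h3
  exact hR.congr Q _ _ (hR.comp Q (v ∘ f) v' hQ hvf hv' h₂ h3)
    fun x hx => (hv'1 _ (hf.mem_img.2 ⟨x, hx, rfl⟩)).symm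

/-- Move the member `Q` of the class inside `C` so that the stabilizer has a Sylow subgroup
induced by `S`. -/
theorem exists_move (hS : IsPGroup p S) (ha : F.IsFullyAutomized p C) (hr : F.IsReceptive C)
    (hQC : Q ≤ C) [Finite Q] :
    ∃ δ ∈ F.autGroup C, ∃ _ : Finite (img Q (autFun δ)), ∃ hQ' : img Q (autFun δ) ≤ C,
      (¬ p ∣ (autInducedBy S C ⊓ autStab (F.autGroup C) (img Q (autFun δ)) hQ').relIndex
        (autStab (F.autGroup C) (img Q (autFun δ)) hQ')) ∧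
      ∃ g, IsMap F (normalizerIn (normalizerIn S C) Q) g ∧ ∀ x ∈ C, g x = autFun δ x := by
  obtain ⟨hCS, hi⟩ := (isFullyAutomized_iff hS).1 ha
  haveI := finite_of_le hCS
  haveI := finite_mulAut (P := C)
  set Y := F.autGroup C
  set A := autInducedBy S C with hA
  set K := autStab Y Q hQC with hK
  obtain ⟨R, hAR, hRK, hRp, hRi⟩ := exists_le_not_dvd_relIndex
    ((isPGroup_autInducedBy hS).to_le (inf_le_left : A ⊓ K ≤ A)) (inf_le_right : A ⊓ K ≤ K)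
  obtain ⟨δ, hδ, hδR⟩ := exists_conj_le_of_not_dvd_relIndex (isPGroup_autInducedBy hS)
    (autInducedBy_le_autGroup hCS) hi hRp (hRK.trans fun a ha => ha.1)
  have hm := (mem_autGroup_iff hCS).1 hδ
  have hQ' : img Q (autFun δ) ≤ C :=
    (hm.mono hQC).img_le_of_forall fun x hx => autFun_mem δ (hQC hx)
  haveI hfin : Finite (img Q (autFun δ)) := finite_of_le (hQ'.trans hCS)
  set K' := autStab Y (img Q (autFun δ)) hQ' with hK'
  have hKK' : ∀ a ∈ K, δ * a * δ⁻¹ ∈ K' := by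
    intro a ha
    refine ⟨mul_mem (mul_mem hδ ha.1) (inv_mem hδ), fun y hy => ?_⟩
    obtain ⟨x, hx, rfl⟩ := (hm.mono hQC).mem_img.1 hy
    rw [← autFun_mul _ _ (hQC hx), inv_mul_cancel_right, autFun_mul _ _ (hQC hx)]
    exact (hm.mono hQC).mem_img.2 ⟨_, ha.2 x hx, rfl⟩
  have hconj : conjBy δ K = K' := by
    refine le_antisymm (conjBy_le_iff.2 hKK') fun a ha => mem_conjBy.2 ?_
    refine ⟨mul_mem (mul_mem (inv_mem hδ) ha.1) hδ, fun x hx => ?_⟩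
    have h1 := ha.2 _ ((hm.mono hQC).mem_img.2 ⟨x, hx, rfl⟩)
    obtain ⟨z, hz, hze⟩ := (hm.mono hQC).mem_img.1 h1
    rw [autFun_mul _ _ (hQC hx), autFun_mul _ _ (autFun_mem _ (hQC hx)), ← hze,
      ← autFun_mul _ _ (hQC hz), inv_mul_cancel, autFun_one (hQC hz)]
    exact hz
  refine ⟨δ, hδ, hfin, hQ', ?_, ?_⟩
  · have h1 : conjBy δ R ≤ A ⊓ K' :=
      le_inf hδR (hconj ▸ conjBy_mono hRK)
    have h2 : ¬ p ∣ (conjBy δ R).relIndex K' := by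
      rw [← hconj, conjBy, conjBy, Subgroup.relIndex_map_map_of_injective _ _ (MulAut.conj δ).injective]
      exact hRi
    exact fun hd => h2 (hd.trans (relIndex_dvd_of_le_left K' h1))
  · obtain ⟨g, hg, hge⟩ := exists_ext hr hδ (X := normalizerIn (normalizerIn S C) Q) inf_le_left
      fun n hn => hδR (conj_mem_conjBy (hAR ⟨conjAut_mem hn.1.1 hn.1.2,
        autInducedBy_le_autGroup hCS (conjAut_mem hn.1.1 hn.1.2), fun x hx => by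
          rw [autFun_conjAut hn.1.2 (hQC hx)]
          exact (Subgroup.mem_normalizer_iff.1 hn.2 x).1 hx⟩))
    exact ⟨g, hg, hge⟩

variable {Rel : Subgroup Ω → (Ω → Ω) → Prop} {Pred : Subgroup Ω → Ω → Prop}

/-- Reduction of a map on `A` to a stabilizer in the automizer of a conjugate of `A`. -/
theorem rel_of_stab (hS : IsPGroup p S) (hR : ClassRel F P Rel)
    (hPred : ∀ (X : Subgroup Ω) (f : Ω → Ω) (Q : Subgroup Ω) (n : Ω), IsMap F X f → Q ≤ X →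
      n ∈ X → Pred Q n → Pred (img Q f) (f n))
    {A : Subgroup Ω} {ψ : Ω → Ω} (hsatA : SatAt F p A) (hQ : F.IsConj P Q) (hψ : IsMap F A ψ)
    (hQA : Q < A) (hAQ : A ≤ normalizerIn S Q)
    {n₀ : Ω} (hn₀ : n₀ ∈ normalizerIn (normalizerIn S Q) A) (hn₀A : n₀ ∉ A) (hp₀ : Pred Q n₀)
    (hB : img A ψ < normalizerIn S (img Q ψ))
    (IH : ∀ (X Q : Subgroup Ω) (g : Ω → Ω), F.IsConj P Q → Nat.card A < Nat.card X → Q < X →
      X ≤ normalizerIn S Q → IsMap F X g → Rel Q g)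
    (hk : ∀ (C Q' : Subgroup Ω) [Finite Q'] (hQ'C : Q' ≤ C), Nat.card C = Nat.card A →
      F.IsConj P Q' → Q' < C → F.IsFullyAutomized p C → F.IsReceptive C →
      (∃ n ∈ normalizerIn (normalizerIn S C) Q', n ∉ C ∧ Pred Q' n) →
      (¬ p ∣ (autInducedBy S C ⊓ autStab (F.autGroup C) Q' hQ'C).relIndex
        (autStab (F.autGroup C) Q' hQ'C)) →
      C ≤ normalizerIn S Q' →
      ∀ k ∈ autStab (F.autGroup C) Q' hQ'C, Rel Q' (autFun k)) :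
    Rel Q ψ := by
  have hQS := (isConj_le hQ).2
  have hAS : A ≤ S := hψ.le
  have hψQ := hψ.mono hQA.le
  set B := img A ψ with hBdef
  set Q' := img Q ψ with hQ'def
  have hQ' : F.IsConj P Q' := isConj_trans hQ (isConj_iff.2 ⟨ψ, hψQ, rfl⟩)
  have hBS : B ≤ S := hψ.img_le
  have hQB : Q' ≤ B := hψ.img_mono hQA.le
  have hcardB : Nat.card B = Nat.card A := hψ.card_img
  obtain ⟨C, -, hCa, hCr, θA, hθA, hθAC, hθAN⟩ := exists_to_normalized hS hAS hsatA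
  have hCc : Nat.card C = Nat.card A := by
    rw [← hθAC, (hθA.mono (le_normalizerIn hAS)).card_img]
  have hconjC : F.IsConj B C := isConj_trans (isConj_symm (isConj_iff.2 ⟨ψ, hψ, rfl⟩))
    (isConj_iff.2 ⟨θA, hθA.mono (le_normalizerIn hAS), hθAC⟩)
  obtain ⟨θB, hθB, hθBC, hθBN⟩ := exists_map_normalizer hS hCa hCr hconjC
  have hCS : C ≤ S := hCa.1
  haveI := finite_of_le hCS
  haveI := finite_mulAut (P := C)
  set Y := F.autGroup C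
  -- the two members of the class inside `C`
  set A₁ := normalizerIn (normalizerIn S Q) A with hA₁
  have hA₁N : A₁ ≤ normalizerIn S A := fun z hz => ⟨hz.1.1, hz.2⟩
  have hAA₁ : A ≤ A₁ := le_inf hAQ Subgroup.le_normalizer
  have hθA₁ := hθA.mono hA₁N
  set Q₁ := img Q θA with hQ₁
  have hQA₁ : Q < A₁ := hQA.trans_le hAA₁
  have hAcard : Nat.card A < Nat.card A₁ := card_lt_of_lt (inf_le_left.trans inf_le_left)
    (lt_of_le_of_ne hAA₁ fun e => hn₀A (e ▸ hn₀))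
  have hRelA : Rel Q θA := IH A₁ Q θA hQ hAcard hQA₁ inf_le_left hθA₁
  have hQ₁C : Q₁ ≤ C := hθAC ▸ (hθA.mono (le_normalizerIn hAS)).img_mono hQA.le
  haveI := finite_of_le (hQ₁C.trans hCS)
  have hn₁ : θA n₀ ∈ normalizerIn (normalizerIn S C) Q₁ := ⟨hθAN _ (hA₁N hn₀),
    (map_mem_normalizerIn hθA₁ hQA₁.le hn₀ hn₀.1.2).2⟩
  have hn₁C : θA n₀ ∉ C := fun h => hn₀A
    (hθA.mem_of_mem_img (le_normalizerIn hAS) (hA₁N hn₀) (hθAC ▸ h))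
  have hQ₁conj : F.IsConj P Q₁ :=
    isConj_trans hQ (isConj_iff.2 ⟨θA, hθA₁.mono hQA₁.le, rfl⟩)
  have hp₁ : Pred Q₁ (θA n₀) := hPred A₁ θA Q n₀ hθA₁ hQA₁.le hn₀ hp₀
  set B₁ := normalizerIn (normalizerIn S Q') B with hB₁
  have hB₁N : B₁ ≤ normalizerIn S B := fun z hz => ⟨hz.1.1, hz.2⟩
  have hBQ' : B ≤ normalizerIn S Q' := fun y hy => by
    obtain ⟨x, hx, rfl⟩ := hψ.mem_img.1 hy
    exact map_mem_normalizerIn hψ hQA.le hx (hAQ hx).2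
  haveI : Finite (normalizerIn S Q') := finite_of_le (inf_le_left : normalizerIn S Q' ≤ S)
  have hNp : IsPGroup p (normalizerIn S Q') := hS.to_le inf_le_left
  haveI : Group.IsNilpotent (normalizerIn S Q') := hNp.isNilpotent
  have hBB₁ : B < B₁ := lt_inf_normalizer hBQ' hB.ne
  have hθB₁ := hθB.mono hB₁N
  set Q₂ := img Q' θB with hQ₂
  have hQ'B₁ : Q' ≤ B₁ := hQB.trans hBB₁.le
  have hQ'lt : Q' < B := lt_of_le_of_ne hQB fun e => by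
    have h1 := card_lt_of_lt hAS hQA
    rw [← hcardB, ← e, hψQ.card_img] at h1
    exact lt_irrefl _ h1
  have hBcard : Nat.card A < Nat.card B₁ :=
    hcardB ▸ card_lt_of_lt (inf_le_left.trans inf_le_left) hBB₁
  have hRelB : Rel Q' θB := IH B₁ Q' θB hQ' hBcard (hQ'lt.trans hBB₁) inf_le_left hθB₁
  have hQ₂C : Q₂ ≤ C := hθBC ▸ (hθB.mono (le_normalizerIn hBS)).img_mono hQB
  haveI := finite_of_le (hQ₂C.trans hCS)
  have hQ₂conj : F.IsConj P Q₂ := isConj_trans hQ' (isConj_iff.2 ⟨θB, hθB₁.mono hQ'B₁, rfl⟩)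
  -- the automorphism of `C`
  obtain ⟨θA', hθA', hθA'1, hθA'2⟩ := (hθA.mono (le_normalizerIn hAS)).exists_inv
  rw [hθAC] at hθA' hθA'2
  have hψ' : IsMap F C (ψ ∘ θA') := hθA'.comp hψ fun y hy => (hθA'2 y hy).1
  have hψB : ∀ y ∈ C, ψ (θA' y) ∈ B := fun y hy => hψ.mem_img.2 ⟨_, (hθA'2 y hy).1, rfl⟩
  have hγm : IsMap F C (θB ∘ (ψ ∘ θA')) := hψ'.comp (hθB.mono (le_normalizerIn hBS)) hψB
  have hγi : img C (θB ∘ (ψ ∘ θA')) = C := img_eq_of_map_le hCS hγm le_rfl fun y hy =>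
    hθBC.le ((hθB.mono (le_normalizerIn hBS)).mem_img.2 ⟨_, hψB y hy, rfl⟩)
  set γ₀ := autOf hγm hγi with hγ₀
  have hγ₀Y : γ₀ ∈ Y := autOf_mem hγm hγi
  have hγv : ∀ x ∈ Q, autFun γ₀ (θA x) = θB (ψ x) := fun x hx => by
    rw [autFun_autOf hγm hγi (hQ₁C ((hθA₁.mono hQA₁.le).mem_img.2 ⟨x, hx, rfl⟩))]
    show θB (ψ (θA' (θA x))) = _
    rw [hθA'1 x (hQA.le hx)]
  -- move both
  obtain ⟨δ₁, hδ₁, hfin₃, hQ₃C, hT₃, g₁, hg₁, hg₁δ⟩ := exists_move hS hCa hCr hQ₁C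
  obtain ⟨δ₂, hδ₂, hfin₄, hQ₄C, hT₄, g₂, hg₂, hg₂δ⟩ := exists_move hS hCa hCr hQ₂C
  set Q₃ := img Q₁ (autFun δ₁) with hQ₃
  set Q₄ := img Q₂ (autFun δ₂) with hQ₄
  have hδ₁m := (mem_autGroup_iff hCS).1 hδ₁
  have hδ₂m := (mem_autGroup_iff hCS).1 hδ₂
  have hQ₃conj : F.IsConj P Q₃ :=
    isConj_trans hQ₁conj (isConj_iff.2 ⟨_, hδ₁m.mono hQ₁C, rfl⟩)
  have hQ₄conj : F.IsConj P Q₄ :=
    isConj_trans hQ₂conj (isConj_iff.2 ⟨_, hδ₂m.mono hQ₂C, rfl⟩)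
  have hX₁ : C ≤ normalizerIn (normalizerIn S C) Q₁ := fun y hy => by
    refine ⟨le_normalizerIn hCS hy, ?_⟩
    obtain ⟨x, hx, rfl⟩ :=
      (hθA.mono (le_normalizerIn hAS)).mem_img.1 (hθAC.symm ▸ hy)
    exact (map_mem_normalizerIn hθA₁ hQA₁.le (hAA₁ hx) (hAQ hx).2).2
  have hX₂ : C ≤ normalizerIn (normalizerIn S C) Q₂ := fun y hy => by
    refine ⟨le_normalizerIn hCS hy, ?_⟩
    obtain ⟨x, hx, rfl⟩ :=
      (hθB.mono (le_normalizerIn hBS)).mem_img.1 (hθBC.symm ▸ hy)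
    exact (map_mem_normalizerIn hθB₁ hQ'B₁ (hBB₁.le hx) (hBQ' hx).2).2
  have hX₁c : Nat.card C < Nat.card (normalizerIn (normalizerIn S C) Q₁) :=
    card_lt_of_lt (inf_le_left.trans inf_le_left)
      (lt_of_le_of_ne hX₁ fun e => hn₁C (e.symm ▸ hn₁))
  have hX₂c : Nat.card C < Nat.card (normalizerIn (normalizerIn S C) Q₂) := by
    refine lt_of_lt_of_le ?_ (card_le_of_le' (inf_le_left.trans inf_le_left)
      (hθB₁.img_le_of_forall fun z hz => (⟨hθBN _ (hB₁N hz),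
        (map_mem_normalizerIn hθB₁ hQ'B₁ hz hz.1.2).2⟩ :
          θB z ∈ normalizerIn (normalizerIn S C) Q₂)))
    rw [hθB₁.card_img, hCc]
    exact hBcard
  have hQ₁lt : Q₁ < C := lt_of_le_of_ne hQ₁C fun e => by
    have h1 := card_lt_of_lt hAS hQA
    rw [← hCc, ← e, hQ₁, (hθA₁.mono hQA₁.le).card_img] at h1
    exact lt_irrefl _ h1
  have hQ₂lt : Q₂ < C := lt_of_le_of_ne hQ₂C fun e => by
    have h1 := card_lt_of_lt hBS hQ'lt
    rw [hcardB, ← hCc, ← e, hQ₂, (hθB₁.mono hQ'B₁).card_img] at h1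
    exact lt_irrefl _ h1
  have hRel₁ : Rel Q₁ (autFun δ₁) := hR.congr _ g₁ _
    (IH _ Q₁ g₁ hQ₁conj (hCc ▸ hX₁c) (hQ₁lt.trans_le hX₁) (fun z hz => ⟨hz.1.1, hz.2⟩) hg₁)
    fun x hx => (hg₁δ x (hQ₁C hx)).symm
  have hRel₂ : Rel Q₂ (autFun δ₂) := hR.congr _ g₂ _
    (IH _ Q₂ g₂ hQ₂conj (hCc ▸ hX₂c) (hQ₂lt.trans_le hX₂) (fun z hz => ⟨hz.1.1, hz.2⟩) hg₂)
    fun x hx => (hg₂δ x (hQ₂C hx)).symm
  have him₃ : img Q₁ g₁ = Q₃ := IsMap.img_congr fun x hx => hg₁δ x (hQ₁C hx)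
  have hX₃ : C ≤ normalizerIn (normalizerIn S C) Q₃ := fun y hy => by
    refine ⟨le_normalizerIn hCS hy, ?_⟩
    obtain ⟨x, hx, rfl⟩ := hδ₁m.mem_img.1 ((img_autFun δ₁).ge hy)
    exact (map_mem_normalizerIn hδ₁m hQ₁C hx (hX₁ hx).2).2
  have hX₄ : C ≤ normalizerIn (normalizerIn S C) Q₄ := fun y hy => by
    refine ⟨le_normalizerIn hCS hy, ?_⟩
    obtain ⟨x, hx, rfl⟩ := hδ₂m.mem_img.1 ((img_autFun δ₂).ge hy)
    exact (map_mem_normalizerIn hδ₂m hQ₂C hx (hX₂ hx).2).2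
  -- carry the Sylow subgroup of the first stabilizer into the second
  set γ := δ₂ * γ₀ * δ₁⁻¹ with hγ
  have hγY : γ ∈ Y := mul_mem (mul_mem hδ₂ hγ₀Y) (inv_mem hδ₁)
  have hγ3 : ∀ x ∈ Q, autFun γ (autFun δ₁ (θA x)) = autFun δ₂ (θB (ψ x)) := fun x hx => by
    have h1 : θA x ∈ C := hQ₁C ((hθA₁.mono hQA₁.le).mem_img.2 ⟨x, hx, rfl⟩)
    rw [← autFun_mul _ _ h1, hγ, inv_mul_cancel_right, autFun_mul _ _ h1, hγv x hx]
  have hmem3 : ∀ y ∈ Q₃, ∃ x ∈ Q, autFun δ₁ (θA x) = y := fun y hy => by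
    obtain ⟨u, hu, rfl⟩ := (hδ₁m.mono hQ₁C).mem_img.1 hy
    obtain ⟨x, hx, rfl⟩ := (hθA₁.mono hQA₁.le).mem_img.1 hu
    exact ⟨x, hx, rfl⟩
  have hγimg : img Q₃ (autFun γ) = Q₄ := by
    have hm := ((mem_autGroup_iff hCS).1 hγY).mono hQ₃C
    refine eq_of_le_of_card_le (hQ₄C.trans hCS) (hm.img_le_of_forall fun y hy => ?_) ?_
    · obtain ⟨x, hx, rfl⟩ := hmem3 y hy
      rw [hγ3 x hx]
      exact (hδ₂m.mono hQ₂C).mem_img.2
        ⟨_, (hθB₁.mono hQ'B₁).mem_img.2 ⟨_, hψQ.mem_img.2 ⟨x, hx, rfl⟩, rfl⟩, rfl⟩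
    · rw [hm.card_img, (hδ₂m.mono hQ₂C).card_img, (hθB₁.mono hQ'B₁).card_img, hψQ.card_img,
        (hδ₁m.mono hQ₁C).card_img, (hθA₁.mono hQA₁.le).card_img]
  set T₃ := autInducedBy S C ⊓ autStab Y Q₃ hQ₃C
  set T₄ := autInducedBy S C ⊓ autStab Y Q₄ hQ₄C
  have hγm := (mem_autGroup_iff hCS).1 hγY
  have hT₃₄ : conjBy γ T₃ ≤ autStab Y Q₄ hQ₄C := conjBy_le_iff.2 fun a ha => by
    refine ⟨mul_mem (mul_mem hγY ha.2.1) (inv_mem hγY), fun y hy => ?_⟩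
    rw [← hγimg] at hy ⊢
    obtain ⟨x, hx, rfl⟩ := (hγm.mono hQ₃C).mem_img.1 hy
    rw [← autFun_mul _ _ (hQ₃C hx), inv_mul_cancel_right, autFun_mul _ _ (hQ₃C hx)]
    exact (hγm.mono hQ₃C).mem_img.2 ⟨_, ha.2.2 x hx, rfl⟩
  obtain ⟨k, hkK, hkT⟩ := exists_conj_le_of_not_dvd_relIndex
    ((isPGroup_autInducedBy hS).to_le (inf_le_left : T₄ ≤ _)) (inf_le_right : T₄ ≤ _) hT₄
    (isPGroup_conjBy γ ((isPGroup_autInducedBy hS).to_le (inf_le_left : T₃ ≤ _))) hT₃₄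
  rw [conjBy_conjBy] at hkT
  set X₃ := normalizerIn (normalizerIn S C) Q₃
  have hX₃T : ∀ (n : Ω) (hn : n ∈ X₃), conjAut n hn.1.2 ∈ T₃ := fun n hn =>
    ⟨conjAut_mem hn.1.1 hn.1.2, autInducedBy_le_autGroup hCS (conjAut_mem hn.1.1 hn.1.2),
      fun x hx => by
        rw [autFun_conjAut hn.1.2 (hQ₃C hx)]
        exact (Subgroup.mem_normalizer_iff.1 hn.2 x).1 hx⟩
  obtain ⟨g₃, hg₃, hg₃e⟩ := exists_ext hCr (mul_mem hkK.1 hγY) (X := X₃) inf_le_left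
    fun n hn => (hkT (conj_mem_conjBy (hX₃T n hn))).1
  set n₃ := g₁ (θA n₀) with hn₃def
  have hn₃ : n₃ ∈ X₃ := by
    have hCX : C ≤ normalizerIn (normalizerIn S C) Q₁ := hX₁
    refine ⟨?_, him₃ ▸ (map_mem_normalizerIn hg₁ (hQ₁C.trans hX₁) hn₁ hn₁.2).2⟩
    have h1 := map_mem_normalizerIn hg₁ hX₁ hn₁ hn₁.1.2
    rwa [IsMap.img_congr hg₁δ, img_autFun] at h1
  have hn₃C : n₃ ∉ C := fun h => hn₁C (hg₁.mem_of_mem_img hX₁ hn₁ (by
    rw [IsMap.img_congr hg₁δ, img_autFun]; exact h))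
  have hp₃ : Pred Q₃ n₃ := him₃ ▸ hPred _ g₁ Q₁ _ hg₁ (hQ₁C.trans hX₁) hn₁ hp₁
  have him₄ : img Q₃ g₃ = Q₄ := by
    have hkm := (mem_autGroup_iff hCS).1 hkK.1
    rw [IsMap.img_congr (g := autFun k ∘ autFun γ) fun x hx => by
      rw [hg₃e x (hQ₃C hx), autFun_mul _ _ (hQ₃C hx)]; rfl,
      ← img_img (hγm.mono hQ₃C), hγimg]
    exact img_eq_of_map_le (hQ₄C.trans hCS) (hkm.mono hQ₄C) le_rfl hkK.2
  have hn₄ : g₃ n₃ ∈ normalizerIn (normalizerIn S C) Q₄ := by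
    refine ⟨?_, him₄ ▸ (map_mem_normalizerIn hg₃ (hQ₃C.trans hX₃) hn₃ hn₃.2).2⟩
    have h1 := map_mem_normalizerIn hg₃ hX₃ hn₃ hn₃.1.2
    rwa [IsMap.img_congr hg₃e, img_autFun] at h1
  have hn₄C : g₃ n₃ ∉ C := fun h => hn₃C (hg₃.mem_of_mem_img hX₃ hn₃ (by
    rw [IsMap.img_congr hg₃e, img_autFun]; exact h))
  have hQ₃lt : Q₃ < C := lt_of_le_of_ne hQ₃C fun e => by
    have h1 := card_lt_of_lt hCS hQ₁lt
    rw [← (hδ₁m.mono hQ₁C).card_img, ← hQ₃, e] at h1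
    exact lt_irrefl _ h1
  have hQ₄lt : Q₄ < C := lt_of_le_of_ne hQ₄C fun e => by
    have h1 := card_lt_of_lt hCS hQ₂lt
    rw [← (hδ₂m.mono hQ₂C).card_img, ← hQ₄, e] at h1
    exact lt_irrefl _ h1
  have hRelk : Rel Q₄ (autFun k) := hk C Q₄ hQ₄C hCc hQ₄conj hQ₄lt hCa hCr
    ⟨g₃ n₃, hn₄, hn₄C, him₄ ▸ hPred _ g₃ Q₃ _ hg₃ (hQ₃C.trans hX₃) hn₃ hp₃⟩ hT₄
    (fun y hy => ⟨hCS hy, (hX₄ hy).2⟩) k hkK
  have hX₃c : Nat.card A < Nat.card X₃ := hCc ▸ card_lt_of_lt (inf_le_left.trans inf_le_left)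
    (lt_of_le_of_ne hX₃ fun e => hn₃C (e.symm ▸ hn₃))
  have hRel₃ : Rel Q₃ (autFun (k * γ)) := hR.congr _ g₃ _
    (IH X₃ Q₃ g₃ hQ₃conj hX₃c (hQ₃lt.trans_le hX₃) (fun z hz => ⟨hz.1.1, hz.2⟩) hg₃)
    fun x hx => (hg₃e x (hQ₃C hx)).symm
  -- compose
  have hku : Rel Q₁ (autFun (k * γ) ∘ autFun δ₁) := hR.comp Q₁ _ _ hQ₁conj (hδ₁m.mono hQ₁C)
    (((mem_autGroup_iff hCS).1 (mul_mem hkK.1 hγY)).mono hQ₃C) hRel₁ hRel₃
  have hku' : Rel Q ((autFun (k * γ) ∘ autFun δ₁) ∘ θA) := hR.comp Q _ _ hQ (hθA₁.mono hQA₁.le)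
    ((hδ₁m.mono hQ₁C).comp (((mem_autGroup_iff hCS).1 (mul_mem hkK.1 hγY)).mono hQ₃C)
      fun x hx => (hδ₁m.mono hQ₁C).mem_img.2 ⟨x, hx, rfl⟩) hRelA hku
  have hkm₄ : IsMap F Q₄ (autFun k) := ((mem_autGroup_iff hCS).1 hkK.1).mono hQ₄C
  have hv : Rel Q' ((autFun k ∘ autFun δ₂) ∘ θB) := hR.comp Q' _ _ hQ' (hθB₁.mono hQ'B₁)
    ((hδ₂m.mono hQ₂C).comp hkm₄ fun x hx => (hδ₂m.mono hQ₂C).mem_img.2 ⟨x, hx, rfl⟩) hRelB
    (hR.comp Q₂ _ _ hQ₂conj (hδ₂m.mono hQ₂C) hkm₄ hRel₂ hRelk)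
  refine hR.cancel hQ hψQ ((hθB₁.mono hQ'B₁).comp
    ((hδ₂m.mono hQ₂C).comp hkm₄ fun x hx => (hδ₂m.mono hQ₂C).mem_img.2 ⟨x, hx, rfl⟩)
    fun x hx => (hθB₁.mono hQ'B₁).mem_img.2 ⟨x, hx, rfl⟩) hv (hR.congr Q _ _ hku' fun x hx => ?_)
  have h1 : autFun δ₁ (θA x) ∈ C :=
    autFun_mem δ₁ (hQ₁C ((hθA₁.mono hQA₁.le).mem_img.2 ⟨x, hx, rfl⟩))
  show autFun k (autFun δ₂ (θB (ψ x))) = autFun (k * γ) (autFun δ₁ (θA x))
  rw [autFun_mul _ _ h1, hγ3 x hx]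

end CfsgLib.Fusion.FamilySat
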