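import Cfsg.Agent.Lib.Fusion.System.Normal
import Cfsg.Agent.Lib.Coprime.Core

/-!
# Saturation at one class: restriction of automizers, the radical part

`SatAt F p P` says that some conjugate of `P` is fully automized and receptive.
-/

set_option autoImplicit false
set_option linter.style.haveILetI false
set_option linter.unusedSectionVars false

open Subgroup
open scoped Classical

namespace CfsgLib.Fusion.FamilySat

open Cfsg (FusionSystem autInducedBy)
open Cfsg.FusionSystem (normalizerIn centralizerIn)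

variable {Ω : Type*} [Group Ω] {S : Subgroup Ω} {F : FusionSystem S} {p : ℕ}
  {P Q C X : Subgroup Ω} {f : Ω → Ω}

/-- The class of `P` has a fully automized receptive member. -/
def SatAt (F : FusionSystem S) (p : ℕ) (P : Subgroup Ω) : Prop :=
  ∃ Q, F.IsConj P Q ∧ F.IsFullyAutomized p Q ∧ F.IsReceptive Q

section Saturated

variable [Finite S] [Fact p.Prime]

theorem SatAt.automized_receptive (hS : IsPGroup p S) (hQ : F.IsFullyNormalized Q)
    (h : SatAt F p Q) : F.IsFullyAutomized p Q ∧ F.IsReceptive Q := by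
  obtain ⟨P, hPQ, h₁, h₂⟩ := h
  obtain ⟨g, hg, himg, hgN⟩ := exists_map_normalizer hS h₁ h₂ hPQ
  refine automized_receptive_of_normalizer_iso hS h₁ h₂ hQ.1 hg himg ?_
  refine eq_of_le_of_card_le inf_le_left (fun y hy => ?_) (hg.card_img ▸ hQ.2 P hPQ)
  obtain ⟨x, hx, rfl⟩ := hg.mem_img.1 hy
  exact hgN x hx

/-- The normalizer of `Q` maps into that of a fully normalized conjugate. -/
theorem exists_to_normalized (hS : IsPGroup p S) (hQ : Q ≤ S) (h : SatAt F p Q) :
    ∃ C, F.IsFullyNormalized C ∧ F.IsFullyAutomized p C ∧ F.IsReceptive C ∧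
      ∃ g, IsMap F (normalizerIn S Q) g ∧ img Q g = C ∧
        ∀ x ∈ normalizerIn S Q, g x ∈ normalizerIn S C := by
  obtain ⟨C₀, hQC, h₁, h₂⟩ := h
  exact ⟨C₀, isFullyNormalized_of_automized_receptive hS h₁ h₂, h₁, h₂,
    exists_map_normalizer hS h₁ h₂ hQC⟩

end Saturated

/-! ### The stabilizer of a subgroup and restriction to it -/

/-- The elements of `X` mapping `Q` into itself. -/
def autStab (Y : Subgroup (MulAut C)) (Q : Subgroup Ω) [Finite Q] (hQC : Q ≤ C) :
    Subgroup (MulAut C) where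
  carrier := {a | a ∈ Y ∧ ∀ x ∈ Q, autFun a x ∈ Q}
  one_mem' := ⟨one_mem Y, fun x hx => by rwa [autFun_one (hQC hx)]⟩
  mul_mem' := fun {a b} ha hb => ⟨mul_mem ha.1 hb.1, fun x hx => by
    rw [autFun_mul _ _ (hQC hx)]; exact ha.2 _ (hb.2 x hx)⟩
  inv_mem' := fun {a} ha => ⟨inv_mem ha.1, fun y hy => by
    obtain ⟨⟨x, hx⟩, hxy⟩ := (Finite.injective_iff_surjective
      (f := fun x : Q => (⟨autFun a x, ha.2 x x.2⟩ : Q))).1 (fun u v huv => Subtype.ext (by
        have h : autFun a u = autFun a v := congrArg Subtype.val huv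
        rw [autFun_apply a (hQC u.2), autFun_apply a (hQC v.2)] at h
        have h2 := a.injective (Subtype.ext h)
        exact (congrArg Subtype.val h2 :))) ⟨y, hy⟩
    have h : autFun a x = y := congrArg Subtype.val hxy
    rw [← h, ← autFun_mul _ _ (hQC hx), inv_mul_cancel, autFun_one (hQC hx)]
    exact hx⟩

theorem mem_autStab {Y : Subgroup (MulAut C)} [Finite Q] {hQC : Q ≤ C} {a : MulAut C} :
    a ∈ autStab Y Q hQC ↔ a ∈ Y ∧ ∀ x ∈ Q, autFun a x ∈ Q := Iff.rfl

/-- Restriction to `Q` of the automorphisms of `C` stabilizing it. -/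
noncomputable def autRes (Y : Subgroup (MulAut C)) (Q : Subgroup Ω) [Finite Q] (hQC : Q ≤ C) :
    autStab Y Q hQC →* MulAut Q :=
  MonoidHom.mk' (fun a => MulEquiv.ofBijective
    (MonoidHom.mk' (fun x : Q => (⟨autFun (a : MulAut C) x, a.2.2 x x.2⟩ : Q))
      fun x y => Subtype.ext (autFun_map_mul _ (hQC x.2) (hQC y.2)))
    (Finite.injective_iff_bijective.1 fun u v huv => Subtype.ext (by
      have h : autFun (a : MulAut C) u = autFun (a : MulAut C) v := congrArg Subtype.val huv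
      rw [autFun_apply _ (hQC u.2), autFun_apply _ (hQC v.2)] at h
      have h2 := (a : MulAut C).injective (Subtype.ext h)
      exact (congrArg Subtype.val h2 :))))
    fun a b => MulEquiv.ext fun x => Subtype.ext (autFun_mul _ _ (hQC x.2))

theorem autFun_autRes {Y : Subgroup (MulAut C)} [Finite Q] {hQC : Q ≤ C}
    (a : autStab Y Q hQC) {x : Ω} (hx : x ∈ Q) :
    autFun (autRes Y Q hQC a) x = autFun (a : MulAut C) x :=
  autFun_apply _ hx

theorem autRes_mem_autGroup [Finite Q] {hQC : Q ≤ C} (hC : C ≤ S)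
    (a : autStab (F.autGroup C) Q hQC) : autRes (F.autGroup C) Q hQC a ∈ F.autGroup Q :=
  (mem_autGroup_iff (hQC.trans hC)).2
    ((((mem_autGroup_iff hC).1 a.2.1).mono hQC).congr fun _ hx => autFun_autRes a hx)

/-! ### The radical part -/

/-- `O_p(Aut_F(P))` as automorphisms of `P`. -/
noncomputable def oCore (F : FusionSystem S) (p : ℕ) (P : Subgroup Ω) : Subgroup (MulAut P) :=
  (Cfsg.pCore p (F.autGroup P)).map (F.autGroup P).subtype

theorem oCore_le : oCore F p P ≤ F.autGroup P := Subgroup.map_subtype_le _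

theorem oCore_conj {a x : MulAut P} (hx : x ∈ F.autGroup P) (ha : a ∈ oCore F p P) :
    x * a * x⁻¹ ∈ oCore F p P := by
  obtain ⟨b, hb, rfl⟩ := ha
  exact ⟨⟨x, hx⟩ * b * ⟨x, hx⟩⁻¹, (CfsgLib.Coprime.pCore_normal' p).conj_mem _ hb _, rfl⟩

variable [Finite S] [Fact p.Prime]

theorem isPGroup_oCore : IsPGroup p (oCore F p P) := by
  by_cases hP : P ≤ S
  · haveI := finite_of_le hP
    haveI := finite_mulAut (P := P)
    exact (CfsgLib.Coprime.pCore_isPGroup p).map _
  · haveI : Subsingleton (F.autGroup P) := by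
      refine ⟨fun a b => ?_⟩
      have h : F.autGroup P = ⊥ := eq_bot_iff.2 ((Subgroup.closure_le _).2
        fun α hα => absurd (F.le_of_mem hα).1 hP)
      exact Subtype.ext ((Subgroup.mem_bot.1 (h.le a.2)).trans (Subgroup.mem_bot.1 (h.le b.2)).symm)
    intro a
    refine ⟨0, ?_⟩
    obtain ⟨b, -, hb⟩ := a.2
    exact Subtype.ext (by
      rw [pow_zero, pow_one, ← hb, Subsingleton.elim b 1]; rfl)

theorem oCore_congr (hf : IsMap F P f) {a : MulAut P} (ha : a ∈ oCore F p P) :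
    MulAut.congr (mapEquiv hf) a ∈ oCore F p (img P f) := by
  haveI := finite_of_le hf.img_le
  haveI := finite_mulAut (P := img P f)
  set M := (oCore F p P).map (MulAut.congr (mapEquiv hf)).toMonoidHom with hM
  have hMX : M ≤ F.autGroup (img P f) :=
    (Subgroup.map_mono oCore_le).trans (autGroup_congr hf).le
  haveI : (M.subgroupOf (F.autGroup (img P f))).Normal := ⟨fun u hu x => by
    obtain ⟨b, hb, hbu⟩ := Subgroup.mem_subgroupOf.1 hu
    obtain ⟨y, hy, hyx⟩ := (autGroup_congr hf).ge x.2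
    refine Subgroup.mem_subgroupOf.2 ⟨y * b * y⁻¹, oCore_conj hy hb, ?_⟩
    rw [Subgroup.coe_mul, Subgroup.coe_mul, Subgroup.coe_inv, ← hbu, ← hyx, map_mul, map_mul,
      map_inv]⟩
  have hMp : IsPGroup p (M.subgroupOf (F.autGroup (img P f))) :=
    (isPGroup_oCore.map _).of_equiv (Subgroup.subgroupOfEquivOfLe hMX).symm
  exact ⟨⟨_, hMX (Subgroup.mem_map_of_mem _ ha)⟩, CfsgLib.Coprime.le_pCore hMp
    (Subgroup.mem_subgroupOf.2 (Subgroup.mem_map_of_mem _ ha)), rfl⟩

/-- `n` acts on `P` as an element of `O_p(Aut_F(P))`. -/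
def InO (F : FusionSystem S) (p : ℕ) (P : Subgroup Ω) (n : Ω) : Prop :=
  ∃ a ∈ oCore F p P, ∀ x ∈ P, autFun a x = n * x * n⁻¹

theorem InO.mem_normalizer {n : Ω} (h : InO F p P n) : n ∈ Subgroup.normalizer (P : Set Ω) :=
  mem_normalizer_of_autFun h.choose_spec.2

theorem InO.map {n : Ω} (hf : IsMap F X f) (hPX : P ≤ X) (hn : n ∈ X) (h : InO F p P n) :
    InO F p (img P f) (f n) := by
  obtain ⟨a, ha, hax⟩ := h
  refine ⟨_, oCore_congr (hf.mono hPX) ha, fun y hy => ?_⟩
  obtain ⟨x, hx, rfl⟩ := (hf.mono hPX).mem_img.1 hy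
  rw [autFun_congr (hf.mono hPX) a hx, hax x hx, hf.map_conj hn (hPX hx)]

/-- The elements of `N_S(P)` acting on `P` as elements of `O_p(Aut_F(P))`. -/
def rSub (F : FusionSystem S) (p : ℕ) (P : Subgroup Ω) : Subgroup Ω where
  carrier := {n | n ∈ normalizerIn S P ∧ InO F p P n}
  one_mem' := ⟨one_mem _, 1, one_mem _, fun x hx => by rw [autFun_one hx]; group⟩
  mul_mem' := by
    rintro u v ⟨hu, a, ha, hau⟩ ⟨hv, b, hb, hbv⟩
    refine ⟨mul_mem hu hv, a * b, mul_mem ha hb, fun x hx => ?_⟩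
    rw [autFun_mul _ _ hx, hau _ (autFun_mem b hx), hbv x hx]
    group
  inv_mem' := by
    rintro u ⟨hu, a, ha, hau⟩
    refine ⟨inv_mem hu, a⁻¹, inv_mem ha, fun x hx => ?_⟩
    have h1 := hau _ (autFun_mem a⁻¹ hx)
    rw [← autFun_mul _ _ hx, mul_inv_cancel, autFun_one hx] at h1
    calc autFun a⁻¹ x = u⁻¹ * (u * autFun a⁻¹ x * u⁻¹) * u := by group
      _ = u⁻¹ * x * u⁻¹⁻¹ := by rw [← h1]; group

theorem mem_rSub {n : Ω} : n ∈ rSub F p P ↔ n ∈ normalizerIn S P ∧ InO F p P n := Iff.rfl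

theorem rSub_le : rSub F p P ≤ normalizerIn S P := fun _ hn => hn.1

theorem le_rSub (hS : IsPGroup p S) (hP : P ≤ S) : P ≤ rSub F p P := fun z hz => by
  have hzN : z ∈ Subgroup.normalizer (P : Set Ω) := Subgroup.le_normalizer hz
  refine ⟨⟨hP hz, hzN⟩, conjAut z hzN, ?_, fun x hx => autFun_conjAut hzN hx⟩
  -- inner automorphisms form a normal `p`-subgroup
  haveI := finite_of_le hP
  haveI := finite_mulAut (P := P)
  set A := autInducedBy P P with hA
  have hAX : A ≤ F.autGroup P := by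
    intro a ha
    obtain ⟨g, hg, hga⟩ := mem_autInducedBy_iff.1 ha
    exact (mem_autGroup_iff hP).2 ((isMap_conj hP (hP hg)).congr hga)
  haveI : (A.subgroupOf (F.autGroup P)).Normal := ⟨fun a ha y => by
    obtain ⟨g, hg, hga⟩ := mem_autInducedBy_iff.1 (Subgroup.mem_subgroupOf.1 ha)
    refine Subgroup.mem_subgroupOf.2 (mem_autInducedBy_iff.2
      ⟨autFun (y : MulAut P) g, autFun_mem _ hg, fun x hx => ?_⟩)
    have hy := (mem_autGroup_iff hP).1 y.2
    obtain ⟨v, hv, rfl⟩ := hy.mem_img.1 ((img_autFun (y : MulAut P)).ge hx)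
    rw [Subgroup.coe_mul, Subgroup.coe_mul, Subgroup.coe_inv, ← autFun_mul _ _ hv,
      inv_mul_cancel_right, autFun_mul _ _ hv, hga v hv, hy.map_conj hg hv]⟩
  have hAp : IsPGroup p (A.subgroupOf (F.autGroup P)) :=
    (isPGroup_autInducedBy (S := P) (hS.to_le hP)).of_equiv
      (Subgroup.subgroupOfEquivOfLe hAX).symm
  exact ⟨⟨_, hAX (conjAut_mem hz hzN)⟩, CfsgLib.Coprime.le_pCore hAp
    (Subgroup.mem_subgroupOf.2 (conjAut_mem hz hzN)), rfl⟩

end CfsgLib.Fusion.FamilySat
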