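import Mathlib

/-!
# Finite subgroups of a free group extended by permutations of its basis

A finite subgroup of `FreeGroup α ⋊ K`, with `K` permuting `α`, fixes a vertex of the Cayley tree,
namely the middle of the longest left component.
-/

set_option autoImplicit false
set_option linter.style.haveILetI false

namespace CfsgLib.Fusion.FreeExt

open FreeGroup

variable {K α : Type*} [Group K] [MulAction K α]

/-- `K` acts on the free group by permuting the basis -/
def perm : K →* MulAut (FreeGroup α) :=
  MonoidHom.mk' (fun k => freeGroupCongr (MulAction.toPerm k)) fun a b => by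
    refine MulEquiv.toMonoidHom_injective (FreeGroup.ext_hom _ _ fun x => ?_)
    simp [freeGroupCongr, mul_smul]

theorem perm_apply (k : K) (x : FreeGroup α) : perm k x = FreeGroup.map (k • ·) x := rfl

variable [DecidableEq α]

theorem toWord_perm (k : K) (x : FreeGroup α) :
    (perm k x).toWord = x.toWord.map fun a => (k • a.1, a.2) := by
  conv_lhs => rw [← FreeGroup.mk_toWord (x := x), perm_apply, FreeGroup.map.mk, FreeGroup.toWord_mk]
  refine IsReduced.reduce_eq ?_
  have h : IsReduced x.toWord := isReduced_toWord
  unfold FreeGroup.IsReduced at h ⊢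
  rw [List.isChain_map]
  exact h.imp fun a b hab he => hab (MulAction.injective k he)

theorem norm_perm (k : K) (x : FreeGroup α) : (perm k x).norm = x.norm := by
  show (perm k x).toWord.length = x.toWord.length
  rw [toWord_perm, List.length_map]

/-- the common prefix of two words -/
theorem exists_common_prefix (A B : List (α × Bool)) :
    ∃ P A' B', A = P ++ A' ∧ B = P ++ B' ∧ ∀ a ∈ A'.head?, ∀ b ∈ B'.head?, a ≠ b := by
  induction A generalizing B with
  | nil => exact ⟨[], [], B, rfl, rfl, fun a ha => by simp at ha⟩
  | cons a A ih =>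
    rcases B with _ | ⟨b, B⟩
    · exact ⟨[], a :: A, [], rfl, rfl, fun a _ b hb => by simp at hb⟩
    · by_cases h : a = b
      · subst h
        obtain ⟨P, A', B', h1, h2, h3⟩ := ih B
        exact ⟨a :: P, A', B', by rw [h1]; rfl, by rw [h2]; rfl, h3⟩
      · exact ⟨[], a :: A, b :: B, rfl, rfl, fun x hx y hy => by
          simp at hx hy; subst hx; subst hy; exact h⟩

/-- the distance of two vertices of the tree -/
theorem exists_split (u v : FreeGroup α) :
    ∃ P A' B', u.toWord = P ++ A' ∧ v.toWord = P ++ B' ∧
      (u⁻¹ * v).norm = A'.length + B'.length := by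
  obtain ⟨P, A', B', hA, hB, hne⟩ := exists_common_prefix u.toWord v.toWord
  refine ⟨P, A', B', hA, hB, ?_⟩
  have e : u⁻¹ * v = mk (invRev A' ++ B') := by
    rw [← mk_toWord (x := u), ← mk_toWord (x := v), hA, hB, ← mul_mk, ← mul_mk, ← mul_mk, ← inv_mk]
    group
  have hA' : IsReduced A' := (isReduced_toWord (x := u)).infix (hA ▸ (List.suffix_append P A').isInfix)
  have hB' : IsReduced B' := (isReduced_toWord (x := v)).infix (hB ▸ (List.suffix_append P B').isInfix)
  have hr : IsReduced (invRev A' ++ B') := by
    refine List.IsChain.append ?_ hB' ?_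
    · have h : reduce (invRev A') = invRev A' := by rw [reduce_invRev, hA'.reduce_eq]
      exact IsReduced.of_reduce_eq h
    · intro a ha b hb he
      rcases A' with _ | ⟨c, A'⟩
      · simp [invRev] at ha
      · have hac : a = (c.1, !c.2) := by
          rw [invRev_cons] at ha
          simp [invRev] at ha
          exact ha.symm
        subst hac
        have hcb := hne c rfl b hb
        by_contra hne'
        refine hcb (Prod.ext he ?_)
        cases hc : c.2 <;> cases hb2 : b.2 <;> simp_all
  show (u⁻¹ * v).toWord.length = _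
  rw [e, toWord_mk, hr.reduce_eq, List.length_append, invRev_length]

theorem mk_take_eq {v : FreeGroup α} {P B' : List (α × Bool)} (h : v.toWord = P ++ B') :
    mk (v.toWord.take P.length) = mk P := by
  rw [h, List.take_left]

/-- a finite subgroup fixes a vertex on the path to one of its left components -/
theorem exists_fixed (H : Subgroup (FreeGroup α ⋊[perm] K)) [Finite H] :
    ∃ h₀ ∈ H, ∃ l : ℕ, ∀ h ∈ H,
      h.left * perm h.right (mk (h₀.left.toWord.take l)) = mk (h₀.left.toWord.take l) := by
  classical
  obtain ⟨⟨h₀, hh₀⟩, hmax⟩ := Finite.exists_max fun h : H => (h : FreeGroup α ⋊[perm] K).left.norm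
  obtain ⟨L, hL⟩ : ∃ L, L = h₀.left.norm := ⟨_, rfl⟩
  obtain ⟨B, hBdef⟩ : ∃ B, B = h₀.left.toWord := ⟨_, rfl⟩
  have hBL : B.length = L := by rw [hBdef, hL]; rfl
  obtain ⟨l, hl⟩ : ∃ l, l = L / 2 := ⟨_, rfl⟩
  refine ⟨h₀, hh₀, l, ?_⟩
  rw [← hBdef]
  -- the orbit has diameter at most `L`
  have hdist : ∀ a ∈ H, ∀ b ∈ H, (a.left⁻¹ * b.left).norm ≤ L := by
    intro a ha b hb
    have e : a.left⁻¹ * b.left = perm a.right (a⁻¹ * b).left := by
      rw [SemidirectProduct.mul_left, SemidirectProduct.inv_left, SemidirectProduct.inv_right,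
        _root_.map_mul]
      simp
    rw [e, norm_perm, hL]
    exact hmax ⟨a⁻¹ * b, H.mul_mem (H.inv_mem ha) hb⟩
  -- the middle is within `L - l` of the orbit
  have hcent : ∀ a ∈ H, ((mk (B.take l))⁻¹ * a.left).norm ≤ L - l := by
    intro a ha
    obtain ⟨P, A', B', hA, hB', hn⟩ := exists_split a.left h₀.left
    have h1 := hdist a ha h₀ hh₀
    rw [hn] at h1
    have h2 : a.left.norm ≤ L := hL ▸ hmax ⟨a, ha⟩
    have h2' : P.length + A'.length ≤ L := by
      rw [← List.length_append, ← hA]; exact h2
    rw [← hBdef] at hB'
    have h3 : P.length + B'.length = L := by rw [← List.length_append, ← hB', hBL]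
    have ha' : a.left = mk P * mk A' := by rw [mul_mk, ← hA, mk_toWord]
    rcases Nat.le_or_le l P.length with hp | hp
    · have e : (mk (B.take l))⁻¹ * a.left = mk (P.drop l ++ A') := by
        rw [hB', List.take_append_of_le_length hp, ha', ← mul_mk]
        conv_lhs => enter [2, 1]; rw [← List.take_append_drop l P, ← mul_mk]
        group
      rw [e]
      refine norm_mk_le.trans ?_
      simp
      omega
    · have e : (mk (B.take l))⁻¹ * a.left = mk (invRev (B'.take (l - P.length)) ++ A') := by
        rw [hB', List.take_append, List.take_of_length_le hp, ha', ← mul_mk, ← mul_mk, ← inv_mk]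
        group
      rw [e]
      refine norm_mk_le.trans ?_
      simp [invRev_length]
      omega
  -- only the middle vertices are that close
  have huniq : ∀ v : FreeGroup α, (∀ a ∈ H, (v⁻¹ * a.left).norm ≤ L - l) →
      v = mk (B.take l) ∨ (L = 2 * l + 1 ∧ v = mk (B.take (l + 1))) := by
    intro v hv
    obtain ⟨P, A', B', hA, hB', hn⟩ := exists_split v h₀.left
    have h1 := hv h₀ hh₀
    rw [hn] at h1
    have h2 := hv 1 H.one_mem
    rw [SemidirectProduct.one_left, mul_one, FreeGroup.norm_inv_eq] at h2
    have h2' : P.length + A'.length ≤ L - l := by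
      rw [← List.length_append, ← hA]; exact h2
    rw [← hBdef] at hB'
    have h3 : P.length + B'.length = L := by rw [← List.length_append, ← hB', hBL]
    have hA0 : A' = [] := List.eq_nil_of_length_eq_zero (by omega)
    rw [hA0, List.append_nil] at hA
    have hv' : v = mk P := by rw [← hA, mk_toWord]
    have hP : B.take P.length = P := by rw [hB', List.take_left]
    rcases eq_or_ne P.length l with hp | hp
    · left; rw [hv', ← hp, hP]
    · right
      refine ⟨by omega, ?_⟩
      rw [hv', show l + 1 = P.length by omega, hP]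
  -- the subgroup permutes the middle vertices
  have hmove : ∀ h ∈ H, ∀ v : FreeGroup α, (∀ a ∈ H, (v⁻¹ * a.left).norm ≤ L - l) →
      ∀ a ∈ H, ((h.left * perm h.right v)⁻¹ * a.left).norm ≤ L - l := by
    intro h hh v hv a ha
    have e : (h.left * perm h.right v)⁻¹ * a.left = perm h.right (v⁻¹ * (h⁻¹ * a).left) := by
      rw [SemidirectProduct.mul_left, SemidirectProduct.inv_left, SemidirectProduct.inv_right,
        _root_.map_mul, _root_.map_mul, _root_.map_inv, _root_.map_inv, mul_inv_rev, mul_assoc]
      simp
    rw [e, norm_perm]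
    exact hv _ (H.mul_mem (H.inv_mem hh) ha)
  intro h hh
  rcases huniq _ (hmove h hh _ hcent) with e | ⟨hodd, e⟩
  · exact e
  exfalso
  -- no inversion of the middle edge
  have hlt : l < B.length := by omega
  have hsucc : mk (B.take (l + 1)) = mk (B.take l) * mk [B[l]] := by
    rw [mul_mk, List.take_append_getElem]
  have hne : mk (B.take (l + 1)) ≠ mk (B.take l) := by
    intro h'
    rw [hsucc, mul_eq_left] at h'
    have := congrArg FreeGroup.toWord h'
    rw [toWord_mk, toWord_one, IsReduced.singleton.reduce_eq] at this
    exact absurd this (by simp)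
  rcases huniq _ (hmove h hh _ (hmove h hh _ hcent)) with e' | ⟨-, e'⟩
  · rw [e, hsucc, _root_.map_mul, ← mul_assoc, e, hsucc, mul_assoc, mul_eq_left] at e'
    have h1 := congrArg FreeGroup.toWord (eq_inv_of_mul_eq_one_right e')
    rw [toWord_perm, toWord_inv, toWord_mk, IsReduced.singleton.reduce_eq] at h1
    simp [invRev] at h1
  · rw [e] at e'
    exact hne ((perm h.right).injective (mul_left_cancel (e'.trans e.symm)))

end CfsgLib.Fusion.FreeExt
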