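import Cfsg.Agent.Lib.Fusion.System.FreeFix
import Cfsg.Prelude.Def_FusionSystem

/-!
# Every fusion system is realized by a virtually free group (Leary–Stancu)

The group is generated, inside a free group extended by the symmetric group on `S`, by the left
translations and one element for each map of the system.
-/

set_option autoImplicit false
set_option linter.style.haveILetI false

open scoped Classical

namespace CfsgLib.Fusion.FreeExt

open Cfsg (FusionSystem)

universe u

section regular

variable {S : Type*} [Group S]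

/-- the regular representation -/
def lam : S →* Equiv.Perm S := MulAction.toPermHom S S

theorem lam_apply (s t : S) : lam s t = s * t := rfl

theorem lam_injective : Function.Injective (lam : S → Equiv.Perm S) := fun a b h => by
  simpa [lam_apply] using congrArg (fun f : Equiv.Perm S => f 1) h

/-- an injective map between subgroups is induced by a permutation -/
theorem exists_perm_conj [Finite S] {P : Subgroup S} (ψ : P →* S) (hψ : Function.Injective ψ) :
    ∃ k : Equiv.Perm S, ∀ x : P, k * lam (x : S) * k⁻¹ = lam (ψ x) := by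
  obtain ⟨Q, hQ⟩ : ∃ Q, Q = ψ.range := ⟨_, rfl⟩
  have hcard : Nat.card (S ⧸ P) = Nat.card (S ⧸ Q) := by
    have h1 := P.index_mul_card
    have h2 := Q.index_mul_card
    rw [hQ, ← Nat.card_congr (MonoidHom.ofInjective hψ).toEquiv, ← hQ, ← h1] at h2
    exact (Nat.eq_of_mul_eq_mul_right Nat.card_pos h2).symm
  obtain ⟨σ⟩ : Nonempty (S ⧸ P ≃ S ⧸ Q) := ⟨Nat.equivFinOfCardPos (Nat.card_pos.ne') |>.trans
    ((finCongr hcard).trans (Nat.equivFinOfCardPos (Nat.card_pos.ne')).symm)⟩
  subst hQ
  have hrep : ∀ s : S, s * ((s⁻¹ : S) : S ⧸ P).out ∈ P := by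
    intro s
    have h := QuotientGroup.eq.1 (QuotientGroup.out_eq' ((s⁻¹ : S) : S ⧸ P)).symm
    simpa using h
  obtain ⟨f, hf⟩ : ∃ f : S → S, f = fun s =>
      ψ ⟨s * ((s⁻¹ : S) : S ⧸ P).out, hrep s⟩ * (σ ((s⁻¹ : S) : S ⧸ P)).out⁻¹ := ⟨_, rfl⟩
  have hinj : Function.Injective f := by
    intro a b h
    rw [hf] at h
    have hc : σ ((a⁻¹ : S) : S ⧸ P) = σ ((b⁻¹ : S) : S ⧸ P) := by
      obtain ⟨A, hA⟩ : ∃ A, A = σ ((a⁻¹ : S) : S ⧸ P) := ⟨_, rfl⟩
      obtain ⟨B, hB⟩ : ∃ B, B = σ ((b⁻¹ : S) : S ⧸ P) := ⟨_, rfl⟩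
      simp only [← hA, ← hB] at h
      rw [← hA, ← hB, ← QuotientGroup.out_eq' A, ← QuotientGroup.out_eq' B, QuotientGroup.eq]
      refine ⟨⟨a * ((a⁻¹ : S) : S ⧸ P).out, hrep a⟩⁻¹ * ⟨b * ((b⁻¹ : S) : S ⧸ P).out, hrep b⟩, ?_⟩
      rw [_root_.map_mul, _root_.map_inv]
      obtain ⟨X, hX⟩ : ∃ X, X = ψ ⟨a * ((a⁻¹ : S) : S ⧸ P).out, hrep a⟩ := ⟨_, rfl⟩
      obtain ⟨Y, hY⟩ : ∃ Y, Y = ψ ⟨b * ((b⁻¹ : S) : S ⧸ P).out, hrep b⟩ := ⟨_, rfl⟩
      rw [← hX, ← hY] at h ⊢
      have hX' : X = Y * B.out⁻¹ * A.out := by rw [← h]; group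
      rw [hX']
      group
    have hc' : ((a⁻¹ : S) : S ⧸ P) = ((b⁻¹ : S) : S ⧸ P) := σ.injective hc
    simp only [hc, mul_left_inj] at h
    have h2 := congrArg Subtype.val (hψ h)
    simp only at h2
    rw [hc'] at h2
    exact mul_right_cancel h2
  refine ⟨Equiv.ofBijective f ⟨hinj, Finite.injective_iff_surjective.1 hinj⟩, fun x => ?_⟩
  rw [mul_inv_eq_iff_eq_mul]
  refine Equiv.ext fun s => ?_
  show f (x * s) = ψ x * f s
  have hcs : ((((x : S) * s)⁻¹ : S) : S ⧸ P) = ((s⁻¹ : S) : S ⧸ P) := by
    rw [QuotientGroup.eq]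
    simp [mul_assoc]
  rw [hf]
  simp only [hcs]
  rw [← mul_assoc, ← _root_.map_mul]
  congr 2
  exact Subtype.ext (by simp [mul_assoc])

end regular

variable {Ω : Type u} [Group Ω] {S : Subgroup Ω} (F : FusionSystem S)

/-- the maps of the system -/
abbrev Idx : Type u := Σ P : Subgroup Ω, {φ : P →* Ω // φ ∈ F.Hom P}

variable {F}

/-- a map of the system, read inside `S` -/
def psi (i : Idx F) : i.1.subgroupOf S →* S where
  toFun x := ⟨i.2.1 ⟨(x : S), x.2⟩, (F.le_of_mem i.2.2).2 _⟩
  map_one' := Subtype.ext (by exact i.2.1.map_one)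
  map_mul' x y := Subtype.ext (by exact i.2.1.map_mul ⟨(x : S), x.2⟩ ⟨(y : S), y.2⟩)

theorem psi_injective (i : Idx F) : Function.Injective (psi i) := fun x y h => by
  have h1 := F.injective_of_mem i.2.2 (congrArg Subtype.val h)
  exact Subtype.ext (Subtype.ext (congrArg Subtype.val h1 :))

variable [Finite S]

/-- a permutation inducing a map -/
noncomputable def kk (i : Idx F) : Equiv.Perm S :=
  (exists_perm_conj (psi i) (psi_injective i)).choose

theorem kk_spec (i : Idx F) (x : i.1.subgroupOf S) :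
    kk i * lam (x : S) * (kk i)⁻¹ = lam (psi i x) :=
  (exists_perm_conj (psi i) (psi_injective i)).choose_spec x

variable (F) in
/-- the edges -/
abbrev Edge : Type u := Σ i : Idx F, Equiv.Perm S ⧸ ((psi i).range.map lam)

/-- the base edge of a map -/
noncomputable def base (i : Idx F) : Edge F := ⟨i, QuotientGroup.mk 1⟩

theorem smul_base_iff {i : Idx F} {a : Equiv.Perm S} :
    a • base i = base i ↔ a ∈ (psi i).range.map lam := by
  simp only [base, Sigma.smul_mk, Sigma.mk.injEq, heq_eq_eq, true_and]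
  rw [MulAction.Quotient.smul_mk, QuotientGroup.eq, smul_eq_mul, mul_one, mul_one, Subgroup.inv_mem_iff]

theorem smul_base_eq {i j : Idx F} {a b : Equiv.Perm S} (h : a • base i = b • base j) :
    i = j ∧ (b⁻¹ * a) • base i = base i := by
  have hij : i = j := congrArg Sigma.fst h
  subst hij
  exact ⟨rfl, by rw [mul_smul, h, inv_smul_smul]⟩

variable (F) in
/-- the ambient group -/
abbrev Amb : Type u := FreeGroup (Edge F) ⋊[perm] Equiv.Perm S

/-- the stable letters and their inverses -/
noncomputable def stab (a : Idx F × Bool) : Amb F :=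
  if a.2 then ⟨FreeGroup.of (base a.1), kk a.1⟩ else ⟨FreeGroup.of (base a.1), kk a.1⟩⁻¹

/-- the letter of a stable letter -/
noncomputable def letter (a : Idx F × Bool) : Edge F × Bool :=
  if a.2 then (base a.1, true) else ((kk a.1)⁻¹ • base a.1, false)

theorem stab_left (a : Idx F × Bool) : (stab a).left = FreeGroup.mk [letter a] := by
  obtain ⟨i, b⟩ := a
  cases b
  · simp only [stab, letter, Bool.false_eq_true, ↓reduceIte, SemidirectProduct.inv_left]
    rw [show (FreeGroup.of (base i))⁻¹ = FreeGroup.mk [(base i, false)] from rfl, perm_apply,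
      FreeGroup.map.mk]
    rfl
  · rfl

theorem stab_right (a : Idx F × Bool) :
    (stab a).right = if a.2 then kk a.1 else (kk a.1)⁻¹ := by
  obtain ⟨i, b⟩ := a
  cases b <;> rfl

/-- the embedding of `S` -/
def iota : S →* Amb F := SemidirectProduct.inr.comp lam

theorem iota_injective : Function.Injective (iota (F := F)) := fun a b h =>
  lam_injective (congrArg SemidirectProduct.right h)

/-- the value of an expression -/
noncomputable def ev : S → List ((Idx F × Bool) × S) → Amb F
  | s, [] => iota s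
  | s, (a, s') :: L => iota s * stab a * ev s' L

/-- the edges of an expression -/
noncomputable def ed : S → List ((Idx F × Bool) × S) → List (Edge F × Bool)
  | _, [] => []
  | s, (a, s') :: L =>
      (lam s • (letter a).1, (letter a).2) ::
        (ed s' L).map fun x => ((lam s * (stab a).right) • x.1, x.2)

theorem ev_left (s : S) (L : List ((Idx F × Bool) × S)) :
    (ev s L).left = FreeGroup.mk (ed s L) := by
  induction L generalizing s with
  | nil => rfl
  | cons x L ih =>
    obtain ⟨a, s'⟩ := x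
    simp only [ev, ed, SemidirectProduct.mul_left, SemidirectProduct.mul_right, ih, stab_left]
    rw [show (iota (F := F) s).left = 1 from rfl, one_mul, show (iota (F := F) s).right = lam s from rfl,
      perm_apply, perm_apply, FreeGroup.map.mk, FreeGroup.map.mk, FreeGroup.mul_mk]
    rfl

theorem ed_length (s : S) (L : List ((Idx F × Bool) × S)) : (ed s L).length = L.length := by
  induction L generalizing s with
  | nil => rfl
  | cons x L ih => obtain ⟨a, s'⟩ := x; simp [ed, ih]

theorem ed_take (s : S) (L : List ((Idx F × Bool) × S)) (l : ℕ) :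
    (ed s L).take l = ed s (L.take l) := by
  induction L generalizing s l with
  | nil => simp [ed]
  | cons x L ih =>
    obtain ⟨a, s'⟩ := x
    cases l with
    | zero => rfl
    | succ l => simp [ed, List.take_succ_cons, ← ih, List.map_take]

theorem stab_conj_true (i : Idx F) (x : i.1.subgroupOf S) :
    stab (i, true) * iota (x : S) = iota (psi i x) * stab (i, true) := by
  refine SemidirectProduct.ext ?_ ?_
  · rw [SemidirectProduct.mul_left, SemidirectProduct.mul_left, stab_left,
      show (iota (F := F) (x : S)).left = 1 from rfl, _root_.map_one, mul_one,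
      show (iota (F := F) (psi i x)).left = 1 from rfl, one_mul,
      show (iota (F := F) (psi i x)).right = lam (psi i x) from rfl, perm_apply, FreeGroup.map.mk]
    simp only [letter, ↓reduceIte, List.map_cons, List.map_nil]
    rw [smul_base_iff.2 (Subgroup.mem_map_of_mem lam ⟨x, rfl⟩)]
  · rw [SemidirectProduct.mul_right, SemidirectProduct.mul_right, stab_right,
      show (iota (F := F) (x : S)).right = lam (x : S) from rfl,
      show (iota (F := F) (psi i x)).right = lam (psi i x) from rfl]
    simp only [↓reduceIte]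
    rw [← kk_spec i x]
    group

theorem stab_conj_false (i : Idx F) (x : i.1.subgroupOf S) :
    stab (i, false) * iota (psi i x) = iota (x : S) * stab (i, false) := by
  have h := stab_conj_true i x
  have e : stab (i, false) = (stab (i, true))⁻¹ := by simp [stab]
  rw [e, inv_mul_eq_iff_eq_mul, ← mul_assoc, h, mul_inv_cancel_right]

/-- an element fixing the letter passes through the stable letter -/
theorem pass_letter {a : Idx F × Bool} {y : S} (h : lam y • (letter a).1 = (letter a).1) :
    (a.2 = true ∧ ∃ x : a.1.1.subgroupOf S, psi a.1 x = y) ∨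
      (a.2 = false ∧ y ∈ a.1.1.subgroupOf S) := by
  obtain ⟨i, b⟩ := a
  cases b
  · right
    refine ⟨rfl, ?_⟩
    simp only [letter, Bool.false_eq_true, ↓reduceIte] at h
    have h1 : (kk i * lam y * (kk i)⁻¹) • base i = base i := by
      rw [mul_smul, mul_smul, h, smul_inv_smul]
    obtain ⟨z, ⟨x, rfl⟩, hz⟩ := smul_base_iff.1 h1
    rw [← kk_spec i x, mul_left_inj, mul_right_inj] at hz
    exact lam_injective hz ▸ x.2
  · left
    refine ⟨rfl, ?_⟩
    simp only [letter, ↓reduceIte] at h
    obtain ⟨z, ⟨x, rfl⟩, hz⟩ := smul_base_iff.1 h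
    exact ⟨x, lam_injective hz⟩

/-- an unreduced expression can be shortened -/
theorem exists_shorter (s : S) (L : List ((Idx F × Bool) × S))
    (h : ¬ FreeGroup.IsReduced (ed s L)) :
    ∃ t M, M.length < L.length ∧ ev t M = ev s L := by
  induction L generalizing s with
  | nil => exact absurd FreeGroup.IsReduced.nil h
  | cons x L ih =>
    obtain ⟨a, s'⟩ := x
    rcases L with _ | ⟨⟨b, s''⟩, L⟩
    · exact absurd FreeGroup.IsReduced.singleton h
    by_cases hred : FreeGroup.IsReduced (ed s' ((b, s'') :: L))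
    swap
    · obtain ⟨t, M, hM, hev⟩ := ih s' hred
      exact ⟨s, (a, t) :: M, by simpa using hM, by show _ * ev t M = _; rw [hev]; rfl⟩
    -- the first two letters cancel
    have hpair : (lam s • (letter a).1 = (lam s * (stab a).right) • (lam s' • (letter b).1)) ∧
        (letter a).2 ≠ (letter b).2 := by
      simp only [ed, List.map_cons, FreeGroup.isReduced_cons_cons] at h
      by_contra hno
      refine h ⟨fun he => ?_, ?_⟩
      · by_contra hne
        exact hno ⟨he, hne⟩
      · have h2 : FreeGroup.IsReduced ((ed s' ((b, s'') :: L)).map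
            fun x => ((lam s * (stab a).right) • x.1, x.2)) := by
          unfold FreeGroup.IsReduced at hred ⊢
          rw [List.isChain_map]
          exact hred.imp fun a b hab he => hab (MulAction.injective _ he)
        simpa [ed] using h2
    obtain ⟨he, hne⟩ := hpair
    rw [mul_smul] at he
    have he' : (letter a).1 = ((stab a).right * lam s') • (letter b).1 := by
      rw [mul_smul]; exact MulAction.injective _ he
    obtain ⟨i, c⟩ := a
    obtain ⟨j, d⟩ := b
    cases c <;> cases d
    · simp [letter] at hne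
    · simp only [letter, stab_right, Bool.false_eq_true, ↓reduceIte] at he'
      obtain ⟨rfl, hfix⟩ := smul_base_eq he'
      rw [show ((kk i)⁻¹ * lam s')⁻¹ * (kk i)⁻¹ = lam s'⁻¹ by rw [_root_.map_inv]; group] at hfix
      obtain ⟨z, ⟨x, rfl⟩, hz⟩ := smul_base_iff.1 hfix
      have hs' : s' = psi i x⁻¹ := by rw [_root_.map_inv, lam_injective hz, inv_inv]
      refine ⟨s * ((x⁻¹ : i.1.subgroupOf S) : S) * s'', L, by simp, ?_⟩
      simp only [ev]
      have hev : ev (s * ((x⁻¹ : i.1.subgroupOf S) : S) * s'') L =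
          iota (s * ((x⁻¹ : i.1.subgroupOf S) : S)) * ev s'' L := by
        rcases L with _ | ⟨⟨c, s3⟩, L⟩
        · simp [ev]
        · simp only [ev, _root_.map_mul, mul_assoc]
      rw [hev, hs', show stab (i, true) = (stab (i, false))⁻¹ by simp [stab], _root_.map_mul]
      simp only [mul_assoc]
      congr 1
      rw [← mul_assoc (stab (i, false)), stab_conj_false]
      simp [mul_assoc]
    · simp only [letter, stab_right, ↓reduceIte, Bool.false_eq_true] at he'
      rw [← one_smul (Equiv.Perm S) (base i), ← mul_smul] at he'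
      obtain ⟨rfl, hfix⟩ := smul_base_eq he'
      obtain ⟨z, ⟨x, rfl⟩, hz⟩ := smul_base_iff.1 hfix
      rw [← kk_spec i x] at hz
      have hx : s' = ((x : S))⁻¹ := by
        refine lam_injective ?_
        rw [_root_.map_inv]
        have h' : (lam s')⁻¹ = lam (x : S) := by
          have := congrArg (fun g : Equiv.Perm S => (kk i)⁻¹ * g * kk i) hz
          simp [mul_assoc] at this
          exact this.symm
        rw [← h', inv_inv]
      refine ⟨s * psi i x⁻¹ * s'', L, by simp, ?_⟩
      simp only [ev]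
      have hev : ev (s * psi i x⁻¹ * s'') L = iota (s * psi i x⁻¹) * ev s'' L := by
        rcases L with _ | ⟨⟨c, s3⟩, L⟩
        · simp [ev]
        · simp only [ev, _root_.map_mul, mul_assoc]
      rw [hev, hx, show stab (i, false) = (stab (i, true))⁻¹ by simp [stab], _root_.map_mul]
      simp only [mul_assoc]
      congr 1
      rw [← mul_assoc (stab (i, true)), ← Subgroup.coe_inv, stab_conj_true]
      simp [mul_assoc]
    · simp [letter] at hne

variable (F) in
/-- the group -/
noncomputable def grp : Subgroup (Amb F) :=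
  Subgroup.closure (Set.range (iota (F := F)) ∪ Set.range fun i => stab (i, true))

theorem iota_mem (s : S) : iota s ∈ grp F := Subgroup.subset_closure (Or.inl ⟨s, rfl⟩)

theorem stab_mem (a : Idx F × Bool) : stab a ∈ grp F := by
  obtain ⟨i, b⟩ := a
  cases b
  · rw [show stab (i, false) = (stab (i, true))⁻¹ by simp [stab]]
    exact (grp F).inv_mem (Subgroup.subset_closure (Or.inr ⟨i, rfl⟩))
  · exact Subgroup.subset_closure (Or.inr ⟨i, rfl⟩)

theorem ev_mem (s : S) (L : List ((Idx F × Bool) × S)) : ev s L ∈ grp F := by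
  induction L generalizing s with
  | nil => exact iota_mem s
  | cons x L ih => exact (grp F).mul_mem ((grp F).mul_mem (iota_mem s) (stab_mem _)) (ih _)

theorem exists_ev {g : Amb F} (hg : g ∈ grp F) : ∃ s L, ev s L = g := by
  have hstep : ∀ (a : Idx F × Bool) (s : S) (L : List ((Idx F × Bool) × S)),
      stab a * ev s L = ev 1 ((a, s) :: L) := fun a s L => by simp [ev]
  have hiota : ∀ (t s : S) (L : List ((Idx F × Bool) × S)), iota t * ev s L = ev (t * s) L := by
    intro t s L
    rcases L with _ | ⟨⟨a, s'⟩, L⟩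
    · simp [ev]
    · simp [ev, mul_assoc]
  refine Subgroup.closure_induction_left (p := fun g _ => ∃ s L, ev s L = g) ?_ ?_ ?_ hg
  · exact ⟨1, [], map_one iota⟩
  · rintro x (⟨t, rfl⟩ | ⟨i, rfl⟩) y _ ⟨s, L, rfl⟩
    · exact ⟨_, _, (hiota t s L).symm⟩
    · exact ⟨_, _, (hstep (i, true) s L).symm⟩
  · rintro x (⟨t, rfl⟩ | ⟨i, rfl⟩) y _ ⟨s, L, rfl⟩
    · exact ⟨_, _, by rw [← _root_.map_inv]; exact (hiota t⁻¹ s L).symm⟩
    · refine ⟨1, ((i, false), s) :: L, ?_⟩
      rw [← hstep (i, false) s L]
      simp [stab]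

/-- every element has a reduced expression -/
theorem exists_reduced {g : Amb F} (hg : g ∈ grp F) :
    ∃ s L, ev s L = g ∧ FreeGroup.IsReduced (ed s L) := by
  have hex : ∃ n, ∃ s L, ev (F := F) s L = g ∧ L.length = n := by
    obtain ⟨s, L, h⟩ := exists_ev hg
    exact ⟨_, s, L, h, rfl⟩
  obtain ⟨s, L, h, hn⟩ := Nat.find_spec hex
  refine ⟨s, L, h, ?_⟩
  by_contra hred
  obtain ⟨t, M, hM, hev⟩ := exists_shorter s L hred
  exact Nat.find_min hex (hn ▸ hM) ⟨t, M, hev.trans h, rfl⟩

theorem comp_conj_mem {P : Subgroup Ω} {φ' : P →* Ω} (hφ' : φ' ∈ F.Hom P) (s : S) {φ : P →* Ω}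
    (h : ∀ x, φ x = (s : Ω) * φ' x * (s : Ω)⁻¹) : φ ∈ F.Hom P := by
  have h1 := F.comp_mem hφ' (F.conj_mem (le_refl S) s.2) (F.le_of_mem hφ').2
  convert h1 using 1
  refine MonoidHom.ext fun x => ?_
  rw [h x]
  rfl

/-- conjugation by an element of the group gives maps of the system -/
theorem mem_hom_of_conj (L : List ((Idx F × Bool) × S)) :
    ∀ (s : S), FreeGroup.IsReduced (ed s L) → ∀ (P : Subgroup Ω) (hP : P ≤ S) (φ : P →* Ω)
      (hφ : ∀ x : P, φ x ∈ S), (∀ x : P, ev s L * iota (⟨x, hP x.2⟩ : S) = iota (⟨φ x, hφ x⟩ : S) * ev s L) →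
      φ ∈ F.Hom P := by
  induction L with
  | nil =>
    intro s _ P hP φ hφ h
    have hmem : Cfsg.conjHom P (s : Ω) ∈ F.Hom P := F.conj_mem hP s.2
    convert hmem using 1
    refine MonoidHom.ext fun x => ?_
    have h1 := h x
    simp only [ev, ← _root_.map_mul] at h1
    have h2 := congrArg (fun z : S => (z : Ω)) (iota_injective h1)
    simp only [Subgroup.coe_mul] at h2
    show φ x = (s : Ω) * x * (s : Ω)⁻¹
    rw [h2]; group
  | cons w L ih =>
    obtain ⟨a, s'⟩ := w
    intro s hred P hP φ hφ h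
    -- every image fixes the first letter
    have hfix : ∀ x : P, lam (s⁻¹ * ⟨φ x, hφ x⟩ * s) • (letter a).1 = (letter a).1 := by
      intro x
      have h1 := congrArg SemidirectProduct.left (h x)
      rw [SemidirectProduct.mul_left, SemidirectProduct.mul_left,
        show ∀ t : S, (iota (F := F) t).left = 1 from fun _ => rfl,
        show ∀ t : S, (iota (F := F) t).left = 1 from fun _ => rfl, _root_.map_one, mul_one, one_mul,
        show ∀ t : S, (iota (F := F) t).right = lam t from fun _ => rfl] at h1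
      have h2 := congrArg FreeGroup.toWord h1
      rw [toWord_perm, ev_left, FreeGroup.toWord_mk, hred.reduce_eq] at h2
      simp only [ed, List.map_cons, List.cons.injEq, Prod.mk.injEq] at h2
      rw [_root_.map_mul, _root_.map_mul, _root_.map_inv, mul_smul, mul_smul, ← h2.1.1, inv_smul_smul]
    have hmid : ∀ x : P, stab a * (ev s' L * iota (⟨x, hP x.2⟩ : S)) =
        iota (s⁻¹ * ⟨φ x, hφ x⟩ * s) * (stab a * ev s' L) := by
      intro x
      have h1 := h x
      simp only [ev, mul_assoc] at h1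
      rw [_root_.map_mul, _root_.map_mul, _root_.map_inv, mul_assoc, mul_assoc, ← h1]
      group
    have hred' : FreeGroup.IsReduced (ed s' L) := by
      simp only [ed] at hred
      have h1 : FreeGroup.IsReduced ((ed s' L).map fun x => ((lam s * (stab a).right) • x.1, x.2)) :=
        hred.infix (List.suffix_cons _ _).isInfix
      unfold FreeGroup.IsReduced at h1 ⊢
      rw [List.isChain_map] at h1
      exact h1.imp fun u v huv he => huv (by rw [he])
    have hz : ∀ x : P, ∃ z : S, ev s' L * iota (⟨x, hP x.2⟩ : S) = iota z * ev s' L := by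
      intro x
      obtain ⟨i, b⟩ := a
      rcases pass_letter (hfix x) with ⟨hb, w, hw⟩ | ⟨hb, hw⟩ <;> simp only at hb <;> subst hb
      · refine ⟨(w : S), mul_left_cancel (a := stab (i, true)) ?_⟩
        rw [hmid x, ← hw, ← mul_assoc, ← mul_assoc, stab_conj_true]
      · refine ⟨psi i ⟨_, hw⟩, mul_left_cancel (a := stab (i, false)) ?_⟩
        rw [hmid x, ← mul_assoc, ← mul_assoc, stab_conj_false]
    choose z hzs using hz
    obtain ⟨φ', hφ'⟩ : ∃ φ' : P →* Ω, ∀ x, φ' x = (z x : Ω) := by
      refine ⟨MonoidHom.mk' (fun x => (z x : Ω)) fun x y => ?_, fun x => rfl⟩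
      have h1 : iota (F := F) (z (x * y)) * ev s' L = iota (z x * z y) * ev s' L := by
        rw [← hzs, show (⟨((x * y : P) : Ω), hP (x * y).2⟩ : S) = ⟨x, hP x.2⟩ * ⟨y, hP y.2⟩ from rfl,
          _root_.map_mul, ← mul_assoc, hzs, mul_assoc, hzs, ← mul_assoc, ← _root_.map_mul]
      exact congrArg Subtype.val (iota_injective (mul_right_cancel h1))
    have hφ'S : ∀ x : P, φ' x ∈ S := fun x => by rw [hφ']; exact (z x).2
    have hφ'F : φ' ∈ F.Hom P := ih s' hred' P hP φ' hφ'S fun x => by
      rw [hzs]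
      congr 2
      exact Subtype.ext (hφ' x).symm
    have hy : ∀ x : P, iota (s⁻¹ * ⟨φ x, hφ x⟩ * s) * stab a = stab a * iota (z x) := by
      intro x
      refine mul_right_cancel (b := ev s' L) ?_
      rw [mul_assoc, ← hmid x, hzs, ← mul_assoc]
    obtain ⟨i, b⟩ := a
    cases b
    · -- the inverse of a map
      obtain ⟨χ, hχ, hχi⟩ := F.inv_mem i.2.2
      have hmemR : ∀ x : P, φ' x ∈ i.2.1.range := by
        intro x
        rcases pass_letter (hfix x) with ⟨hb, -⟩ | ⟨-, hw⟩
        · simp at hb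
        · have e := hy x
          rw [← stab_conj_false i ⟨_, hw⟩] at e
          have e2 := iota_injective (mul_left_cancel e)
          rw [hφ', ← e2]
          exact ⟨_, rfl⟩
      have hc := F.comp_mem hφ'F hχ hmemR
      refine comp_conj_mem hc s fun x => ?_
      rcases pass_letter (hfix x) with ⟨hb, -⟩ | ⟨-, hw⟩
      · simp at hb
      have e := hy x
      rw [← stab_conj_false i ⟨_, hw⟩] at e
      have e2 := congrArg (fun t : S => (t : Ω)) (iota_injective (mul_left_cancel e))
      have e3 : χ ⟨φ' x, hmemR x⟩ = ((s⁻¹ * ⟨φ x, hφ x⟩ * s : S) : Ω) := by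
        refine (congrArg χ (Subtype.ext ?_)).trans (hχi ⟨_, hw⟩)
        show φ' x = _
        rw [hφ', ← e2]
        rfl
      show φ x = (s : Ω) * χ ⟨φ' x, hmemR x⟩ * (s : Ω)⁻¹
      rw [e3]
      simp only [Subgroup.coe_mul, Subgroup.coe_inv]
      group
    · -- a map
      have hmemP : ∀ x : P, φ' x ∈ i.1 := by
        intro x
        rcases pass_letter (hfix x) with ⟨-, w, hw⟩ | ⟨hb, -⟩
        · have e := hy x
          rw [← hw, ← stab_conj_true] at e
          rw [hφ', ← iota_injective (mul_left_cancel e)]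
          exact w.2
        · simp at hb
      have hc := F.comp_mem hφ'F i.2.2 hmemP
      refine comp_conj_mem hc s fun x => ?_
      rcases pass_letter (hfix x) with ⟨-, w, hw⟩ | ⟨hb, -⟩
      swap
      · simp at hb
      have e := hy x
      rw [← hw, ← stab_conj_true] at e
      have e2 := congrArg (fun t : S => (t : Ω)) (iota_injective (mul_left_cancel e))
      have e3 : i.2.1 ⟨φ' x, hmemP x⟩ = ((s⁻¹ * ⟨φ x, hφ x⟩ * s : S) : Ω) := by
        rw [← congrArg Subtype.val hw]
        show _ = i.2.1 ⟨(w : S), w.2⟩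
        refine congrArg i.2.1 (Subtype.ext ?_)
        show φ' x = _
        rw [hφ', ← e2]
      show φ x = (s : Ω) * i.2.1 ⟨φ' x, hmemP x⟩ * (s : Ω)⁻¹
      rw [e3]
      simp only [Subgroup.coe_mul, Subgroup.coe_inv]
      group

/-- the embedding into the group -/
noncomputable def iotaG : S →* grp F := iota.codRestrict (grp F) iota_mem

variable (F) in
theorem realized : F.IsRealizedBy (iotaG (F := F)) := by
  refine ⟨fun a b h => iota_injective (congrArg Subtype.val h), fun P hP φ hφ => ⟨fun hm => ?_, ?_⟩⟩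
  · obtain ⟨i, hi⟩ : ∃ i : Idx F, i = ⟨P, φ, hm⟩ := ⟨_, rfl⟩
    refine ⟨⟨_, stab_mem (i, true)⟩, fun x => Subtype.ext ?_⟩
    show iota (F := F) (⟨φ x, hφ x⟩ : S) = stab (i, true) * iota (⟨x, hP x.2⟩ : S) * (stab (i, true))⁻¹
    rw [eq_mul_inv_iff_mul_eq]
    subst hi
    exact (stab_conj_true ⟨P, φ, hm⟩ ⟨⟨x, hP x.2⟩, x.2⟩).symm
  · rintro ⟨g, hg⟩
    obtain ⟨s, L, hev, hred⟩ := exists_reduced g.2
    refine mem_hom_of_conj L s hred P hP φ hφ fun x => ?_
    have h1 : iota (F := F) (⟨φ x, hφ x⟩ : S) = (g : Amb F) * iota (⟨x, hP x.2⟩ : S) * (g : Amb F)⁻¹ :=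
      congrArg Subtype.val (hg x)
    rw [h1, hev]
    group

variable (F) in
theorem finite_conj (H : Subgroup (grp F)) (hH : Finite H) :
    ∃ g : grp F, ∀ h ∈ H, g * h * g⁻¹ ∈ (iotaG (F := F)).range := by
  haveI : Finite (H.map (grp F).subtype : Subgroup (Amb F)) :=
    Finite.of_equiv H (H.equivMapOfInjective _ (grp F).subtype_injective).toEquiv
  obtain ⟨h₀, hh₀, l, hfix⟩ := exists_fixed (H.map (grp F).subtype)
  obtain ⟨⟨h₀', hh₀'⟩, -, rfl⟩ := hh₀
  obtain ⟨s, L, hev, hred⟩ := exists_reduced hh₀'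
  obtain ⟨m, hm⟩ : ∃ m, m = FreeGroup.mk ((h₀' : Amb F).left.toWord.take l) := ⟨_, rfl⟩
  obtain ⟨g₀, hg₀⟩ : ∃ g : grp F, g = ⟨ev s (L.take l), ev_mem _ _⟩ := ⟨_, rfl⟩
  have hg₀l : (g₀ : Amb F).left = m := by
    rw [hg₀, hm]
    show (ev s (L.take l)).left = _
    rw [ev_left, ← ed_take, ← hev, ev_left, FreeGroup.toWord_mk, hred.reduce_eq]
  refine ⟨g₀⁻¹, fun h hh => ?_⟩
  obtain ⟨y, hy⟩ : ∃ y : grp F, y = g₀⁻¹ * h * (g₀⁻¹)⁻¹ := ⟨_, rfl⟩
  rw [← hy]
  have hfix' : (h : Amb F).left * perm (h : Amb F).right m = m := by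
    rw [hm]
    exact hfix _ (Subgroup.mem_map_of_mem _ hh)
  have hyl : (y : Amb F).left = 1 := by
    have e : (y : Amb F) = (g₀ : Amb F)⁻¹ * ((h : Amb F) * (g₀ : Amb F)) := by
      rw [hy]; simp [mul_assoc]
    rw [e, SemidirectProduct.mul_left, SemidirectProduct.mul_left, hg₀l, hfix',
      SemidirectProduct.inv_left, SemidirectProduct.inv_right, hg₀l, ← _root_.map_mul, inv_mul_cancel,
      _root_.map_one]
  obtain ⟨t, M, hevM, hredM⟩ := exists_reduced y.2
  rw [← hevM, ev_left] at hyl
  have h1 := congrArg FreeGroup.toWord hyl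
  rw [FreeGroup.toWord_mk, hredM.reduce_eq, FreeGroup.toWord_one] at h1
  have hM : M = [] := List.eq_nil_of_length_eq_zero (by rw [← ed_length t M, h1]; rfl)
  subst hM
  exact ⟨t, Subtype.ext hevM⟩

variable (F) in
theorem exists_free_normal : ∃ N : Subgroup (grp F), N.Normal ∧ IsFreeGroup N ∧
    N.index ∣ (Nat.card S).factorial := by
  haveI : Fintype S := Fintype.ofFinite S
  obtain ⟨π, hπ⟩ : ∃ π : grp F →* Equiv.Perm S, π = SemidirectProduct.rightHom.comp (grp F).subtype :=
    ⟨_, rfl⟩
  refine ⟨π.ker, inferInstance, ?_, ?_⟩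
  · have hright : ∀ x : π.ker, ((x : grp F) : Amb F).right = 1 := fun x => by
      have h1 := MonoidHom.mem_ker.1 x.2
      have h2 := DFunLike.congr_fun hπ (x : grp F)
      exact h2.symm.trans h1
    obtain ⟨f, hf⟩ : ∃ f : π.ker →* FreeGroup (Edge F), ∀ x, f x = ((x : grp F) : Amb F).left :=
      ⟨MonoidHom.mk' (fun x => ((x : grp F) : Amb F).left) fun x y => by
        rw [Subgroup.coe_mul, Subgroup.coe_mul, SemidirectProduct.mul_left, hright x, _root_.map_one]
        rfl, fun x => rfl⟩
    have hfi : Function.Injective f := fun x y h => by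
      rw [hf, hf] at h
      exact Subtype.ext (Subtype.ext (SemidirectProduct.ext h ((hright x).trans (hright y).symm)))
    exact IsFreeGroup.ofMulEquiv (MonoidHom.ofInjective hfi).symm
  · rw [Subgroup.index_ker, ← Nat.card_perm]
    exact Subgroup.card_subgroup_dvd_card _

end CfsgLib.Fusion.FreeExt
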