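import Mathlib.GroupTheory.PGroup
import Mathlib.GroupTheory.Subgroup.Centralizer

/-!
# Groups of automorphisms of an abelian `p`-group generated by transvections

`u` is a transvection if `r ↦ r⁻¹ * u r` has image of order `p` fixed by `u`.  In a group of
automorphisms whose `p`-subgroups have order at most `p`, two independent transvections act on a
pair of cyclic subgroups of order `p` and fix a common complement.
-/

set_option autoImplicit false

open Subgroup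
open scoped Classical

namespace CfsgLib.Fusion.Transvection

variable {M : Type*} [CommGroup M] {p : ℕ}

/-- The map `r ↦ r⁻¹ * g r`. -/
def dlt (g : MulAut M) : M →* M :=
  MonoidHom.mk' (fun r => r⁻¹ * g r) fun r s => by
    rw [map_mul, mul_inv, mul_mul_mul_comm]

theorem apply_eq (g : MulAut M) (r : M) : g r = r * dlt g r := by
  show g r = r * (r⁻¹ * g r)
  rw [mul_inv_cancel_left]

theorem dlt_eq_one {g : MulAut M} {r : M} : dlt g r = 1 ↔ g r = r := by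
  show r⁻¹ * g r = 1 ↔ _
  rw [inv_mul_eq_one, eq_comm]

theorem dlt_mul (g h : MulAut M) (r : M) : dlt (g * h) r = dlt h r * dlt g (h r) := by
  show r⁻¹ * g (h r) = r⁻¹ * h r * ((h r)⁻¹ * g (h r))
  group

theorem dlt_inv (g : MulAut M) (r : M) : dlt g⁻¹ r = (dlt g (g⁻¹ r))⁻¹ := by
  show r⁻¹ * g⁻¹ r = ((g⁻¹ r)⁻¹ * g (g⁻¹ r))⁻¹
  rw [show g (g⁻¹ r) = r from MulEquiv.apply_symm_apply g r, mul_inv_rev, inv_inv]

theorem dlt_conj (a g : MulAut M) (r : M) : dlt (a * g * a⁻¹) r = a (dlt g (a⁻¹ r)) := by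
  show r⁻¹ * a (g (a⁻¹ r)) = a ((a⁻¹ r)⁻¹ * g (a⁻¹ r))
  rw [map_mul, map_inv, show a (a⁻¹ r) = r from MulEquiv.apply_symm_apply a r]

theorem pow_apply (g : MulAut M) {r : M} (h : dlt g (dlt g r) = 1) (i : ℕ) :
    (g ^ i) r = r * dlt g r ^ i := by
  induction i with
  | zero => simp
  | succ i hi =>
    rw [pow_succ', MulAut.mul_apply, hi, map_mul, map_pow, dlt_eq_one.1 h, apply_eq g r,
      mul_assoc, ← pow_succ']

/-- The stabilizer of the series `1 ≤ A ≤ B ≤ M`. -/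
def stab (A B : Subgroup M) (hAB : A ≤ B) : Subgroup (MulAut M) where
  carrier := {g | (∀ a ∈ A, dlt g a = 1) ∧ (∀ b ∈ B, dlt g b ∈ A) ∧ ∀ r, dlt g r ∈ B}
  one_mem' := by
    have h : ∀ r : M, dlt (1 : MulAut M) r = 1 := fun r => dlt_eq_one.2 rfl
    exact ⟨fun a _ => h a, fun b _ => (h b).symm ▸ A.one_mem, fun r => (h r).symm ▸ B.one_mem⟩
  mul_mem' := by
    rintro g h ⟨g1, g2, g3⟩ ⟨h1, h2, h3⟩
    refine ⟨fun a ha => ?_, fun b hb => ?_, fun r => ?_⟩
    · rw [dlt_mul, h1 a ha, dlt_eq_one.1 (h1 a ha), g1 a ha, one_mul]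
    · rw [dlt_mul]
      refine A.mul_mem (h2 b hb) (g2 _ ?_)
      rw [apply_eq]
      exact B.mul_mem hb (hAB (h2 b hb))
    · rw [dlt_mul]
      exact B.mul_mem (h3 r) (g3 _)
  inv_mem' := by
    rintro g ⟨g1, g2, g3⟩
    refine ⟨fun a ha => ?_, fun b hb => ?_, fun r => ?_⟩
    · refine dlt_eq_one.2 ?_
      conv_lhs => rw [← dlt_eq_one.1 (g1 a ha)]
      exact MulEquiv.symm_apply_apply g a
    · rw [dlt_inv]
      refine A.inv_mem (g2 _ ?_)
      have h := apply_eq g (g⁻¹ b)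
      rw [show g (g⁻¹ b) = b from MulEquiv.apply_symm_apply g b] at h
      have h' : g⁻¹ b = b * (dlt g (g⁻¹ b))⁻¹ := eq_mul_inv_of_mul_eq h.symm
      rw [h']
      exact B.mul_mem hb (B.inv_mem (g3 _))
    · rw [dlt_inv]
      exact B.inv_mem (g3 _)

theorem mem_stab {A B : Subgroup M} {hAB : A ≤ B} {g : MulAut M} :
    g ∈ stab A B hAB ↔ (∀ a ∈ A, dlt g a = 1) ∧ (∀ b ∈ B, dlt g b ∈ A) ∧ ∀ r, dlt g r ∈ B :=
  Iff.rfl

variable [Finite M]

theorem isPGroup_stab (hM : IsPGroup p M) [Fact p.Prime] (A B : Subgroup M) (hAB : A ≤ B) :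
    IsPGroup p (stab A B hAB) := by
  obtain ⟨n, hn⟩ := IsPGroup.iff_card.1 hM
  rintro ⟨g, hg⟩
  have hN : ∀ x : M, x ^ p ^ n = 1 := fun x => hn ▸ pow_card_eq_one'
  set h := g ^ p ^ n with hh
  have hhm : h ∈ stab A B hAB := pow_mem hg _
  have hfix : ∀ b ∈ B, h b = b := fun b hb => by
    rw [hh, pow_apply g (hg.1 _ (hg.2.1 b hb)), hN, mul_one]
  refine ⟨n + n, Subtype.ext (MulEquiv.ext fun r => ?_)⟩
  show (g ^ p ^ (n + n)) r = r
  rw [pow_add, pow_mul, ← hh, pow_apply h (dlt_eq_one.2 (hfix _ (hhm.2.2 r))), hN, mul_one]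

/-- The image of `dlt u` has order `p` and is fixed by `u`. -/
structure IsTrv (p : ℕ) (u : MulAut M) : Prop where
  card : Nat.card (dlt u).range = p
  fix : ∀ r, dlt u (dlt u r) = 1

variable {u u' w : MulAut M} {L : Subgroup (MulAut M)}

theorem IsTrv.conj (hu : IsTrv p u) (a : MulAut M) : IsTrv p (a * u * a⁻¹) := by
  refine ⟨?_, fun r => ?_⟩
  · rw [← hu.card]
    have he : (dlt (a * u * a⁻¹)).range = (dlt u).range.map a.toMonoidHom := by
      ext y
      constructor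
      · rintro ⟨r, rfl⟩
        exact ⟨_, ⟨a⁻¹ r, rfl⟩, (dlt_conj a u r).symm⟩
      · rintro ⟨_, ⟨r, rfl⟩, rfl⟩
        refine ⟨a r, ?_⟩
        rw [dlt_conj, show a⁻¹ (a r) = r from MulEquiv.symm_apply_apply a r]
        rfl
    rw [he]
    exact Subgroup.card_map_of_injective a.injective
  · rw [dlt_conj a u r, dlt_conj, show ∀ y, a⁻¹ (a y) = y from MulEquiv.symm_apply_apply a, hu.fix,
      map_one]

variable [Fact p.Prime]

theorem IsTrv.zpowers_eq (hu : IsTrv p u) {x : M} (hx : x ∈ (dlt u).range) (hx1 : x ≠ 1) :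
    Subgroup.zpowers x = (dlt u).range := by
  refine Subgroup.eq_of_le_of_card_ge (Subgroup.zpowers_le.2 hx) (le_of_eq ?_)
  rw [hu.card, Nat.card_zpowers]
  rcases (Nat.dvd_prime Fact.out).1 (hu.card ▸ Subgroup.orderOf_dvd_natCard _ hx) with h | h
  · exact absurd (orderOf_eq_one_iff.1 h) hx1
  · exact h.symm

theorem IsTrv.pow_eq_one (hu : IsTrv p u) {x : M} (hx : x ∈ (dlt u).range) : x ^ p = 1 := by
  have h : (⟨x, hx⟩ : (dlt u).range) ^ p = 1 := by
    rw [← hu.card]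
    exact pow_card_eq_one'
  exact congrArg Subtype.val h

theorem IsTrv.orderOf (hu : IsTrv p u) : orderOf u = p := by
  refine orderOf_eq_prime ?_ fun h1 => ?_
  · refine MulEquiv.ext fun r => ?_
    rw [pow_apply u (hu.fix r), hu.pow_eq_one ⟨r, rfl⟩, mul_one]
    rfl
  · have hb : (dlt u).range = ⊥ := eq_bot_iff.2 fun y ⟨r, hr⟩ => by
      rw [← hr, dlt_eq_one.2 (by rw [h1]; rfl)]
      exact one_mem _
    have := hu.card
    rw [hb, Subgroup.card_bot] at this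
    exact (Fact.out : p.Prime).ne_one this.symm

theorem IsTrv.ne_one (hu : IsTrv p u) : u ≠ 1 := fun h => by
  have := hu.orderOf
  rw [h, orderOf_one] at this
  exact (Fact.out : p.Prime).ne_one this.symm

variable (hM : IsPGroup p M)
  (hsyl : ∀ H : Subgroup (MulAut M), H ≤ L → IsPGroup p H → Nat.card H ≤ p)
include hM hsyl

theorem mem_zpowers_of_stab [Finite (MulAut M)] (hu : IsTrv p u) (huL : u ∈ L) (hwL : w ∈ L)
    {A B : Subgroup M} {hAB : A ≤ B} (h1 : u ∈ stab A B hAB) (h2 : w ∈ stab A B hAB) :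
    w ∈ Subgroup.zpowers u := by
  set H := Subgroup.closure ({u, w} : Set (MulAut M))
  have hHL : H ≤ L := (Subgroup.closure_le _).2 (Set.insert_subset huL (Set.singleton_subset_iff.2 hwL))
  have hHs : H ≤ stab A B hAB :=
    (Subgroup.closure_le _).2 (Set.insert_subset h1 (Set.singleton_subset_iff.2 h2))
  have he : Subgroup.zpowers u = H := by
    refine Subgroup.eq_of_le_of_card_ge (Subgroup.zpowers_le.2 (Subgroup.subset_closure (by simp))) ?_
    rw [Nat.card_zpowers, hu.orderOf]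
    exact hsyl H hHL ((isPGroup_stab hM A B hAB).to_le hHs)
  rw [he]
  exact Subgroup.subset_closure (by simp)

/-- Independent transvections do not fix each other's image. -/
theorem not_range_le_ker [Finite (MulAut M)] (hu : IsTrv p u) (hu' : IsTrv p u') (huL : u ∈ L)
    (hu'L : u' ∈ L) (hne : u' ∉ Subgroup.zpowers u) : ¬ (dlt u').range ≤ (dlt u).ker := by
  intro h
  set A := (dlt u').range with hA
  set B := (dlt u).range ⊔ A with hB
  have hBk : B ≤ (dlt u).ker := sup_le (fun y ⟨r, hr⟩ => hr ▸ hu.fix r) h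
  refine hne (mem_zpowers_of_stab hM hsyl hu huL hu'L (A := A) (B := B) (hAB := le_sup_right) ?_ ?_)
  · exact ⟨fun a ha => h ha, fun b hb => (show dlt u b = 1 from hBk hb) ▸ A.one_mem,
      fun r => Subgroup.mem_sup_left ⟨r, rfl⟩⟩
  · exact ⟨fun a ⟨r, hr⟩ => hr ▸ hu'.fix r, fun b _ => ⟨b, rfl⟩,
      fun r => Subgroup.mem_sup_right ⟨r, rfl⟩⟩

/-- The basis of a pair of independent transvections. -/
theorem exists_basis [Finite (MulAut M)] (hu : IsTrv p u) (hu' : IsTrv p u') (huL : u ∈ L)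
    (hu'L : u' ∈ L) (hne : u' ∉ Subgroup.zpowers u) :
    ∃ τ τ' : M, dlt u τ' = τ ∧ dlt u τ = 1 ∧ dlt u' τ' = 1 ∧ dlt u' τ ≠ 1 ∧
      Subgroup.zpowers τ = (dlt u).range ∧ Subgroup.zpowers τ' = (dlt u').range ∧
      ∀ r, ∃ (i j : ℤ) (c : M), dlt u c = 1 ∧ dlt u' c = 1 ∧ r = τ ^ i * τ' ^ j * c := by
  obtain ⟨τ', hτ', hτ'k⟩ := Set.not_subset.1 (not_range_le_ker hM hsyl hu hu' huL hu'L hne)
  have hτ'1 : τ' ≠ 1 := fun h => hτ'k (h ▸ one_mem _)
  set τ := dlt u τ' with hτ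
  have hτ1 : τ ≠ 1 := hτ'k
  have hT := hu.zpowers_eq ⟨τ', rfl⟩ hτ1
  have hT' := hu'.zpowers_eq hτ' hτ'1
  have hne' : u ∉ Subgroup.zpowers u' := fun h => hne <| by
    have he : Subgroup.zpowers u = Subgroup.zpowers u' :=
      Subgroup.eq_of_le_of_card_ge (Subgroup.zpowers_le.2 h) (by
        rw [Nat.card_zpowers, Nat.card_zpowers, hu.orderOf, hu'.orderOf])
    rw [he]
    exact Subgroup.mem_zpowers u'
  have hu'τ : dlt u' τ ≠ 1 := fun h => not_range_le_ker hM hsyl hu' hu hu'L huL hne' <| by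
    rw [← hT, Subgroup.zpowers_le]
    exact h
  have h0 : dlt u τ = 1 := hu.fix τ'
  have h0' : dlt u' τ' = 1 := by
    obtain ⟨r, rfl⟩ := hτ'
    exact hu'.fix r
  refine ⟨τ, τ', rfl, h0, h0', hu'τ, hT, hT', fun r => ?_⟩
  obtain ⟨j, hj⟩ := Subgroup.mem_zpowers_iff.1 (hT.ge ⟨r, rfl⟩)
  have hT'2 := hu'.zpowers_eq ⟨τ, rfl⟩ hu'τ
  obtain ⟨i, hi⟩ := Subgroup.mem_zpowers_iff.1 (hT'2.ge ⟨r, rfl⟩)
  refine ⟨i, j, (τ ^ i * τ' ^ j)⁻¹ * r, ?_, ?_, by group⟩
  · rw [map_mul, map_inv, map_mul, map_zpow, map_zpow, h0, one_zpow, one_mul, ← hτ, hj,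
      inv_mul_cancel]
  · rw [map_mul, map_inv, map_mul, map_zpow, map_zpow, h0', one_zpow, mul_one, hi,
      inv_mul_cancel]

/-- The element inverting both images. -/
theorem exists_neg [Finite (MulAut M)] (hu : IsTrv p u) (hu' : IsTrv p u') (huL : u ∈ L)
    (hu'L : u' ∈ L) (hne : u' ∉ Subgroup.zpowers u) :
    ∃ t ∈ L, (∀ y ∈ (dlt u).range, t y = y⁻¹) ∧ (∀ c, dlt u c = 1 → dlt u' c = 1 → t c = c) ∧
      Commute t u ∧ ∀ y ∈ (dlt u').range, t y = y⁻¹ := by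
  obtain ⟨τ, τ', h1, h2, h3, h4, hT, hT', hdec⟩ := exists_basis hM hsyl hu hu' huL hu'L hne
  set σ := dlt u' τ with hσ
  have hσ' : τ'⁻¹ ∈ Subgroup.zpowers σ := by
    rw [hu'.zpowers_eq ⟨τ, rfl⟩ h4, ← hT']
    exact inv_mem (Subgroup.mem_zpowers τ')
  obtain ⟨j, hj : σ ^ j = τ'⁻¹⟩ := mem_powers_iff_mem_zpowers.2 hσ'
  set v := u' ^ j with hv
  have hvτ : v τ = τ * τ'⁻¹ := by rw [hv, pow_apply u' (hu'.fix τ), ← hσ, hj]
  have hvfix : ∀ c, dlt u' c = 1 → v c = c := fun c hc => by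
    rw [hv, pow_apply u' (by rw [hc, map_one]), hc, one_pow, mul_one]
  have huτ : u τ = τ := dlt_eq_one.1 h2
  have huτ' : u τ' = τ' * τ := by rw [apply_eq u τ', h1]
  set w₀ := u * v * u with hw₀
  have hw : w₀ τ = τ'⁻¹ := by
    show u (v (u τ)) = _
    rw [huτ, hvτ, map_mul, map_inv, huτ, huτ', mul_inv_rev, mul_inv_cancel_left]
  have hw' : w₀ τ' = τ := by
    show u (v (u τ')) = _
    rw [huτ', map_mul v, hvτ, hvfix τ' h3, mul_comm τ' (τ * τ'⁻¹), inv_mul_cancel_right, huτ]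
  set t := w₀ * w₀ with ht
  have htτ : t τ = τ⁻¹ := by
    show w₀ (w₀ τ) = _
    rw [hw, map_inv, hw']
  have htτ' : t τ' = τ'⁻¹ := by
    show w₀ (w₀ τ') = _
    rw [hw', hw]
  have htc : ∀ c, dlt u c = 1 → dlt u' c = 1 → t c = c := fun c hc hc' => by
    have : w₀ c = c := by
      show u (v (u c)) = c
      rw [dlt_eq_one.1 hc, hvfix c hc', dlt_eq_one.1 hc]
    show w₀ (w₀ c) = c
    rw [this, this]
  refine ⟨t, ?_, fun y hy => ?_, htc, MulEquiv.ext fun r => ?_, fun y hy => ?_⟩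
  · have : w₀ ∈ L := mul_mem (mul_mem huL (pow_mem hu'L j)) huL
    exact mul_mem this this
  · obtain ⟨k, rfl⟩ := Subgroup.mem_zpowers_iff.1 (hT.ge hy)
    rw [map_zpow, htτ, inv_zpow]
  · obtain ⟨i, k, c, hc, hc', rfl⟩ := hdec r
    show t (u (τ ^ i * τ' ^ k * c)) = u (t (τ ^ i * τ' ^ k * c))
    simp only [map_mul, map_zpow, htτ, htτ', htc c hc hc', huτ, huτ', dlt_eq_one.1 hc, map_inv,
      mul_inv, mul_zpow, inv_zpow]
  · obtain ⟨k, rfl⟩ := Subgroup.mem_zpowers_iff.1 (hT'.ge hy)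
    rw [map_zpow, htτ', inv_zpow]

omit [Fact p.Prime] in
theorem zpowers_eq_pair {g : MulAut M} (hg : IsTrv 2 g) {x : M} (hx : x ∈ (dlt g).range)
    (hx1 : x ≠ 1) {r : M} (hr : dlt g r ≠ 1) : dlt g r = x := by
  haveI : Fact (Nat.Prime 2) := ⟨Nat.prime_two⟩
  have h : dlt g r ∈ Subgroup.zpowers x := hg.zpowers_eq hx hx1 ▸ ⟨r, rfl⟩
  obtain ⟨k, hk⟩ := Subgroup.mem_zpowers_iff.1 h
  rcases Int.even_or_odd k with ⟨q, rfl⟩ | ⟨q, rfl⟩
  · exfalso
    rw [← two_mul, zpow_mul, zpow_ofNat, hg.pow_eq_one hx, one_zpow] at hk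
    exact hr hk.symm
  · rw [zpow_add, zpow_mul, zpow_ofNat, hg.pow_eq_one hx, one_zpow, one_mul, zpow_one] at hk
    exact hk.symm

/-- For `p = 2` a transvection different from two given ones is the product `u' u u'`. -/
theorem eq_conj_of_two [Finite (MulAut M)] (hp : p = 2) (hu : IsTrv p u) (hu' : IsTrv p u')
    (hw : IsTrv p w) (huL : u ∈ L) (hu'L : u' ∈ L) (hwL : w ∈ L) (h1 : u' ≠ u) (h2 : w ≠ u)
    (h3 : w ≠ u') : w = u' * u * u' := by
  subst hp
  have nm : ∀ {a b : MulAut M}, IsTrv 2 a → IsTrv 2 b → b ≠ a → b ∉ Subgroup.zpowers a := by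
    intro a b ha hb hba hmem
    obtain ⟨k, hk⟩ := Subgroup.mem_zpowers_iff.1 hmem
    have ha2 : a ^ 2 = 1 := ha.orderOf ▸ pow_orderOf_eq_one a
    rcases Int.even_or_odd k with ⟨q, rfl⟩ | ⟨q, rfl⟩
    · rw [← two_mul, zpow_mul, zpow_ofNat, ha2, one_zpow] at hk
      exact hb.ne_one hk.symm
    · rw [zpow_add, zpow_mul, zpow_ofNat, ha2, one_zpow, one_mul, zpow_one] at hk
      exact hba hk.symm
  obtain ⟨τ, τ', e1, e2, e3, e4, hT, hT', -⟩ :=
    exists_basis hM hsyl hu hu' huL hu'L (nm hu hu' h1)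
  have hτ1 : τ ≠ 1 := fun h => e4 (by rw [h, map_one])
  have hτ'1 : τ' ≠ 1 := fun h => hτ1 (by rw [← e1, h, map_one])
  obtain ⟨ρ, ρ', f1, -, -, f4, hR, hR', -⟩ := exists_basis hM hsyl hu hw huL hwL (nm hu hw h2)
  obtain ⟨π, π', g1, -, -, g4, hP, hP', -⟩ := exists_basis hM hsyl hu' hw hu'L hwL (nm hu' hw h3)
  have hρ1 : ρ ≠ 1 := fun h => f4 (by rw [h, map_one])
  have hρ : ρ = τ := by
    have h := zpowers_eq_pair hM hsyl hu (hT ▸ Subgroup.mem_zpowers τ) hτ1 (f1.symm ▸ hρ1)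
    exact f1.symm.trans h
  have hρ'1 : ρ' ≠ 1 := fun h => hρ1 (by rw [← f1, h, map_one])
  subst hρ
  have hw2 : dlt w ρ = ρ' := zpowers_eq_pair hM hsyl hw (hR' ▸ Subgroup.mem_zpowers ρ') hρ'1 f4
  have hπ1 : π ≠ 1 := fun h => g4 (by rw [h, map_one])
  have hπ : π = τ' := by
    have h := zpowers_eq_pair hM hsyl hu' (hT' ▸ Subgroup.mem_zpowers τ') hτ'1 (g1.symm ▸ hπ1)
    exact g1.symm.trans h
  subst hπ
  have hw3 : dlt w π = ρ' := zpowers_eq_pair hM hsyl hw (hR' ▸ Subgroup.mem_zpowers ρ') hρ'1 g4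
  have hπ' : π' = ρ' := by
    have h1 : π' ∈ (dlt w).range := hP' ▸ Subgroup.mem_zpowers π'
    have hπ'1 : π' ≠ 1 := fun h => hπ1 (by rw [← g1, h, map_one])
    have h2 : π' ∈ Subgroup.zpowers ρ' := hR'.symm ▸ h1
    obtain ⟨k, hk⟩ := Subgroup.mem_zpowers_iff.1 h2
    have hρ2 : ρ' ^ 2 = 1 := hw.pow_eq_one (hR' ▸ Subgroup.mem_zpowers ρ')
    rcases Int.even_or_odd k with ⟨q, rfl⟩ | ⟨q, rfl⟩
    · rw [← two_mul, zpow_mul, zpow_ofNat, hρ2, one_zpow] at hk
      exact absurd hk.symm hπ'1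
    · rw [zpow_add, zpow_mul, zpow_ofNat, hρ2, one_zpow, one_mul, zpow_one] at hk
      exact hk.symm
  subst hπ'
  have e4' : dlt u' ρ = π :=
    zpowers_eq_pair hM hsyl hu' (hT' ▸ Subgroup.mem_zpowers π) hτ'1 e4
  -- `x := u' u u'` fixes the image of `w`, and `w` fixes the image of `x`
  set x := u' * u * u' with hx
  have hu'inv : u'⁻¹ = u' := by
    rw [inv_eq_iff_mul_eq_one, ← sq]
    exact hu'.orderOf ▸ pow_orderOf_eq_one u'
  have hxt : IsTrv 2 x := by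
    have := hu.conj u'
    rwa [hu'inv] at this
  have hu'2 : ∀ r, u' (u' r) = r := fun r => by
    conv_lhs => rw [show u' (u' r) = u'⁻¹ (u' r) by rw [hu'inv]]
    exact MulEquiv.symm_apply_apply u' r
  have hxw : x π' = π' := by
    show u' (u (u' π')) = π'
    have a1 : u' π' = π' * π := by rw [apply_eq u', g1]
    have a2 : u π' = π' * ρ := by rw [apply_eq u, f1]
    have a3 : u π = π * ρ := by rw [apply_eq u, e1]
    have a4 : u' ρ = ρ * π := by rw [apply_eq u', e4']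
    have a5 : u' π = π := dlt_eq_one.1 e3
    have hρ2 : ρ * ρ = 1 := by rw [← sq]; exact hu.pow_eq_one (hT ▸ Subgroup.mem_zpowers ρ)
    rw [a1, map_mul, a2, a3, mul_mul_mul_comm, hρ2, mul_one, map_mul, a1, a5, mul_assoc, ← sq,
      hu'.pow_eq_one (hT' ▸ Subgroup.mem_zpowers π), mul_one]
  have hσx : ρ * π ∈ (dlt x).range := by
    refine ⟨π, ?_⟩
    have h := dlt_conj u' u π
    rw [hu'inv] at h
    rw [hx, h, dlt_eq_one.1 e3, e1, apply_eq u', e4']
  have hσ1 : ρ * π ≠ 1 := fun h => e4 <| by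
    have : ρ = π⁻¹ := eq_inv_of_mul_eq_one_left h
    rw [this, map_inv, e3, inv_one]
  have hxR := hxt.zpowers_eq hσx hσ1
  have hwσ : dlt w (ρ * π) = 1 := by
    rw [map_mul, hw2, hw3, ← sq]
    exact hw.pow_eq_one (hR' ▸ Subgroup.mem_zpowers π')
  set A := (dlt x).range ⊔ (dlt w).range with hA
  have hAx : A ≤ (dlt x).ker := sup_le (fun y ⟨r, hr⟩ => hr ▸ hxt.fix r)
    (hR' ▸ Subgroup.zpowers_le.2 (dlt_eq_one.2 hxw))
  have hAw : A ≤ (dlt w).ker := sup_le (hxR ▸ Subgroup.zpowers_le.2 hwσ)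
    fun y ⟨r, hr⟩ => hr ▸ hw.fix r
  have hxL : x ∈ L := mul_mem (mul_mem hu'L huL) hu'L
  by_contra hwx
  exact nm hxt hw hwx (mem_zpowers_of_stab hM hsyl hxt hxL hwL (A := A) (B := A) (hAB := le_rfl)
    ⟨fun a ha => hAx ha, fun b hb => (show dlt x b = 1 from hAx hb) ▸ A.one_mem,
      fun r => Subgroup.mem_sup_left ⟨r, rfl⟩⟩
    ⟨fun a ha => hAw ha, fun b hb => (show dlt w b = 1 from hAw hb) ▸ A.one_mem,
      fun r => Subgroup.mem_sup_right ⟨r, rfl⟩⟩)

/-- For `p = 2`: the common fixed points and the product of the images are invariant, and every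
element is a product of one fixing the former and one commuting with `u`. -/
theorem two_pair [Finite (MulAut M)] (hp : p = 2) (hu : IsTrv p u) (huL : u ∈ L) {α : MulAut M}
    (hα : α ∈ L) (hne : α * u * α⁻¹ ≠ u) (β : MulAut M) (hβ : β ∈ L) :
    (∀ c, dlt u c = 1 → dlt (α * u * α⁻¹) c = 1 →
      dlt u (β c) = 1 ∧ dlt (α * u * α⁻¹) (β c) = 1) ∧
    (∀ e ∈ (dlt u).range ⊔ (dlt (α * u * α⁻¹)).range,
      β e ∈ (dlt u).range ⊔ (dlt (α * u * α⁻¹)).range) ∧
    ∃ m ∈ L, ∃ n ∈ L, β = m * n ∧ Commute n u ∧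
      ∀ c, dlt u c = 1 → dlt (α * u * α⁻¹) c = 1 → m c = c := by
  subst hp
  set u' := α * u * α⁻¹ with hu'def
  have hu' : IsTrv 2 u' := hu.conj α
  have hu'L : u' ∈ L := mul_mem (mul_mem hα huL) (inv_mem hα)
  have hcls : ∀ {g : MulAut M}, g ∈ L → ∀ {v : MulAut M}, IsTrv 2 v → v ∈ L →
      g * v * g⁻¹ = u ∨ g * v * g⁻¹ = u' ∨ g * v * g⁻¹ = u' * u * u' := by
    intro g hg v hv hvL
    rw [or_iff_not_imp_left, or_iff_not_imp_left]
    exact fun h1 h2 => eq_conj_of_two hM hsyl rfl hu hu' (hv.conj g) huL hu'L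
      (mul_mem (mul_mem hg hvL) (inv_mem hg)) hne h1 h2
  set x := u' * u * u' with hx
  have hu'inv : u'⁻¹ = u' := by
    rw [inv_eq_iff_mul_eq_one, ← sq]
    exact hu'.orderOf ▸ pow_orderOf_eq_one u'
  have huinv : u⁻¹ = u := by
    rw [inv_eq_iff_mul_eq_one, ← sq]
    exact hu.orderOf ▸ pow_orderOf_eq_one u
  have hxfix : ∀ c, dlt u c = 1 → dlt u' c = 1 → dlt x c = 1 := fun c h1 h2 => dlt_eq_one.2 <| by
    show u' (u (u' c)) = c
    rw [dlt_eq_one.1 h2, dlt_eq_one.1 h1, dlt_eq_one.1 h2]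
  have hfixc : ∀ {v : MulAut M}, IsTrv 2 v → v ∈ L → ∀ g ∈ L, ∀ c,
      dlt u c = 1 → dlt u' c = 1 → dlt (g * v * g⁻¹) c = 1 := by
    intro v hv hvL g hg c h1 h2
    rcases hcls hg hv hvL with h | h | h <;> rw [h]
    exacts [h1, h2, hxfix c h1 h2]
  refine ⟨fun c h1 h2 => ⟨?_, ?_⟩, ?_, ?_⟩
  · have h := hfixc hu huL β⁻¹ (inv_mem hβ) c h1 h2
    rw [dlt_conj, map_eq_one_iff _ (β⁻¹).injective, inv_inv] at h
    exact h
  · have h := hfixc hu' hu'L β⁻¹ (inv_mem hβ) c h1 h2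
    rw [dlt_conj, map_eq_one_iff _ (β⁻¹).injective, inv_inv] at h
    exact h
  · have hxE : (dlt x).range ≤ (dlt u).range ⊔ (dlt u').range := by
      rintro y ⟨r, rfl⟩
      rw [hx, show u' * u * u' = u' * u * u'⁻¹ by rw [hu'inv], dlt_conj, apply_eq u']
      exact mul_mem (Subgroup.mem_sup_left ⟨_, rfl⟩) (Subgroup.mem_sup_right ⟨_, rfl⟩)
    have hrng : ∀ {v : MulAut M}, IsTrv 2 v → v ∈ L → ∀ y ∈ (dlt v).range,
        β y ∈ (dlt u).range ⊔ (dlt u').range := by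
      rintro v hv hvL _ ⟨r, rfl⟩
      have h : β (dlt v r) ∈ (dlt (β * v * β⁻¹)).range :=
        ⟨β r, by rw [dlt_conj, show β⁻¹ (β r) = r from MulEquiv.symm_apply_apply β r]⟩
      rcases hcls hβ hv hvL with e | e | e <;> rw [e] at h
      exacts [Subgroup.mem_sup_left h, Subgroup.mem_sup_right h, hxE h]
    intro e he
    exact (sup_le (c := ((dlt u).range ⊔ (dlt u').range).comap β.toMonoidHom)
      (fun y hy => hrng hu huL y hy) (fun y hy => hrng hu' hu'L y hy)) he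
  · have key : ∀ m ∈ L, β * u * β⁻¹ = m * u * m⁻¹ → Commute (m⁻¹ * β) u := fun m _ h => by
      show m⁻¹ * β * u = u * (m⁻¹ * β)
      rw [mul_assoc m⁻¹ β u, show β * u = m * u * m⁻¹ * β by rw [← h]; group]
      group
    rcases hcls hβ hu huL with h | h | h
    · exact ⟨1, one_mem L, β, hβ, (one_mul β).symm, by simpa using key 1 (one_mem L) (by simpa using h),
        fun c _ _ => rfl⟩
    · have hbr : u * u' * u = x := by
        refine eq_conj_of_two hM hsyl rfl hu hu' (by simpa [huinv] using hu'.conj u) huL hu'L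
          (mul_mem (mul_mem huL hu'L) huL) hne (fun e => hne ?_) (fun e => ?_)
        · calc u' = u⁻¹ * (u * u' * u) * u⁻¹ := by group
            _ = u⁻¹ * u * u⁻¹ := by rw [e]
            _ = u := by rw [inv_mul_cancel, one_mul, huinv]
        · obtain ⟨τ, τ', f1, -, f3, f4, hT, hT', -⟩ := exists_basis hM hsyl hu hu' huL hu'L (by
            intro hm
            obtain ⟨k, hk⟩ := Subgroup.mem_zpowers_iff.1 hm
            have hu2 : u ^ 2 = 1 := hu.orderOf ▸ pow_orderOf_eq_one u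
            rcases Int.even_or_odd k with ⟨q, rfl⟩ | ⟨q, rfl⟩
            · rw [← two_mul, zpow_mul, zpow_ofNat, hu2, one_zpow] at hk
              exact hu'.ne_one hk.symm
            · rw [zpow_add, zpow_mul, zpow_ofNat, hu2, one_zpow, one_mul, zpow_one] at hk
              exact hne hk.symm)
          have h5 : dlt u' (u τ') = 1 := by
            have h6 : u' (u τ') = u (u' τ') := by
              show (u' * u) τ' = (u * u') τ'
              rw [show u' * u = u * u' by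
                conv_lhs => rw [← e]
                rw [mul_assoc, ← sq u, show u ^ 2 = 1 from hu.orderOf ▸ pow_orderOf_eq_one u,
                  mul_one]]
            refine dlt_eq_one.2 (h6.trans ?_)
            rw [dlt_eq_one.1 f3]
          rw [apply_eq u, f1, map_mul, f3, one_mul] at h5
          exact absurd h5 f4
      refine ⟨u * u', mul_mem huL hu'L, (u * u')⁻¹ * β, mul_mem (inv_mem (mul_mem huL hu'L)) hβ,
        by group, key _ (mul_mem huL hu'L) (h.trans ?_), fun c h1 h2 => ?_⟩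
      · rw [mul_inv_rev, hu'inv, huinv, show u * u' * u * (u' * u) = u * (u' * u * u') * u by group,
          ← hx, ← hbr, ← mul_assoc, ← mul_assoc, ← sq,
          show u ^ 2 = 1 from hu.orderOf ▸ pow_orderOf_eq_one u, one_mul, mul_assoc, ← sq,
          show u ^ 2 = 1 from hu.orderOf ▸ pow_orderOf_eq_one u, mul_one]
      · show u (u' c) = c
        rw [dlt_eq_one.1 h2, dlt_eq_one.1 h1]
    · exact ⟨u', hu'L, u'⁻¹ * β, mul_mem (inv_mem hu'L) hβ, by group,
        key _ hu'L (by rw [h, hx, hu'inv]), fun c _ h2 => dlt_eq_one.1 h2⟩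

end CfsgLib.Fusion.Transvection
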