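import Cfsg.Agent.Lib.PGroup.GenExtraspecialSplit
import Cfsg.Agent.Lib.Fusion.System.Transvection
import Cfsg.Agent.Lib.Fusion.System.SeriesNormal
import Cfsg.Agent.Lib.Fusion.System.AgemoNormal
import Cfsg.Agent.Lib.Fusion.System.Hyperfocal
import Cfsg.Agent.Lib.Fusion.System.Model
import Cfsg.Agent.Lib.CFun.Tools

/-!
# Strongly closed generalized extraspecial subgroups are normal
-/

set_option autoImplicit false
set_option linter.style.haveILetI false
set_option linter.unusedSectionVars false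
set_option maxHeartbeats 1000000

open Subgroup
open scoped Classical commutatorElement IsMulCommutative

namespace CfsgLib.Fusion.GenExtraspecial

open Cfsg (FusionSystem autInducedBy)
open Cfsg.FusionSystem (normalizerIn centralizerIn)
open CfsgLib.Fusion.Transvection (dlt)

variable {p : ℕ} [hp : Fact p.Prime]

section Transvection

variable {M : Type*} [CommGroup M] {L : Subgroup (MulAut M)} {u α : MulAut M} {Z : Subgroup M}
  {z : M}

/-- A common mover of `z`: `β z` and `β⁻¹ z` both lie outside the fixed points of `u`. -/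
theorem exists_out [Finite (MulAut M)] (huL : u ∈ L) (hαL : α ∈ L)
    (hz : ∀ r, dlt u r ∈ Subgroup.zpowers z) (hz1 : dlt u z = 1)
    (hαz : dlt u (α z) ≠ 1) (hap : (α z) ^ p = 1) :
    ∃ β ∈ L, dlt u (β z) ≠ 1 ∧ dlt u (β⁻¹ z) ≠ 1 := by
  set g := α⁻¹ with hg
  have hex : ∃ k, 1 ≤ k ∧ dlt u ((g ^ k) z) ≠ 1 := by
    have ho : 0 < orderOf g := orderOf_pos g
    refine ⟨2 * orderOf g - 1, by omega, ?_⟩
    have h : g ^ (2 * orderOf g - 1) = α := by
      have h1 : g ^ (2 * orderOf g - 1) * g = 1 := by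
        rw [← pow_succ, show 2 * orderOf g - 1 + 1 = orderOf g * 2 by omega, pow_mul,
          pow_orderOf_eq_one, one_pow]
      rw [eq_inv_of_mul_eq_one_left h1, hg, inv_inv]
    rwa [h]
  have claim : ∀ i : ℕ, ∃ β ∈ L, dlt u (β z) ≠ 1 ∧
      ∀ w, (∀ j, 1 ≤ j → j ≤ i → dlt u ((g ^ j) w) = 1) → β⁻¹ w = (g ^ (i + 1)) w := by
    intro i
    induction i with
    | zero => exact ⟨α, hαL, hαz, fun w _ => by rw [zero_add, pow_one]⟩
    | succ i ih =>
      obtain ⟨β, hβ, hout, hβi⟩ := ih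
      have step : ∀ e : MulAut M, e ∈ L → (∀ r, dlt u r = 1 → e⁻¹ r = r) →
          dlt u (α (e (β z))) ≠ 1 → ∃ β' ∈ L, dlt u (β' z) ≠ 1 ∧
            ∀ w, (∀ j, 1 ≤ j → j ≤ i + 1 → dlt u ((g ^ j) w) = 1) →
              β'⁻¹ w = (g ^ (i + 1 + 1)) w := by
        intro e he hfix hout'
        refine ⟨α * e * β, mul_mem (mul_mem hαL he) hβ, hout', fun w hw => ?_⟩
        rw [mul_inv_rev, mul_inv_rev, ← hg, MulAut.mul_apply, MulAut.mul_apply,
          hfix (g w) (by simpa using hw 1 le_rfl (by omega)),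
          hβi (g w) fun j hj1 hj => by
            rw [← MulAut.mul_apply, ← pow_succ]
            exact hw (j + 1) (by omega) (by omega),
          ← MulAut.mul_apply, ← pow_succ]
      by_cases hcase : dlt u (α (β z)) = 1
      · refine step u huL (fun r hr => ?_) ?_
        · conv_lhs => rw [← Transvection.dlt_eq_one.1 hr]
          exact MulEquiv.symm_apply_apply u r
        · obtain ⟨m, hm⟩ := mem_zpowers_iff.1 (hz (β z))
          rw [Transvection.apply_eq u (β z), map_mul, map_mul, hcase, one_mul, ← hm, map_zpow,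
            map_zpow]
          intro h
          have hm1 : (z : M) ^ m ≠ 1 := hm ▸ hout
          have hzp : z ^ p = 1 := α.injective (by rw [map_pow, hap, map_one])
          refine hαz ?_
          have hdp : (dlt u (α z)) ^ p = 1 := by rw [← map_pow, hap, map_one]
          by_contra hne
          have hpm : (p : ℤ) ∣ m := by
            rw [← orderOf_eq_prime hdp hne]
            exact orderOf_dvd_iff_zpow_eq_one.2 h
          obtain ⟨q, rfl⟩ := hpm
          exact hm1 (by rw [zpow_mul, zpow_natCast, hzp, one_zpow])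
      · exact step 1 (one_mem L) (fun r _ => by simp) hcase
  obtain ⟨hk1, hk⟩ := Nat.find_spec hex
  obtain ⟨β, hβ, h1, h2⟩ := claim (Nat.find hex - 1)
  refine ⟨β, hβ, h1, ?_⟩
  rw [h2 z fun j hj1 hj => by
    by_contra hne
    exact Nat.find_min hex (show j < Nat.find hex by omega) ⟨hj1, hne⟩]
  rwa [show Nat.find hex - 1 + 1 = Nat.find hex by omega]

/-- An element commuting with `u` and inverting `z`. -/
theorem exists_invert [Finite (MulAut M)] (huL : u ∈ L) (hαL : α ∈ L)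
    (hz : ∀ r, dlt u r ∈ Subgroup.zpowers z) (hz1 : dlt u z = 1) (hzp : z ^ p = 1)
    (hαz : dlt u (α z) ≠ 1) :
    ∃ t ∈ L, Commute t u ∧ t z = z⁻¹ := by
  obtain ⟨β, hβ, hb1, hb2⟩ := exists_out (p := p) huL hαL hz hz1 hαz (by rw [← map_pow, hzp, map_one])
  have hgen : ∀ {a : M}, a ∈ Subgroup.zpowers z → a ≠ 1 → z ∈ Subgroup.zpowers a := by
    intro a ha ha1
    have hz' : z ≠ 1 := fun h => by
      subst h
      rw [Subgroup.zpowers_one_eq_bot, Subgroup.mem_bot] at ha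
      exact ha1 ha
    exact CfsgLib.GenExtraspecial.mem_zpowers_of_card
      (H := Subgroup.zpowers z) (by rw [Nat.card_zpowers, orderOf_eq_prime hzp hz']) ha ha1
      (Subgroup.mem_zpowers z)
  set u' := β * u * β⁻¹ with hu'
  have hu'L : u' ∈ L := mul_mem (mul_mem hβ huL) (inv_mem hβ)
  set τ' := β z with hτ'
  set τ := dlt u τ' with hτ
  have hτz : τ ∈ Subgroup.zpowers z := hz τ'
  have hzτ : z ∈ Subgroup.zpowers τ := hgen hτz hb1
  have h2 : dlt u τ = 1 := by
    obtain ⟨k, hk⟩ := mem_zpowers_iff.1 hτz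
    rw [← hk, map_zpow, hz1, one_zpow]
  have h3 : dlt u' τ' = 1 := by
    rw [hu', Transvection.dlt_conj, hτ', show β⁻¹ (β z) = z from MulEquiv.symm_apply_apply β z,
      hz1, map_one]
  have hu'r : ∀ r, dlt u' r ∈ Subgroup.zpowers τ' := fun r => by
    obtain ⟨k, hk⟩ := mem_zpowers_iff.1 (hz (β⁻¹ r))
    exact mem_zpowers_iff.2 ⟨k, by rw [hu', Transvection.dlt_conj, ← hk, map_zpow]⟩
  set σ := dlt u' τ with hσ
  have h4 : σ ≠ 1 := by
    intro h
    obtain ⟨k, hk⟩ := mem_zpowers_iff.1 hzτ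
    have h' : dlt u' z = 1 := by rw [← hk, map_zpow, ← hσ, h, one_zpow]
    rw [hu', Transvection.dlt_conj] at h'
    exact hb2 (β.map_eq_one_iff.1 h')
  have hσgen : ∀ r ∈ Subgroup.zpowers τ', r ∈ Subgroup.zpowers σ := by
    have hτp : τ' ^ p = 1 := by rw [hτ', ← map_pow, hzp, map_one]
    have hτ1 : τ' ≠ 1 := fun h => hb1 (by rw [hτ, h, map_one])
    exact fun r hr => CfsgLib.GenExtraspecial.mem_zpowers_of_card (H := Subgroup.zpowers τ')
      (by rw [Nat.card_zpowers, orderOf_eq_prime hτp hτ1]) (hu'r τ) h4 hr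
  obtain ⟨j, hj⟩ := mem_zpowers_iff.1 (hσgen τ'⁻¹ (inv_mem (Subgroup.mem_zpowers τ')))
  -- `j` may be taken natural
  obtain ⟨n, hn⟩ : ∃ n : ℕ, σ ^ n = τ'⁻¹ := by
    have hσp : σ ^ p = 1 := by
      obtain ⟨k, hk⟩ := mem_zpowers_iff.1 (hu'r τ)
      rw [hσ, ← hk, ← zpow_natCast, ← zpow_mul, mul_comm k, zpow_mul, zpow_natCast,
        hτ', ← map_pow, hzp, map_one, one_zpow]
    refine ⟨(j % (p : ℤ)).toNat, ?_⟩
    rw [← zpow_natCast, Int.toNat_of_nonneg (Int.emod_nonneg _ (by exact_mod_cast hp.out.ne_zero))]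
    conv_rhs => rw [← hj, ← Int.emod_add_mul_ediv j (p : ℤ)]
    rw [zpow_add, zpow_mul, zpow_natCast, hσp, one_zpow, mul_one]
  have hfix' : dlt u' (dlt u' τ) = 1 := by
    obtain ⟨k, hk⟩ := mem_zpowers_iff.1 (hu'r τ)
    rw [← hk, map_zpow, h3, one_zpow]
  set v := u' ^ n with hv
  have hvτ : v τ = τ * τ'⁻¹ := by rw [hv, Transvection.pow_apply u' hfix', ← hσ, hn]
  have hvfix : ∀ c, dlt u' c = 1 → v c = c := fun c hc => by
    rw [hv, Transvection.pow_apply u' (by rw [hc, map_one]), hc, one_pow, mul_one]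
  have huτ : u τ = τ := Transvection.dlt_eq_one.1 h2
  have huτ' : u τ' = τ' * τ := by rw [Transvection.apply_eq u τ', ← hτ]
  set w₀ := u * v * u with hw₀
  have hw : w₀ τ = τ'⁻¹ := by
    show u (v (u τ)) = _
    rw [huτ, hvτ, map_mul, map_inv, huτ, huτ', mul_inv_rev, mul_inv_cancel_left]
  have hw' : w₀ τ' = τ := by
    show u (v (u τ')) = _
    rw [huτ', map_mul v, hvτ, hvfix τ' h3, mul_comm τ' (τ * τ'⁻¹), inv_mul_cancel_right, huτ]
  set t := w₀ * w₀ with ht
  have htτ : t τ = τ⁻¹ := by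
    show w₀ (w₀ τ) = _
    rw [hw, map_inv, hw']
  have htτ' : t τ' = τ'⁻¹ := by
    show w₀ (w₀ τ') = _
    rw [hw', hw]
  have htc : ∀ c, dlt u c = 1 → dlt u' c = 1 → t c = c := fun c hc hc' => by
    have : w₀ c = c := by
      show u (v (u c)) = c
      rw [Transvection.dlt_eq_one.1 hc, hvfix c hc', Transvection.dlt_eq_one.1 hc]
    show w₀ (w₀ c) = c
    rw [this, this]
  have hw₀L : w₀ ∈ L := mul_mem (mul_mem huL (pow_mem hu'L n)) huL
  refine ⟨t, mul_mem hw₀L hw₀L, MulEquiv.ext fun r => ?_, ?_⟩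
  · -- the decomposition of `r`
    obtain ⟨b, hb⟩ : ∃ b : ℤ, τ ^ b = dlt u r := by
      have h5 : dlt u r ∈ Subgroup.zpowers τ :=
        (Subgroup.zpowers_le.2 hzτ : Subgroup.zpowers z ≤ _) (hz r)
      exact mem_zpowers_iff.1 h5
    obtain ⟨a, ha⟩ := mem_zpowers_iff.1 (hσgen _ (hu'r r))
    set c := (τ ^ a * τ' ^ b)⁻¹ * r with hc
    have hc1 : dlt u c = 1 := by
      rw [hc, map_mul, map_inv, map_mul, map_zpow, map_zpow, h2, one_zpow, one_mul, ← hτ, hb,
        inv_mul_cancel]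
    have hc2 : dlt u' c = 1 := by
      rw [hc, map_mul, map_inv, map_mul, map_zpow, map_zpow, h3, one_zpow, mul_one, ← hσ, ha,
        inv_mul_cancel]
    have hr : r = τ ^ a * τ' ^ b * c := by rw [hc]; group
    show t (u r) = u (t r)
    rw [hr]
    simp only [map_mul, map_zpow, htτ, htτ', htc c hc1 hc2, huτ, huτ',
      Transvection.dlt_eq_one.1 hc1, map_inv, mul_inv, mul_zpow, inv_zpow]
  · obtain ⟨k, hk⟩ := mem_zpowers_iff.1 hzτ
    rw [← hk, map_zpow, htτ, inv_zpow]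

end Transvection

variable {Ω : Type*} [Group Ω] {S : Subgroup Ω} [Finite S] {F : FusionSystem S}

/-- The case in which all elements of order `p` lie in `C`. -/
theorem false_of_no_outer (hS : IsPGroup p S) (hF : F.IsSaturated p) {P Z C : Subgroup Ω}
    (hP : F.StronglyClosed P) (hp2 : p ≠ 2) (hZcard : Nat.card Z = p) (hZC : Z ≤ C)
    (hcomm : ∀ a ∈ P, ∀ b ∈ P, ⁅a, b⁆ ∈ Z) (hpow : ∀ a ∈ P, a ^ p ∈ Z)
    (hcen : ∀ v ∈ Z, ∀ a ∈ P, Commute v a) {y : Ω}
    (hmem : ∀ b, b ∈ C ↔ b ∈ P ∧ Commute b y) (habel : ∀ a ∈ C, ∀ b ∈ C, Commute a b)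
    (hexp : ∀ c ∈ C, c ^ p = 1) (hB : ∀ b ∈ P, b ^ p = 1 → b ∈ C)
    {f : Ω → Ω} (hf : IsMap F Z f) {z : Ω} (hz : z ∈ Z) (hfz : f z = y) (hy : y ∈ C) (hyZ : y ∉ Z)
    {a : Ω} (haP : a ∈ P) (haC : a ∉ C) : False := by
  have hPS := hP.1
  have hCP : C ≤ P := fun b hb => ((hmem b).1 hb).1
  have hCS : C ≤ S := hCP.trans hPS
  have hz1 : z ≠ 1 := fun h => hyZ (by rw [← hfz, h, hf.map_one]; exact one_mem Z)
  haveI := finite_of_le hCS
  haveI := finite_mulAut (P := C)
  haveI : IsMulCommutative C := ⟨⟨fun x w => Subtype.ext (habel x x.2 w w.2).eq⟩⟩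
  have hCsc : F.StronglyClosed C := stronglyClosed_iff.2 ⟨hCS, fun T g hT hg x hx =>
    hB _ ((stronglyClosed_iff.1 hP).2 T g (hT.trans hCP) hg x hx)
      (by rw [← hg.map_pow' hx, hexp x (hT hx), hg.map_one])⟩
  have hCn : F.IsNormal C :=
    isNormal_of_stronglyClosed_abelian hS hF hCsc fun x hx w hw => (habel x hx w hw).eq
  have hCnS := le_normalizerIn_of_stronglyClosed hCsc
  -- extend `f` to an automorphism of `C`
  obtain ⟨ψ, hψ, hψf, hψC⟩ := (isNormal_iff.1 hCn).2 Z f hf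
  have hψ' : IsMap F C ψ := hψ.mono le_sup_right
  set α := autOf hψ' hψC with hα
  have hαL : α ∈ F.autGroup C := autOf_mem hψ' hψC
  set u := conjAut a (hCnS (hPS haP)).2 with hu
  have huL : u ∈ F.autGroup C := autInducedBy_le_autGroup hCS (conjAut_mem (hPS haP) _)
  have hdlt : ∀ r : C, ((dlt u r : C) : Ω) = (r : Ω)⁻¹ * (a * r * a⁻¹) := fun r => by
    show (r : Ω)⁻¹ * ((u r : C) : Ω) = _
    rw [← autFun_coe u r, hu, autFun_conjAut _ r.2]
  set z' : C := ⟨z, hZC hz⟩ with hz'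
  have hzgen : ∀ r : C, dlt u r ∈ Subgroup.zpowers z' := by
    intro r
    have h : ((dlt u r : C) : Ω) ∈ Z := by
      rw [hdlt, show (r : Ω)⁻¹ * (a * r * a⁻¹) = ⁅(r : Ω)⁻¹, a⁆ by
        simp [commutatorElement_def, mul_assoc]]
      exact hcomm _ (inv_mem (hCP r.2)) a haP
    obtain ⟨k, hk⟩ := mem_zpowers_iff.1 (CfsgLib.GenExtraspecial.mem_zpowers_of_card hZcard hz hz1 h)
    exact mem_zpowers_iff.2 ⟨k, Subtype.ext (by rw [SubgroupClass.coe_zpow]; exact hk)⟩
  have hzfix : dlt u z' = 1 := Subtype.ext (by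
    rw [hdlt, show (z' : Ω) = z from rfl, ← (hcen z hz a haP).eq]
    simp)
  have hzp : z' ^ p = 1 := Subtype.ext (by
    rw [SubgroupClass.coe_pow]; exact hexp z (hZC hz))
  have hαz : dlt u (α z') ≠ 1 := by
    intro h
    refine haC ((hmem a).2 ⟨haP, ?_⟩)
    have e : ((α z' : C) : Ω) = y := by
      rw [← autFun_coe, hα, autFun_autOf hψ' hψC (hZC hz), ← hfz, hψf z hz]
    have h' := congrArg Subtype.val h
    rw [hdlt, e, OneMemClass.coe_one, inv_mul_eq_one] at h'
    show a * y = y * a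
    calc a * y = (a * y * a⁻¹) * a := by group
      _ = y * a := by rw [← h']
  obtain ⟨t, htL, htu, htz⟩ := exists_invert (p := p) huL hαL hzgen hzfix hzp hαz
  -- extend `t` to `a`
  obtain ⟨-, hrec⟩ := IsSaturated.automized_receptive hS hF (isFullyNormalized_of_isNormal hCn)
  have htm := (mem_autGroup_iff hCS).1 htL
  obtain ⟨g, hg, hge⟩ := (isReceptive_iff.1 hrec).2 C (autFun t) htm (img_autFun t)
  have hext : ∀ c ∈ C, autFun t (a * c * a⁻¹) = a * autFun t c * a⁻¹ := by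
    intro c hc
    rw [← autFun_conjAut (hCnS (hPS haP)).2 hc, ← hu, ← autFun_mul _ _ hc, htu.eq,
      autFun_mul _ _ hc, hu, autFun_conjAut _ (autFun_mem _ hc)]
  have haE : a ∈ extSub S C (autFun t) := mem_extSub.2 ⟨hCnS (hPS haP), a, hPS haP, hext⟩
  have hCE : C ≤ extSub S C (autFun t) := le_extSub htm
  have hgaP : g a ∈ P := (stronglyClosed_iff.1 hP).2 (P ⊓ extSub S C (autFun t)) g inf_le_left
    (hg.mono inf_le_right) a (Subgroup.mem_inf.2 ⟨haP, haE⟩)
  set m := a⁻¹ * g a with hm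
  have hmP : m ∈ P := mul_mem (inv_mem haP) hgaP
  have hmC : m ∈ C := by
    refine (hmem m).2 ⟨hmP, ?_⟩
    obtain ⟨c, hc, hcy⟩ := (htm.mem_img (y := y)).1 ((img_autFun t).symm ▸ hy)
    have h1 := hg.map_conj haE (hCE hc)
    have hacC : a * c * a⁻¹ ∈ C := (Subgroup.mem_normalizer_iff.1 (hCnS (hPS haP)).2 c).1 hc
    rw [hge c hc, hge _ hacC, hext c hc, hcy] at h1
    show m * y = y * m
    calc m * y = a⁻¹ * (g a * y * (g a)⁻¹) * g a := by rw [hm]; group
      _ = a⁻¹ * (a * y * a⁻¹) * g a := by rw [← h1]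
      _ = y * m := by rw [hm]; group
  have hap : g a ^ p = a ^ p := by
    rw [show g a = a * m by rw [hm]; group,
      CfsgLib.Fusion.mul_pow_eq_of_central_commutator (c := ⁅m, a⁆) hp.out hp2
        (by simp only [commutatorElement_def]; group)
        (hcen _ (hcomm m hmP a haP) a haP) (hcen _ (hcomm m hmP a haP) m hmP)
        (hexp _ (hZC (hcomm m hmP a haP))), hexp m hmC, mul_one]
  have hapZ := hpow a haP
  have hinv : g (a ^ p) = (a ^ p)⁻¹ := by
    obtain ⟨k, hk⟩ := mem_zpowers_iff.1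
      (CfsgLib.GenExtraspecial.mem_zpowers_of_card hZcard hz hz1 hapZ)
    have hk' : (⟨a ^ p, hZC hapZ⟩ : C) = z' ^ k := Subtype.ext (by
      rw [SubgroupClass.coe_zpow]; exact hk.symm)
    rw [hge _ (hZC hapZ), show autFun t (a ^ p) = ((t ⟨a ^ p, hZC hapZ⟩ : C) : Ω) from
      autFun_apply t (hZC hapZ), hk', map_zpow, htz, SubgroupClass.coe_zpow,
      InvMemClass.coe_inv, inv_zpow]
    exact congrArg (·⁻¹) hk
  rw [hg.map_pow' haE p, hap] at hinv
  have h2 : (a ^ p) ^ 2 = 1 := by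
    rw [sq]
    exact mul_eq_one_iff_eq_inv.2 hinv
  have hfin := pow_eq_one_iff_modEq (G := Ω) (x := a ^ p) (n := 2)
  have hd : orderOf (a ^ p) ∣ Nat.gcd 2 p :=
    Nat.dvd_gcd (orderOf_dvd_of_pow_eq_one h2) (orderOf_dvd_of_pow_eq_one (hexp _ (hZC hapZ)))
  rw [show Nat.gcd 2 p = 1 from (Nat.coprime_primes Nat.prime_two hp.out).2 (Ne.symm hp2),
    Nat.dvd_one, orderOf_eq_one_iff] at hd
  exact haC (hB a haP hd)

/-- Strongly closed generalized extraspecial subgroups are normal. -/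
theorem isNormal_generalizedExtraspecial (hS : IsPGroup p S) (hF : F.IsSaturated p)
    {P : Subgroup Ω} (hP : F.StronglyClosed P)
    (hge : frattini ↥P = commutator ↥P ∧ Nat.card ↥(commutator ↥P) = p)
    (h2 : p = 2 → ¬ ∃ (A : Type) (_ : CommGroup A), (∀ a : A, a ^ 2 = 1) ∧
      Nonempty (↥P ≃* DihedralGroup 4 × A))
    (hodd : p ≠ 2 → ¬ ∃ (E : Type) (_ : Group E) (A : Type) (_ : CommGroup A),
      Cfsg.IsExtraspecial p E ∧ Nat.card E = p ^ 3 ∧ Monoid.exponent E = p ∧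
      (∀ a : A, a ^ p = 1) ∧ Nonempty (↥P ≃* E × A)) : F.IsNormal P := by
  have hPS := hP.1
  haveI := finite_of_le hPS
  have hPp : IsPGroup p P := hS.to_le hPS
  have hPnS := le_normalizerIn_of_stronglyClosed hP
  set Z := ⁅P, P⁆ with hZdef
  have hZmap : (commutator ↥P).map P.subtype = Z := P.map_subtype_commutator
  have hZcard : Nat.card Z = p := by
    rw [← hZmap, Subgroup.card_map_of_injective P.subtype_injective]; exact hge.2
  have hZP : Z ≤ P := Subgroup.commutator_le_self P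
  have hZS : Z ≤ S := hZP.trans hPS
  have hcomm : ∀ a ∈ P, ∀ b ∈ P, ⁅a, b⁆ ∈ Z := fun a ha b hb =>
    Subgroup.commutator_mem_commutator ha hb
  have hpow : ∀ a ∈ P, a ^ p ∈ Z := fun a ha => by
    rw [← hZmap]
    exact ⟨(⟨a, ha⟩ : P) ^ p, hge.1 ▸ CfsgLib.Coprime.pow_mem_frattini hPp _, by simp⟩
  have hcenR : commutator ↥P ≤ Subgroup.center ↥P := by
    haveI : (commutator ↥P).Normal := inferInstance
    exact CfsgLib.MetacyclicOmega.le_center_of_card_le hPp _ hge.2.le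
  have hcen : ∀ v ∈ Z, ∀ a ∈ P, Commute v a := by
    intro v hv a ha
    rw [← hZmap] at hv
    obtain ⟨v', hv', rfl⟩ := hv
    exact (congrArg Subtype.val (Subgroup.mem_center_iff.1 (hcenR hv') ⟨a, ha⟩)).symm
  refine isNormal_of_weaklyClosed_series hS hF hP (n := 2) (C := ![⊥, Z, P]) rfl rfl ?_ ?_ ?_
  · refine Fin.monotone_iff_le_succ.2 fun i => ?_
    fin_cases i
    · exact bot_le
    · exact hZP
  · intro i
    fin_cases i
    · show ⁅Z, P⁆ ≤ ⊥
      rw [Subgroup.commutator_le]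
      exact fun v hv a ha => Subgroup.mem_bot.2
        (commutatorElement_eq_one_iff_mul_comm.2 (hcen v hv a ha).eq)
    · exact le_refl Z
  intro i
  fin_cases i
  · exact weaklyClosed_of_stronglyClosed stronglyClosed_bot
  show F.WeaklyClosed Z
  refine ⟨hZS, fun φ hφ => ?_⟩
  have hf := isMap_toFun hφ
  rw [← img_toFun]
  set f := toFun φ
  by_contra hne
  obtain ⟨z, hz, hzout⟩ : ∃ z ∈ Z, f z ∉ Z := by
    by_contra h
    push Not at h
    exact hne (img_eq_of_map_le hZS hf le_rfl h)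
  set y := f z with hy
  have hz1 : z ≠ 1 := fun h => hzout (by rw [hy, h, hf.map_one]; exact one_mem Z)
  have hyP : y ∈ P := (stronglyClosed_iff.1 hP).2 Z f hZP hf z hz
  set Y := img Z f with hY
  have hyY : y ∈ Y := hf.mem_img.2 ⟨z, hz, rfl⟩
  have hYcard : Nat.card Y = p := by rw [hY, hf.card_img, hZcard]
  -- the inverse map extends to the centralizer of `y`
  have hZn : S ≤ normalizerIn S Z := fun s hs => ⟨hs, by
    rw [hZdef]
    exact CfsgLib.CFun.le_normalizer_commutator le_rfl le_rfl (hPnS hs).2⟩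
  have hZfn : F.IsFullyNormalized Z := ⟨hZS, fun R _ => by
    rw [show normalizerIn S Z = S from le_antisymm inf_le_left hZn]
    exact card_le_of_le' le_rfl inf_le_left⟩
  obtain ⟨-, hrec⟩ := IsSaturated.automized_receptive hS hF hZfn
  obtain ⟨f', hf', hf'f, hf'Z⟩ := hf.exists_inv
  have hf'img : img Y f' = Z := by
    ext v
    rw [hf'.mem_img]
    exact ⟨fun ⟨w, hw, e⟩ => e ▸ (hf'Z w hw).1,
      fun hv => ⟨f v, hf.mem_img.2 ⟨v, hv, rfl⟩, hf'f v hv⟩⟩
  obtain ⟨g, hg, hge'⟩ := (isReceptive_iff.1 hrec).2 Y f' hf' hf'img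
  have hgy : g y = z := by rw [hge' y hyY]; exact hf'f z hz
  set C := P ⊓ Subgroup.centralizer ({y} : Set Ω) with hCdef
  have hmem : ∀ b, b ∈ C ↔ b ∈ P ∧ Commute b y := fun b => by
    rw [hCdef, Subgroup.mem_inf, Subgroup.mem_centralizer_singleton_iff]
    rfl
  have hCP : C ≤ P := fun b hb => ((hmem b).1 hb).1
  have hyC : y ∈ C := (hmem y).2 ⟨hyP, Commute.refl y⟩
  have hZC : Z ≤ C := fun v hv => (hmem v).2 ⟨hZP hv, hcen v hv y hyP⟩
  have hCE : C ≤ extSub S Y f' := fun b hb => centralizerIn_le_extSub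
    ⟨hPS (hCP hb), Subgroup.mem_centralizer_iff.2 fun w hw => by
      obtain ⟨k, rfl⟩ := mem_zpowers_iff.1 (CfsgLib.GenExtraspecial.mem_zpowers_of_card hYcard hyY
        (fun h => hzout (h ▸ one_mem Z)) hw)
      exact (((hmem b).1 hb).2.zpow_right k).eq.symm⟩
  have hgC := hg.mono hCE
  have hgP : ∀ b ∈ C, g b ∈ P := fun b hb =>
    (stronglyClosed_iff.1 hP).2 C g hCP hgC b hb
  have key : ∀ w ∈ Z, g w ∈ Z → w = 1 := by
    intro w hw hgw
    by_contra hw1
    have hgw1 : g w ≠ 1 := fun h => hw1 ((hgC.eq_one_iff (hZC hw)).1 h)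
    obtain ⟨k, hk⟩ := mem_zpowers_iff.1
      (CfsgLib.GenExtraspecial.mem_zpowers_of_card hZcard hgw hgw1 hz)
    have h : g (w ^ k) = z := by
      have : ∀ n : ℤ, g (w ^ n) = g w ^ n := fun n => by
        rcases n with n | n
        · simp only [Int.ofNat_eq_natCast, zpow_natCast]; exact hgC.map_pow' (hZC hw) n
        · simp only [zpow_negSucc]
          rw [hgC.map_inv (pow_mem (hZC hw) _), hgC.map_pow' (hZC hw)]
      rw [this, hk]
    exact hzout (hgC.inj (zpow_mem (hZC hw) k) hyC (h.trans hgy.symm) ▸ zpow_mem hw k)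
  have habel : ∀ a ∈ C, ∀ b ∈ C, Commute a b := by
    intro a ha b hb
    refine commutatorElement_eq_one_iff_mul_comm.1 (key _ (hcomm a (hCP ha) b (hCP hb)) ?_)
    have h : g ⁅a, b⁆ = ⁅g a, g b⁆ := by
      rw [commutatorElement_def, commutatorElement_def,
        hgC.map_mul (mul_mem (mul_mem ha hb) (inv_mem ha)) (inv_mem hb),
        hgC.map_mul (mul_mem ha hb) (inv_mem ha), hgC.map_mul ha hb, hgC.map_inv ha,
        hgC.map_inv hb]
    rw [h]
    exact hcomm _ (hgP a ha) _ (hgP b hb)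
  have hexp : ∀ c ∈ C, c ^ p = 1 := fun c hc => key _ (hpow c (hCP hc)) (by
    rw [hgC.map_pow' hc]; exact hpow _ (hgP c hc))
  obtain ⟨a, haP, haC⟩ : ∃ a ∈ P, a ∉ C := by
    by_contra h
    push Not at h
    have hbot : Z = ⊥ := by
      rw [hZdef, eq_bot_iff, Subgroup.commutator_le]
      exact fun u hu v hv => Subgroup.mem_bot.2
        (commutatorElement_eq_one_iff_mul_comm.2 (habel u (h u hu) v (h v hv)).eq)
    have := hZcard
    rw [hbot, Subgroup.card_bot] at this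
    exact hp.out.ne_one this.symm
  -- pass to `P`
  set C' := C.subgroupOf P with hC'
  set y' : P := ⟨y, hyP⟩
  have hC'mem : ∀ b : P, b ∈ C' ↔ Commute b y' := fun b => by
    rw [hC', Subgroup.mem_subgroupOf, hmem]
    exact ⟨fun h => Subtype.ext h.2.eq, fun h => ⟨b.2, congrArg Subtype.val h.eq⟩⟩
  have habel' : ∀ u ∈ C', ∀ v ∈ C', Commute u v := fun u hu v hv =>
    Subtype.ext (habel _ hu _ hv).eq
  have hexp' : ∀ c ∈ C', c ^ p = 1 := fun c hc => Subtype.ext (by
    rw [SubgroupClass.coe_pow]; exact hexp _ hc)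
  have hy' : y' ∉ commutator ↥P := fun h => hzout (hZmap.le ⟨y', h, rfl⟩)
  have hcomm' : ∀ u v : P, ⁅u, v⁆ ∈ commutator ↥P := fun u v =>
    Subgroup.commutator_mem_commutator (Subgroup.mem_top u) (Subgroup.mem_top v)
  by_cases hout : ∃ x : P, x ∉ C' ∧ x ^ p = 1
  · obtain ⟨x, hx, hxp⟩ := hout
    exact CfsgLib.GenExtraspecial.false_of_split hcenR hge.2 hcomm' hC'mem habel' hexp' hy' hx hxp
      h2 hodd
  by_cases hp2 : p = 2
  · exact hout (CfsgLib.GenExtraspecial.exists_invol_outside hp2 hcenR hge.2 hcomm'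
      (fun b => hge.1 ▸ CfsgLib.Coprime.pow_mem_frattini hPp b) hC'mem hexp'
      (x := ⟨a, haP⟩) haC)
  exact false_of_no_outer hS hF hP hp2 hZcard hZC hcomm hpow hcen hmem habel hexp
    (fun b hb hbp => by
      by_contra hbC
      exact hout ⟨⟨b, hb⟩, hbC, Subtype.ext (by rw [SubgroupClass.coe_pow]; exact hbp)⟩)
    hf hz rfl hyC hzout haP haC

end CfsgLib.Fusion.GenExtraspecial
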