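import Cfsg.Agent.Lib.Fusion.System.Factor
import Cfsg.Agent.Lib.Fusion.System.Group

/-!
# Factor systems of group fusion systems, product systems
-/

set_option autoImplicit false

open Subgroup
open scoped Classical

namespace CfsgLib.Fusion

open Cfsg (FusionSystem groupFusionSystem)
open Cfsg.FusionSystem (normalizerIn centralizerIn preimageAlong)

variable {G : Type*} [Group G] [Finite G] {p : ℕ} [Fact p.Prime]

/-- The fusion system of a quotient group is the factor system. -/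
theorem isFactorSystem_group (S : Sylow p G) (H : Subgroup G) [H.Normal] :
    (groupFusionSystem (S : Subgroup G)).IsFactorSystem ((S : Subgroup G) ⊓ H)
      ((QuotientGroup.mk' H).comp (S : Subgroup G).subtype)
      (groupFusionSystem ((S : Subgroup G).map (QuotientGroup.mk' H))) := by
  set θ := (QuotientGroup.mk' H).comp (S : Subgroup G).subtype with hθ
  refine ⟨inf_le_left, fun s => ?_, ?_, fun P' φ' => ?_⟩
  · show (QuotientGroup.mk' H) (s : G) = 1 ↔ _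
    rw [QuotientGroup.mk'_apply, QuotientGroup.eq_one_iff]
    exact ⟨fun h => ⟨s.2, h⟩, fun h => h.2⟩
  · rw [hθ, MonoidHom.range_comp, Subgroup.range_subtype]
  constructor
  · rintro ⟨hP', hφS, g, hg⟩
    obtain ⟨γ, rfl⟩ := QuotientGroup.mk'_surjective H g
    set P := preimageAlong θ P' with hP
    have hPS : P ≤ (S : Subgroup G) := preimageAlong_le θ P'
    have hPq : ∀ x ∈ P, QuotientGroup.mk' H x ∈ P' := fun x hx => by
      obtain ⟨s, hs, rfl⟩ := hx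
      exact hs
    have hle : conjBy γ P ≤ (S : Subgroup G) ⊔ H := by
      intro y hy
      have hx := mem_conjBy.1 hy
      have h1 := hφS ⟨_, hPq _ hx⟩
      rw [hg] at h1
      obtain ⟨s, hs, hse⟩ := h1
      have h2 : QuotientGroup.mk' H y = QuotientGroup.mk' H s := by
        rw [hse]
        simp [mul_assoc]
      rw [QuotientGroup.mk'_apply, QuotientGroup.mk'_apply, QuotientGroup.eq] at h2
      have h3 : y = s * (y⁻¹ * s)⁻¹ := by group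
      rw [h3]
      exact mul_mem (Subgroup.mem_sup_left hs) (Subgroup.mem_sup_right (inv_mem h2))
    obtain ⟨h, hh, hhS⟩ := exists_conj_le_of_not_dvd_relIndex S.2
      (le_sup_left : (S : Subgroup G) ≤ (S : Subgroup G) ⊔ H)
      (fun hd => S.not_dvd_index (hd.trans
        (Dvd.intro _ (Subgroup.relIndex_mul_index (le_sup_left : (S : Subgroup G) ≤ _ ⊔ H)))))
      (isPGroup_conjBy γ (S.2.to_le hPS)) hle
    obtain ⟨s, hs, k, hk, rfl⟩ := Subgroup.mem_sup_of_normal_right.1 hh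
    have hkS : conjBy (k * γ) P ≤ (S : Subgroup G) := by
      intro y hy
      have h1 : s * y * s⁻¹ ∈ (S : Subgroup G) := by
        refine hhS ?_
        rw [conjBy_conjBy, mul_assoc]
        rw [mem_conjBy] at hy ⊢
        simpa [mul_assoc] using hy
      have h2 := mul_mem (mul_mem (inv_mem hs) h1) hs
      simpa [mul_assoc] using h2
    refine ⟨hP', Cfsg.conjHom P (k * γ),
      ⟨hPS, fun x => hkS (conj_mem_conjBy x.2), k * γ, fun x => rfl⟩,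
      hPS, fun x => hkS (conj_mem_conjBy x.2), fun x => hPq x x.2, fun x => ?_⟩
    rw [hg]
    show _ = QuotientGroup.mk' H (k * γ * x * (k * γ)⁻¹)
    rw [map_mul, map_mul, map_inv, map_mul,
      show QuotientGroup.mk' H k = 1 from (QuotientGroup.eq_one_iff k).2 hk, one_mul]
    rfl
  · rintro ⟨hP', φ, ⟨-, -, g, hg⟩, hP, hφS, hmem, hall⟩
    refine ⟨hP', ?_⟩
    have key : ∀ y : P', φ' y = QuotientGroup.mk' H g * (y : G ⧸ H) * (QuotientGroup.mk' H g)⁻¹ ∧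
        φ' y ∈ (S : Subgroup G).map (QuotientGroup.mk' H) := by
      rintro ⟨y, hy⟩
      obtain ⟨s, hs, rfl⟩ := hP' hy
      have hsP : s ∈ preimageAlong θ P' := ⟨⟨s, hs⟩, hy, rfl⟩
      have h1 := hall ⟨s, hsP⟩
      refine ⟨?_, ?_⟩
      · refine h1.trans ?_
        show QuotientGroup.mk' H (φ ⟨s, hsP⟩) = _
        rw [hg, map_mul, map_mul, map_inv]
      · rw [show φ' ⟨QuotientGroup.mk' H s, hy⟩ = _ from h1]
        exact ⟨_, hφS _, rfl⟩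
    exact ⟨fun y => (key y).2, _, fun y => (key y).1⟩

omit [Fact p.Prime] [Finite G] in
/-- The direct product of two fusion systems exists. -/
theorem exists_isProductSystem {Ω₁ Ω₂ : Type*} [Group Ω₁] [Group Ω₂] {S₁ : Subgroup Ω₁}
    {S₂ : Subgroup Ω₂} (F₁ : FusionSystem S₁) (F₂ : FusionSystem S₂) :
    ∃ E : FusionSystem (S₁.prod S₂), Cfsg.FusionSystem.IsProductSystem F₁ F₂ E := by
  have hmem : ∀ {P : Subgroup (Ω₁ × Ω₂)} {x : Ω₁ × Ω₂}, x ∈ P →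
      x.1 ∈ P.map (MonoidHom.fst Ω₁ Ω₂) ∧ x.2 ∈ P.map (MonoidHom.snd Ω₁ Ω₂) :=
    fun hx => ⟨⟨_, hx, rfl⟩, ⟨_, hx, rfl⟩⟩
  have hle : ∀ {P : Subgroup (Ω₁ × Ω₂)}, P ≤ S₁.prod S₂ →
      P.map (MonoidHom.fst Ω₁ Ω₂) ≤ S₁ ∧ P.map (MonoidHom.snd Ω₁ Ω₂) ≤ S₂ := by
    intro P hP
    exact ⟨by rintro _ ⟨x, hx, rfl⟩; exact (hP hx).1, by rintro _ ⟨x, hx, rfl⟩; exact (hP hx).2⟩
  refine ⟨
    { Hom := fun P => {φ | P ≤ S₁.prod S₂ ∧
        ∃ φ₁ ∈ F₁.Hom (P.map (MonoidHom.fst Ω₁ Ω₂)), ∃ φ₂ ∈ F₂.Hom (P.map (MonoidHom.snd Ω₁ Ω₂)),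
          ∀ (x : P) (h₁ : (x : Ω₁ × Ω₂).1 ∈ P.map (MonoidHom.fst Ω₁ Ω₂))
            (h₂ : (x : Ω₁ × Ω₂).2 ∈ P.map (MonoidHom.snd Ω₁ Ω₂)),
            φ x = (φ₁ ⟨(x : Ω₁ × Ω₂).1, h₁⟩, φ₂ ⟨(x : Ω₁ × Ω₂).2, h₂⟩)}
      le_of_mem := ?_, injective_of_mem := ?_, conj_mem := ?_, comp_mem := ?_, inv_mem := ?_ },
    fun P φ => Iff.rfl⟩
  · rintro P φ ⟨hP, φ₁, h₁, φ₂, h₂, he⟩
    refine ⟨hP, fun x => ?_⟩
    rw [he x (hmem x.2).1 (hmem x.2).2]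
    exact ⟨(F₁.le_of_mem h₁).2 _, (F₂.le_of_mem h₂).2 _⟩
  · rintro P φ ⟨hP, φ₁, h₁, φ₂, h₂, he⟩ a b hab
    rw [he a (hmem a.2).1 (hmem a.2).2, he b (hmem b.2).1 (hmem b.2).2, Prod.ext_iff] at hab
    exact Subtype.ext (Prod.ext (congrArg Subtype.val (F₁.injective_of_mem h₁ hab.1))
      (congrArg Subtype.val (F₂.injective_of_mem h₂ hab.2)))
  · intro P g hP hg
    exact ⟨hP, _, F₁.conj_mem (hle hP).1 hg.1, _, F₂.conj_mem (hle hP).2 hg.2, fun x _ _ => rfl⟩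
  · rintro P Q φ ψ ⟨hP, φ₁, h₁, φ₂, h₂, he⟩ ⟨hQ, ψ₁, k₁, ψ₂, k₂, ke⟩ h
    have hm₁ : ∀ y : P.map (MonoidHom.fst Ω₁ Ω₂), φ₁ y ∈ Q.map (MonoidHom.fst Ω₁ Ω₂) := by
      rintro ⟨_, x, hx, rfl⟩
      exact ⟨φ ⟨x, hx⟩, h _, by rw [he ⟨x, hx⟩ (hmem hx).1 (hmem hx).2]; rfl⟩
    have hm₂ : ∀ y : P.map (MonoidHom.snd Ω₁ Ω₂), φ₂ y ∈ Q.map (MonoidHom.snd Ω₁ Ω₂) := by
      rintro ⟨_, x, hx, rfl⟩
      exact ⟨φ ⟨x, hx⟩, h _, by rw [he ⟨x, hx⟩ (hmem hx).1 (hmem hx).2]; rfl⟩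
    refine ⟨hP, _, F₁.comp_mem h₁ k₁ hm₁, _, F₂.comp_mem h₂ k₂ hm₂, fun x hx₁ hx₂ => ?_⟩
    show ψ ⟨φ x, h x⟩ = (ψ₁ ⟨φ₁ _, _⟩, ψ₂ ⟨φ₂ _, _⟩)
    rw [ke ⟨φ x, h x⟩ (hmem (h x)).1 (hmem (h x)).2]
    simp only [he x hx₁ hx₂]
  · rintro P φ ⟨hP, φ₁, h₁, φ₂, h₂, he⟩
    obtain ⟨ψ₁, k₁, e₁⟩ := F₁.inv_mem h₁
    obtain ⟨ψ₂, k₂, e₂⟩ := F₂.inv_mem h₂
    have hr : φ.range ≤ S₁.prod S₂ := by
      rintro _ ⟨x, rfl⟩
      rw [he x (hmem x.2).1 (hmem x.2).2]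
      exact ⟨(F₁.le_of_mem h₁).2 _, (F₂.le_of_mem h₂).2 _⟩
    have hr₁ : φ.range.map (MonoidHom.fst Ω₁ Ω₂) ≤ φ₁.range := by
      rintro _ ⟨_, ⟨x, rfl⟩, rfl⟩
      rw [he x (hmem x.2).1 (hmem x.2).2]
      exact ⟨_, rfl⟩
    have hr₂ : φ.range.map (MonoidHom.snd Ω₁ Ω₂) ≤ φ₂.range := by
      rintro _ ⟨_, ⟨x, rfl⟩, rfl⟩
      rw [he x (hmem x.2).1 (hmem x.2).2]
      exact ⟨_, rfl⟩
    refine ⟨(ψ₁.comp ((MonoidHom.fst Ω₁ Ω₂).comp φ.range.subtype |>.codRestrict φ₁.range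
        fun y => hr₁ ⟨y, y.2, rfl⟩)).prod
      (ψ₂.comp ((MonoidHom.snd Ω₁ Ω₂).comp φ.range.subtype |>.codRestrict φ₂.range
        fun y => hr₂ ⟨y, y.2, rfl⟩)), ⟨hr, ψ₁.comp (Subgroup.inclusion hr₁), ?_,
        ψ₂.comp (Subgroup.inclusion hr₂), ?_, fun x _ _ => rfl⟩, fun x => ?_⟩
    · have h0 := F₁.comp_mem (F₁.conj_mem (hle hr).1 (one_mem S₁)) k₁ (fun y => by
        simpa [Cfsg.conjHom] using hr₁ y.2)
      convert h0 using 1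
      ext y
      simp [Cfsg.conjHom, Subgroup.inclusion]
    · have h0 := F₂.comp_mem (F₂.conj_mem (hle hr).2 (one_mem S₂)) k₂ (fun y => by
        simpa [Cfsg.conjHom] using hr₂ y.2)
      convert h0 using 1
      ext y
      simp [Cfsg.conjHom, Subgroup.inclusion]
    · have hx := he x (hmem x.2).1 (hmem x.2).2
      refine Prod.ext ?_ ?_
      · refine Eq.trans ?_ (e₁ ⟨(x : Ω₁ × Ω₂).1, (hmem x.2).1⟩)
        exact congrArg ψ₁ (Subtype.ext (congrArg Prod.fst hx))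
      · refine Eq.trans ?_ (e₂ ⟨(x : Ω₁ × Ω₂).2, (hmem x.2).2⟩)
        exact congrArg ψ₂ (Subtype.ext (congrArg Prod.snd hx))

end CfsgLib.Fusion
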