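import Cfsg.Agent.Lib.Fusion.System.Glauberman
import Cfsg.Agent.Lib.Fusion.System.GroupCriteria

/-!
# The normal `p`-complement criterion for `Z` and the Thompson subgroup, without `S₄`
-/

set_option autoImplicit false
set_option linter.style.haveILetI false

open Subgroup

namespace CfsgLib.Fusion

open Cfsg (groupFusionSystem)

universe u

variable {G : Type u} [Group G] [Finite G] {p : ℕ} [Fact p.Prime]

theorem free_group_of_not_involves (P : Sylow p G)
    (h : p ≠ 2 ∨ ¬ Cfsg.Involves (Equiv.Perm (Fin 4)) G) :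
    Free p (groupFusionSystem (P : Subgroup G)) := by
  refine h.imp id fun hinv Q U a b d => hinv ?_
  obtain ⟨hUP, g, hg⟩ := isMap_group_iff.1 d.mapA
  obtain ⟨-, k, hk⟩ := isMap_group_iff.1 d.mapB
  have hn : ∀ (c : G → G) (g : G), (∀ x ∈ U, c x = g * x * g⁻¹) →
      IsMap (groupFusionSystem (P : Subgroup G)) U c → ∀ W : Subgroup G, W ≤ U → img W c = W →
      g ∈ Subgroup.normalizer (W : Set G) := by
    intro c g hc hcm W hW hWc
    refine conjBy_eq_iff.1 (conjBy_eq_of_le (conjBy_le_iff.2 fun x hx => ?_))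
    rw [← hc x (hW hx)]
    exact mem_of_img_eq hcm hW hWc hx
  have hga : ∀ x ∈ U, a x = g * x * g⁻¹ := fun x hx => (hg x hx).2
  have hkb : ∀ x ∈ U, b x = k * x * k⁻¹ := fun x hx => (hk x hx).2
  refine involves_of_fourCond Q U g k d.leU d.norm d.index (hn a g hga d.mapA Q d.leU d.imgAQ)
    (hn a g hga d.mapA U le_rfl d.imgAU) (hn b k hkb d.mapB Q d.leU d.imgBQ)
    (hn b k hkb d.mapB U le_rfl d.imgBU) ?_
  exact (fourCond_iff id (fun y => ⟨fun h => ⟨y, h, rfl⟩, fun ⟨x, hx, e⟩ => e ▸ hx⟩)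
    (fun x _ => Iff.rfl) (fun x _ y _ => rfl)
    (fun x hx => mem_of_img_eq d.mapA le_rfl d.imgAU hx)
    (fun x hx => mem_of_img_eq d.mapB le_rfl d.imgBU hx)
    (fun x hx => (hga x hx).symm) (fun x hx => (hkb x hx).symm)).1 d.cond

/-- In a subgroup with a normal `p`-complement above `P`, conjugations into `P` are induced by `P`. -/
theorem exists_conj_mem_of_complement (P : Sylow p G) {H : Subgroup G}
    (hPH : (P : Subgroup G) ≤ H) (h : Cfsg.HasNormalPComplement p H) {g : G} (hg : g ∈ H)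
    {R : Subgroup G} (hR : R ≤ (P : Subgroup G)) (hgR : ∀ x ∈ R, g * x * g⁻¹ ∈ (P : Subgroup G)) :
    ∃ s ∈ (P : Subgroup G), ∀ x ∈ R, g * x * g⁻¹ = s * x * s⁻¹ := by
  let T : Sylow p H := P.subtype hPH
  haveI := pResidual_normal (G := H) (p := p)
  obtain ⟨k, hk, s, hs, hks⟩ := Subgroup.mem_sup_of_normal_left.1
    ((pResidual_sup_sylow T).ge (Subgroup.mem_top (⟨g, hg⟩ : H)))
  have hsP : (s : G) ∈ (P : Subgroup G) := hs
  have hks' : (k : G) * s = g := congrArg Subtype.val hks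
  refine ⟨s, hsP, fun x hx => ?_⟩
  set y : H := s * ⟨x, hPH (hR hx)⟩ * s⁻¹ with hy
  have hyP : (y : G) ∈ (P : Subgroup G) := mul_mem (mul_mem hsP (hR hx)) (inv_mem hsP)
  have hkey : k * y * k⁻¹ * y⁻¹ = 1 := by
    have hmem : k * y * k⁻¹ * y⁻¹ ∈ Cfsg.pResidual p H := by
      rw [show k * y * k⁻¹ * y⁻¹ = k * (y * k⁻¹ * y⁻¹) by group]
      exact mul_mem hk (Subgroup.Normal.conj_mem inferInstance _ (inv_mem hk) y)
    refine eq_one_of_pGroup_of_coprime (T.2) ?_ (hasNormalPComplement_iff_coprime.1 h _ hmem)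
    show (k : G) * y * (k : G)⁻¹ * (y : G)⁻¹ ∈ (P : Subgroup G)
    refine mul_mem ?_ (inv_mem hyP)
    rw [show (k : G) * y * (k : G)⁻¹ = g * x * g⁻¹ by
      rw [← hks', hy]; simp [mul_assoc]]
    exact hgR x hx
  have h3 := congrArg Subtype.val (mul_inv_eq_one.1 hkey)
  rw [← hks']
  calc (k : G) * s * x * ((k : G) * s)⁻¹ = (k : G) * y * (k : G)⁻¹ := by
        rw [hy]; simp [mul_assoc]
    _ = y := h3
    _ = s * x * (s : G)⁻¹ := rfl

/-- Thompson's normal `p`-complement theorem for `Z` and `J` of abelian subgroups of largest order,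
`p` odd or without `S₄`. -/
theorem hasNormalPComplement_of_thompsonA_free (h : p ≠ 2 ∨ ¬ Cfsg.Involves (Equiv.Perm (Fin 4)) G)
    (P : Sylow p G)
    (hC : Cfsg.HasNormalPComplement p (Subgroup.centralizer (centerOf (P : Subgroup G) : Set G)))
    (hN : Cfsg.HasNormalPComplement p
      (Subgroup.normalizer (Cfsg.thompsonSubgroupAOf (P : Subgroup G) : Set G))) :
    Cfsg.HasNormalPComplement p G := by
  refine hasNormalPComplement_of_isInner P (isInner_of_center_thompsonA P.2 (isSaturated_group P)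
    (free_group_of_not_involves P h) (fun R f hf hZR hfix => ?_)
    (ninner_group_of_complement P
      (Subgroup.le_normalizer.trans (normalizer_le_normalizer_thompsonA _)) hN))
  obtain ⟨hRP, g, hg⟩ := isMap_group_iff.1 hf
  have hgC : g ∈ Subgroup.centralizer (centerOf (P : Subgroup G) : Set G) :=
    mem_centralizer_iff'.2 fun z hz => (hg z (hZR hz)).2.symm.trans (hfix z hz)
  have hPC : (P : Subgroup G) ≤ Subgroup.centralizer (centerOf (P : Subgroup G) : Set G) :=
    fun t ht => Subgroup.mem_centralizer_iff.2 fun z hz =>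
      (Subgroup.mem_centralizer_iff.1 hz.2 t ht).symm
  obtain ⟨s, hs, he⟩ := exists_conj_mem_of_complement P hPC hC hgC hRP fun x hx => (hg x hx).1
  exact ⟨s, hs, fun x hx => (hg x hx).2.trans (he x hx)⟩

end CfsgLib.Fusion
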