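import Cfsg.Agent.Lib.Fusion.System.PPowerIndex
import Cfsg.Agent.Lib.Fusion.System.Puig

/-!
# Residual subsystems of group fusion systems, hyperfocal automizers
-/

set_option autoImplicit false
set_option maxHeartbeats 1000000
set_option linter.style.haveILetI false

open Subgroup
open scoped Classical

namespace CfsgLib.Fusion

open Cfsg (FusionSystem autInducedBy groupFusionSystem fusionSystemOfSubgroup)
open Cfsg.FusionSystem (normalizerIn centralizerIn)

universe u

variable {G : Type u} [Group G] [Finite G] {p : ℕ} [Fact p.Prime] {P : Subgroup G} {f : G → G}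
  {v : G}

/-- Residual automorphisms are induced by the residual of the group. -/
theorem exists_residual_conj {S : Subgroup G} (hP : P ≤ S) {a : (groupFusionSystem S).autGroup P}
    (ha : a ∈ Cfsg.pResidual p ((groupFusionSystem S).autGroup P)) :
    ∃ m ∈ Cfsg.pResidual p G, ∀ x ∈ P, autFun (a : MulAut P) x = m * x * m⁻¹ := by
  unfold Cfsg.pResidual at ha
  induction ha using Subgroup.closure_induction with
  | mem a ha =>
      obtain ⟨g, -, hg⟩ := mem_autInducedBy_iff.1 ((autGroup_group hP).le a.2)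
      obtain ⟨k, hk⟩ := exists_pow_p_mem_pResidual (p := p) g
      obtain ⟨n, hn⟩ := exists_pow_eq_self_of_coprime (x := a) (n := p ^ k)
        (Nat.Coprime.pow_left k ha.symm)
      refine ⟨(g ^ p ^ k) ^ n, pow_mem hk n, fun x hx => ?_⟩
      conv_lhs => rw [← hn, SubmonoidClass.coe_pow, SubmonoidClass.coe_pow, ← pow_mul]
      rw [← pow_mul]
      generalize p ^ k * n = j
      induction j generalizing x with
      | zero => simp [autFun_one hx]
      | succ j ih =>
          rw [pow_succ, autFun_mul _ _ hx, ih _ (autFun_mem _ hx), hg x hx, pow_succ g j]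
          simp only [mul_inv_rev, mul_assoc]
  | one => exact ⟨1, one_mem _, fun x hx => by simp [autFun_one hx]⟩
  | mul a b _ _ ha hb =>
      obtain ⟨m, hm, hme⟩ := ha
      obtain ⟨n, hn, hne⟩ := hb
      refine ⟨m * n, mul_mem hm hn, fun x hx => ?_⟩
      rw [Subgroup.coe_mul, autFun_mul _ _ hx, hme _ (autFun_mem _ hx), hne x hx]
      group
  | inv a _ ha =>
      obtain ⟨m, hm, hme⟩ := ha
      refine ⟨m⁻¹, inv_mem hm, fun x hx => ?_⟩
      have h1 := hme _ (autFun_mem (a : MulAut P)⁻¹ hx)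
      rw [autFun_inv_apply _ hx] at h1
      rw [InvMemClass.coe_inv]
      conv_rhs => rw [h1]
      group

/-- A chain of a group fusion system is a conjugation congruent to its value. -/
theorem chain_group {S : Subgroup G} (h : Chain (groupFusionSystem S) p P f v) :
    ∃ g, g * v⁻¹ ∈ Cfsg.pResidual p G ∧ ∀ x ∈ P, f x = g * x * g⁻¹ := by
  haveI := pResidual_normal (G := G) (p := p)
  induction h with
  | @conj P s hP hs => exact ⟨s, by rw [mul_inv_cancel]; exact one_mem _, fun _ _ => rfl⟩
  | @aut P R hR α hα hPR =>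
      obtain ⟨m, hm, hme⟩ := exists_residual_conj hR (mem_pResidual hα)
      exact ⟨m, by simpa using hm, fun x hx => hme x (hPR hx)⟩
  | @comp P Q f f' v v' h1 h2 hm ih ih' =>
      obtain ⟨g, hg, hge⟩ := ih
      obtain ⟨g', hg', hge'⟩ := ih'
      refine ⟨g' * g, ?_, fun x hx => ?_⟩
      · have h3 := mul_mem hg' (Subgroup.Normal.conj_mem inferInstance _ hg v')
        simpa [mul_assoc] using h3
      · show f' (f x) = _
        rw [hge' _ (hm x hx), hge x hx]
        group
  | @congr P f f' v h1 he ih =>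
      obtain ⟨g, hg, hge⟩ := ih
      exact ⟨g, hg, fun x hx => (he x hx).trans (hge x hx)⟩

/-- The residual subsystem of a group fusion system is that of the residual. -/
theorem residual_group (S : Sylow p G)
    (E : FusionSystem ((groupFusionSystem (S : Subgroup G)).hyperfocalSubgroup p))
    (hE : (groupFusionSystem (S : Subgroup G)).IsPResidual p E) :
    ∃ h : (S : Subgroup G) ⊓ Cfsg.pResidual p G ≤ Cfsg.pResidual p G, ∀ P : Subgroup G, E.Hom P =
      (fusionSystemOfSubgroup (Cfsg.pResidual p G)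
        ((S : Subgroup G) ⊓ Cfsg.pResidual p G) h).Hom P := by
  refine ⟨inf_le_right, ?_⟩
  let F := groupFusionSystem (S : Subgroup G)
  set M := Cfsg.pResidual p G with hM
  haveI : M.Normal := pResidual_normal
  suffices key : ∀ T, F.hyperfocalSubgroup p = T → ∀ (E : FusionSystem T), E.IsSaturated p →
      E.HasPPowerIndexIn F p → T = (S : Subgroup G) ⊓ M → ∀ P,
      E.Hom P = (fusionSystemOfSubgroup M ((S : Subgroup G) ⊓ M) inf_le_right).Hom P by
    exact key _ rfl E hE.1 hE.2 (hyperfocal_group S)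
  intro T hT E hEs hEi hTeq
  subst hTeq
  have hS : IsPGroup p (S : Subgroup G) := S.2
  have hF : F.IsSaturated p := isSaturated_group S
  set E' := fusionSystemOfSubgroup M ((S : Subgroup G) ⊓ M) inf_le_right with hE'
  have hsub' : E'.IsSubsystemOf F := by
    rintro P φ ⟨hP, hmem, g, -, hg⟩
    exact ⟨hP.trans inf_le_left, fun x => (hmem x).1, g, hg⟩
  have hi' : E'.HasPPowerIndexIn F p := by
    refine ⟨hsub', hT.le, fun P hP => ?_⟩
    rintro _ ⟨β, hβ, rfl⟩
    obtain ⟨m, hm, hme⟩ := exists_residual_conj (hP.trans inf_le_left) hβ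
    refine (mem_autGroup_iff hP).2 ⟨Cfsg.conjHom P m, ⟨hP, fun x => ?_, m, hm, fun x => rfl⟩,
      fun x => (hme x x.2).symm⟩
    show m * (x : G) * m⁻¹ ∈ _
    rw [← hme x x.2]
    exact hP (autFun_mem _ x.2)
  have hs₀ := isSaturated_pSystem (hTS := inf_le_left) (hT := hT.le) hS hF
  obtain ⟨E₀, -, huniq⟩ := exists_unique_pPowerIndex hS hF (inf_le_left) hT.le
  have hEE : E = pSystem F p _ inf_le_left hT.le :=
    (huniq E hEs hEi).trans (huniq _ hs₀ pSystem_hasPPowerIndex).symm
  have hle₁ : pSystem F p ((S : Subgroup G) ⊓ M) inf_le_left hT.le ≤ E' :=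
    le_of_pPowerIndex hS inf_le_left hs₀ pSystem_hasPPowerIndex hi'
  intro P
  rw [hEE]
  refine Set.Subset.antisymm (hle₁ P) fun φ hφ => ?_
  obtain ⟨hPT, hmem, g, hg, hge⟩ := id hφ
  set f := toFun φ
  have hfm : IsMap F P f := isMap_toFun (hsub' P hφ)
  -- a fully normalized conjugate, reached with value `1`
  obtain ⟨R₀, hPR₀, hR₀⟩ := exists_fullyNormalized (F := F) (hPT.trans inf_le_left)
  obtain ⟨f₀, hf₀, hf₀img⟩ := isConj_iff.1 hPR₀
  obtain ⟨e, he⟩ := exists_chain hS hF hf₀
  have hch : Chain F p P ((fun x => e⁻¹ * x * e⁻¹⁻¹) ∘ f₀) 1 := by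
    have h1 := he.comp (Chain.conj (le_refl _) (inv_mem he.mem_S)) fun x hx => hf₀.mem_S hx
    rwa [inv_mul_cancel] at h1
  set u := (fun x => e⁻¹ * x * e⁻¹⁻¹) ∘ f₀ with hu
  set R := img P u with hRdef
  have hRn : F.IsFullyNormalized R := by
    rw [hRdef, hu, ← img_img hf₀, hf₀img]
    exact isFullyNormalized_conj hR₀ (inv_mem he.mem_S)
  have hRc := IsSaturated.isFullyCentralized hS hF hRn
  have hRT : R ≤ (S : Subgroup G) ⊓ M := hch.isMap.img_le_of_forall fun x hx =>
    PMap.map_mem inf_le_left hT.le ⟨hPT, 1, one_mem _, hch⟩ hx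
  obtain ⟨k, hk, hku⟩ := hch.inv
  rw [inv_one] at hk
  obtain ⟨gu, hgu, hgue⟩ := chain_group hk
  rw [inv_one, mul_one] at hgu
  have hkP : ∀ y ∈ R, k y ∈ P := fun y hy => by
    obtain ⟨x, hx, rfl⟩ := hch.isMap.mem_img.1 hy
    rwa [hku x hx]
  have hcomp : IsMap F R (f ∘ k) := hk.isMap.comp hfm hkP
  obtain ⟨d, hd⟩ := exists_chain hS hF hcomp
  obtain ⟨h, hh, hhe⟩ := chain_group hd
  have hzC : (g * gu)⁻¹ * h ∈ Subgroup.centralizer (R : Set G) := by
    refine mem_centralizer_iff'.2 fun y hy => ?_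
    have h1 := hhe y hy
    have h2 : (f ∘ k) y = g * gu * y * (g * gu)⁻¹ := by
      show f (k y) = _
      rw [show f (k y) = φ ⟨k y, hkP y hy⟩ from toFun_apply φ (hkP y hy), hge]
      show g * k y * g⁻¹ = _
      rw [hgue y hy]; group
    rw [h2] at h1
    calc (g * gu)⁻¹ * h * y * ((g * gu)⁻¹ * h)⁻¹
        = (g * gu)⁻¹ * (h * y * h⁻¹) * (g * gu) := by group
      _ = y := by rw [← h1]; group
  -- the centralizer is covered by `M` and the Sylow part
  set C := Subgroup.centralizer (R : Set G) with hC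
  have hi := (isFullyCentralized_group_iff S (hRT.trans inf_le_left)).1 hRc
  let Tc : Sylow p C := ((isPGroup_centralizerIn S R).of_equiv
    (Subgroup.subgroupOfEquivOfLe (inf_le_right : centralizerIn (S : Subgroup G) R ≤ C)).symm).toSylow hi
  haveI := pResidual_normal (G := C) (p := p)
  obtain ⟨k₀, hk₀, c, hc, hkc⟩ := Subgroup.mem_sup_of_normal_left.1
    ((pResidual_sup_sylow Tc).ge (Subgroup.mem_top (⟨_, hzC⟩ : C)))
  have hk₀M : (k₀ : G) ∈ M := by
    have hle : Cfsg.pResidual p C ≤ M.comap C.subtype :=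
      (Subgroup.closure_le _).2 fun b hb =>
        mem_pResidual (Nat.Coprime.coprime_dvd_left (orderOf_map_dvd C.subtype b) hb)
    exact hle hk₀
  have hcS : (c : G) ∈ centralizerIn (S : Subgroup G) R := hc
  have hkc' : (k₀ : G) * c = (g * gu)⁻¹ * h := congrArg Subtype.val hkc
  have hdS := hd.mem_S
  have hval : d * (c : G)⁻¹ ∈ (S : Subgroup G) ⊓ M := by
    refine ⟨Subgroup.mul_mem _ hdS (Subgroup.inv_mem _ hcS.1), ?_⟩
    have h3 : d * (c : G)⁻¹ = (h * d⁻¹)⁻¹ * (g * gu * k₀) := by
      rw [show (k₀ : G) = (g * gu)⁻¹ * h * (c : G)⁻¹ by rw [← hkc']; group]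
      group
    rw [h3]
    exact Subgroup.mul_mem _ (Subgroup.inv_mem _ hh) (Subgroup.mul_mem _ (Subgroup.mul_mem _ hg hgu) hk₀M)
  have hch₂ : Chain F p R ((f ∘ k) ∘ fun y => (c : G)⁻¹ * y * (c : G)⁻¹⁻¹) (d * (c : G)⁻¹) :=
    (Chain.conj (hRT.trans inf_le_left) (inv_mem hcS.1)).comp hd fun y hy => by
      rw [inv_inv, mul_assoc, Subgroup.mem_centralizer_iff.1 hcS.2 y hy, inv_mul_cancel_left]
      exact hy
  have hchR : Chain F p R (f ∘ k) (d * (c : G)⁻¹) := hch₂.congr fun y hy => by
    show (f ∘ k) y = (f ∘ k) ((c : G)⁻¹ * y * (c : G)⁻¹⁻¹)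
    rw [inv_inv, mul_assoc, Subgroup.mem_centralizer_iff.1 hcS.2 y hy, inv_mul_cancel_left]
  refine mem_hom_iff.2 (isMap_pSystem_iff.2 ⟨hPT, d * (c : G)⁻¹ * 1,
    mul_mem hval (one_mem _), ((hch.comp hchR fun x hx => ?_)).congr fun x hx => ?_⟩)
  · exact hch.isMap.mem_img.2 ⟨x, hx, rfl⟩
  · show f x = f (k (u x))
    rw [hku x hx]

section Automizer

variable {Ω : Type*} [Group Ω] {S T : Subgroup Ω} [Finite S] {F : FusionSystem S}

/-- The hyperfocal subgroup acts on a strongly closed subgroup through `O^p(Aut(T)) Inn(T)`. -/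
theorem hyperfocal_automizer (hS : IsPGroup p S) (hF : F.IsSaturated p) (hT : F.StronglyClosed T) :
    ∀ x ∈ F.hyperfocalSubgroup p,
      ∃ α ∈ ((Cfsg.pResidual p (F.autGroup T)).map (F.autGroup T).subtype ⊔ Cfsg.Inn T :
        Subgroup (MulAut T)), ∀ t : T, ((α t : T) : Ω) = x * (t : Ω) * x⁻¹ := by
  have hTS := hT.1
  have hTn : ∀ s ∈ S, s ∈ Subgroup.normalizer (T : Set Ω) := fun s hs =>
    (le_normalizerIn_of_stronglyClosed hT hs).2
  haveI := finite_of_le hTS
  haveI := finite_mulAut (P := T)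
  set O := (Cfsg.pResidual p (F.autGroup T)).map (F.autGroup T).subtype with hO
  set J := O ⊔ Cfsg.Inn T with hJ
  haveI := pResidual_normal (G := F.autGroup T) (p := p)
  have hconjO : ∀ a ∈ F.autGroup T, ∀ b ∈ O, a * b * a⁻¹ ∈ O := by
    rintro a ha _ ⟨b, hb, rfl⟩
    exact ⟨⟨a, ha⟩ * b * ⟨a, ha⟩⁻¹, Subgroup.Normal.conj_mem inferInstance _ hb _, rfl⟩
  have hIn : Cfsg.Inn T ≤ F.autGroup T := inn_le_autGroup hTS
  have hconjJ : ∀ a ∈ F.autGroup T, ∀ b ∈ J, a * b * a⁻¹ ∈ J := by
    intro a ha b hb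
    have hInn : ∀ b ∈ Cfsg.Inn T, a * b * a⁻¹ ∈ Cfsg.Inn T := by
      intro b hb
      rw [inn_eq_autInducedBy, mem_autInducedBy_iff] at hb ⊢
      obtain ⟨t, ht, he⟩ := hb
      refine ⟨autFun a t, autFun_mem a ht, fun y hy => ?_⟩
      have hz := autFun_mem a⁻¹ hy
      rw [autFun_mul _ _ hy, autFun_mul _ _ hz, he _ hz,
        ((mem_autGroup_iff hTS).1 ha).map_conj ht hz, autFun_inv_apply a hy]
    have hle : J ≤ J.comap (MulAut.conj a).toMonoidHom := sup_le
      (fun b hb => Subgroup.mem_sup_left (hconjO a ha b hb))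
      (fun b hb => Subgroup.mem_sup_right (hInn b hb))
    exact hle hb
  let K : Subgroup Ω :=
    { carrier := {x | ∃ hx : x ∈ S, conjAut x (hTn x hx) ∈ J}
      one_mem' := ⟨one_mem S, by
        rw [show conjAut (1 : Ω) (hTn 1 (one_mem S)) = 1 from autFun_ext fun y hy => by
          rw [autFun_conjAut _ hy, autFun_one hy]; simp]
        exact one_mem J⟩
      mul_mem' := fun {a b} ⟨ha, haJ⟩ ⟨hb, hbJ⟩ => ⟨mul_mem ha hb, by
        rw [show conjAut (a * b) (hTn _ (mul_mem ha hb)) = conjAut a (hTn a ha) * conjAut b (hTn b hb)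
          from autFun_ext fun y hy => by
            rw [autFun_mul _ _ hy, autFun_conjAut _ (autFun_mem _ hy), autFun_conjAut _ hy,
              autFun_conjAut _ hy]
            group]
        exact mul_mem haJ hbJ⟩
      inv_mem' := fun {a} ⟨ha, haJ⟩ => ⟨inv_mem ha, by
        rw [show conjAut a⁻¹ (hTn _ (inv_mem ha)) = (conjAut a (hTn a ha))⁻¹ from
          eq_inv_of_mul_eq_one_left (autFun_ext fun y hy => by
            rw [autFun_mul _ _ hy, autFun_conjAut _ (autFun_mem _ hy), autFun_conjAut _ hy,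
              autFun_one hy]
            group)]
        exact inv_mem haJ⟩ }
  have hTK : T ≤ K := fun t ht => ⟨hTS ht, Subgroup.mem_sup_right (by
    rw [inn_eq_autInducedBy]; exact conjAut_mem ht _)⟩
  have habs : Absorbs F p K := by
    refine ⟨fun x hx => hx.1, fun s hs => ?_, fun P hP α hα y hy => ?_⟩
    · have key : ∀ s ∈ S, ∀ x ∈ K, s * x * s⁻¹ ∈ K := by
        rintro s hs x ⟨hx, hxJ⟩
        have hsx := mul_mem (mul_mem hs hx) (inv_mem hs)
        refine ⟨hsx, ?_⟩
        rw [show conjAut (s * x * s⁻¹) (hTn _ hsx) =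
          conjAut s (hTn s hs) * conjAut x (hTn x hx) * (conjAut s (hTn s hs))⁻¹ from
          eq_mul_inv_of_mul_eq (autFun_ext fun z hz => by
            rw [autFun_mul _ _ hz, autFun_mul _ _ hz, autFun_conjAut _ (autFun_mem _ hz),
              autFun_conjAut _ hz, autFun_conjAut _ (autFun_mem _ hz), autFun_conjAut _ hz]
            group)]
        exact hconjJ _ (autInducedBy_le_autGroup hTS (conjAut_mem hs _)) _ hxJ
      rw [Subgroup.mem_normalizer_iff]
      exact fun z => ⟨key s hs z, fun hz => by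
        simpa [mul_assoc] using key s⁻¹ (inv_mem hs) _ hz⟩
    · set U := P ⊔ T with hU
      have hUS : U ≤ S := sup_le hP hTS
      have hPU : P ≤ U := le_sup_left
      haveI := finite_of_le hUS
      haveI := finite_mulAut (P := U)
      obtain ⟨ψ, hψ, hψe⟩ := exists_map_sup hS hF hT ((mem_autGroup_iff hP).1 α.2)
      have hψT : img T ψ = T := img_eq_of_map_le hTS hψ le_sup_right fun t ht =>
        (stronglyClosed_iff.1 hT).2 _ ψ le_rfl (hψ.mono le_sup_right) t ht
      have himg : img U ψ = U := by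
        refine eq_of_le_of_card_le hUS (hψ.img_le_of_forall fun x hx => ?_) hψ.card_img.ge
        refine hψ.map_mem_of_sup (fun z hz => ?_) (fun z hz => ?_) hx
        · have h1 := mul_mem (Subgroup.mem_sup_left (T := T) (autFun_mem (α : MulAut P) hz))
            (Subgroup.mem_sup_right (S := P) (hψe z hz))
          rwa [mul_inv_cancel_left] at h1
        · exact Subgroup.mem_sup_right (hψT.le ((hψ.mono le_sup_right).mem_img.2 ⟨z, hz, rfl⟩))
      set γ₀ : F.autGroup U := ⟨autOf hψ himg, autOf_mem hψ himg⟩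
      have hγ₀T : ∀ z ∈ T, autFun (γ₀ : MulAut U) z ∈ T := fun z hz => by
        rw [show autFun (γ₀ : MulAut U) z = ψ z from autFun_autOf hψ himg (le_sup_right (a := P) hz)]
        exact hψT.le ((hψ.mono le_sup_right).mem_img.2 ⟨z, hz, rfl⟩)
      have hres : ∀ (j : ℕ) (z : Ω), z ∈ P →
          (autFun ((α ^ j : F.autGroup P) : MulAut P) z)⁻¹ *
            autFun ((γ₀ ^ j : F.autGroup U) : MulAut U) z ∈ T := by
        intro j
        induction j with
        | zero =>
            intro z hz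
            simp [autFun_one hz, autFun_one (hPU hz)]
        | succ j ih =>
            intro z hz
            rw [pow_succ', pow_succ', Subgroup.coe_mul, Subgroup.coe_mul, autFun_mul _ _ hz,
              autFun_mul _ _ (hPU hz)]
            set w := autFun ((α ^ j : F.autGroup P) : MulAut P) z with hw
            have hwP : w ∈ P := autFun_mem _ hz
            have ht := ih z hz
            set t := w⁻¹ * autFun ((γ₀ ^ j : F.autGroup U) : MulAut U) z with htdef
            have e1 : autFun ((γ₀ ^ j : F.autGroup U) : MulAut U) z = w * t := by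
              rw [htdef, mul_inv_cancel_left]
            rw [e1, autFun_map_mul _ (hPU hwP) (Subgroup.mem_sup_right ht), ← mul_assoc,
              show autFun (γ₀ : MulAut U) w = ψ w from autFun_autOf hψ himg (hPU hwP)]
            exact mul_mem (hψe w hwP) (hγ₀T t ht)
      have hpos : orderOf γ₀ ≠ 0 := (orderOf_pos γ₀).ne'
      set k := (orderOf γ₀).factorization p
      obtain ⟨m, hm⟩ := exists_pow_eq_self_of_coprime (x := α) (n := p ^ k)
        (Nat.Coprime.pow_left k hα.symm)
      set γ := (γ₀ ^ p ^ k) ^ m with hγdef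
      have hγco : Nat.Coprime (orderOf γ) p := by
        refine Nat.Coprime.coprime_dvd_left (orderOf_pow_dvd m) ?_
        rw [orderOf_pow_of_dvd (pow_ne_zero _ (Fact.out : p.Prime).ne_zero) (Nat.ordProj_dvd _ _)]
        exact (Nat.coprime_ordCompl (Fact.out : p.Prime) hpos).symm
      have hy' : (autFun (α : MulAut P) y)⁻¹ * autFun (γ : MulAut U) y ∈ T := by
        have h1 := hres (p ^ k * m) y hy
        rwa [pow_mul, pow_mul, hm, ← hγdef] at h1
      have hγm := (mem_autGroup_iff hUS).1 γ.2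
      have hγimg : ∀ b : F.autGroup U, IsMap F T (autFun (b : MulAut U)) ∧
          img T (autFun (b : MulAut U)) = T := fun b => by
        have hb := ((mem_autGroup_iff hUS).1 b.2).mono (le_sup_right : T ≤ U)
        exact ⟨hb, img_eq_of_map_le hTS hb le_rfl fun z hz =>
          (stronglyClosed_iff.1 hT).2 _ _ le_rfl hb z hz⟩
      let res : F.autGroup U →* F.autGroup T := MonoidHom.mk'
        (fun b => ⟨autOf (hγimg b).1 (hγimg b).2, autOf_mem _ _⟩) fun b b' => by
          refine Subtype.ext (autFun_ext fun z hz => ?_)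
          show autFun (autOf (hγimg (b * b')).1 (hγimg (b * b')).2) z =
            autFun (autOf (hγimg b).1 (hγimg b).2 * autOf (hγimg b').1 (hγimg b').2) z
          rw [autFun_autOf _ _ hz, autFun_mul _ _ hz, autFun_autOf _ _ hz,
            autFun_autOf _ _ ((hγimg b').2.le ((hγimg b').1.mem_img.2 ⟨z, hz, rfl⟩))]
          exact autFun_mul _ _ (le_sup_right (a := P) hz)
      set a : MulAut T := (res γ : MulAut T) with hadef
      have haO : a ∈ O := ⟨res γ, mem_pResidual
        (Nat.Coprime.coprime_dvd_left (orderOf_map_dvd res γ) hγco), rfl⟩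
      have hyS := hP hy
      have hgyS := hγm.mem_S (hPU hy)
      have hmem : y⁻¹ * autFun (γ : MulAut U) y ∈ K := by
        refine ⟨mul_mem (inv_mem hyS) hgyS, Subgroup.mem_sup_left ?_⟩
        set c := conjAut y (hTn y hyS) with hc
        have hcA : c ∈ F.autGroup T := autInducedBy_le_autGroup hTS (conjAut_mem hyS _)
        have e : conjAut (y⁻¹ * autFun (γ : MulAut U) y)
            (hTn _ (mul_mem (inv_mem hyS) hgyS)) = c⁻¹ * a * c * a⁻¹ := by
          rw [eq_mul_inv_iff_mul_eq, mul_assoc c⁻¹, eq_inv_mul_iff_mul_eq]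
          refine autFun_ext fun z hz => ?_
          have haz : autFun a z = autFun (γ : MulAut U) z := autFun_autOf (hγimg γ).1 (hγimg γ).2 hz
          have hcz : y * z * y⁻¹ ∈ T := (Subgroup.mem_normalizer_iff.1 (hTn y hyS) z).1 hz
          have hn := hTn _ (mul_mem (inv_mem hyS) hgyS)
          have hinT := (Subgroup.mem_normalizer_iff.1 hn _).1 (autFun_mem a hz)
          rw [hc, autFun_mul _ _ hz, autFun_mul _ _ hz, autFun_mul _ _ hz,
            autFun_conjAut hn (autFun_mem a hz), autFun_conjAut (hTn y hyS) hinT,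
            autFun_conjAut (hTn y hyS) hz, show autFun a (y * z * y⁻¹) = autFun (γ : MulAut U) (y * z * y⁻¹)
              from autFun_autOf (hγimg γ).1 (hγimg γ).2 hcz, hγm.map_conj (hPU hy) (le_sup_right (a := P) hz), haz]
          group
        rw [e]
        have h1 := hconjO _ (inv_mem hcA) _ haO
        rw [inv_inv] at h1
        exact mul_mem h1 (inv_mem haO)
      have h2 := mul_mem hmem (inv_mem (hTK hy'))
      rw [mul_inv_rev, inv_inv] at h2
      simpa [mul_assoc] using h2
  intro x hx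
  obtain ⟨hxS, hxJ⟩ := (hyperfocal_le habs) hx
  exact ⟨_, hxJ, fun t => by rw [← autFun_coe, autFun_conjAut _ t.2]⟩

end Automizer

end CfsgLib.Fusion
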