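import Cfsg.Agent.Lib.Fusion.System.SporadicTwoSimple
import Cfsg.Agent.Lib.Spor.JThreeCent.Main

/-!
# The 2-fusion system of the third Janko group is simple
-/

set_option autoImplicit false
set_option maxRecDepth 100000
set_option linter.style.haveILetI false

namespace CfsgLib.Fusion.JThreeTwo

open CfsgLib.Spor.TC CfsgLib.Spor.ActCert CfsgLib.Spor.JThreeCent

local notation "P₀" => Pres (Act.k CfsgLib.Spor.J3.ActJ.act) CfsgLib.Spor.J3.relsJ

theorem cent_check : ((List.range 59).all fun j => (List.range 32).all fun i =>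
    (List.range 5).any fun x => diffW CfsgLib.Spor.J3.ActJ.act lev
      (spAt qGens qWords i ++ spAt hGens hWords (j + 1) ++ qGens.getD x [])
      (qGens.getD x [] ++ (spAt qGens qWords i ++ spAt hGens hWords (j + 1)))) = true := by
  decide +kernel

theorem q_invol : ((List.range 5).all fun x => (List.range 32).any fun i => (List.range 32).any fun j =>
    Nat.beq (mt qWords qTable i i) 0 && Nat.beq (mt qWords qTable j j) 0 &&
      Nat.beq (mt qWords qTable i j) (next qTable 0 x)) = true := by decide +kernel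

theorem h_invol : ((List.range 2).all fun x => (List.range 60).any fun i => (List.range 60).any fun j =>
    Nat.beq (mt hWords hTable i i) 0 && Nat.beq (mt hWords hTable j j) 0 &&
      Nat.beq (mt hWords hTable i j) (next hTable 0 x)) = true := by decide +kernel

theorem v_invol : ((List.range 2).all fun x =>
    Nat.beq (next vTable (next vTable 0 x) x) 0) = true := by decide +kernel

variable {G : Type*} [Group G] [Finite G] (e : P₀ ≃* G)

omit [Finite G] in
theorem invol_gens {gw wd tb : List (List ℕ)} {k : ℕ} (hl : Listed (gim e gw) k wd tb)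
    (h : ((List.range k).all fun x => (List.range wd.length).any fun i =>
      (List.range wd.length).any fun j => Nat.beq (mt wd tb i i) 0 && Nat.beq (mt wd tb j j) 0 &&
        Nat.beq (mt wd tb i j) (next tb 0 x)) = true) :
    Subgroup.closure (gim e gw '' Set.Iio k) ≤
      Subgroup.closure {u | u ∈ Subgroup.closure (gim e gw '' Set.Iio k) ∧ u * u = 1} := by
  simp only [List.all_eq_true, List.any_eq_true, List.mem_range, Bool.and_eq_true] at h
  refine (Subgroup.closure_le _).2 ?_
  rintro _ ⟨x, hx, rfl⟩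
  obtain ⟨i, hi, j, hj, ⟨hii, hjj⟩, hij⟩ := h x hx
  have hx' := (hl.step 0 hl.pos x hx).2
  rw [hl.nth_zero, one_mul, ← Nat.eq_of_beq_eq_true hij, ← (hl.mul_nth hi hj).2] at hx'
  rw [hx']
  have hm : ∀ i, i < wd.length → Nat.beq (mt wd tb i i) 0 = true →
      nth (gim e gw) wd i ∈
        Subgroup.closure {u | u ∈ Subgroup.closure (gim e gw '' Set.Iio k) ∧ u * u = 1} :=
    fun i hi h => Subgroup.subset_closure ⟨ev_mem fun y hy =>
      Subgroup.subset_closure ⟨y, hl.lt i hi y hy, rfl⟩, by
        rw [(hl.mul_nth hi hi).2, Nat.eq_of_beq_eq_true h, hl.nth_zero]⟩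
  exact mul_mem (hm i hi hii) (hm j hj hjj)

theorem centralizer_subQ_le : Subgroup.centralizer (subQ e : Set G) ≤ subQ e := by
  intro y hy
  have hz : zG e ∈ subQ e := (mem_subQ e).2 ⟨_, zIdx_ok.2, (qn_zIdx e).symm⟩
  have hyC : y ∈ subQ e ⊔ subH e := by
    rw [cent_eq]
    exact Subgroup.mem_centralizer_singleton_iff.2 (Subgroup.mem_centralizer_iff.1 hy _ hz).symm
  rw [← SetLike.mem_coe, Subgroup.coe_mul_of_right_le_normalizer_left (subQ e) (subH e)
    (subH_normalizes e)] at hyC
  obtain ⟨q, hq, h, hh, rfl⟩ := Set.mem_mul.1 hyC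
  obtain ⟨i, hi, rfl⟩ := (mem_subQ e).1 hq
  obtain ⟨j, hj, rfl⟩ := (hListed e).mem_iff.1 hh
  rw [hTable_ok.2.2.2] at hj
  by_cases hj0 : j = 0
  · rw [hj0, (hListed e).nth_zero, mul_one]
    exact hq
  exfalso
  have hc := cent_check
  simp only [List.all_eq_true, List.mem_range, List.any_eq_true] at hc
  obtain ⟨x, hx, hd⟩ := hc (j - 1) (by omega) i hi
  rw [Nat.sub_add_cancel (Nat.pos_of_ne_zero hj0)] at hd
  have hgm : gim e qGens x ∈ subQ e := Subgroup.subset_closure ⟨x, hx, rfl⟩
  have hcm := Subgroup.mem_centralizer_iff.1 hy _ hgm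
  rw [qn, nth_gim, nth_gim, gim, ← map_mul, ← map_mul, ← map_mul, ← elJ_append, ← elJ_append,
    ← elJ_append] at hcm
  exact elJ_ne hd (e.injective hcm.symm)

theorem sylow_card (hG : Nat.card G = 50232960) :
    Nat.card ↥(subQ e ⊔ subV e) = 2 ^ (Nat.card G).factorization 2 := by
  rw [card_sup (disjoint_QV e) (subV_normalizes e), card_subQ, card_subV, hG,
    show (50232960 : ℕ) = 2 ^ 7 * 392445 by norm_num, Nat.factorization_mul (by norm_num) (by norm_num),
    Nat.factorization_pow, Finsupp.add_apply, Finsupp.smul_apply,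
    Nat.Prime.factorization_self Nat.prime_two, Nat.factorization_eq_zero_of_not_dvd (by norm_num)]
  rfl

theorem coreData (hG : Nat.card G = 50232960) :
    CfsgLib.Fusion.HasCoreData 2 (subQ e ⊔ subV e) := by
  haveI : Fact (Nat.Prime 2) := ⟨Nat.prime_two⟩
  set Q := subQ e
  set C := Subgroup.centralizer ({zG e} : Set G)
  have hP : IsPGroup 2 ↥(Q ⊔ subV e) :=
    IsPGroup.of_card (sylow_card e hG)
  have hQinv : Q ≤ Subgroup.closure {u | u ∈ Q ∧ u * u = 1} :=
    invol_gens e (qListed e) (by rw [qTable_ok.2.2.2]; exact q_invol)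
  have hHinv : subH e ≤ Subgroup.closure {u | u ∈ subH e ∧ u * u = 1} :=
    invol_gens e (hListed e) (by rw [hTable_ok.2.2.2]; exact h_invol)
  have hCN : C ≤ Subgroup.normalizer (Q : Set G) :=
    (cent_eq e).symm.le.trans (sup_le Subgroup.le_normalizer (subH_normalizes e))
  refine ⟨fun hb => ?_, fun T hT hne hcl => ?_, Q, le_sup_left,
    sup_le Subgroup.le_normalizer (subV_normalizes e), centralizer_subQ_le e, fun g hg => ?_⟩
  · have h := sylow_card e hG
    rw [hb, Subgroup.card_bot] at h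
    have hc := card_sup (disjoint_QV e) (subV_normalizes e)
    rw [hb, Subgroup.card_bot, card_subQ, card_subV] at hc
    omega
  · refine CfsgLib.Fusion.le_of_closed_one_class hP (fun x y hx hy => _root_.isConj_iff.1
      ((one_class e hG x hx).symm.trans (one_class e hG y hy)))
      (U := {u | u ∈ Q ∧ u * u = 1} ∪ gim e vGens '' Set.Iio 2) ?_ ?_ T hT hne hcl
    · exact sup_le (hQinv.trans (Subgroup.closure_mono Set.subset_union_left))
        (Subgroup.closure_mono Set.subset_union_right)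
    · rintro u (⟨hu, hu2⟩ | ⟨x, hx, rfl⟩)
      · exact ⟨Subgroup.mem_sup_left hu, hu2⟩
      · refine ⟨Subgroup.mem_sup_right (Subgroup.subset_closure ⟨x, hx, rfl⟩), ?_⟩
        have h := v_invol
        simp only [List.all_eq_true, List.mem_range] at h
        obtain ⟨h1, h2⟩ := (vListed e).step 0 (vListed e).pos x hx
        rw [(vListed e).nth_zero, one_mul] at h2
        obtain ⟨-, h3⟩ := (vListed e).step _ h1 x hx
        rw [← h2, Nat.eq_of_beq_eq_true (h x hx), (vListed e).nth_zero] at h3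
        exact h3
  · have hz : zG e ∈ Q := (mem_subQ e).2 ⟨_, zIdx_ok.2, (qn_zIdx e).symm⟩
    have hVC : subV e ≤ C :=
      closure_le_cent e vTable_ok.2.2.1 fun _ h => List.mem_append_right _ h
    have hPC : Q ⊔ subV e ≤ C := sup_le (subQ_le e) hVC
    set y := g * zG e * g⁻¹ with hy
    have hyP : y ∈ Q ⊔ subV e :=
      (Subgroup.mem_normalizer_iff.1 hg _).1 (Subgroup.mem_sup_left hz)
    have hcen : ∀ u ∈ Q ⊔ subV e, u * y = y * u := by
      intro u hu
      have h1 : g⁻¹ * u * g ∈ Q ⊔ subV e := (Subgroup.mem_normalizer_iff''.1 hg _).1 hu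
      have h2 := Subgroup.mem_centralizer_singleton_iff.1 (hPC h1)
      calc u * y = g * (g⁻¹ * u * g * zG e) * g⁻¹ := by rw [hy]; group
        _ = g * (zG e * (g⁻¹ * u * g)) * g⁻¹ := by rw [h2]
        _ = y * u := by rw [hy]; group
    have hyQ : y ∈ Q := centralizer_subQ_le e
      (Subgroup.mem_centralizer_iff.2 fun u hu => hcen u (Subgroup.mem_sup_left hu))
    have hyz : y = zG e := by
      obtain ⟨i, hi, hiy⟩ := (mem_subQ e).1 hyQ
      rcases qFacts'.2.2.1 i hi with h | h | ⟨j, hj, hne⟩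
      · exfalso
        rw [h, qn_zero] at hiy
        have h1 : zG e = 1 := mul_left_cancel (((mul_inv_eq_one).1 hiy).trans (mul_one g).symm)
        have h2 := orderOf_zG e
        rw [h1, orderOf_one] at h2
        omega
      · rw [hiy, h, qn_zIdx]
      · refine absurd (qn_inj e (qn_mul e hi hj).1 (qn_mul e hj hi).1 ?_) hne
        rw [← (qn_mul e hi hj).2, ← (qn_mul e hj hi).2, ← hiy]
        exact (hcen _ (Subgroup.mem_sup_left ((mem_subQ e).2 ⟨j, hj, rfl⟩))).symm
    have hgC : g ∈ C :=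
      Subgroup.mem_centralizer_singleton_iff.2 (mul_inv_eq_iff_eq_mul.1 (hy.symm.trans hyz))
    have hsub : ∀ X : Subgroup G, X ≤ C → X ≤ Subgroup.closure {u | u ∈ X ∧ u * u = 1} →
        X ≤ Subgroup.closure
          {u | u ∈ Subgroup.normalizer (Q : Set G) ∧ ∃ k : ℕ, orderOf u = 2 ^ k} := fun X hX hgen =>
      hgen.trans (Subgroup.closure_mono fun u hu =>
        ⟨hCN (hX hu.1), CfsgLib.Fusion.exists_orderOf_eq_two_pow hu.2⟩)
    exact sup_le (hsub Q (subQ_le e) hQinv) (hsub (subH e) (subH_le e) hHinv)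
      ((cent_eq e).symm ▸ hgC)

theorem isSimple {H : Type*} [Group H] [Finite H] (hH : Cfsg.Spor.IsoJ3 H) (S : Sylow 2 H) :
    (Cfsg.groupFusionSystem (S : Subgroup H)).IsSimple 2 := by
  haveI : Fact (Nat.Prime 2) := ⟨Nat.prime_two⟩
  obtain ⟨F, iF, iF', ω, hF, hω, ⟨f⟩⟩ := hH
  obtain ⟨-, -, ⟨e₀⟩⟩ := CfsgLib.Spor.J3.Mat.main hF ω hω
  let e' := e₀.trans f.symm
  have hcard : Nat.card H = 50232960 :=
    (Nat.card_congr e'.toEquiv).symm.trans CfsgLib.Spor.J3.card_eq
  exact CfsgLib.Fusion.isSimple_group_of_coreData (MulEquiv.refl H)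
    (Sylow.ofCard (subQ e' ⊔ subV e') (sylow_card e' hcard))
    (by rw [Sylow.coe_ofCard]; exact coreData e' hcard) S

end CfsgLib.Fusion.JThreeTwo
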