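import Cfsg.Agent.Lib.Fusion.System.SporadicTwoSimple
import Cfsg.Agent.Lib.Fusion.System.JTwoTwoData

/-!
# The 2-fusion system of the Hall-Janko group is simple
-/

set_option autoImplicit false
set_option maxRecDepth 100000
set_option linter.style.haveILetI false

namespace CfsgLib.Fusion.JTwoTwo

open CfsgLib.Char.J2

/-- The code of a listed element. -/
def sC (q : ℕ) : ℕ := sylCodes.getD q 0

/-- A listed element on numbers. -/
def sA (q b : ℕ) : ℕ := appC (sC q) b

/-- An element given by a word in the generators of the core, on numbers. -/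
def qwA : List ℕ → ℕ → ℕ
  | [], b => b
  | k :: w, b => sA (qGenIdx.getD k 0) (qwA w b)

/-- A test on the base. -/
def onBase (f : ℕ → Bool) : Bool := (List.range 4).all fun j => f (bpt j)

/-- The table entry of a product with a generator. -/
def stp (k q : ℕ) : ℕ := (sylTab.getD k []).getD q 0

theorem syl_check : ((List.range 128).all fun q => decide (sC q < 604800)) &&
    decide ((List.range 128).map fun q => sC q).Nodup && decide (sC 0 = 0) &&
    ((List.range 4).all fun k => (List.range 128).all fun q => decide (stp k q < 128) &&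
      onBase fun b => sA (k + 1) (sA q b) == sA (stp k q) b) &&
    ((List.range 128).all fun v => decide (v = 0) || (List.range 4).any fun k =>
      (List.range v).any fun q => stp k q == v) = true := by
  decide +kernel

/-- The candidates commuting with the square of the element of order eight. -/
def candOK (e : ℕ) : Bool :=
  !(onBase fun b => sA fIdx (appC e b) == appC e (sA fIdx b)) ||
    ((!(onBase fun b => sA xIdx (appC e b) == appC e (sA xIdx b)) ||
        (List.range 128).any fun q => onBase fun b => appC e b == sA q b) &&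
      (!((List.range 4).all fun k => onBase fun b =>
          sA (qGenIdx.getD k 0) (appC e b) == appC e (sA (qGenIdx.getD k 0) b)) ||
        zCentWords.any fun w => onBase fun b => appC e b == qwA w b))

theorem cent_check : ((List.range 100).all fun a => (List.range 63).all fun b =>
    !(tA 0 a (tA 1 b 1) == sA fIdx (tA 0 a 0)) ||
      (List.range 32).all fun c => (List.range 3).all fun d =>
        candOK (((a * 63 + b) * 32 + c) * 3 + d)) = true := by
  decide +kernel

theorem special_check : (decide (xIdx < 128) && decide (fIdx < 128) && decide (wC < 604800) &&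
    decide (u1C < 604800) && decide (u2C < 604800) && decide (qGenIdx.getD 0 0 = fIdx) &&
    (onBase fun b => sA xIdx (sA xIdx b) == sA fIdx b) && decide (sA fIdx 0 = 1) &&
    ((List.range 4).any fun j => !(iterC (sC xIdx) 4 (bpt j) == bpt j)) &&
    (onBase fun b => appC u1C (appC u2C b) == appC wC b) &&
    (onBase fun b => appC u1C (appC u1C b) == b) && (onBase fun b => appC u2C (appC u2C b) == b) &&
    ((List.range 4).all fun k => decide (qGenIdx.getD k 0 < 128) &&
      onBase fun b => iterC (sC (k + 1)) 4 b == b) &&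
    zCentWords.all fun w => w.all fun k => decide (k < 4)) = true := by
  decide +kernel

/-- The elements acting on the core. -/
def cjC (i : ℕ) : ℕ := [sC 1, sC 2, sC 3, sC 4, u1C, u2C].getD i 0

theorem conj_check : ((List.range 6).all fun i => (List.range 4).all fun k =>
    ((qConjWords.getD i []).getD k []).all (fun m => decide (m < 4)) &&
      onBase fun b => appC (cjC i) (sA (qGenIdx.getD k 0) b) ==
        qwA ((qConjWords.getD i []).getD k []) (appC (cjC i) b)) = true := by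
  decide +kernel

theorem eight_check : ((List.range 128).all fun q => (onBase fun b => iterC (sC q) 4 b == b) ||
    eightRows.any fun r => r.1 == q && decide (r.2.2 < 128) &&
      onBase fun b => sA q (iterC wC r.2.1 (sA r.2.2 b)) == iterC wC r.2.1 (sA r.2.2 (sA xIdx b))) =
      true := by
  decide +kernel

/-- A conjugacy witness for an element of order four. -/
def fourOK (k : ℕ) : Bool :=
  fourRows.any fun r => r.1 == k && decide (r.2 < 604800) &&
    onBase fun b => appC r.2 (sA fIdx b) == sA k (appC r.2 b)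

theorem invol_check : (((List.range 128).all fun q => q == 0 || !(onBase fun b => sA q (sA q b) == b) ||
    involRows.any fun r => r.1 == q && decide (r.2.1 < 604800) && decide (r.2.2.1 < 128) &&
      decide (r.2.2.2.1 < 604800) && decide (r.2.2.2.2.1 < 128) && decide (r.2.2.2.2.2 < 128) &&
      fourOK r.2.2.2.2.2 &&
      onBase fun b => appC r.2.1 (sA q b) == sA r.2.2.1 (appC r.2.1 b) &&
        appC r.2.2.2.1 (sA r.2.2.1 b) == sA r.2.2.2.2.1 (appC r.2.2.2.1 b) &&
        sA r.2.2.1 (sA r.2.2.2.2.1 b) == sA r.2.2.2.2.2 b) &&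
    (List.range 4).all fun k => fourOK (k + 1)) = true := by
  decide +kernel

/-! ### The elements -/

/-- An element, by code, acts on numbers by the function. -/
def Acts (g : ↥P100) (f : ℕ → ℕ) : Prop := ∀ b : Fin 100, (g.1 b).1 = f b.1

theorem acts_el {e : ℕ} (he : e < 604800) : Acts (el e) (appC e) := el_apply he

theorem Acts.mul {g h : ↥P100} {f f' : ℕ → ℕ} (hg : Acts g f) (hh : Acts h f') :
    Acts (g * h) fun b => f (f' b) := fun b => by
  show (g.1 (h.1 b)).1 = _
  rw [hg, hh]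

theorem acts_one : Acts 1 fun b => b := fun _ => rfl

theorem Acts.eq {g h : ↥P100} {f f' : ℕ → ℕ} (hg : Acts g f) (hh : Acts h f')
    (e : onBase (fun b => f b == f' b) = true) : g = h := by
  simp only [onBase, List.all_eq_true, List.mem_range, beq_iff_eq] at e
  refine eq_of_base fun j => Fin.ext ?_
  rw [hg, hh]
  exact e j.1 j.2

theorem Acts.base {g : ↥P100} {f f' : ℕ → ℕ} (hg : Acts g f) {h : ↥P100} (hh : Acts h f')
    (e : g = h) : onBase (fun b => f b == f' b) = true := by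
  simp only [onBase, List.all_eq_true, List.mem_range, beq_iff_eq]
  intro j hj
  subst e
  exact (hg (bP ⟨j, hj⟩)).symm.trans (hh (bP ⟨j, hj⟩))

theorem acts_pow {e : ℕ} (he : e < 604800) (n : ℕ) : Acts (el e ^ n) (iterC e n) :=
  el_pow_apply he n

/-- A listed element. -/
noncomputable def sQ (q : ℕ) : ↥P100 := el (sC q)

theorem facts : (∀ q < 128, sC q < 604800) ∧ ((List.range 128).map fun q => sC q).Nodup ∧
    sC 0 = 0 ∧ (∀ k < 4, ∀ q < 128, stp k q < 128 ∧
      onBase (fun b => sA (k + 1) (sA q b) == sA (stp k q) b) = true) ∧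
    ∀ v < 128, v = 0 ∨ ∃ k < 4, ∃ q < v, stp k q = v := by
  have h := syl_check
  simp only [Bool.and_eq_true, List.all_eq_true, List.any_eq_true, List.mem_range,
    decide_eq_true_eq, Bool.or_eq_true, beq_iff_eq] at h
  exact ⟨h.1.1.1.1, h.1.1.1.2, h.1.1.2, fun k hk q hq => h.1.2 k hk q hq, h.2⟩

theorem acts_sQ {q : ℕ} (hq : q < 128) : Acts (sQ q) (sA q) := acts_el (facts.1 q hq)

/-- The Sylow subgroup. -/
noncomputable def syl2 : Subgroup ↥P100 :=
  Subgroup.closure (Set.range fun k : Fin 4 => sQ (k.1 + 1))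

theorem sQ_zero : sQ 0 = 1 := by rw [sQ, facts.2.2.1, el_zero]

theorem step {k q : ℕ} (hk : k < 4) (hq : q < 128) :
    sQ (k + 1) * sQ q = sQ (stp k q) ∧ stp k q < 128 := by
  obtain ⟨h1, h2⟩ := facts.2.2.2.1 k hk q hq
  exact ⟨Acts.eq ((acts_sQ (by omega)).mul (acts_sQ hq)) (acts_sQ h1) h2, h1⟩

theorem mem_syl {g : ↥P100} (hg : g ∈ syl2) : ∃ q < 128, sQ q = g := by
  have hg' : g ∈ Submonoid.closure (Set.range fun k : Fin 4 => sQ (k.1 + 1)) := by
    rw [← Subgroup.closure_toSubmonoid_of_finite]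
    exact hg
  clear hg
  induction hg' using Submonoid.closure_induction_left with
  | one => exact ⟨0, by norm_num, sQ_zero⟩
  | mul_left a ha b _ hb =>
    obtain ⟨k, rfl⟩ := ha
    obtain ⟨q, hq, rfl⟩ := hb
    obtain ⟨e, hv⟩ := step k.2 hq
    exact ⟨_, hv, e.symm⟩

theorem sQ_mem : ∀ q < 128, sQ q ∈ syl2 := by
  intro v
  induction v using Nat.strong_induction_on with
  | _ v ih =>
    intro hv
    rcases facts.2.2.2.2 v hv with rfl | ⟨k, hk, q, hq, e⟩
    · rw [sQ_zero]; exact one_mem _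
    · rw [← e, ← (step hk (show q < 128 by omega)).1]
      exact mul_mem (Subgroup.subset_closure ⟨⟨k, hk⟩, rfl⟩) (ih q hq (by omega))

theorem el_injective {a b : ℕ} (ha : a < 604800) (hb : b < 604800) (h : el a = el b) : a = b := by
  have e := elem_bijective.1 h
  simp only [idxOf, Prod.mk.injEq, Fin.ext_iff] at e
  omega

theorem card_syl : Nat.card ↥syl2 = 128 := by
  have hb : Function.Bijective fun q : Fin 128 => (⟨sQ q.1, sQ_mem q.1 q.2⟩ : ↥syl2) := by
    refine ⟨fun q r e => Fin.ext (List.inj_on_of_nodup_map facts.2.1 (List.mem_range.2 q.2)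
      (List.mem_range.2 r.2) (el_injective (facts.1 _ q.2) (facts.1 _ r.2) (congrArg Subtype.val e))),
      fun g => ?_⟩
    obtain ⟨q, hq, e⟩ := mem_syl g.2
    exact ⟨⟨q, hq⟩, Subtype.ext e⟩
  rw [← Nat.card_congr (Equiv.ofBijective _ hb), Nat.card_fin]

theorem special : xIdx < 128 ∧ fIdx < 128 ∧ wC < 604800 ∧ u1C < 604800 ∧ u2C < 604800 ∧
    qGenIdx.getD 0 0 = fIdx ∧ sA fIdx 0 = 1 ∧ sQ xIdx * sQ xIdx = sQ fIdx ∧ sQ xIdx ^ 4 ≠ 1 ∧
    el u1C * el u2C = el wC ∧ el u1C * el u1C = 1 ∧ el u2C * el u2C = 1 ∧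
    (∀ k < 4, qGenIdx.getD k 0 < 128 ∧ sQ (k + 1) ^ 4 = 1) ∧
    ∀ w ∈ zCentWords, ∀ k ∈ w, k < 4 := by
  have h := special_check
  simp only [Bool.and_eq_true, decide_eq_true_eq, List.any_eq_true, List.all_eq_true, List.mem_range,
    Bool.not_eq_true'] at h
  obtain ⟨⟨⟨⟨⟨⟨⟨⟨⟨⟨⟨⟨⟨h1, h2⟩, h3⟩, h4⟩, h5⟩, h6⟩, h7⟩, h8⟩, h9⟩, h10⟩, h11⟩, h12⟩, h13⟩, h14⟩ := h
  refine ⟨h1, h2, h3, h4, h5, h6, h8, Acts.eq ((acts_sQ h1).mul (acts_sQ h1)) (acts_sQ h2) h7, ?_,
    Acts.eq ((acts_el h4).mul (acts_el h5)) (acts_el h3) h10,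
    Acts.eq ((acts_el h4).mul (acts_el h4)) acts_one h11,
    Acts.eq ((acts_el h5).mul (acts_el h5)) acts_one h12,
    fun k hk => ⟨(h13 k hk).1,
      Acts.eq (acts_pow (facts.1 _ (by omega)) 4) acts_one (h13 k hk).2⟩, h14⟩
  intro e
  obtain ⟨j, hj, hne⟩ := h9
  have := Acts.base (acts_pow (facts.1 _ h1) 4) acts_one e
  simp only [onBase, List.all_eq_true, List.mem_range] at this
  simp [this j hj] at hne

/-- The core. -/
noncomputable def core : Subgroup ↥P100 :=
  Subgroup.closure (Set.range fun k : Fin 4 => sQ (qGenIdx.getD k.1 0))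

theorem exists_word : ∀ w : List ℕ, (∀ k ∈ w, k < 4) → ∃ g ∈ core, Acts g (qwA w)
  | [], _ => ⟨1, one_mem _, acts_one⟩
  | k :: w, h => by
    obtain ⟨g, hg, hga⟩ := exists_word w fun m hm => h m (List.mem_cons_of_mem _ hm)
    have hk := h k List.mem_cons_self
    exact ⟨sQ (qGenIdx.getD k 0) * g, mul_mem (Subgroup.subset_closure ⟨⟨k, hk⟩, rfl⟩) hg,
      (acts_sQ (special.2.2.2.2.2.2.2.2.2.2.2.2.1 k hk).1).mul hga⟩

theorem candidate {g : ↥P100} (hg : g * sQ fIdx = sQ fIdx * g) :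
    (g * sQ xIdx = sQ xIdx * g → g ∈ syl2) ∧
      ((∀ k < 4, g * sQ (qGenIdx.getD k 0) = sQ (qGenIdx.getD k 0) * g) → g ∈ core) := by
  obtain ⟨hx, hf, -, -, -, -, hf0, -, -, -, -, -, hq, hzw⟩ := special
  obtain ⟨e, he, rfl⟩ := exists_el g
  have hA := acts_el he
  have hb := base_check
  simp only [List.all_eq_true, List.mem_range, Bool.and_eq_true, decide_eq_true_eq] at hb
  have h0 : appC e 0 = tA 0 (e / 6048) 0 := by
    show appC e (bpt 0) = tA 0 (e / 6048) (bpt 0)
    simp only [appC, appE]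
    rw [(hb 3 (by norm_num)).2 (e % 3) (Nat.mod_lt _ (by norm_num)) 0 (by norm_num),
      (hb 2 (by norm_num)).2 (e / 3 % 32) (Nat.mod_lt _ (by norm_num)) 0 (by norm_num),
      (hb 1 (by norm_num)).2 (e / 96 % 63) (Nat.mod_lt _ (by norm_num)) 0 (by norm_num)]
  have h1 : appC e 1 = tA 0 (e / 6048) (tA 1 (e / 96 % 63) 1) := by
    show appC e (bpt 1) = tA 0 (e / 6048) (tA 1 (e / 96 % 63) (bpt 1))
    simp only [appC, appE]
    rw [(hb 3 (by norm_num)).2 (e % 3) (Nat.mod_lt _ (by norm_num)) 1 (by norm_num),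
      (hb 2 (by norm_num)).2 (e / 3 % 32) (Nat.mod_lt _ (by norm_num)) 1 (by norm_num)]
  have hrel := Acts.base (hA.mul (acts_sQ hf)) ((acts_sQ hf).mul hA) hg
  have htest : tA 0 (e / 6048) (tA 1 (e / 96 % 63) 1) = sA fIdx (tA 0 (e / 6048) 0) := by
    simp only [onBase, List.all_eq_true, List.mem_range, beq_iff_eq] at hrel
    have h := hrel 0 (by norm_num)
    rw [show bpt 0 = 0 from rfl, hf0, h0, h1] at h
    exact h
  have hc := cent_check
  simp only [List.all_eq_true, List.mem_range, Bool.or_eq_true, Bool.not_eq_true',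
    beq_eq_false_iff_ne] at hc
  rcases hc (e / 6048) (by omega) (e / 96 % 63) (Nat.mod_lt _ (by norm_num)) with h | h
  · exact absurd htest h
  have hok := h (e / 3 % 32) (Nat.mod_lt _ (by norm_num)) (e % 3) (Nat.mod_lt _ (by norm_num))
  rw [show ((e / 6048 * 63 + e / 96 % 63) * 32 + e / 3 % 32) * 3 + e % 3 = e by omega] at hok
  have hcomm : ∀ q < 128, el e * sQ q = sQ q * el e →
      onBase (fun b => sA q (appC e b) == appC e (sA q b)) = true := fun q hq' h =>
    Acts.base ((acts_sQ hq').mul hA) (hA.mul (acts_sQ hq')) h.symm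
  simp only [candOK, Bool.or_eq_true, Bool.not_eq_true', Bool.and_eq_true] at hok
  rw [hcomm fIdx hf hg] at hok
  obtain ⟨hok1, hok2⟩ := hok.resolve_left (by decide)
  constructor
  · intro hgx
    rw [hcomm xIdx hx hgx] at hok1
    obtain ⟨q, hq', hqe⟩ := List.any_eq_true.1 (hok1.resolve_left (by decide))
    rw [List.mem_range] at hq'
    rw [Acts.eq hA (acts_sQ hq') hqe]
    exact sQ_mem q hq'
  · intro hgq
    have hall : ((List.range 4).all fun k => onBase fun b =>
        sA (qGenIdx.getD k 0) (appC e b) == appC e (sA (qGenIdx.getD k 0) b)) = true := by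
      simp only [List.all_eq_true, List.mem_range]
      exact fun k hk => hcomm _ (hq k hk).1 (hgq k hk)
    rw [hall] at hok2
    obtain ⟨w, hw, hwe⟩ := List.any_eq_true.1 (hok2.resolve_left (by decide))
    obtain ⟨g', hg', hga⟩ := exists_word w (hzw w hw)
    rw [Acts.eq hA hga hwe]
    exact hg'

theorem conj_core {i : ℕ} (hi : i < 6) (hlt : cjC i < 604800) :
    el (cjC i) ∈ Subgroup.normalizer (core : Set ↥P100) := by
  refine Subgroup.mem_normalizer_fintype fun y hy => ?_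
  have hle : core ≤ core.comap (MulAut.conj (el (cjC i))).toMonoidHom := by
    refine (Subgroup.closure_le _).2 ?_
    rintro _ ⟨⟨k, hk⟩, rfl⟩
    have h := conj_check
    simp only [List.all_eq_true, List.mem_range, Bool.and_eq_true, decide_eq_true_eq] at h
    obtain ⟨hw, he⟩ := h i hi k hk
    obtain ⟨g, hg, hga⟩ := exists_word _ hw
    show el (cjC i) * sQ (qGenIdx.getD k 0) * (el (cjC i))⁻¹ ∈ core
    rw [show el (cjC i) * sQ (qGenIdx.getD k 0) = g * el (cjC i) from
      Acts.eq ((acts_el hlt).mul (acts_sQ (special.2.2.2.2.2.2.2.2.2.2.2.2.1 k hk).1))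
        (hga.mul (acts_el hlt)) he, mul_inv_cancel_right]
    exact hg
  exact hle hy

theorem conj_core_of_eq {i c : ℕ} (hi : i < 6) (hc : cjC i = c) (hlt : c < 604800) :
    el c ∈ Subgroup.normalizer (core : Set ↥P100) :=
  hc ▸ conj_core hi (hc ▸ hlt)

theorem four_conj {T : Subgroup ↥P100}
    (hcl : ∀ x ∈ T, ∀ g : ↥P100, g * x * g⁻¹ ∈ syl2 → g * x * g⁻¹ ∈ T) {k : ℕ} (hk : k < 128)
    (h : fourOK k = true) : sQ k ∈ T ↔ sQ fIdx ∈ T := by
  simp only [fourOK, List.any_eq_true, Bool.and_eq_true, beq_iff_eq, decide_eq_true_eq] at h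
  obtain ⟨r, -, ⟨-, hr⟩, he⟩ := h
  have hf := special.2.1
  have e : el r.2 * sQ fIdx * (el r.2)⁻¹ = sQ k :=
    mul_inv_eq_iff_eq_mul.2 (Acts.eq ((acts_el hr).mul (acts_sQ hf)) ((acts_sQ hk).mul (acts_el hr)) he)
  constructor
  · intro h
    have e' : (el r.2)⁻¹ * sQ k * (el r.2)⁻¹⁻¹ = sQ fIdx := by rw [← e]; group
    exact e' ▸ hcl _ h _ (e'.symm ▸ sQ_mem _ hf)
  · intro h
    exact e ▸ hcl _ h _ (e.symm ▸ sQ_mem _ hk)

theorem closed_top {T : Subgroup ↥P100} (hS : IsPGroup 2 ↥syl2) (hT : T ≤ syl2) (hne : T ≠ ⊥)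
    (hcl : ∀ x ∈ T, ∀ g : ↥P100, g * x * g⁻¹ ∈ syl2 → g * x * g⁻¹ ∈ T) : syl2 ≤ T := by
  haveI : Fact (Nat.Prime 2) := ⟨Nat.prime_two⟩
  haveI : Nontrivial T := (Subgroup.nontrivial_iff_ne_bot T).2 hne
  obtain ⟨n, hn, hc⟩ := (hS.to_le hT).nontrivial_iff_card.1 ‹_›
  obtain ⟨⟨t, ht⟩, hto⟩ := exists_prime_orderOf_dvd_card' (G := T) 2 (hc ▸ dvd_pow_self 2 hn.ne')
  rw [Subgroup.orderOf_mk] at hto
  obtain ⟨q, hq, rfl⟩ := mem_syl (hT ht)
  have h := invol_check
  rw [Bool.and_eq_true] at h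
  obtain ⟨hi, hg⟩ := h
  simp only [List.all_eq_true, List.mem_range] at hi hg
  have hi := hi q hq
  simp only [Bool.or_eq_true, Bool.not_eq_true', beq_iff_eq, List.any_eq_true, Bool.and_eq_true,
    decide_eq_true_eq] at hi
  have hsq : sQ q * sQ q = 1 := by rw [← pow_two, ← hto, pow_orderOf_eq_one]
  rw [Acts.base ((acts_sQ hq).mul (acts_sQ hq)) acts_one hsq] at hi
  rcases hi with (rfl | h) | ⟨r, -, hr⟩
  · rw [sQ_zero, orderOf_one] at hto
    omega
  · exact absurd h (by decide)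
  obtain ⟨⟨⟨⟨⟨⟨⟨-, hc1⟩, hy1⟩, hc2⟩, hy2⟩, hk⟩, hfour⟩, he⟩ := hr
  simp only [onBase, List.all_eq_true, List.mem_range, Bool.and_eq_true, beq_iff_eq] at he
  have hE : ∀ {f f' : ℕ → ℕ}, (∀ j < 4, f (bpt j) = f' (bpt j)) →
      onBase (fun b => f b == f' b) = true := fun {f f'} h => by
    simpa [onBase] using h
  have e1 : el r.2.1 * sQ q * (el r.2.1)⁻¹ = sQ r.2.2.1 :=
    mul_inv_eq_iff_eq_mul.2 (Acts.eq ((acts_el hc1).mul (acts_sQ hq))
      ((acts_sQ hy1).mul (acts_el hc1)) (hE fun j hj => (he j hj).1.1))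
  have h1 : sQ r.2.2.1 ∈ T := e1 ▸ hcl _ ht _ (e1.symm ▸ sQ_mem _ hy1)
  have e2 : el r.2.2.2.1 * sQ r.2.2.1 * (el r.2.2.2.1)⁻¹ = sQ r.2.2.2.2.1 :=
    mul_inv_eq_iff_eq_mul.2 (Acts.eq ((acts_el hc2).mul (acts_sQ hy1))
      ((acts_sQ hy2).mul (acts_el hc2)) (hE fun j hj => (he j hj).1.2))
  have h2 : sQ r.2.2.2.2.1 ∈ T := e2 ▸ hcl _ h1 _ (e2.symm ▸ sQ_mem _ hy2)
  have e3 : sQ r.2.2.1 * sQ r.2.2.2.2.1 = sQ r.2.2.2.2.2 :=
    Acts.eq ((acts_sQ hy1).mul (acts_sQ hy2)) (acts_sQ hk) (hE fun j hj => (he j hj).2)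
  have hf : sQ fIdx ∈ T := (four_conj hcl hk hfour).1 (e3 ▸ mul_mem h1 h2)
  refine (Subgroup.closure_le T).2 ?_
  rintro _ ⟨⟨k, hk'⟩, rfl⟩
  exact (four_conj hcl (by omega) (hg k hk')).2 hf

theorem coreData : CfsgLib.Fusion.HasCoreData 2 syl2 := by
  haveI : Fact (Nat.Prime 2) := ⟨Nat.prime_two⟩
  obtain ⟨hx, hf, hw, hu1, hu2, hq0, -, hxx, hx4, huw, hu1s, hu2s, hq, -⟩ := special
  have hS : IsPGroup 2 ↥syl2 := IsPGroup.of_card (n := 7) (by rw [card_syl]; norm_num)
  have hgensN : ∀ k < 4, sQ (k + 1) ∈ Subgroup.normalizer (core : Set ↥P100) := by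
    intro k hk
    have h : cjC k = sC (k + 1) := by interval_cases k <;> rfl
    exact conj_core_of_eq (show k < 6 by omega) h (facts.1 _ (by omega))
  refine ⟨fun hb => ?_, fun T hT hne hcl => closed_top hS hT hne hcl, core, ?_, ?_, ?_, ?_⟩
  · have h := card_syl
    rw [hb, Subgroup.card_bot] at h
    norm_num at h
  · refine (Subgroup.closure_le _).2 ?_
    rintro _ ⟨⟨k, hk⟩, rfl⟩
    exact sQ_mem _ (hq k hk).1
  · refine (Subgroup.closure_le _).2 ?_
    rintro _ ⟨⟨k, hk⟩, rfl⟩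
    exact hgensN k hk
  · intro g hg
    have hc : ∀ k < 4, g * sQ (qGenIdx.getD k 0) = sQ (qGenIdx.getD k 0) * g := fun k hk =>
      (Subgroup.mem_centralizer_iff.1 hg _ (Subgroup.subset_closure ⟨⟨k, hk⟩, rfl⟩)).symm
    exact (candidate (hq0 ▸ hc 0 (by norm_num))).2 hc
  · intro g hg
    set U := {u : ↥P100 | u ∈ Subgroup.normalizer (core : Set ↥P100) ∧ ∃ k : ℕ, orderOf u = 2 ^ k}
    have hSU : syl2 ≤ Subgroup.closure U := by
      refine (Subgroup.closure_le _).2 ?_
      rintro _ ⟨⟨k, hk⟩, rfl⟩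
      obtain ⟨m, -, hm⟩ := (Nat.dvd_prime_pow Nat.prime_two).1
        (orderOf_dvd_of_pow_eq_one (n := 2 ^ 2) (hq k hk).2)
      exact Subgroup.subset_closure ⟨hgensN k hk, m, hm⟩
    have hwU : el wC ∈ Subgroup.closure U := by
      rw [← huw]
      exact mul_mem
        (Subgroup.subset_closure ⟨conj_core_of_eq (i := 4) (by norm_num) rfl hu1,
          CfsgLib.Fusion.exists_orderOf_eq_two_pow hu1s⟩)
        (Subgroup.subset_closure ⟨conj_core_of_eq (i := 5) (by norm_num) rfl hu2,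
          CfsgLib.Fusion.exists_orderOf_eq_two_pow hu2s⟩)
    obtain ⟨q, hql, e⟩ := mem_syl ((Subgroup.mem_normalizer_iff.1 hg _).1 (sQ_mem _ hx))
    have h8 : sQ q ^ 4 ≠ 1 := fun h => hx4 (by
      rw [e, conj_pow, mul_inv_eq_one] at h
      exact mul_left_cancel (h.trans (mul_one g).symm))
    have h := eight_check
    simp only [List.all_eq_true, List.mem_range, Bool.or_eq_true, List.any_eq_true, Bool.and_eq_true,
      beq_iff_eq, decide_eq_true_eq] at h
    rcases h q hql with h | ⟨row, -, ⟨-, hr⟩, he⟩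
    · exact absurd (Acts.eq (acts_pow (facts.1 q hql) 4) acts_one h) h8
    set r := el wC ^ row.2.1 * sQ row.2.2 with hr'
    have hra : Acts r fun b => iterC wC row.2.1 (sA row.2.2 b) :=
      (acts_pow hw _).mul (acts_sQ hr)
    have hrel : sQ q * r = r * sQ xIdx := Acts.eq ((acts_sQ hql).mul hra) (hra.mul (acts_sQ hx)) he
    have hrU : r ∈ Subgroup.closure U := mul_mem (pow_mem hwU _) (hSU (sQ_mem _ hr))
    have hcomm : r⁻¹ * g * sQ xIdx = sQ xIdx * (r⁻¹ * g) := by
      calc r⁻¹ * g * sQ xIdx = r⁻¹ * (g * sQ xIdx * g⁻¹) * g := by group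
        _ = r⁻¹ * (sQ q * r) * (r⁻¹ * g) := by rw [← e]; group
        _ = sQ xIdx * (r⁻¹ * g) := by rw [hrel]; group
    have hcf : r⁻¹ * g * sQ fIdx = sQ fIdx * (r⁻¹ * g) := by
      rw [← hxx]
      exact (Commute.mul_right (show Commute (r⁻¹ * g) (sQ xIdx) from hcomm) hcomm).eq
    simpa using mul_mem hrU (hSU ((candidate hcf).1 hcomm))

theorem isSimple {G : Type*} [Group G] [Finite G] (hG : Cfsg.Spor.IsoJ2 G) (S : Sylow 2 G) :
    (Cfsg.groupFusionSystem (S : Subgroup G)).IsSimple 2 := by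
  haveI : Fact (Nat.Prime 2) := ⟨Nat.prime_two⟩
  obtain ⟨e⟩ := hG
  have hfac : Nat.card ↥syl2 = 2 ^ (Nat.card ↥P100).factorization 2 := by
    rw [card_syl, card_P100, show (604800 : ℕ) = 2 ^ 7 * 4725 by norm_num,
      Nat.factorization_mul (by norm_num) (by norm_num), Nat.factorization_pow, Finsupp.add_apply,
      Finsupp.smul_apply, Nat.Prime.factorization_self Nat.prime_two,
      Nat.factorization_eq_zero_of_not_dvd (by norm_num)]
    rfl
  exact CfsgLib.Fusion.isSimple_group_of_coreData (e.trans equivP100).symm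
    (Sylow.ofCard syl2 hfac) (by rw [Sylow.coe_ofCard]; exact coreData) S

end CfsgLib.Fusion.JTwoTwo
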