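import Cfsg.Agent.Lib.Fusion.System.Monomial

/-!
# Extensions by an abelian kernel whose conjugation maps lift

Let `c : T →* X` have abelian kernel on which `X` acts, the index of `c(T)` being prime to the order
of the kernel. If the conjugations by elements of `X` between subgroups of `c(T)` lift to `T`
compatibly with the action on the kernel, then `X` has an extension by the kernel containing `T` as
a subgroup of the same index.
-/

set_option autoImplicit false
set_option linter.style.haveILetI false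

open scoped Classical

namespace CfsgLib.Fusion.KerMon

universe u v

variable {T X : Type*} [Group T] [Group X]

/-- A lift of the conjugation by `x⁻¹` on the elements of `T` that it carries into `c(T)`. -/
structure IsLift (c : T →* X) (act : X →* MulAut c.ker) (x : X) (h : T → T) : Prop where
  map_mul : ∀ u v, x⁻¹ * c u * x ∈ c.range → x⁻¹ * c v * x ∈ c.range → h (u * v) = h u * h v
  c_map : ∀ u, x⁻¹ * c u * x ∈ c.range → c (h u) = x⁻¹ * c u * x
  map_ker : ∀ z : c.ker, h z = act x⁻¹ z

theorem exists_extension {T : Type u} {X : Type v} [Group T] [Group X] [Finite T] [Finite X]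
    (c : T →* X) (act : X →* MulAut c.ker)
    (hcomm : ∀ a b : c.ker, a * b = b * a)
    (hact : ∀ (u : T) (z : c.ker), (act (c u) z : T) = u * z * u⁻¹)
    (hcop : (Nat.card c.ker).Coprime c.range.index)
    (hlift : ∀ x : X, ∃ h : T → T, IsLift c act x h) :
    ∃ (L : Type (max u v)) (_ : Group L) (_ : Finite L) (ι : T →* L) (π : L →* X),
      Function.Injective ι ∧ Function.Surjective π ∧ (∀ u, π (ι u) = c u) ∧
      π.ker = c.ker.map ι ∧ ι.range.index = c.range.index ∧
      ∀ (l : L) (z : c.ker), l * ι z * l⁻¹ = ι (act (π l) z) := by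
  letI : CommGroup c.ker := { (inferInstance : Group c.ker) with mul_comm := hcomm }
  set r : X ⧸ c.range → X := Quotient.out with hr'
  have hr : ∀ t, (r t : X ⧸ c.range) = t := fun t => Quotient.out_eq' t
  have hstab : ∀ (t : X ⧸ c.range) (u : T), c u • t = t ↔ (r t)⁻¹ * c u * r t ∈ c.range := by
    intro t u
    conv_lhs => rw [← hr t]
    rw [MulAction.Quotient.smul_coe, eq_comm, QuotientGroup.eq, smul_eq_mul, mul_assoc]
  haveI : Fintype (X ⧸ c.range) := Fintype.ofFinite _
  -- orbit representatives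
  let Rel : Setoid (X ⧸ c.range) :=
    { r := fun t t' => ∃ u, c u • t = t'
      iseqv :=
        { refl := fun t => ⟨1, by rw [map_one, one_smul]⟩
          symm := fun {t t'} ⟨u, hu⟩ => ⟨u⁻¹, by rw [map_inv, ← hu, inv_smul_smul]⟩
          trans := fun {t t' t''} ⟨u, hu⟩ ⟨v, hv⟩ => ⟨v * u, by rw [map_mul, mul_smul, hu, hv]⟩ } }
  let o : X ⧸ c.range → X ⧸ c.range := fun t => Quotient.out (Quotient.mk Rel t)
  have hou : ∀ t, ∃ u, c u • o t = t := fun t => Quotient.mk_out (s := Rel) t
  choose w hw using hou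
  have ho : ∀ v t, o (c v • t) = o t := fun v t =>
    congrArg Quotient.out (Quotient.sound (s := Rel) ⟨v, rfl⟩).symm
  choose h hh using fun t => hlift (r t)
  have hq : ∀ t, ∃ q, c q = (r t)⁻¹ * c (w t) * r (o t) := fun t => by
    have h := Mon.cocycle_mem_range (c := c) (r := r) hr (c (w t)) (o t)
    rw [hw] at h
    exact h
  choose q hq using hq
  -- the lift of `T`
  have hin : ∀ (u : T) (t : X ⧸ c.range),
      (r (o t))⁻¹ * c ((w (c u • t))⁻¹ * u * w t) * r (o t) ∈ c.range := by
    intro u t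
    rw [← hstab, map_mul, map_mul, map_inv, mul_smul, mul_smul, hw, inv_smul_eq_iff]
    conv_rhs => rw [← ho u t]
    rw [hw]
  let P : T → X ⧸ c.range → T := fun u t =>
    q (c u • t) * h (o t) ((w (c u • t))⁻¹ * u * w t) * (q t)⁻¹
  have hP : ∀ u t, c (P u t) = (r (c u • t))⁻¹ * c u * r t := by
    intro u t
    show c (_ * _ * _) = _
    rw [map_mul, map_mul, map_inv, hq, hq, (hh (o t)).c_map _ (hin u t), ho, map_mul, map_mul,
      map_inv]
    group
  let θ : T →* Mon c r := MonoidHom.mk' (fun u => ⟨c u, P u, hP u⟩) fun u v => by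
    refine Mon.ext (map_mul c u v) (funext fun t => ?_)
    show P (u * v) t = P u (c v • t) * P v t
    simp only [P]
    have h1 := hin v t
    have h2 := hin u (c v • t)
    rw [ho v t] at h2 ⊢
    rw [map_mul c u v, mul_smul,
      show (w (c u • c v • t))⁻¹ * (u * v) * w t =
        (w (c u • c v • t))⁻¹ * u * w (c v • t) * ((w (c v • t))⁻¹ * v * w t) by group,
      (hh (o t)).map_mul _ _ h2 h1]
    group
  have hθker : ∀ (z : c.ker) t, (θ z).p t = ((act (r t)⁻¹ z : c.ker) : T) := by
    intro z t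
    show P z t = _
    simp only [P]
    have hz : c (z : T) = 1 := z.2
    rw [hz, one_smul]
    have e1 : (w t)⁻¹ * (z : T) * w t = ((act (c (w t))⁻¹ z : c.ker) : T) := by
      rw [← map_inv, hact, inv_inv]
    rw [e1, (hh (o t)).map_ker, ← hact, hq, ← MulAut.mul_apply, ← map_mul, ← MulAut.mul_apply,
      ← map_mul]
    congr 3
    group
  -- the norm
  have hpk : ∀ (e : (Mon.proj : Mon c r →* X).ker) t, (e : Mon c r).p t ∈ c.ker :=
    fun e t => Mon.p_mem_ker e.2 t
  let raw : (Mon.proj : Mon c r →* X).ker →* c.ker :=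
    MonoidHom.mk' (fun e => ∏ t, act (r t) ⟨(e : Mon c r).p t, hpk e t⟩) fun e f => by
      rw [← Finset.prod_mul_distrib]
      refine Finset.prod_congr rfl fun t _ => ?_
      rw [← map_mul]
      refine congrArg _ (Subtype.ext ?_)
      have hf : (f : Mon c r).x = 1 := f.2
      show (((e : Mon c r) * f) : Mon c r).p t = (e : Mon c r).p t * (f : Mon c r).p t
      rw [Mon.mul_p, hf, one_smul]
  let pw : c.ker ≃* c.ker := { powCoprime hcop with map_mul' := fun a b => mul_pow a b _ }
  let norm : (Mon.proj : Mon c r →* X).ker →* c.ker := pw.symm.toMonoidHom.comp raw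
  have hnorm : ∀ e z, norm e = z ↔ raw e = z ^ c.range.index := fun e z => MulEquiv.symm_apply_eq pw
  have hconj : ∀ (g : Mon c r) (e : (Mon.proj : Mon c r →* X).ker),
      norm ⟨g * e * g⁻¹, MonoidHom.normal_ker _ |>.conj_mem _ e.2 g⟩ = act g.x (norm e) := by
    intro g e
    rw [hnorm, ← map_pow, ← (hnorm e _).1 rfl]
    show ∏ t, _ = act g.x (∏ t, _)
    rw [map_prod]
    refine (Equiv.prod_comp (MulAction.toPerm g.x) _).symm.trans (Finset.prod_congr rfl fun t _ => ?_)
    have he : (e : Mon c r).x = 1 := e.2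
    show act (r (g.x • t)) _ = act g.x (act (r t) _)
    rw [← MulAut.mul_apply, ← map_mul,
      show g.x * r t = r (g.x • t) * c (g.p t) by rw [g.h]; group, map_mul, MulAut.mul_apply]
    refine congrArg _ (Subtype.ext ?_)
    rw [hact]
    show (g * (e : Mon c r) * g⁻¹).p (g.x • t) = _
    rw [Mon.mul_p, Mon.mul_p, Mon.inv_p, Mon.inv_x, inv_smul_smul, he, one_smul]
  set N : Subgroup (Mon c r) := norm.ker.map (Mon.proj : Mon c r →* X).ker.subtype with hN
  haveI hNn : N.Normal := by
    refine ⟨fun x hx g => ?_⟩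
    obtain ⟨e, he, rfl⟩ := hx
    refine ⟨⟨g * e * g⁻¹, MonoidHom.normal_ker _ |>.conj_mem _ e.2 g⟩, ?_, rfl⟩
    show norm _ = 1
    rw [hconj, show norm e = 1 from he, map_one]
  let π : Mon c r ⧸ N →* X := QuotientGroup.lift N Mon.proj (Subgroup.map_subtype_le _)
  let ι : T →* Mon c r ⧸ N := (QuotientGroup.mk' N).comp θ
  have hπι : ∀ u, π (ι u) = c u := fun u => rfl
  have hzmem : ∀ z : c.ker, θ z ∈ (Mon.proj : Mon c r →* X).ker := fun z => z.2
  have hnz : ∀ z : c.ker, norm ⟨_, hzmem z⟩ = z := by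
    intro z
    rw [hnorm, Subgroup.index, Nat.card_eq_fintype_card, ← Finset.card_univ, ← Finset.prod_const]
    refine Finset.prod_congr rfl fun t _ => ?_
    show act (r t) _ = z
    rw [show (⟨(θ z).p t, hpk ⟨_, hzmem z⟩ t⟩ : c.ker) = act (r t)⁻¹ z from Subtype.ext (hθker z t),
      ← MulAut.mul_apply, ← map_mul, mul_inv_cancel, map_one, MulAut.one_apply]
  have hkerπ : ∀ l, π l = 1 → ∃ z : c.ker, ι z = l := by
    intro l hl
    obtain ⟨g, rfl⟩ := QuotientGroup.mk_surjective l
    refine ⟨norm ⟨g, hl⟩, (QuotientGroup.eq (s := N)).2 ?_⟩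
    refine ⟨⟨_, hzmem (norm ⟨g, hl⟩)⟩⁻¹ * ⟨g, hl⟩, ?_, rfl⟩
    show norm _ = 1
    rw [map_mul, map_inv, hnz, inv_mul_cancel]
  have hιinj : Function.Injective ι := by
    refine (injective_iff_map_eq_one ι).2 fun u hu => ?_
    have hc : u ∈ c.ker := by
      show c u = 1
      rw [← hπι, hu, map_one]
    obtain ⟨e, he, hee⟩ := (QuotientGroup.eq_one_iff _).1 hu
    have : e = ⟨_, hzmem ⟨u, hc⟩⟩ := Subtype.ext hee
    subst this
    exact congrArg Subtype.val ((hnz ⟨u, hc⟩).symm.trans he)
  have hπs : Function.Surjective π := fun x => ⟨((Mon.lift hr x : Mon c r) : Mon c r ⧸ N), Mon.lift_x hr x⟩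
  have hfin : Finite (Mon c r ⧸ N) := by
    haveI : Finite π.ker := Finite.of_surjective
      (fun z : c.ker => (⟨ι z, by rw [MonoidHom.mem_ker, hπι]; exact z.2⟩ : π.ker))
      fun ⟨l, hl⟩ => (hkerπ l hl).imp fun z hz => Subtype.ext hz
    haveI : Finite ((Mon c r ⧸ N) ⧸ π.ker) :=
      Finite.of_equiv X (QuotientGroup.quotientKerEquivOfSurjective _ hπs).toEquiv.symm
    exact Finite.of_equiv _ (Subgroup.groupEquivQuotientProdSubgroup (s := π.ker)).symm
  refine ⟨Mon c r ⧸ N, inferInstance, hfin, ι, π, hιinj, hπs, hπι, ?_, ?_, ?_⟩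
  · refine le_antisymm (fun l hl => ?_) ?_
    · obtain ⟨z, rfl⟩ := hkerπ l hl
      exact ⟨z, z.2, rfl⟩
    · rintro _ ⟨u, hu, rfl⟩
      exact (hπι u).trans hu
  · have hker : π.ker ≤ ι.range := fun l hl => by
      obtain ⟨z, rfl⟩ := hkerπ l hl
      exact ⟨_, rfl⟩
    have h := Subgroup.index_map_eq ι.range hπs hker
    rw [show ι.range.map π = c.range by
      rw [MonoidHom.range_eq_map, Subgroup.map_map, MonoidHom.range_eq_map]
      exact congrArg (fun f : T →* X => Subgroup.map f ⊤) (MonoidHom.ext hπι)] at h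
    exact h.symm
  · intro l z
    have hl : π (l * ι z * l⁻¹) = 1 := by
      rw [map_mul, map_mul, map_inv, hπι, show c (z : T) = 1 from z.2]; simp
    obtain ⟨g, rfl⟩ := QuotientGroup.mk_surjective l
    show (QuotientGroup.mk' N (g * θ z * g⁻¹)) = QuotientGroup.mk' N (θ (act g.x z))
    refine (QuotientGroup.eq (s := N)).2 ?_
    refine ⟨⟨g * θ z * g⁻¹, MonoidHom.normal_ker _ |>.conj_mem _ (hzmem z) g⟩⁻¹ *
      ⟨_, hzmem (act g.x z)⟩, ?_, rfl⟩
    show norm _ = 1
    rw [map_mul, map_inv, hnz, hconj g ⟨_, hzmem z⟩, hnz, inv_mul_cancel]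

end CfsgLib.Fusion.KerMon
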