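import Cfsg.Agent.Lib.FourFree.Basics
import Cfsg.Agent.Lib.Fusion.System.EssentialFourth

/-!
# Automorphisms of a `p`-group acting on a plane quotient

`X` is a group of automorphisms of the finite `p`-group `H` with Sylow subgroup `Q`, `R` an
`X`-invariant subgroup with `H / R` of order `p²` and `C / R` a line fixed by `Q` on which `Q` acts
as a transvection axis.  An element of `X` fixing another line can be modified, without changing its
weights on invariant sections of order `p`, into one normalizing `Q`; and if `C` is not invariant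
then `X` contains an element acting as `-1` on `H / R` and trivially on all such sections.
-/

set_option autoImplicit false
set_option linter.style.haveILetI false
set_option linter.unusedSectionVars false

open Subgroup
open scoped commutatorElement

namespace CfsgLib.Fusion.LineTorus

universe u

variable {H : Type u} [Group H] [Finite H] {p : ℕ} [Fact p.Prime] {X Y Q : Subgroup (MulAut H)}

/-- `U` is invariant under `X`. -/
def Inv (X : Subgroup (MulAut H)) (U : Subgroup H) : Prop := ∀ α ∈ X, ∀ x ∈ U, α x ∈ U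

theorem Inv.mono {U : Subgroup H} (h : Inv X U) (hY : Y ≤ X) : Inv Y U :=
  fun α hα => h α (hY hα)

theorem inv_top : Inv X (⊤ : Subgroup H) := fun _ _ _ _ => mem_top _

theorem inv_bot : Inv X (⊥ : Subgroup H) := fun α _ x hx => by
  rw [mem_bot] at hx ⊢; rw [hx, map_one]

/-- An invariant section of order `p`. -/
structure Sec (p : ℕ) (X : Subgroup (MulAut H)) (U D : Subgroup H) : Prop where
  le : D ≤ U
  normal : D.Normal
  card : Nat.card U = p * Nat.card D
  invU : Inv X U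
  invD : Inv X D

theorem Sec.mono {U D : Subgroup H} (h : Sec p X U D) (hY : Y ≤ X) : Sec p Y U D :=
  ⟨h.le, h.normal, h.card, h.invU.mono hY, h.invD.mono hY⟩

theorem zpow_congr {G : Type*} [Group G] {x : G} (hx : x ^ p = 1) {r s : ℤ} (h : (r : ZMod p) = s) :
    x ^ r = x ^ s := by
  have h1 : (orderOf x : ℤ) ∣ (p : ℤ) := Int.natCast_dvd_natCast.2 (orderOf_dvd_of_pow_eq_one hx)
  exact orderOf_dvd_sub_iff_zpow_eq_zpow.1
    (h1.trans ((ZMod.intCast_eq_intCast_iff_dvd_sub _ _ _).1 h.symm))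

theorem cast_of_zpow_eq {G : Type*} [Group G] {x : G} (hx : x ^ p = 1) (h1 : x ≠ 1) {r s : ℤ}
    (h : x ^ r = x ^ s) : (r : ZMod p) = s := by
  have h2 := orderOf_dvd_sub_iff_zpow_eq_zpow.2 h
  rw [orderOf_eq_prime hx h1] at h2
  exact ((ZMod.intCast_eq_intCast_iff_dvd_sub _ _ _).2 h2).symm

theorem apply_congr {R : Subgroup H} [R.Normal] (hR : Inv X R) {α : MulAut H} (hα : α ∈ X) {y z : H}
    (h : (y : H ⧸ R) = z) : ((α y : H) : H ⧸ R) = (α z : H) := by
  rw [QuotientGroup.eq] at h ⊢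
  rw [← map_inv, ← map_mul]
  exact hR α hα _ h

theorem exists_gen {U D : Subgroup H} [D.Normal] (hDU : D ≤ U) (hc : Nat.card U = p * Nat.card D) :
    ∃ x₀ ∈ U, x₀ ∉ D ∧ (x₀ : H ⧸ D) ^ p = 1 ∧
      ∀ y ∈ U, ∃ j : ℤ, (y : H ⧸ D) = (x₀ : H ⧸ D) ^ j := by
  have hp := (Fact.out : p.Prime)
  set D' := D.subgroupOf U
  have hq : Nat.card (U ⧸ D') = p := by
    have e := D'.card_eq_card_quotient_mul_card_subgroup
    rw [Nat.card_congr (subgroupOfEquivOfLe hDU).toEquiv, hc] at e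
    exact (Nat.eq_of_mul_eq_mul_right Nat.card_pos e).symm
  obtain ⟨x₀, hx₀, hxD⟩ : ∃ x₀ ∈ U, x₀ ∉ D := by
    by_contra h
    push Not at h
    have h1 := Subgroup.card_le_of_le (show U ≤ D from h)
    rw [hc] at h1
    have := hp.two_le
    have : 0 < Nat.card D := Nat.card_pos
    nlinarith
  refine ⟨x₀, hx₀, hxD, ?_, fun y hy => ?_⟩
  · have h1 := pow_card_eq_one' (x := QuotientGroup.mk' D' ⟨x₀, hx₀⟩)
    rw [hq, ← map_pow, QuotientGroup.mk'_apply, QuotientGroup.eq_one_iff, mem_subgroupOf] at h1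
    rw [← QuotientGroup.mk_pow, QuotientGroup.eq_one_iff]
    exact h1
  · obtain ⟨j, hj⟩ := mem_zpowers_iff.1 (mem_zpowers_of_prime_card hq
      (g := QuotientGroup.mk' D' ⟨x₀, hx₀⟩)
      (fun e => hxD (mem_subgroupOf.1 ((QuotientGroup.eq_one_iff _).1 e)))
      (g' := QuotientGroup.mk' D' ⟨y, hy⟩))
    rw [← map_zpow, QuotientGroup.mk'_apply, QuotientGroup.mk'_apply, QuotientGroup.eq,
      mem_subgroupOf] at hj
    refine ⟨j, ?_⟩
    rw [← QuotientGroup.mk_zpow]
    exact (QuotientGroup.eq.2 hj).symm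

/-- The weight of an automorphism on an invariant section of order `p`. -/
theorem exists_wt {U D : Subgroup H} (h : Sec p X U D) {α : MulAut H} (hα : α ∈ X) :
    ∃ r : ℤ, ∀ x ∈ U, haveI := h.normal; ((α x : H) : H ⧸ D) = (x : H ⧸ D) ^ r := by
  haveI := h.normal
  obtain ⟨x₀, hx₀, -, -, hgen⟩ := exists_gen h.le h.card
  obtain ⟨r, hr⟩ := hgen _ (h.invU α hα x₀ hx₀)
  refine ⟨r, fun x hx => ?_⟩
  obtain ⟨j, hj⟩ := hgen x hx
  rw [apply_congr h.invD hα (z := x₀ ^ j) (by rw [QuotientGroup.mk_zpow, hj]), map_zpow,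
    QuotientGroup.mk_zpow, hr, hj, ← zpow_mul, ← zpow_mul, mul_comm]

theorem pow_apply_wt {U D : Subgroup H} (h : Sec p X U D) {α : MulAut H} (hα : α ∈ X) {r : ℤ}
    (hr : ∀ x ∈ U, haveI := h.normal; ((α x : H) : H ⧸ D) = (x : H ⧸ D) ^ r) (j : ℕ) :
    ∀ x ∈ U, haveI := h.normal; (((α ^ j) x : H) : H ⧸ D) = (x : H ⧸ D) ^ (r ^ j) := by
  haveI := h.normal
  induction j with
  | zero => intro x _; simp
  | succ j ih =>
    intro x hx
    rw [pow_succ', MulAut.mul_apply, hr _ (h.invU _ (pow_mem hα j) x hx), ih x hx, ← zpow_mul,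
      ← pow_succ]

/-- A `p`-element of `X` fixes every invariant section of order `p`. -/
theorem pow_fix {U D : Subgroup H} (h : Sec p X U D) {α : MulAut H} (hα : α ∈ X) {k : ℕ}
    (hk : α ^ p ^ k = 1) : ∀ x ∈ U, x⁻¹ * α x ∈ D := by
  haveI := h.normal
  obtain ⟨x₀, hx₀, hxD, hxp, hgen⟩ := exists_gen h.le h.card
  obtain ⟨r, hr⟩ := exists_wt h hα
  have h1 := pow_apply_wt h hα hr (p ^ k) x₀ hx₀
  rw [hk, MulAut.one_apply] at h1
  have h2 := cast_of_zpow_eq (p := p) hxp (fun e => hxD ((QuotientGroup.eq_one_iff _).1 e))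
    (r := 1) (s := r ^ p ^ k) (by rw [zpow_one]; exact h1)
  rw [Int.cast_one, Int.cast_pow] at h2
  have hr1 : (r : ZMod p) = 1 := by
    rw [h2, ZMod.pow_card_pow]
  intro x hx
  obtain ⟨j, hj⟩ := hgen x hx
  rw [← QuotientGroup.eq, hr x hx, hj, ← zpow_mul]
  exact zpow_congr hxp (by push_cast; rw [hr1, mul_one])

/-- Commutators of `X` fix every invariant section of order `p`. -/
theorem comm_fix {U D : Subgroup H} (h : Sec p X U D) {α β : MulAut H} (hα : α ∈ X) (hβ : β ∈ X) :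
    ∀ x ∈ U, x⁻¹ * ⁅α, β⁆ x ∈ D := by
  haveI := h.normal
  intro x hx
  obtain ⟨r, hr⟩ := exists_wt h hα
  obtain ⟨s, hs⟩ := exists_wt h hβ
  set z := (β * α)⁻¹ x with hz
  have hzU : z ∈ U := h.invU _ (inv_mem (mul_mem hβ hα)) x hx
  have hxz : β (α z) = x := by rw [← MulAut.mul_apply, hz, MulAut.apply_inv_self]
  have e : ⁅α, β⁆ x = α (β z) := by
    rw [hz, commutatorElement_def, mul_inv_rev]
    simp [MulAut.mul_apply]
  rw [← QuotientGroup.eq, e, hr _ (h.invU β hβ z hzU), hs z hzU, ← hxz,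
    hs _ (h.invU α hα z hzU), hr z hzU, ← zpow_mul, ← zpow_mul, mul_comm]

/-- The subgroup generated by the `p`-elements of `X`. -/
def pGen (p : ℕ) (X : Subgroup (MulAut H)) : Subgroup (MulAut H) :=
  Subgroup.closure {α | α ∈ X ∧ ∃ k : ℕ, α ^ p ^ k = 1}

theorem pGen_le : pGen p X ≤ X := (closure_le _).2 fun _ hα => hα.1

theorem le_pGen (hQX : Q ≤ X) (hQp : IsPGroup p Q) : Q ≤ pGen p X := fun α hα => by
  obtain ⟨k, hk⟩ := hQp ⟨α, hα⟩
  exact subset_closure ⟨hQX hα, k, congrArg Subtype.val hk⟩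

theorem pGen_conj {g : MulAut H} (hg : g ∈ X) {α : MulAut H} (hα : α ∈ pGen p X) :
    g * α * g⁻¹ ∈ pGen p X := by
  have h : pGen p X ≤ (pGen p X).comap (MulAut.conj g).toMonoidHom := by
    refine (closure_le _).2 fun a ⟨ha, k, hk⟩ => ?_
    refine subset_closure ⟨mul_mem (mul_mem hg ha) (inv_mem hg), k, ?_⟩
    show (g * a * g⁻¹) ^ p ^ k = 1
    rw [conj_pow, hk, mul_one, mul_inv_cancel]
  exact h hα

/-- The products of `p`-elements fix every invariant section of order `p`. -/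
theorem pGen_fix {U D : Subgroup H} (h : Sec p X U D) {α : MulAut H} (hα : α ∈ pGen p X) :
    ∀ x ∈ U, x⁻¹ * α x ∈ D := by
  haveI := h.normal
  let Fix : Subgroup (MulAut H) :=
    { carrier := {a | a ∈ X ∧ ∀ x ∈ U, ((a x : H) : H ⧸ D) = x}
      one_mem' := ⟨one_mem X, fun x _ => rfl⟩
      mul_mem' := fun {a b} ha hb => ⟨mul_mem ha.1 hb.1, fun x hx => by
        rw [MulAut.mul_apply, ha.2 _ (h.invU b hb.1 x hx), hb.2 x hx]⟩
      inv_mem' := fun {a} ha => ⟨inv_mem ha.1, fun x hx => by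
        have h1 := ha.2 _ (h.invU _ (inv_mem ha.1) x hx)
        rw [MulAut.apply_inv_self] at h1
        exact h1.symm⟩ }
  have hle : pGen p X ≤ Fix := (closure_le _).2 fun a ⟨ha, k, hk⟩ =>
    ⟨ha, fun x hx => (QuotientGroup.eq.2 (pow_fix h ha hk x hx)).symm⟩
  intro x hx
  exact QuotientGroup.eq.1 ((hle hα).2 x hx).symm

/-- An automorphism of `X` trivial on the factors of an invariant series is inner. -/
theorem stab_inner (hH : IsPGroup p H) (hcore : Cfsg.pCore p X = (Cfsg.Inn H).subgroupOf X)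
    (C : ℕ → Subgroup H) (k : ℕ) (h0 : C 0 = ⊤) (hk : C k = ⊥) (hinv : ∀ i, Inv X (C i))
    {σ : MulAut H} (hσ : σ ∈ X) (htriv : ∀ i < k, ∀ x ∈ C i, x⁻¹ * σ x ∈ C (i + 1)) :
    σ ∈ Cfsg.Inn H := by
  let K : Subgroup X :=
    { carrier := {a | ∀ i < k, ∀ x ∈ C i, x⁻¹ * (a : MulAut H) x ∈ C (i + 1)}
      one_mem' := fun i _ x _ => by simp
      mul_mem' := fun {a b} ha hb i hi x hx => by
        have h1 := ha i hi _ (hinv i b b.2 x hx)
        have h2 := mul_mem (hb i hi x hx) h1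
        rw [Subgroup.coe_mul, MulAut.mul_apply]
        simpa [mul_assoc] using h2
      inv_mem' := fun {a} ha i hi x hx => by
        have h1 := inv_mem (ha i hi _ (hinv i (a : MulAut H)⁻¹ (inv_mem a.2) x hx))
        rw [MulAut.apply_inv_self] at h1
        simpa [mul_assoc] using h1 }
  haveI hKn : K.Normal := ⟨fun a ha b i hi x hx => by
    have h1 := hinv (i + 1) b b.2 _ (ha i hi _ (hinv i (b : MulAut H)⁻¹ (inv_mem b.2) x hx))
    simp only [map_mul, map_inv, MulAut.apply_inv_self] at h1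
    simpa [MulAut.mul_apply] using h1⟩
  have hKp : IsPGroup p K := by
    intro a
    have key : ∀ j, j ≤ k → ∃ n, ∀ x ∈ C (k - j), (((a : X) : MulAut H) ^ p ^ n) x = x := by
      intro j
      induction j with
      | zero =>
        intro _
        exact ⟨0, fun x hx => by rw [Nat.sub_zero, hk, mem_bot] at hx; simp [hx]⟩
      | succ j ih =>
        intro hj
        obtain ⟨n, hn⟩ := ih (by omega)
        obtain ⟨m, hm⟩ := (hH.to_subgroup (C (k - j))).exists_card_eq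
        refine ⟨n + m, fun x hx => ?_⟩
        set τ := ((a : X) : MulAut H) ^ p ^ n with hτ
        have hc : x⁻¹ * τ x ∈ C (k - j) := by
          have := pow_mem a.2 (p ^ n) (k - (j + 1)) (by omega) x hx
          rwa [show k - (j + 1) + 1 = k - j by omega] at this
        have hpow : ∀ e : ℕ, (τ ^ e) x = x * (x⁻¹ * τ x) ^ e := by
          intro e
          induction e with
          | zero => simp
          | succ e ih2 =>
            rw [pow_succ', MulAut.mul_apply, ih2, map_mul, map_pow, hn _ hc, pow_succ', ← mul_assoc,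
              mul_inv_cancel_left]
        have h1 : (x⁻¹ * τ x) ^ p ^ m = 1 := by
          have h := pow_card_eq_one' (x := (⟨_, hc⟩ : C (k - j)))
          rw [hm] at h
          exact congrArg Subtype.val h
        rw [pow_add, pow_mul, ← hτ, hpow, h1, mul_one]
    obtain ⟨n, hn⟩ := key k le_rfl
    rw [Nat.sub_self, h0] at hn
    exact ⟨n, Subtype.ext (Subtype.ext (MulEquiv.ext fun x => hn x (mem_top x)))⟩
  have hKI : K ≤ (Cfsg.Inn H).subgroupOf X := hcore ▸ CfsgLib.Coprime.le_pCore hKp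
  exact mem_subgroupOf.1 (hKI (show (⟨σ, hσ⟩ : X) ∈ K from htriv))

/-! ### A plane with a fixed line -/

/-- A plane quotient `H / R` with a line `C / R` fixed by a Sylow subgroup `Q` of `X`. -/
structure Plane (p : ℕ) (X Q : Subgroup (MulAut H)) (R C : Subgroup H) : Prop where
  qle : Q ≤ X
  isP : IsPGroup p Q
  sylow : ¬ p ∣ Q.relIndex X
  normal : R.Normal
  comm : ∀ x y : H, ⁅x, y⁆ ∈ R
  invR : Inv X R
  le : R ≤ C
  cardC : Nat.card C = p * Nat.card R
  cardH : Nat.card H = p * Nat.card C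
  invC : Inv Q C
  moves : ∃ u ∈ Q, ∃ x, x⁻¹ * u x ∉ R

variable {R C L : Subgroup H}

theorem normal_of_comm (hc : ∀ x y : H, ⁅x, y⁆ ∈ R) (hle : R ≤ C) : C.Normal := ⟨fun n hn g => by
  have h := mul_mem (hle (hc g n)) hn
  rwa [commutatorElement_def, inv_mul_cancel_right] at h⟩

theorem card_top' : Nat.card (⊤ : Subgroup H) = Nat.card H := Subgroup.card_top

theorem Plane.secQ (h : Plane p X Q R C) : Sec p Q ⊤ C ∧ Sec p Q C R :=
  ⟨⟨le_top, normal_of_comm h.comm h.le, card_top'.trans h.cardH, inv_top, h.invC⟩,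
    ⟨h.le, h.normal, h.cardC, h.invC, h.invR.mono h.qle⟩⟩

theorem Plane.pow_mem (h : Plane p X Q R C) (hRL : R ≤ L) (hL : Nat.card L = Nat.card C) {x : H}
    (hx : x ∈ L) : x ^ p ∈ R := by
  haveI := h.normal
  obtain ⟨x₀, -, -, hp0, hgen⟩ := exists_gen (p := p) hRL (hL.trans h.cardC)
  obtain ⟨j, hj⟩ := hgen x hx
  rw [← QuotientGroup.eq_one_iff (N := R), QuotientGroup.mk_pow, hj, ← zpow_natCast, ← zpow_mul,
    mul_comm, zpow_mul, zpow_natCast, hp0, one_zpow]

/-- Coordinates on `H / R` from two lines. -/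
theorem Plane.coords (h : Plane p X Q R C) (hRL : R ≤ L) (hL : Nat.card L = Nat.card C)
    (hne : L ≠ C) {l c : H} (hl : l ∈ L) (hlR : l ∉ R) (hc : c ∈ C) (hcR : c ∉ R) :
    haveI := h.normal
    (∀ x : H, ∃ A B : ℤ, (x : H ⧸ R) = (l : H ⧸ R) ^ A * (c : H ⧸ R) ^ B) ∧
      (l : H ⧸ R) ^ p = 1 ∧ (c : H ⧸ R) ^ p = 1 ∧ Commute (l : H ⧸ R) (c : H ⧸ R) ∧
      (∀ x ∈ L, ∃ A : ℤ, (x : H ⧸ R) = (l : H ⧸ R) ^ A) ∧
      (∀ x ∈ C, ∃ B : ℤ, (x : H ⧸ R) = (c : H ⧸ R) ^ B) ∧
      (∀ A B : ℤ, ∀ x : H, (x : H ⧸ R) = (l : H ⧸ R) ^ A * (c : H ⧸ R) ^ B →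
        (x ∈ C ↔ (A : ZMod p) = 0) ∧ (x ∈ L ↔ (B : ZMod p) = 0)) := by
  haveI := h.normal
  have hp := (Fact.out : p.Prime)
  have key : ∀ {U : Subgroup H}, R ≤ U → Nat.card U = Nat.card C → ∀ {v : H}, v ∈ U → v ∉ R →
      ∀ x ∈ U, ∃ A : ℤ, (x : H ⧸ R) = (v : H ⧸ R) ^ A := by
    intro U hRU hU v hv hvR x hx
    obtain ⟨x₀, -, -, hp0, hgen⟩ := exists_gen (p := p) hRU (hU.trans h.cardC)
    obtain ⟨i, hi⟩ := hgen v hv
    obtain ⟨j, hj⟩ := hgen x hx
    have hi0 : (i : ZMod p) ≠ 0 := fun e => hvR ((QuotientGroup.eq_one_iff _).1 (by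
      rw [hi, zpow_congr hp0 (s := 0) (by simpa using e), zpow_zero]))
    refine ⟨j * (((i : ZMod p)⁻¹).val : ℤ), ?_⟩
    rw [hi, ← zpow_mul, hj]
    refine zpow_congr hp0 ?_
    push_cast
    rw [ZMod.natCast_zmod_val]
    field_simp
  have hlp : (l : H ⧸ R) ^ p = 1 := by
    rw [← QuotientGroup.mk_pow, QuotientGroup.eq_one_iff]; exact h.pow_mem hRL hL hl
  have hcp : (c : H ⧸ R) ^ p = 1 := by
    rw [← QuotientGroup.mk_pow, QuotientGroup.eq_one_iff]; exact h.pow_mem h.le rfl hc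
  have hcomm : Commute (l : H ⧸ R) (c : H ⧸ R) := by
    refine commutatorElement_eq_one_iff_commute.1 ?_
    rw [← QuotientGroup.mk'_apply, ← QuotientGroup.mk'_apply, ← map_commutatorElement,
      QuotientGroup.mk'_apply, QuotientGroup.eq_one_iff]
    exact h.comm l c
  haveI hCn := normal_of_comm h.comm h.le
  have hnot : ¬ L ≤ C := fun hle => hne (eq_of_le_of_card_ge hle hL.ge)
  have htop : L ⊔ C = ⊤ := by
    refine eq_of_le_of_card_ge le_top ?_
    have hlt : C < L ⊔ C := lt_of_le_of_ne le_sup_right fun e => hnot (e ▸ le_sup_left)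
    have h1 := Subgroup.card_dvd_of_le hlt.le
    obtain ⟨e, he⟩ := h1
    have h2 : Nat.card (L ⊔ C : Subgroup H) ∣ p * Nat.card C := h.cardH ▸ card_subgroup_dvd_card _
    rw [card_top', h.cardH, he, mul_comm p]
    rw [he, mul_comm p] at h2
    rcases (Nat.dvd_prime hp).1 (Nat.dvd_of_mul_dvd_mul_left Nat.card_pos h2) with e1 | e1
    · rw [e1, mul_one] at he
      exact absurd (eq_of_le_of_card_ge hlt.le he.le) hlt.ne
    · rw [e1]
  have hLC : ∀ x ∈ L, x ∈ C → x ∈ R := by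
    intro x hxL hxC
    by_contra hxR
    refine hnot fun y hy => ?_
    obtain ⟨A, hA⟩ := key hRL hL hxL hxR y hy
    rw [← QuotientGroup.mk_zpow, QuotientGroup.eq] at hA
    have h1 := mul_mem (zpow_mem hxC A) (inv_mem (h.le hA))
    simpa [mul_assoc] using h1
  refine ⟨fun x => ?_, hlp, hcp, hcomm, key hRL hL hl hlR, key h.le rfl hc hcR, ?_⟩
  · obtain ⟨y, hy, z, hz, rfl⟩ := mem_sup_of_normal_right.1 (htop.ge (mem_top x))
    obtain ⟨A, hA⟩ := key hRL hL hl hlR y hy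
    obtain ⟨B, hB⟩ := key h.le rfl hc hcR z hz
    exact ⟨A, B, by rw [QuotientGroup.mk_mul, hA, hB]⟩
  · intro A B x hx
    have h0 : ∀ {v : H} {k : ℤ}, v ∉ R → (v : H ⧸ R) ^ p = 1 → v ^ k ∈ R → (k : ZMod p) = 0 :=
      fun {v k} hv hvp hk => by
        simpa using cast_of_zpow_eq (p := p) hvp (fun e => hv ((QuotientGroup.eq_one_iff _).1 e))
          (r := k) (s := 0) (by rw [zpow_zero, ← QuotientGroup.mk_zpow, QuotientGroup.eq_one_iff]; exact hk)
    rw [← QuotientGroup.mk_zpow, ← QuotientGroup.mk_zpow, ← QuotientGroup.mk_mul] at hx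
    have hmem : ∀ {U : Subgroup H}, R ≤ U → (x ∈ U ↔ l ^ A * c ^ B ∈ U) := fun {U} hU => by
      have h1 := QuotientGroup.eq.1 hx
      constructor
      · intro hxU; simpa using mul_mem hxU (hU h1)
      · intro hm; simpa [mul_assoc] using mul_mem hm (inv_mem (hU h1))
    constructor
    · rw [hmem h.le, Subgroup.mul_mem_cancel_right _ (zpow_mem hc B)]
      refine ⟨fun hm => h0 hlR hlp (hLC _ (zpow_mem hl A) hm), fun hA => h.le ?_⟩
      rw [← QuotientGroup.eq_one_iff, QuotientGroup.mk_zpow,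
        zpow_congr hlp (s := 0) (by simpa using hA), zpow_zero]
    · rw [hmem hRL, Subgroup.mul_mem_cancel_left _ (zpow_mem hl A)]
      refine ⟨fun hm => h0 hcR hcp (hLC _ hm (zpow_mem hc B)), fun hB => hRL ?_⟩
      rw [← QuotientGroup.eq_one_iff, QuotientGroup.mk_zpow,
        zpow_congr hcp (s := 0) (by simpa using hB), zpow_zero]

theorem apply_coords (hR : Inv X R) [R.Normal] {α : MulAut H} (hα : α ∈ X) {x l c : H} {A B : ℤ}
    (hx : (x : H ⧸ R) = (l : H ⧸ R) ^ A * (c : H ⧸ R) ^ B) :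
    ((α x : H) : H ⧸ R) = ((α l : H) : H ⧸ R) ^ A * ((α c : H) : H ⧸ R) ^ B := by
  rw [apply_congr hR hα (z := l ^ A * c ^ B) (by rw [hx]; rfl), map_mul, map_zpow, map_zpow]
  rfl

theorem zpow_apply_of_step (hR : Inv X R) [R.Normal] {α : MulAut H} (hα : α ∈ X) {x c : H}
    (hc : ((α c : H) : H ⧸ R) = c) {e : ℤ}
    (hx : ((α x : H) : H ⧸ R) = (x : H ⧸ R) * (c : H ⧸ R) ^ e) (i : ℤ) :
    (((α ^ i) x : H) : H ⧸ R) = (x : H ⧸ R) * (c : H ⧸ R) ^ (i * e) ∧
      (((α ^ i) c : H) : H ⧸ R) = c := by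
  induction i using Int.induction_on with
  | zero => simp
  | succ i ih =>
    rw [zpow_add_one]
    constructor
    · rw [MulAut.mul_apply, apply_congr hR (zpow_mem hα i) (z := x * c ^ e) (by rw [hx]; rfl),
        map_mul, map_zpow, QuotientGroup.mk_mul, QuotientGroup.mk_zpow, ih.1, ih.2, mul_assoc,
        ← zpow_add]
      congr 2; ring
    · rw [MulAut.mul_apply, apply_congr hR (zpow_mem hα i) (z := c) hc, ih.2]
  | pred i ih =>
    have hic : ((α⁻¹ c : H) : H ⧸ R) = c := by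
      have h1 := apply_congr hR (inv_mem hα) (y := α c) (z := c) hc
      rw [MulAut.inv_apply_self] at h1
      exact h1.symm
    have hix : ((α⁻¹ x : H) : H ⧸ R) = (x : H ⧸ R) * (c : H ⧸ R) ^ (-e) := by
      have h1 := apply_congr hR (inv_mem hα) (y := α x) (z := x * c ^ e) (by rw [hx]; rfl)
      rw [MulAut.inv_apply_self, map_mul, map_zpow, QuotientGroup.mk_mul, QuotientGroup.mk_zpow,
        hic] at h1
      rw [h1, mul_assoc, ← zpow_add, add_neg_cancel, zpow_zero, mul_one]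
    rw [zpow_sub_one]
    constructor
    · rw [MulAut.mul_apply, apply_congr hR (zpow_mem hα _) (z := x * c ^ (-e)) (by rw [hix]; rfl),
        map_mul, map_zpow, QuotientGroup.mk_mul, QuotientGroup.mk_zpow, ih.1, ih.2, mul_assoc,
        ← zpow_add]
      congr 2; ring
    · rw [MulAut.mul_apply, apply_congr hR (zpow_mem hα _) (z := c) hic, ih.2]

/-- The generator of the transvections. -/
theorem Plane.exists_u (h : Plane p X Q R C) :
    ∃ u ∈ Q, (∀ l : H, l⁻¹ * u l ∈ C) ∧ (∀ c ∈ C, c⁻¹ * u c ∈ R) ∧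
      ∀ L : Subgroup H, R ≤ L → Nat.card L = Nat.card C → L ≠ C → ∀ l ∈ L, l ∉ R →
        l⁻¹ * u l ∉ R := by
  haveI := h.normal
  obtain ⟨u, hu, x, hx⟩ := h.moves
  obtain ⟨k, hk⟩ := h.isP ⟨u, hu⟩
  have hk' : u ^ p ^ k = 1 := congrArg Subtype.val hk
  have h1 : ∀ l : H, l⁻¹ * u l ∈ C := fun l => pow_fix h.secQ.1 hu hk' l (mem_top l)
  have h2 : ∀ c ∈ C, c⁻¹ * u c ∈ R := pow_fix h.secQ.2 hu hk'
  refine ⟨u, hu, h1, h2, fun L hRL hL hne l hl hlR hfix => hx ?_⟩
  obtain ⟨c, hc, hcR, -, -⟩ := exists_gen (p := p) h.le h.cardC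
  obtain ⟨hco, -⟩ := h.coords hRL hL hne hl hlR hc hcR
  obtain ⟨A, B, hAB⟩ := hco x
  rw [← QuotientGroup.eq, apply_coords h.invR (h.qle hu) hAB, hAB,
    ← QuotientGroup.eq.2 hfix, ← QuotientGroup.eq.2 (h2 c hc)]

/-- An automorphism with its conjugate transvection. -/
theorem Plane.conj_step (h : Plane p X Q R C) {k : MulAut H} (hk : k ∈ X) {u : MulAut H}
    (hu : u ∈ Q) (hu1 : ∀ l : H, l⁻¹ * u l ∈ C) (hu2 : ∀ c ∈ C, c⁻¹ * u c ∈ R)
    (hRL : R ≤ L) (hkC : C.map k.toMonoidHom = L) :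
    (∀ x : H, x⁻¹ * (k * u * k⁻¹) x ∈ L) ∧ ∀ x ∈ L, x⁻¹ * (k * u * k⁻¹) x ∈ R := by
  constructor
  · intro x
    rw [← hkC]
    refine ⟨(k⁻¹ x)⁻¹ * u (k⁻¹ x), hu1 _, ?_⟩
    simp [MulAut.mul_apply, map_mul, map_inv]
  · intro x hx
    rw [← hkC] at hx
    obtain ⟨y, hy, rfl⟩ := hx
    have h1 := h.invR k hk _ (hu2 y hy)
    simpa [MulAut.mul_apply, map_mul, map_inv] using h1

theorem card_map_eq (k : MulAut H) (C : Subgroup H) :
    Nat.card (C.map k.toMonoidHom) = Nat.card C :=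
  card_map_of_injective (K := C) (f := k.toMonoidHom) k.injective

/-- The stabilizer of a subgroup. -/
def setStab (C : Subgroup H) : Subgroup (MulAut H) where
  carrier := {α | ∀ x ∈ C, α x ∈ C}
  one_mem' := fun x hx => hx
  mul_mem' := fun {a b} ha hb x hx => by rw [MulAut.mul_apply]; exact ha _ (hb x hx)
  inv_mem' := fun {a} ha x hx => by
    have hC : C.map a.toMonoidHom = C := eq_of_le_of_card_ge
      (by rintro _ ⟨y, hy, rfl⟩; exact ha y hy) (card_map_eq a C).ge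
    obtain ⟨y, hy, rfl⟩ := hC.ge hx
    simpa using hy

/-- An element fixing a line `L ≠ C` has a modification normalizing `Q` with the same weights. -/
theorem Plane.adjust (h : Plane p X Q R C) (hRL : R ≤ L) (hL : Nat.card L = Nat.card C)
    (hne : L ≠ C) {t : MulAut H} (ht : t ∈ X) (htL : ∀ x ∈ L, t x ∈ L) :
    ∃ n ∈ X, n ∈ normalizer (Q : Set (MulAut H)) ∧ (∀ x ∈ C, n x ∈ C) ∧
      (∀ x ∈ L, (t x)⁻¹ * n x ∈ C) ∧
      ∀ U D : Subgroup H, Sec p X U D → ∀ x ∈ U, (t x)⁻¹ * n x ∈ D := by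
  haveI := h.normal
  obtain ⟨u, hu, hu1, hu2, hu3⟩ := h.exists_u
  have huX := h.qle hu
  obtain ⟨l, hl, hlR, -, -⟩ := exists_gen (p := p) hRL (hL.trans h.cardC)
  set c := l⁻¹ * u l with hc
  have hcC : c ∈ C := hu1 l
  have hcR : c ∉ R := hu3 L hRL hL hne l hl hlR
  obtain ⟨hco, hlp, hcp, hcl, hLco, hCco, hmem⟩ := h.coords hRL hL hne hl hlR hcC hcR
  have hul : ((u l : H) : H ⧸ R) = (l : H ⧸ R) * (c : H ⧸ R) ^ (1 : ℤ) := by
    rw [zpow_one, hc, ← QuotientGroup.mk_mul, mul_inv_cancel_left]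
  have huc : ((u c : H) : H ⧸ R) = (c : H ⧸ R) := (QuotientGroup.eq.2 (hu2 c hcC)).symm
  -- a correction fixing `L` pointwise modulo `R`
  obtain ⟨θ, hθg, hθL, hθC⟩ : ∃ θ : MulAut H, θ ∈ pGen p X ∧
      (∀ x ∈ L, x⁻¹ * θ x ∈ R) ∧ ∀ x ∈ C, θ (t x) ∈ C := by
    by_cases htC : t c ∈ C
    · refine ⟨1, one_mem _, fun x _ => by simp, fun x hx => ?_⟩
      obtain ⟨B, hB⟩ := hCco x hx
      have e := apply_congr h.invR ht (y := x) (z := c ^ B) (by rw [hB]; rfl)
      rw [map_zpow, QuotientGroup.eq] at e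
      rw [MulAut.one_apply]
      have := mul_mem (zpow_mem htC B) (inv_mem (h.le e))
      simpa [mul_assoc] using this
    obtain ⟨A, B, hAB⟩ := hco (t c)
    have hA : (A : ZMod p) ≠ 0 := fun e => htC ((hmem A B _ hAB).1.2 e)
    have hB : (B : ZMod p) ≠ 0 := fun e => by
      have hm := (hmem A B _ hAB).2.2 e
      have hLt : L.map t.toMonoidHom = L := eq_of_le_of_card_ge
        (by rintro _ ⟨y, hy, rfl⟩; exact htL y hy) (card_map_eq t L).ge
      obtain ⟨y, hy, hyc⟩ := hLt.ge hm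
      have : y = c := t.injective hyc
      refine hcR ?_
      have h1 := (hmem 0 1 c (by simp)).2.1 (this ▸ hy)
      simp at h1
    obtain ⟨j, hj⟩ : ∃ j : ℤ, (B : ZMod p) + j * A = 0 :=
      ⟨((-(B : ZMod p) / A).val : ℤ), by
        push_cast; rw [ZMod.natCast_zmod_val]; field_simp; ring⟩
    set k := u ^ j * t with hk
    have hkX : k ∈ X := mul_mem (zpow_mem huX j) ht
    have hkc : k c ∈ L := by
      have e : ((k c : H) : H ⧸ R) = (l : H ⧸ R) ^ A * (c : H ⧸ R) ^ (j * A + B) := by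
        rw [hk, MulAut.mul_apply, apply_coords h.invR (zpow_mem huX j) hAB,
          (zpow_apply_of_step h.invR huX huc hul j).1, (zpow_apply_of_step h.invR huX huc hul j).2,
          mul_one, (hcl.zpow_right j).mul_zpow, mul_assoc, ← zpow_mul, ← zpow_add]
      exact (hmem _ _ _ e).2.2 (by push_cast; linear_combination hj)
    have hkC : C.map k.toMonoidHom = L := by
      refine eq_of_le_of_card_ge ?_ (by rw [card_map_eq, hL])
      rintro _ ⟨x, hx, rfl⟩
      obtain ⟨B', hB'⟩ := hCco x hx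
      have e := apply_congr h.invR hkX (y := x) (z := c ^ B') (by rw [hB']; rfl)
      rw [map_zpow, QuotientGroup.eq] at e
      have := mul_mem (zpow_mem hkc B') (inv_mem (hRL e))
      simpa [mul_assoc] using this
    obtain ⟨hv1, hv2⟩ := h.conj_step hkX hu hu1 hu2 hRL hkC
    set v := k * u * k⁻¹ with hv
    have hvX : v ∈ X := mul_mem (mul_mem hkX huX) (inv_mem hkX)
    have hvl : ((v l : H) : H ⧸ R) = (l : H ⧸ R) := (QuotientGroup.eq.2 (hv2 l hl)).symm
    obtain ⟨e, he⟩ := hLco _ (hv1 c)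
    have hvc : ((v c : H) : H ⧸ R) = (c : H ⧸ R) * (l : H ⧸ R) ^ e := by
      rw [← he, ← QuotientGroup.mk_mul, mul_inv_cancel_left]
    have he0 : (e : ZMod p) ≠ 0 := by
      intro e0
      have hvc' : ((v c : H) : H ⧸ R) = (c : H ⧸ R) := by
        rw [hvc, zpow_congr hlp (s := 0) (by simpa using e0), zpow_zero, mul_one]
      -- then `u` would be trivial on the quotient
      refine hcR ?_
      obtain ⟨A', B', hAB'⟩ := hco (k l)
      have h1 : ((v (k l) : H) : H ⧸ R) = (k l : H) := by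
        rw [apply_coords h.invR hvX hAB', hvl, hvc', hAB']
      have h2 := apply_congr h.invR (inv_mem hkX) h1
      rw [hv, MulAut.mul_apply, MulAut.mul_apply, MulAut.inv_apply_self, MulAut.inv_apply_self,
        QuotientGroup.eq] at h2
      rw [hc]; simpa [mul_assoc] using inv_mem h2
    obtain ⟨i, hi⟩ : ∃ i : ℤ, (A : ZMod p) + i * e * B = 0 :=
      ⟨((-(A : ZMod p) / (e * B)).val : ℤ), by
        push_cast; rw [ZMod.natCast_zmod_val]; field_simp; ring⟩
    have hvi := zpow_apply_of_step h.invR hvX hvl hvc i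
    obtain ⟨kk, hkk⟩ := h.isP ⟨u, hu⟩
    refine ⟨v ^ i, zpow_mem (pGen_conj hkX (le_pGen h.qle h.isP hu)) i, fun x hx => ?_, ?_⟩
    · obtain ⟨A', hA'⟩ := hLco x hx
      rw [← QuotientGroup.eq, apply_congr h.invR (zpow_mem hvX i) (z := l ^ A') (by rw [hA']; rfl),
        map_zpow, QuotientGroup.mk_zpow, hvi.2, hA']
    · have hcC' : (v ^ i) (t c) ∈ C := by
        have e' : (((v ^ i) (t c) : H) : H ⧸ R) =
            (l : H ⧸ R) ^ (A + i * e * B) * (c : H ⧸ R) ^ B := by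
          rw [apply_coords h.invR (zpow_mem hvX i) hAB, hvi.1, hvi.2,
            ((hcl.symm).zpow_right (i * e)).mul_zpow, ← zpow_mul, zpow_add, mul_assoc,
            ((hcl.zpow_zpow _ B).symm).eq]
          simp only [mul_assoc]
        exact (hmem _ _ _ e').1.2 (by push_cast; exact hi)
      intro x hx
      obtain ⟨B', hB'⟩ := hCco x hx
      have e := apply_congr h.invR (mul_mem (zpow_mem hvX i) ht) (y := x) (z := c ^ B')
        (by rw [hB']; rfl)
      rw [map_zpow, QuotientGroup.eq] at e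
      have := mul_mem (zpow_mem hcC' B') (inv_mem (h.le e))
      simpa [MulAut.mul_apply, mul_assoc] using this
  have hθX : θ ∈ X := pGen_le hθg
  -- the stabilizer of `C`
  set Y := X ⊓ setStab C with hY
  have hQY : Q ≤ Y := fun q hq => ⟨h.qle hq, fun x hx => h.invC q hq x hx⟩
  have htY : θ * t ∈ Y := ⟨mul_mem hθX ht, fun x hx => by
    rw [MulAut.mul_apply]; exact hθC x hx⟩
  obtain ⟨r, hr, hrn⟩ := CfsgLib.FourFree.frattini_rel (C := pGen p Y) (S := Q) (L := Y)
    h.isP (le_pGen hQY h.isP)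
    (fun hd => h.sylow (hd.trans (Dvd.intro _
      (relIndex_mul_relIndex Q (pGen p Y) X (le_pGen hQY h.isP) (pGen_le.trans inf_le_left)))))
    (fun g hg x hx => pGen_conj hg hx) htY
  have hrY : r ∈ Y := pGen_le hr
  have hC : Sec p Y ⊤ C := ⟨le_top, normal_of_comm h.comm h.le, card_top'.trans h.cardH, inv_top,
    fun α hα x hx => hα.2 x hx⟩
  refine ⟨r * (θ * t), mul_mem hrY.1 htY.1, hrn, fun x hx => ?_, fun x hx => ?_, fun U D hs x hx => ?_⟩
  · rw [MulAut.mul_apply]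
    exact hrY.2 _ (htY.2 x hx)
  · have h1 := hθL _ (htL x hx)
    have h2 := pGen_fix hC hr (θ (t x)) (mem_top _)
    have := mul_mem (h.le h1) h2
    simpa [MulAut.mul_apply, mul_assoc] using this
  · have h1 := pGen_fix hs hθg _ (hs.invU t ht x hx)
    have h2 := pGen_fix (hs.mono (inf_le_left : Y ≤ X)) hr _
      (hs.invU θ hθX _ (hs.invU t ht x hx))
    have := mul_mem h1 h2
    simpa [MulAut.mul_apply, mul_assoc] using this

/-- If `C` is not invariant, some product of `p`-elements of `X` is `-1` on `H / R`. -/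
theorem Plane.exists_neg (h : Plane p X Q R C) (hC : ¬ Inv X C) :
    ∃ t ∈ pGen p X, (∀ x : H, x * t x ∈ R) ∧
      ∀ β ∈ X, ∀ x : H, x⁻¹ * ⁅t, β⁆ x ∈ R := by
  haveI := h.normal
  obtain ⟨k, hk, hkne⟩ : ∃ k ∈ X, C.map k.toMonoidHom ≠ C := by
    by_contra hcon
    push Not at hcon
    exact hC fun α hα x hx => (hcon α hα).le ⟨x, hx, rfl⟩
  set L := C.map k.toMonoidHom with hLdef
  have hRL : R ≤ L := fun x hx => ⟨k⁻¹ x, h.le (h.invR _ (inv_mem hk) x hx), by simp⟩
  have hL : Nat.card L = Nat.card C := card_map_eq k C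
  obtain ⟨u, hu, hu1, hu2, hu3⟩ := h.exists_u
  have huX := h.qle hu
  obtain ⟨l, hl, hlR, -, -⟩ := exists_gen (p := p) hRL (hL.trans h.cardC)
  set c := l⁻¹ * u l with hc
  have hcC : c ∈ C := hu1 l
  have hcR : c ∉ R := hu3 L hRL hL hkne l hl hlR
  obtain ⟨hco, hlp, hcp, hcl, hLco, hCco, hmem⟩ := h.coords hRL hL hkne hl hlR hcC hcR
  have hul : ((u l : H) : H ⧸ R) = (l : H ⧸ R) * (c : H ⧸ R) ^ (1 : ℤ) := by
    rw [zpow_one, hc, ← QuotientGroup.mk_mul, mul_inv_cancel_left]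
  have huc : ((u c : H) : H ⧸ R) = (c : H ⧸ R) := (QuotientGroup.eq.2 (hu2 c hcC)).symm
  obtain ⟨hv1, hv2⟩ := h.conj_step hk hu hu1 hu2 hRL rfl
  set v := k * u * k⁻¹ with hv
  have hvX : v ∈ X := mul_mem (mul_mem hk huX) (inv_mem hk)
  have hvl : ((v l : H) : H ⧸ R) = (l : H ⧸ R) := (QuotientGroup.eq.2 (hv2 l hl)).symm
  obtain ⟨e, he⟩ := hLco _ (hv1 c)
  have hvc : ((v c : H) : H ⧸ R) = (c : H ⧸ R) * (l : H ⧸ R) ^ e := by
    rw [← he, ← QuotientGroup.mk_mul, mul_inv_cancel_left]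
  have he0 : (e : ZMod p) ≠ 0 := by
    intro e0
    have hvc' : ((v c : H) : H ⧸ R) = (c : H ⧸ R) := by
      rw [hvc, zpow_congr hlp (s := 0) (by simpa using e0), zpow_zero, mul_one]
    refine hcR ?_
    obtain ⟨A', B', hAB'⟩ := hco (k l)
    have h1 : ((v (k l) : H) : H ⧸ R) = (k l : H) := by
      rw [apply_coords h.invR hvX hAB', hvl, hvc', hAB']
    have h2 := apply_congr h.invR (inv_mem hk) h1
    rw [hv, MulAut.mul_apply, MulAut.mul_apply, MulAut.inv_apply_self, MulAut.inv_apply_self,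
      QuotientGroup.eq] at h2
    rw [hc]; simpa [mul_assoc] using inv_mem h2
  obtain ⟨j, hj⟩ : ∃ j : ℤ, (j : ZMod p) * e = -1 :=
    ⟨((-1 / (e : ZMod p)).val : ℤ), by push_cast; rw [ZMod.natCast_zmod_val]; field_simp⟩
  set W := v ^ j with hW
  have hWg : W ∈ pGen p X := zpow_mem (pGen_conj hk (le_pGen h.qle h.isP hu)) j
  have hWX := pGen_le hWg
  obtain ⟨hWc, hWl⟩ := zpow_apply_of_step h.invR hvX hvl hvc j
  rw [zpow_congr hlp (r := j * e) (s := -1) (by push_cast; exact hj), zpow_neg_one] at hWc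
  rw [zpow_one] at hul
  set w := u * W * u with hw
  have hwg : w ∈ pGen p X :=
    mul_mem (mul_mem (le_pGen h.qle h.isP hu) hWg) (le_pGen h.qle h.isP hu)
  have hwX := pGen_le hwg
  have hwc : ((w c : H) : H ⧸ R) = (l : H ⧸ R)⁻¹ := by
    rw [hw, MulAut.mul_apply, MulAut.mul_apply,
      apply_congr h.invR huX (z := c * l⁻¹) (by
        rw [apply_congr h.invR hWX (z := c) huc, hWc]; rfl),
      map_mul, map_inv, QuotientGroup.mk_mul, QuotientGroup.mk_inv, huc, hul, mul_inv_rev, ← mul_assoc, mul_inv_cancel,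
      one_mul]
  have hwl : ((w l : H) : H ⧸ R) = (c : H ⧸ R) := by
    have h1 : ((W (u l) : H) : H ⧸ R) = (c : H ⧸ R) := by
      rw [apply_congr h.invR hWX (z := l * c) (by rw [hul]; rfl), map_mul, QuotientGroup.mk_mul, hWl,
        hWc, ← mul_assoc, hcl.eq, mul_inv_cancel_right]
    rw [hw, MulAut.mul_apply, MulAut.mul_apply, apply_congr h.invR huX (z := c) h1, huc]
  have htl : (((w * w) l : H) : H ⧸ R) = (l : H ⧸ R)⁻¹ := by
    rw [MulAut.mul_apply, apply_congr h.invR hwX (z := c) hwl, hwc]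
  have htc : (((w * w) c : H) : H ⧸ R) = (c : H ⧸ R)⁻¹ := by
    rw [MulAut.mul_apply, apply_congr h.invR hwX (z := l⁻¹) (by rw [hwc]; rfl), map_inv,
      QuotientGroup.mk_inv, hwl]
  have hneg : ∀ x : H, (((w * w) x : H) : H ⧸ R) = (x : H ⧸ R)⁻¹ := fun x => by
    obtain ⟨A, B, hAB⟩ := hco x
    rw [apply_coords h.invR (mul_mem hwX hwX) hAB, htl, htc, hAB, inv_zpow, inv_zpow, ← mul_inv_rev,
      (hcl.zpow_zpow A B).eq]
  refine ⟨w * w, mul_mem hwg hwg, fun x => ?_, fun β hβ x => ?_⟩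
  · have := QuotientGroup.eq.1 (hneg x).symm
    simpa using this
  · rw [← QuotientGroup.eq]
    set z := (β * (w * w))⁻¹ x with hz
    have hxz : β ((w * w) z) = x := by rw [← MulAut.mul_apply, hz, MulAut.apply_inv_self]
    have e' : ⁅w * w, β⁆ x = (w * w) (β z) := by
      simp only [hz, commutatorElement_def, mul_inv_rev, MulAut.mul_apply]
    rw [e', hneg (β z)]
    nth_rw 1 [← hxz]
    rw [apply_congr h.invR hβ (z := z⁻¹) (by rw [hneg]; rfl), map_inv, QuotientGroup.mk_inv]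

end CfsgLib.Fusion.LineTorus
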