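import Cfsg.Agent.Lib.Fusion.System.MaxClassCubeSystem
import Cfsg.Agent.Lib.Fusion.System.CubeAutomizer
import Cfsg.Agent.Lib.Fusion.System.EssentialFourth
import Cfsg.Agent.Lib.Fusion.System.EssentialPlane
import Cfsg.Agent.Lib.PGroup.MaxClassCubeTower
import Cfsg.Agent.Lib.PGroup.NormalRankFour

/-!
# Essential subgroups of order at most `p³` in `p`-groups of maximal class

They are pearls: an elementary abelian one of order `p³` would give a self-map of its normalizer
with weights that do not propagate along the tower of normalizers.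
-/

set_option autoImplicit false
set_option linter.style.haveILetI false
set_option linter.unusedSectionVars false
set_option maxHeartbeats 1000000

open Subgroup
open scoped Classical commutatorElement

namespace CfsgLib.Fusion.MaxClassCubeEssential

open Cfsg (FusionSystem autInducedBy)
open Cfsg.FusionSystem (normalizerIn centralizerIn)
open CfsgLib.Fusion.Transvection (dlt dlt_eq_one apply_eq IsTrv)
open CfsgLib.Fusion.MaxClassCubeSystem (sub mem_sub sub_le lift lift_coe down coe_down mapS_down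
  sub_normalizer sub_centralizer sub_subgroupOf card_sub sys)
open CfsgLib.MaxClassShift (gam)

universe u

variable {Ω : Type u} [Group Ω] {S : Subgroup Ω} [Finite S] {p : ℕ} [Fact p.Prime]
  {F : FusionSystem S} {E : Subgroup Ω}

/-- An essential subgroup of order at most `p³` that is not a pearl is elementary abelian of order
`p³`. -/
theorem elementary_of_small (hp : p ≠ 2) (hS : IsPGroup p S) (hE : F.IsEssential p E)
    (hnp : ¬ ((Nat.card ↥E = p ^ 2 ∧ Cfsg.IsElementaryAbelian p E) ∨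
      (Nat.card ↥E = p ^ 3 ∧ Cfsg.IsExtraspecial p ↥E ∧ Monoid.exponent ↥E = p)))
    (hc : Nat.card E < p ^ 4) :
    Nat.card E = p ^ 3 ∧ (∀ a b : E, a * b = b * a) ∧ ∀ a : E, a ^ p = 1 := by
  have hpp := (Fact.out : p.Prime)
  haveI := finite_of_le hE.1.1
  haveI := finite_mulAut (P := E)
  have hEp : IsPGroup p E := hS.to_le hE.1.1
  obtain ⟨k, hk⟩ := hEp.exists_card_eq
  have hk4 : k < 4 := by
    rw [hk] at hc
    exact (Nat.pow_lt_pow_iff_right hpp.one_lt).1 hc
  have hdvd := EssentialPlane.dvd_card_autGroup hE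
  have hsmall : k ≤ 1 → False := fun h1 => by
    have h2 : ∀ x : MulAut E, x ^ p = 1 → x = 1 := fun x hx =>
      EssentialFourth.fix_of_card_le hEp (by rw [hk]; exact (Nat.pow_le_pow_right hpp.pos h1).trans (pow_one p).le)
        x (k := 1) (by rwa [pow_one])
    obtain ⟨b, hb⟩ := exists_prime_orderOf_dvd_card' (G := F.autGroup E) p hdvd
    have h3 : (b : MulAut E) = 1 := h2 _ (by rw [← SubmonoidClass.coe_pow, ← hb, pow_orderOf_eq_one]; rfl)
    rw [show b = 1 from Subtype.ext h3, orderOf_one] at hb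
    exact hpp.ne_one hb.symm
  rcases (show k ≤ 1 ∨ k = 2 ∨ k = 3 by omega) with h | rfl | rfl
  · exact (hsmall h).elim
  · exact absurd (Or.inl ⟨hk, (EssentialPlane.essential_card_sq hS hE hk).1⟩) hnp
  obtain ⟨hcore, hidx⟩ := EssentialCube.autGroup_data hS hE
  have hab : ∀ a b : E, a * b = b * a := by
    intro a b
    by_contra hne
    rcases EssentialCube.classify hk hne _ hcore hidx with ⟨-, hex, hexp⟩ | ⟨h2, -⟩
    · refine hnp (Or.inr ⟨hk, hex, ?_⟩)
      rcases (Nat.dvd_prime hpp).1 (Monoid.exponent_dvd_of_forall_pow_eq_one hexp) with h | h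
      · exact absurd (Monoid.exp_eq_one_iff.1 h) fun hsub => hne (@Subsingleton.elim _ hsub _ _)
      · exact h
    · omega
  refine ⟨hk, hab, ?_⟩
  by_contra hexp
  push Not at hexp
  obtain ⟨x, hx⟩ := hexp
  letI : CommGroup E := { (inferInstance : Group E) with mul_comm := hab }
  let f : E →* E := powMonoidHom p
  have hprod : Nat.card f.ker * Nat.card f.range = p ^ 3 := by
    rw [← hk, ← index_ker f, card_mul_index]
  obtain ⟨i, hi⟩ := (hEp.to_subgroup f.ker).exists_card_eq
  obtain ⟨j, hj⟩ := (hEp.to_subgroup f.range).exists_card_eq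
  rw [hi, hj, ← pow_add] at hprod
  have hij := Nat.pow_right_injective hpp.two_le hprod
  have hj1 : 1 ≤ j := Nat.one_le_iff_ne_zero.2 fun h => hx <| by
    have h1 : f.range = ⊥ := eq_bot_of_card_eq _ (by rw [hj, h, pow_zero])
    exact mem_bot.1 (h1 ▸ (⟨x, rfl⟩ : f x ∈ f.range))
  have hi1 : 1 ≤ i := by
    by_contra h
    have h1 : f.ker = ⊥ := eq_bot_of_card_eq _ (by rw [hi, show i = 0 by omega, pow_zero])
    obtain ⟨y, hy⟩ := exists_prime_orderOf_dvd_card' (G := E) p (by rw [hk]; exact dvd_pow_self p (by norm_num))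
    have h2 : y ∈ f.ker := by
      rw [MonoidHom.mem_ker]
      show y ^ p = 1
      rw [← hy, pow_orderOf_eq_one]
    rw [h1, mem_bot] at h2
    rw [h2, orderOf_one] at hy
    exact hpp.ne_one hy.symm
  have hkerI : ∀ σ : MulAut E, ∀ y ∈ f.ker, σ y ∈ f.ker := fun σ y hy => by
    rw [MonoidHom.mem_ker] at hy ⊢
    show (σ y) ^ p = 1
    rw [← map_pow, show y ^ p = 1 from hy, map_one]
  have hranI : ∀ σ : MulAut E, ∀ y ∈ f.range, σ y ∈ f.range := by
    rintro σ _ ⟨y, rfl⟩
    exact ⟨σ y, (map_pow σ y p).symm⟩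
  -- a characteristic chain
  have hchain : ∀ A B : Subgroup E, (∀ σ : MulAut E, ∀ y ∈ A, σ y ∈ A) →
      (∀ σ : MulAut E, ∀ y ∈ B, σ y ∈ B) → B ≤ A → Nat.card A = p ^ 2 → Nat.card B = p → False := by
    intro A B hA hB hBA hAc hBc
    refine EssentialFourth.no_char_chain hEp _ hcore hidx
      (fun m => if m = 0 then ⊤ else if m = 1 then A else if m = 2 then B else ⊥) 3 (if_pos rfl) (by simp)
      ?_ ?_ ?_
    · intro m σ y hy
      split_ifs at hy ⊢
      · exact mem_top _
      · exact hA σ y hy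
      · exact hB σ y hy
      · rw [mem_bot] at hy ⊢; rw [hy, map_one]
    · intro m
      rcases (show m = 0 ∨ m = 1 ∨ m = 2 ∨ 3 ≤ m by omega) with rfl | rfl | rfl | h
      · simp
      · simpa using hBA
      · simp
      · simp [show m ≠ 0 by omega, show m ≠ 1 by omega, show m ≠ 2 by omega]
    · intro m hm
      rcases (show m = 0 ∨ m = 1 ∨ m = 2 by omega) with rfl | rfl | rfl
      · simp [hk, hAc, pow_succ']
      · simp [hAc, hBc, pow_two]
      · simp [hBc]
  rcases (show (i = 1 ∧ j = 2) ∨ (i = 2 ∧ j = 1) by omega) with ⟨rfl, rfl⟩ | ⟨rfl, rfl⟩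
  · refine hchain f.range f.ker hranI hkerI ?_ hj (by rw [hi, pow_one])
    obtain ⟨y, hy⟩ := exists_prime_orderOf_dvd_card' (G := f.range) p (by rw [hj]; exact dvd_pow_self p (by norm_num))
    have hy1 : (y : E) ≠ 1 := fun h => hpp.ne_one (by rw [← hy, show y = 1 from Subtype.ext h, orderOf_one])
    have hyk : (y : E) ∈ f.ker := by
      rw [MonoidHom.mem_ker]
      show (y : E) ^ p = 1
      rw [← SubmonoidClass.coe_pow, ← hy, pow_orderOf_eq_one]
      rfl
    rw [← CubeAutomizer.zpowers_eq_line (p := p) (by rw [hi, pow_one]) hyk hy1]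
    exact zpowers_le.2 y.2
  · refine hchain f.ker f.range hkerI hranI ?_ hi (by rw [hj, pow_one])
    rintro _ ⟨y, rfl⟩
    rw [MonoidHom.mem_ker]
    show (y ^ p) ^ p = 1
    have h1 := pow_card_eq_one' (x := (⟨f y, y, rfl⟩ : f.range))
    rw [hj, pow_one] at h1
    exact congrArg Subtype.val h1

/-- The embedded configuration on the automizer of an abelian essential subgroup. -/
theorem exists_embedded (hS : IsPGroup p S) (hF : F.IsSaturated p) (hE : F.IsEssential p E)
    (hab : ∀ a b : E, a * b = b * a) :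
    ∃ M, CubeAutomizer.Embedded p (F.autGroup E) (autInducedBy S E) M := by
  haveI := finite_of_le hE.1.1
  haveI := finite_mulAut (P := E)
  have hES := hE.1.1
  have hle := autInducedBy_le_autGroup (F := F) hES
  have hi := ((isFullyAutomized_iff hS).1 (IsSaturated.automized_receptive hS hF hE.2.1).1).2
  have hne : autInducedBy S E ≠ ⊥ := fun h => hi (by
    rw [h, relIndex_bot_left]; exact EssentialPlane.dvd_card_autGroup hE)
  obtain ⟨-, -, hn, E₁, hE₁⟩ := hE
  haveI := hn
  set X := F.autGroup E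
  set K := (Cfsg.Inn E).subgroupOf X with hK
  have hKbot : K = ⊥ := by
    refine (Subgroup.eq_bot_iff_forall _).2 fun γ hγ => ?_
    obtain ⟨c, hc⟩ := mem_subgroupOf.1 hγ
    refine Subtype.ext (MulEquiv.ext fun r => ?_)
    rw [show ((γ : X) : MulAut E) r = c * r * c⁻¹ from (DFunLike.congr_fun hc r).symm, hab c r,
      mul_inv_cancel_right]
    rfl
  set π := QuotientGroup.mk' K with hπ
  have hπi : Function.Injective π := (MonoidHom.ker_eq_bot_iff π).1 (by rw [hπ, QuotientGroup.ker_mk', hKbot])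
  set P := ((autInducedBy S E).subgroupOf X).map π
  have hP : IsPGroup p P :=
    ((isPGroup_autInducedBy hS).of_equiv (subgroupOfEquivOfLe hle).symm).map π
  obtain ⟨E', hE', hT⟩ := exists_conj_embedded hP hE₁
  refine ⟨(E'.comap π).map X.subtype, hle, isPGroup_autInducedBy hS, hi, hne, map_subtype_le _,
    fun h => hE' (eq_top_iff.2 fun y _ => ?_), ?_⟩
  · obtain ⟨y, rfl⟩ := QuotientGroup.mk'_surjective K y
    obtain ⟨z, hz, hzy⟩ := h y.2
    rw [← (Subtype.ext hzy : z = y)]
    exact hz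
  · intro T hTQ hT1 x hx
    refine ⟨⟨x, hx.1⟩, ?_, rfl⟩
    have hTX : T ≤ X := hTQ.trans hle
    refine hT ((T.subgroupOf X).map π) (map_mono (fun y hy => hTQ hy)) (fun e => hT1 ?_) ?_
    · have h1 := (map_eq_bot_iff_of_injective _ hπi).1 e
      rw [subgroupOf_eq_bot] at h1
      exact le_bot_iff.1 (le_inf le_rfl hTX |>.trans (disjoint_iff.1 h1).le)
    · refine le_normalizer_map π (mem_map_of_mem π ?_)
      exact mem_normalizer_iff.2 fun y => by
        rw [mem_subgroupOf, mem_subgroupOf]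
        exact mem_normalizer_iff.1 hx.2 (y : MulAut E)

/-- The Sylow subgroup of the automizer of an abelian essential subgroup of order `p³` has order
`p`. -/
theorem card_autInducedBy_cube (hS : IsPGroup p S) (hF : F.IsSaturated p) (hE : F.IsEssential p E)
    (hcard : Nat.card E = p ^ 3) (hab : ∀ a b : E, a * b = b * a) :
    Nat.card (autInducedBy S E) = p := by
  have hpp := (Fact.out : p.Prime)
  have hES := hE.1.1
  haveI := finite_of_le hES
  haveI := finite_mulAut (P := E)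
  letI : CommGroup E := { (inferInstance : Group E) with mul_comm := hab }
  set Q := autInducedBy S E with hQ
  set N := normalizerIn S E with hN
  haveI : Finite N := finite_of_le inf_le_left
  obtain ⟨M, hM⟩ := exists_embedded hS hF hE hab
  have hNp : IsPGroup p N := hS.to_le inf_le_left
  have hEN : E ≤ N := le_normalizerIn hES
  set EN := E.subgroupOf N
  haveI : EN.Normal := (normal_subgroupOf_iff_le_normalizer hEN).2 inf_le_right
  have hENc : Nat.card EN = p ^ 3 := by rw [Nat.card_congr (subgroupOfEquivOfLe hEN).toEquiv, hcard]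
  obtain ⟨T₂, hT₂n, hT₂le, hT₂c⟩ := CfsgLib.PGroup.RankFour.exists_normal_card hNp (A := EN) 2
    (by rw [hENc]; exact Nat.pow_le_pow_right hpp.pos (by norm_num))
  obtain ⟨T₁, hT₁n, hT₁le, hT₁c⟩ := CfsgLib.PGroup.RankFour.exists_normal_card hNp (A := T₂) 1
    (by rw [hT₂c]; exact Nat.pow_le_pow_right hpp.pos (by norm_num))
  have hrel : ∀ {U V : Subgroup N}, U ≤ V → Nat.card V = p * Nat.card U → U.relIndex V = p := by
    intro U V hle hc
    have e := relIndex_mul_relIndex ⊥ U V bot_le hle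
    rw [relIndex_bot_left, relIndex_bot_left, hc, mul_comm p] at e
    exact Nat.eq_of_mul_eq_mul_left Nat.card_pos e
  let down' : Subgroup N → Subgroup E := fun T => (T.map N.subtype).subgroupOf E
  have hdc : ∀ T, T ≤ EN → Nat.card (down' T) = Nat.card T := fun T hT => by
    rw [Nat.card_congr (subgroupOfEquivOfLe (by
      rintro _ ⟨y, hy, rfl⟩
      exact hT hy)).toEquiv, card_map_of_injective N.subtype_injective]
  have hmemd : ∀ {T : Subgroup N} {r : E}, r ∈ down' T ↔ (⟨r, hEN r.2⟩ : N) ∈ T := fun {T r} => by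
    rw [mem_subgroupOf]
    exact ⟨fun ⟨y, hy, hyr⟩ => by rwa [← (Subtype.ext hyr : y = ⟨r, hEN r.2⟩)],
      fun hr => ⟨_, hr, rfl⟩⟩
  have hstep : ∀ {U V : Subgroup N}, U.Normal → V.Normal → U ≤ V → Nat.card V = p * Nat.card U →
      ∀ q ∈ Q, ∀ x ∈ down' V, dlt q x ∈ down' U := by
    intro U V hUn hVn hUV hc q hq x hx
    obtain ⟨g, hgS, hact⟩ := mem_autInducedBy_iff.1 hq
    have hgN : g ∈ N := ⟨hgS, mem_normalizer_of_autFun hact⟩
    have h1 := CfsgLib.PGroup.RankFour.central_step hNp hUV (hrel hUV hc) ⟨g, hgN⟩ (hmemd.1 hx)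
    rw [hmemd]
    convert h1 using 1
    refine Subtype.ext ?_
    show (((x⁻¹ * q x : E)) : Ω) = (x : Ω)⁻¹ * (g * (x : Ω) * g⁻¹)
    rw [Subgroup.coe_mul, Subgroup.coe_inv, ← hact x x.2, autFun_coe]
  refine le_antisymm (CubeAutomizer.card_le hM hcard (l := down' T₁) (H := down' T₂) ?_ ?_ ?_ ?_ ?_ ?_) ?_
  · exact fun x hx => hmemd.2 (hT₁le (hmemd.1 hx))
  · rw [hdc _ (hT₁le.trans hT₂le), hT₁c, pow_one]
  · rw [hdc _ hT₂le, hT₂c]
  · intro q hq x hx
    have h1 := hstep (U := ⊥) inferInstance hT₁n bot_le (by rw [hT₁c, pow_one, card_bot, mul_one]) q hq x hx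
    rw [hmemd, mem_bot] at h1
    exact Subtype.ext (congrArg (fun z : N => (z : Ω)) h1)
  · exact hstep hT₁n hT₂n hT₁le (by rw [hT₁c, hT₂c, pow_one, pow_two])
  · intro q hq x
    exact hstep hT₂n inferInstance hT₂le (by rw [hENc, hT₂c, ← pow_succ']) q hq x (hmemd.2 x.2)
  · obtain ⟨j, hj⟩ := hM.isP.exists_card_eq
    rw [hj]
    exact Nat.le_self_pow (fun h => hM.ne (eq_bot_of_card_eq _ (by rw [hj, h, pow_zero]))) p

/-- The weights of a generator of the units modulo `p`. -/
theorem exists_weights : ∃ a b : ℤ, ((a * b : ℤ) : ZMod p) = 1 ∧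
    ∀ j, 0 < j → j < p - 1 → (a : ZMod p) ^ j ≠ 1 := by
  obtain ⟨ζ, hζ⟩ := IsCyclic.exists_generator (α := (ZMod p)ˣ)
  refine ⟨((ζ : ZMod p).val : ℤ), (((ζ⁻¹ : (ZMod p)ˣ) : ZMod p).val : ℤ), ?_, fun j hj hjp h => ?_⟩
  · push_cast
    rw [ZMod.natCast_zmod_val, ZMod.natCast_zmod_val]
    exact mul_inv_cancel₀ ζ.ne_zero
  · push_cast at h
    rw [ZMod.natCast_zmod_val, ← Units.val_pow_eq_pow_val, Units.val_eq_one] at h
    have h1 := orderOf_eq_card_of_forall_mem_zpowers hζ
    rw [Nat.card_eq_fintype_card, ZMod.card_units] at h1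
    have h2 := Nat.le_of_dvd hj (orderOf_dvd_of_pow_eq_one h)
    omega

/-- No essential subgroup is elementary abelian of order `p³`. -/
theorem no_elementary_cube (hp : 5 ≤ p) (hS : IsPGroup p S) {n : ℕ} (hn : Nat.card S = p ^ n) (h5 : 5 ≤ n)
    (hcl : Group.nilpotencyClass S = n - 1) (hF : F.IsSaturated p) (hE : F.IsEssential p E)
    (hcard : Nat.card E = p ^ 3) (hab : ∀ a b : E, a * b = b * a) (hexp : ∀ a : E, a ^ p = 1) : False := by
  have hpp := (Fact.out : p.Prime)
  have hES := hE.1.1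
  haveI := finite_of_le hES
  haveI := finite_mulAut (P := E)
  letI : CommGroup E := { (inferInstance : Group E) with mul_comm := hab }
  set X := F.autGroup E with hX
  set Q := autInducedBy S E with hQ
  set N := normalizerIn S E with hN
  haveI : Finite N := finite_of_le inf_le_left
  obtain ⟨M, hM⟩ := exists_embedded hS hF hE hab
  -- the Sylow subgroup of the automizer has order `p`
  have hQp : Nat.card Q = p := card_autInducedBy_cube hS hF hE hcard hab
  have hCE : centralizerIn S E = E := le_antisymm (hE.1.2 E (isConj_refl hES))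
    (le_inf hES fun x hx => mem_centralizer_iff.2 fun y hy =>
      congrArg Subtype.val (hab ⟨y, hy⟩ ⟨x, hx⟩))
  have hNc : Nat.card N = p ^ 4 := by
    rw [hN, ← card_autInducedBy_mul, hCE, hQp, hcard, ← pow_succ']
  -- the class of `E`
  have hA : CfsgLib.MaxClassCube.Amb S p n := ⟨hS, hn, h5, hcl⟩
  have hcub : ∀ R : Subgroup S, F.IsConj E (sub R) → CfsgLib.MaxClassCube.Cubic p R := by
    intro R hR
    obtain ⟨f, hf, hfR⟩ := isConj_iff.1 hR
    have hmem : ∀ {x : S}, x ∈ R → ∃ r ∈ E, f r = x := fun {x} hx => by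
      have h1 := mem_sub.2 hx
      rw [← hfR] at h1
      exact hf.mem_img.1 h1
    have hRc : Nat.card R = p ^ 3 := by rw [← card_sub, isConj_card hR, hcard]
    have hcomm : ∀ x ∈ R, ∀ y ∈ R, x * y = y * x := fun x hx y hy => by
      obtain ⟨r, hr, hrx⟩ := hmem hx
      obtain ⟨s, hs, hsy⟩ := hmem hy
      refine Subtype.ext ?_
      rw [Subgroup.coe_mul, Subgroup.coe_mul, ← hrx, ← hsy]
      exact hf.map_commute hr hs (congrArg Subtype.val (hab ⟨r, hr⟩ ⟨s, hs⟩))
    refine ⟨hRc, hcomm, fun x hx => ?_, ?_, le_antisymm ?_ ?_⟩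
    · obtain ⟨r, hr, hrx⟩ := hmem hx
      refine Subtype.ext ?_
      have hpow : ∀ k : ℕ, f r ^ k = f (r ^ k) := by
        intro k
        induction k with
        | zero => rw [pow_zero, pow_zero, hf.map_one]
        | succ k ih => rw [pow_succ, pow_succ, ih, hf.map_mul (pow_mem hr k) hr]
      rw [SubmonoidClass.coe_pow, ← hrx, hpow,
        show r ^ p = 1 from congrArg Subtype.val (hexp ⟨r, hr⟩), hf.map_one]
      rfl
    · intro x hx
      have h1 := hE.1.2 _ hR
      rw [← sub_centralizer] at h1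
      exact mem_sub.1 (h1 (mem_sub.2 hx))
    · rw [← hNc, ← card_sub, sub_normalizer]
      exact hE.2.1.2 _ hR
    · have hne : R < ⊤ := lt_top_iff_ne_top.2 fun e => by
        rw [e, card_top, hn] at hRc
        have := Nat.pow_right_injective hpp.two_le hRc
        omega
      have h1 := CfsgLib.Subnormalizer.lt_inf_normalizer (hS.to_subgroup (⊤ : Subgroup S)) hne
      rw [top_inf_eq] at h1
      have h2 := CfsgLib.MaxClassCube.mul_card_le hS h1
      rwa [hRc, ← pow_succ'] at h2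
  let σ := sys hS hF E hcub
  set R := E.subgroupOf S with hR
  have hsubR : sub R = E := sub_subgroupOf hES
  have hcube : σ.cube R := by
    show F.IsConj E (sub R)
    rw [hsubR]
    exact isConj_refl hES
  have hRc := σ.cubic hcube
  have hmemR : ∀ {x : S}, x ∈ R ↔ (x : Ω) ∈ E := fun {x} => mem_subgroupOf
  set NR := normalizer ((R : Subgroup S) : Set S) with hNR
  have hNsub : sub NR = N := by rw [hNR, sub_normalizer, hsubR]
  have hNC : NR ≤ centralizer ((CfsgLib.MaxClassCube.cz R : Subgroup S) : Set S) := fun x hx =>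
    mem_centralizer_iff.2 fun z hz => (mem_centralizer_iff.1 (mem_inf.1 hz).2 x hx).symm
  have hsK := CfsgLib.MaxClassCube.step_Kd hA hRc (le_refl NR) hNC
  have hsF := CfsgLib.MaxClassCube.step_Fd hA hRc (le_refl NR) hNC
  -- `R ⊓ gam S 2 = cz R`
  have hRg : ∀ x ∈ R, x ∈ gam S 2 → x ∈ CfsgLib.MaxClassCube.cz R := by
    intro x hx hxg
    have hlt : R ⊓ gam S 2 < R := lt_of_le_of_ne inf_le_left fun h => hRc.not_le_gam hA (inf_eq_left.1 h)
    have h5 := CfsgLib.MaxClassCube.mul_card_le hS hlt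
    rw [hRc.card, show p ^ 3 = p * p ^ 2 by rw [← pow_succ']] at h5
    refine (eq_of_le_of_card_ge (le_inf inf_le_left (hRc.cz_le_gam hA)) ?_).ge (mem_inf.2 ⟨hx, hxg⟩)
    rw [(hRc.card_cz hA).1]
    exact Nat.le_of_mul_le_mul_left h5 hpp.pos
  obtain ⟨y, hy, hyz⟩ := SetLike.not_le_iff_exists.1 hsF.not_le
  have hyR : y ∉ R := fun h => hyz (hRg y h (mem_inf.1 hy).2)
  have hyN : y ∈ NR := (mem_inf.1 hy).1
  have hyE : (y : Ω) ∈ N := hNsub ▸ mem_sub.2 hyN
  -- the transvection
  set u := conjAut (y : Ω) hyE.2 with hu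
  have huQ : u ∈ Q := conjAut_mem y.2 hyE.2
  have huX : u ∈ X := hM.qle huQ
  have huapp : ∀ r : E, ((u r : E) : Ω) = (y : Ω) * r * (y : Ω)⁻¹ := fun r => rfl
  let toR : E → S := fun r => ⟨r, hES r.2⟩
  have htoR : ∀ r : E, toR r ∈ R := fun r => hmemR.2 r.2
  have hdlt : ∀ r : E, ((dlt u r : E) : Ω) = ((⁅y, toR r⁆ : S) : Ω) := fun r => by
    show ((r⁻¹ * u r : E) : Ω) = _
    rw [mul_comm, Subgroup.coe_mul, huapp, commutatorElement_def]
    rfl
  have hfix : ∀ r : E, dlt u r = 1 ↔ toR r ∈ CfsgLib.MaxClassCube.cz R := by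
    intro r
    constructor
    · intro h
      by_contra hz
      have hc : ⁅y, toR r⁆ = 1 := Subtype.ext ((hdlt r).symm.trans (by rw [h]; rfl))
      refine hyR (hRc.cent (mem_centralizer_iff.2 fun w hw => ?_))
      have hw' : w ∈ CfsgLib.MaxClassCube.cz R ⊔ zpowers (toR r) := (hRc.eq_cz_sup hA (htoR r) hz) ▸ hw
      have hle : CfsgLib.MaxClassCube.cz R ⊔ zpowers (toR r) ≤ centralizer ({y} : Set S) :=
        sup_le (fun z hz => mem_centralizer_singleton_iff.2 (mem_centralizer_iff.1 (mem_inf.1 hz).2 y hyN).symm)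
          (zpowers_le.2 (mem_centralizer_singleton_iff.2 (commutatorElement_eq_one_iff_mul_comm.1 hc).symm))
      exact mem_centralizer_singleton_iff.1 (hle hw')
    · intro hz
      have hc : ⁅y, toR r⁆ = 1 := commutatorElement_eq_one_iff_mul_comm.2
        (mem_centralizer_iff.1 (mem_inf.1 hz).2 y hyN)
      exact Subtype.ext ((hdlt r).trans (by rw [hc]; rfl))
  have hker : Nat.card (dlt u).ker = p ^ 2 := by
    rw [← (hRc.card_cz hA).1]
    refine Nat.card_congr
      { toFun := fun r => ⟨toR r.1, (hfix r.1).1 r.2⟩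
        invFun := fun z => ⟨⟨(z : S), hmemR.1 (mem_inf.1 z.2).1⟩, (hfix _).2 z.2⟩
        left_inv := fun r => rfl
        right_inv := fun z => rfl }
  have htrv : IsTrv p u := by
    refine ⟨?_, fun r => (hfix _).2 ?_⟩
    · have h1 := (dlt u).ker.card_mul_index
      rw [index_ker, hker, hcard, pow_succ p 2] at h1
      exact Nat.eq_of_mul_eq_mul_left (pow_pos hpp.pos 2) h1
    · have h1 := hRc.comm_mem_cz hA (htoR r) hyN
      rwa [← (Subtype.ext (hdlt r) : toR (dlt u r) = ⁅y, toR r⁆)] at h1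
  have hQu : zpowers u = Q := eq_of_le_of_card_ge (zpowers_le.2 huQ)
    (by rw [hQp, Nat.card_zpowers, htrv.orderOf])
  have hsyl : ∀ H : Subgroup (MulAut E), H ≤ X → IsPGroup p H → Nat.card H ≤ p := by
    intro H hH hHp
    obtain ⟨g, -, hg⟩ := exists_conj_le_of_not_dvd_relIndex hM.isP hM.qle hM.sylow hHp hH
    rw [← card_conjBy g, ← hQp]
    exact card_le_of_le hg
  obtain ⟨g, hgX, hgne⟩ : ∃ g ∈ X, g * u * g⁻¹ ∉ zpowers u := by
    by_contra hno
    push Not at hno
    obtain ⟨x, hx, hxM⟩ := SetLike.not_le_iff_exists.1 hM.proper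
    exact hxM (hM.mem_of_conj hx huQ htrv.ne_one (hM.qM (hQu.le (hno x hx))))
  obtain ⟨a, b, hab1, hord⟩ := exists_weights (p := p)
  obtain ⟨T, hTX, τ, τ', hτ1, hττ', hτfix, hTτ, hTτ', hTu, -, d, hd1, hdu, hTd⟩ :=
    CubeAutomizer.exists_torus hcard hsyl htrv huX hgX hgne hab1
  have hTmap : IsMap F E (autFun T) := (mem_autGroup_iff hES).1 hTX
  obtain ⟨φ, hφ, hφT⟩ := (isReceptive_iff.1 (IsSaturated.automized_receptive hS hF hE.2.1).2).2 E _ hTmap
    (img_autFun T)
  have hext : N ≤ extSub S E (autFun T) := by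
    intro m hm
    refine ⟨hm, ?_⟩
    have h1 : conjAut m hm.2 ∈ zpowers u := hQu.ge (conjAut_mem hm.1 hm.2)
    obtain ⟨k, hk⟩ := mem_zpowers_iff.1 h1
    have h2 : T * conjAut m hm.2 * T⁻¹ ∈ Q := by
      rw [← hk, ← conj_zpow, hTu, ← hQu]
      exact zpow_mem (zpow_mem (mem_zpowers u) _) _
    obtain ⟨h, hh, hact⟩ := mem_autInducedBy_iff.1 h2
    refine ⟨h, hh, fun x hx => ?_⟩
    rw [← hact _ (autFun_mem T hx), ← autFun_mul _ _ hx, inv_mul_cancel_right, autFun_mul _ _ hx,
      autFun_conjAut hm.2 hx]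
  have hφN : IsMap F (sub NR) φ := hNsub ▸ hφ.mono hext
  set f := down φ with hf
  have hfmap : σ.Map NR f := mapS_down hφN
  have hfN : ∀ x ∈ NR, f x ∈ NR := fun x hx => by
    rw [← mem_sub, hf, coe_down hφN hx, hNsub]
    have h1 : (x : Ω) ∈ N := hNsub ▸ mem_sub.2 hx
    have h2 := map_mem_normalizerIn (hφ.mono hext) (le_normalizerIn hES) h1 h1.2
    rwa [IsMap.img_congr hφT, img_autFun] at h2
  have hfR : ∀ r : E, (f (toR r) : Ω) = (T r : E) := fun r => by
    rw [hf, coe_down hφN (le_normalizer (htoR r))]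
    exact (hφT r r.2).trans (autFun_coe T r)
  obtain ⟨hsz, hsK', hsF'⟩ := CfsgLib.MaxClassCube.self_invariant hA σ hcube (le_refl NR) hNC hfmap hfN
  have hmf := σ.mulOn hfmap
  have hτ'z : toR τ' ∉ CfsgLib.MaxClassCube.cz R := fun h => hτ1 (by rw [← hττ', (hfix τ').2 h])
  refine CfsgLib.MaxClassCube.no_initial hA (σ := σ) (a := a) (a' := b) hp (by exact_mod_cast hab1) hord
    hcube hfmap hfN ?_ ?_ ?_
  · refine hsK.wt_of_gen hmf hsK' (le_normalizer (htoR τ')) (fun h => hτ'z (hRg _ (htoR τ') (mem_inf.1 h).2))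
      ?_ hfN
    have h1 : f (toR τ') = toR τ' ^ a := Subtype.ext (by rw [hfR, hTτ']; rfl)
    rw [h1, inv_mul_cancel]
    exact one_mem _
  · refine hsF.wt_of_gen (hmf.mono inf_le_left) hsz hy hyz ?_ hsF'
    set w := (y ^ (b * b))⁻¹ * f y with hw
    have hwF : w ∈ CfsgLib.MaxClassCube.Fd R := mul_mem (inv_mem (zpow_mem hy _)) (hsF' y hy)
    refine hRg w (hRc.cent (mem_centralizer_iff.2 fun z hz => ?_)) (mem_inf.1 hwF).2
    obtain ⟨r, rfl⟩ : ∃ r : E, toR r = z := ⟨⟨z, hmemR.1 hz⟩, rfl⟩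
    obtain ⟨r, rfl⟩ := T.surjective r
    have h1 : f (y * toR r * y⁻¹) = f y * f (toR r) * (f y)⁻¹ := by
      rw [hmf _ (mul_mem hyN (le_normalizer (htoR r))) _ (inv_mem hyN), hmf _ hyN _ (le_normalizer (htoR r)),
        hmf.map_inv hyN]
    have h2 : y * toR r * y⁻¹ = toR (u r) := Subtype.ext (huapp r).symm
    have h3 : f (toR r) = toR (T r) := Subtype.ext (hfR r)
    have h4 : f (toR (u r)) = toR (T (u r)) := Subtype.ext (hfR _)
    rw [h2, h3, h4] at h1
    have h5 : T (u r) = (u ^ (b * b)) (T r) := by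
      rw [← hTu]
      simp [MulAut.mul_apply]
    have h6 : ∀ (k : ℤ) (s : E), toR ((u ^ k) s) = y ^ k * toR s * (y ^ k)⁻¹ := by
      intro k s
      refine Subtype.ext ?_
      show (((u ^ k) s : E) : Ω) = _
      rw [hu, show conjAut (y : Ω) hyE.2 ^ k = E.normalizerMonoidHom (⟨y, hyE.2⟩ ^ k) from (map_zpow _ _ _).symm]
      rfl
    rw [h5, h6] at h1
    have h7 : f y * toR (T r) * (f y)⁻¹ = y ^ (b * b) * toR (T r) * (y ^ (b * b))⁻¹ := h1.symm
    calc toR (T r) * w = (y ^ (b * b))⁻¹ * (y ^ (b * b) * toR (T r) * (y ^ (b * b))⁻¹) * f y := by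
          rw [hw]; group
      _ = w * toR (T r) := by rw [← h7, hw]; group
  · refine ⟨toR d, (hfix d).1 hdu, fun h => hd1 (Subtype.ext (congrArg (fun s : S => (s : Ω)) h)), ?_⟩
    refine Subtype.ext ?_
    rw [hfR, hTd]

/-- An essential subgroup that is not a pearl has order at least `p⁴`. -/
theorem card_ge (hp : 5 ≤ p) (hS : IsPGroup p S) {n : ℕ} (hn : Nat.card S = p ^ n) (h5 : 5 ≤ n)
    (hcl : Group.nilpotencyClass S = n - 1) (hF : F.IsSaturated p) (hE : F.IsEssential p E)
    (hnp : ¬ ((Nat.card ↥E = p ^ 2 ∧ Cfsg.IsElementaryAbelian p E) ∨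
      (Nat.card ↥E = p ^ 3 ∧ Cfsg.IsExtraspecial p ↥E ∧ Monoid.exponent ↥E = p))) :
    p ^ 4 ≤ Nat.card E := by
  by_contra hc
  obtain ⟨h1, h2, h3⟩ := elementary_of_small (by omega) hS hE hnp (not_le.1 hc)
  exact no_elementary_cube hp hS hn h5 hcl hF hE h1 h2 h3

end CfsgLib.Fusion.MaxClassCubeEssential
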