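import Cfsg.Agent.Lib.Fusion.System.Saturation
import Cfsg.Agent.Lib.PGroup.MaxClassCubeSys

/-!
# The system of maps of a fusion system on a group of maximal class with a cubic essential subgroup
-/

set_option autoImplicit false
set_option linter.style.haveILetI false
set_option linter.unusedSectionVars false
set_option maxHeartbeats 1000000

open Subgroup
open scoped Classical

namespace CfsgLib.Fusion.MaxClassCubeSystem

open Cfsg (FusionSystem autInducedBy)
open Cfsg.FusionSystem (normalizerIn centralizerIn)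
open CfsgLib.MaxClassCube (Sys Cubic MulOn Step Wt)

universe u

variable {Ω : Type u} [Group Ω] {S : Subgroup Ω}

/-- A subgroup of `S` as a subgroup of the ambient group. -/
abbrev sub (L : Subgroup S) : Subgroup Ω := L.map S.subtype

theorem mem_sub {L : Subgroup S} {x : S} : (x : Ω) ∈ sub L ↔ x ∈ L :=
  Subgroup.mem_map_iff_mem S.subtype_injective

theorem sub_le (L : Subgroup S) : sub L ≤ S := map_subtype_le L

theorem exists_of_mem_sub {L : Subgroup S} {y : Ω} (hy : y ∈ sub L) : ∃ x ∈ L, (x : Ω) = y := hy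

theorem card_sub (L : Subgroup S) : Nat.card (sub L) = Nat.card L :=
  card_map_of_injective S.subtype_injective

theorem sub_subgroupOf {P : Subgroup Ω} (h : P ≤ S) : sub (P.subgroupOf S) = P :=
  map_subgroupOf_eq_of_le h

theorem sub_normalizer (L : Subgroup S) :
    sub (normalizer ((L : Subgroup S) : Set S)) = normalizerIn S (sub L) := by
  ext y
  constructor
  · intro hy
    obtain ⟨x, hx, rfl⟩ := exists_of_mem_sub hy
    refine ⟨x.2, mem_normalizer_iff.2 fun z => ⟨fun hz => ?_, fun hz => ?_⟩⟩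
    · obtain ⟨w, hw, rfl⟩ := exists_of_mem_sub hz
      exact mem_sub.2 ((mem_normalizer_iff.1 hx w).1 hw)
    · obtain ⟨w, hw, he⟩ := exists_of_mem_sub hz
      have h1 : z = ((x⁻¹ * w * x : S) : Ω) := by
        simp only [Subgroup.coe_mul, Subgroup.coe_inv, he]
        group
      rw [h1]
      exact mem_sub.2 ((mem_normalizer_iff''.1 hx w).1 hw)
  · rintro ⟨hyS, hy⟩
    exact ⟨⟨y, hyS⟩, mem_normalizer_iff.2 fun w => by
      rw [← mem_sub, ← mem_sub (x := _ * w * _)]
      exact mem_normalizer_iff.1 hy (w : Ω), rfl⟩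

theorem sub_centralizer (L : Subgroup S) :
    sub (centralizer ((L : Subgroup S) : Set S)) = centralizerIn S (sub L) := by
  ext y
  constructor
  · intro hy
    obtain ⟨x, hx, rfl⟩ := exists_of_mem_sub hy
    refine ⟨x.2, mem_centralizer_iff.2 fun z hz => ?_⟩
    obtain ⟨w, hw, rfl⟩ := exists_of_mem_sub hz
    exact congrArg Subtype.val (mem_centralizer_iff.1 hx w hw)
  · rintro ⟨hyS, hy⟩
    exact ⟨⟨y, hyS⟩, mem_centralizer_iff.2 fun w hw =>
      Subtype.ext (mem_centralizer_iff.1 hy w (mem_sub.2 hw)), rfl⟩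

/-- A function on `S` as a function on the ambient group. -/
noncomputable def lift (f : S → S) : Ω → Ω := fun x => if h : x ∈ S then (f ⟨x, h⟩ : Ω) else 1

theorem lift_coe (f : S → S) (x : S) : lift f x = f x := dif_pos x.2

/-- A function on the ambient group as a function on `S`. -/
noncomputable def down (f : Ω → Ω) : S → S := fun x => if h : f x ∈ S then ⟨f x, h⟩ else 1

variable (F : FusionSystem S)

/-- The maps of the system, as functions on `S`. -/
def MapS (L : Subgroup S) (f : S → S) : Prop := IsMap F (sub L) (lift f)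

variable {F}

theorem coe_down {L : Subgroup S} {f : Ω → Ω} (hf : IsMap F (sub L) f) {x : S} (hx : x ∈ L) :
    ((down f x : S) : Ω) = f x := by
  rw [down, dif_pos (hf.mem_S (mem_sub.2 hx))]

theorem mapS_down {L : Subgroup S} {f : Ω → Ω} (hf : IsMap F (sub L) f) : MapS F L (down f) := by
  refine hf.congr fun y hy => ?_
  obtain ⟨x, hx, rfl⟩ := exists_of_mem_sub hy
  rw [lift_coe, coe_down hf hx]

theorem mulOn_mapS {L : Subgroup S} {f : S → S} (hf : MapS F L f) : MulOn L f := fun x hx y hy => by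
  refine Subtype.ext ?_
  have h := hf.map_mul (mem_sub.2 hx) (mem_sub.2 hy)
  rw [← Subgroup.coe_mul, lift_coe, lift_coe, lift_coe] at h
  rw [Subgroup.coe_mul]
  exact h

theorem inj_mapS {L : Subgroup S} {f : S → S} (hf : MapS F L f) (x : S) (hx : x ∈ L) (h : f x = 1) :
    x = 1 := by
  refine Subtype.ext ((hf.eq_one_iff (mem_sub.2 hx)).1 ?_)
  rw [lift_coe, h]
  rfl

theorem sub_img {L : Subgroup S} {f : S → S} (hf : MapS F L f) :
    sub (CfsgLib.MaxClassCube.img L f) = img (sub L) (lift f) := by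
  ext y
  constructor
  · intro hy
    obtain ⟨z, hz, rfl⟩ := exists_of_mem_sub hy
    obtain ⟨x, hx, rfl⟩ := (mulOn_mapS hf).mem_img.1 hz
    exact hf.mem_img.2 ⟨x, mem_sub.2 hx, lift_coe f x⟩
  · intro hy
    obtain ⟨w, hw, rfl⟩ := hf.mem_img.1 hy
    obtain ⟨x, hx, rfl⟩ := exists_of_mem_sub hw
    rw [lift_coe]
    exact mem_sub.2 ((mulOn_mapS hf).mem_of_mem hx)

variable [Finite S] {p : ℕ} [Fact p.Prime]

theorem isMap_autFun_of {Q : Subgroup Ω} (hQ : Q ≤ S) {γ : MulAut Q} (hγ : γ ∈ F.autGroup Q) :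
    IsMap F Q (autFun γ) := (mem_autGroup_iff hQ).1 hγ

/-- Extension of a self-map to the normalizer, up to maps of weight one. -/
theorem exists_ext (hS : IsPGroup p S) (hF : F.IsSaturated p) (L : Subgroup S) :
    ∃ f, MapS F L f ∧ ∀ α, MapS F (CfsgLib.MaxClassCube.img L f) α →
      (∀ x ∈ CfsgLib.MaxClassCube.img L f, α x ∈ CfsgLib.MaxClassCube.img L f) →
    ∃ ν, MapS F (normalizer ((CfsgLib.MaxClassCube.img L f : Subgroup S) : Set S)) ν ∧
      (∀ x ∈ normalizer ((CfsgLib.MaxClassCube.img L f : Subgroup S) : Set S),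
        ν x ∈ normalizer ((CfsgLib.MaxClassCube.img L f : Subgroup S) : Set S)) ∧
      (∀ x ∈ CfsgLib.MaxClassCube.img L f, ν x ∈ CfsgLib.MaxClassCube.img L f) ∧
      ∀ A B : Subgroup S, Step p A B → A ≤ CfsgLib.MaxClassCube.img L f →
        (∀ β, MapS F (CfsgLib.MaxClassCube.img L f) β →
          (∀ x ∈ CfsgLib.MaxClassCube.img L f, β x ∈ CfsgLib.MaxClassCube.img L f) →
          (∀ x ∈ A, β x ∈ A) ∧ ∀ x ∈ B, β x ∈ B) →
        ∀ r : ℤ, Wt A B α r → Wt A B ν r := by
  obtain ⟨Q, hQ, hQn⟩ := exists_fullyNormalized (F := F) (sub_le L)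
  obtain ⟨f', hf', hf'Q⟩ := isConj_iff.1 hQ
  refine ⟨down f', mapS_down hf', fun α hα hαL => ?_⟩
  set L' := CfsgLib.MaxClassCube.img L (down f') with hL'
  have hQeq : sub L' = Q := by
    rw [hL', sub_img (mapS_down hf')]
    refine Eq.trans (IsMap.img_congr fun y hy => ?_) hf'Q
    obtain ⟨x, hx, rfl⟩ := exists_of_mem_sub hy
    rw [lift_coe, coe_down hf' hx]
  subst hQeq
  obtain ⟨haut, hrec⟩ := IsSaturated.automized_receptive hS hF hQn
  have hQS := sub_le L'
  haveI := finite_of_le hQS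
  haveI := finite_mulAut (P := sub L')
  have hαimg : img (sub L') (lift α) = sub L' := eq_of_le_of_card_le hQS (fun y hy => by
    obtain ⟨w, hw, rfl⟩ := IsMap.mem_img hα |>.1 hy
    obtain ⟨x, hx, rfl⟩ := exists_of_mem_sub hw
    rw [lift_coe]
    exact mem_sub.2 (hαL x hx)) (IsMap.card_img hα).ge
  set A := F.autGroup (sub L')
  set T := autInducedBy S (sub L')
  let gens : Set (MulAut (sub L')) := {γ | γ ∈ A ∧ ∃ k : ℕ, γ ^ p ^ k = 1}
  set A₀ := closure gens
  have hTA : T ≤ A := autInducedBy_le_autGroup hQS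
  have hTgen : ∀ {γ}, γ ∈ T → γ ∈ gens := fun {γ} hγ => ⟨hTA hγ, by
    obtain ⟨k, hk⟩ := isPGroup_autInducedBy hS ⟨γ, hγ⟩
    exact ⟨k, congrArg Subtype.val hk⟩⟩
  have hA₀A : A₀ ≤ A := (closure_le _).2 fun γ hγ => hγ.1
  have hi : ¬ p ∣ T.relIndex A₀ := fun hd => ((isFullyAutomized_iff hS).1 haut).2 (by
    rw [← relIndex_mul_relIndex T A₀ A (fun γ hγ => subset_closure (hTgen hγ)) hA₀A]
    exact dvd_mul_of_dvd_left hd _)
  set a := autOf hα hαimg
  have haA : a ∈ A := autOf_mem hα hαimg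
  have hR : conjBy a T ≤ A₀ := conjBy_le_iff.2 fun γ hγ => subset_closure (by
    obtain ⟨hγA, k, hk⟩ := hTgen hγ
    exact ⟨A.mul_mem (A.mul_mem haA hγA) (A.inv_mem haA), k, by rw [conj_pow, hk, mul_one, mul_inv_cancel]⟩)
  obtain ⟨h, hh, hhT⟩ := exists_conj_le_of_not_dvd_relIndex (isPGroup_autInducedBy hS)
    (fun γ hγ => subset_closure (hTgen hγ)) hi (isPGroup_conjBy a (isPGroup_autInducedBy hS)) hR
  rw [conjBy_conjBy] at hhT
  set β := h * a
  have hβA : β ∈ A := A.mul_mem (hA₀A hh) haA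
  have hβmap := isMap_autFun_of hQS hβA
  obtain ⟨g, hg, hgβ⟩ := (isReceptive_iff.1 hrec).2 (sub L') (autFun β) hβmap (img_autFun β)
  have hext : normalizerIn S (sub L') ≤ extSub S (sub L') (autFun β) := fun m hm => by
    refine ⟨hm, ?_⟩
    obtain ⟨k, hk, hact⟩ := mem_autInducedBy_iff.1 (hhT (conj_mem_conjBy (conjAut_mem hm.1 hm.2)))
    refine ⟨k, hk, fun x hx => ?_⟩
    rw [← hact _ (autFun_mem β hx), ← autFun_mul _ _ hx, inv_mul_cancel_right, autFun_mul _ _ hx,
      autFun_conjAut hm.2 hx]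
  have hgN : IsMap F (sub (normalizer ((L' : Subgroup S) : Set S))) g := by
    rw [sub_normalizer]; exact hg.mono hext
  refine ⟨down g, mapS_down hgN, fun x hx => ?_, fun x hx => ?_, fun A' B' hst hA' hinv r hw => ?_⟩
  · rw [← mem_sub, coe_down hgN hx, sub_normalizer]
    have h1 := mem_sub.2 hx
    rw [sub_normalizer] at h1
    have h2 := map_mem_normalizerIn (hg.mono hext) (le_normalizerIn hQS) h1 h1.2
    rwa [IsMap.img_congr hgβ, img_autFun] at h2
  · rw [← mem_sub, coe_down hgN (le_normalizer hx), hgβ _ (mem_sub.2 hx)]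
    exact autFun_mem β (mem_sub.2 hx)
  -- products of elements of `p`-power order have weight one
  let triv : Submonoid (MulAut (sub L')) :=
    { carrier := {γ | ∀ x ∈ A', ∃ y ∈ A', (y : Ω) = autFun γ x ∧ x⁻¹ * y ∈ B'}
      one_mem' := fun x hx => ⟨x, hx, (autFun_one (mem_sub.2 (hA' hx))).symm, by simp⟩
      mul_mem' := fun {γ δ} hγ hδ x hx => by
        obtain ⟨y, hy, hyx, hyB⟩ := hδ x hx
        obtain ⟨z, hz, hzy, hzB⟩ := hγ y hy
        refine ⟨z, hz, ?_, ?_⟩
        · rw [autFun_mul γ δ (mem_sub.2 (hA' hx)), ← hyx, hzy]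
        · have := mul_mem hyB hzB
          rwa [mul_assoc, mul_inv_cancel_left] at this }
  have htriv : ∀ γ ∈ A₀, γ ∈ triv := by
    intro γ hγ
    induction hγ using closure_induction with
    | mem γ hγ =>
      obtain ⟨hγA, k, hk⟩ := hγ
      have hm := isMap_autFun_of hQS hγA
      have hself : ∀ x ∈ L', down (autFun γ) x ∈ L' := fun x hx => by
        rw [← mem_sub, coe_down hm hx]
        exact autFun_mem γ (mem_sub.2 hx)
      obtain ⟨hiA, hiB⟩ := hinv _ (mapS_down hm) hself
      have hmul := (mulOn_mapS (mapS_down hm)).mono hA'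
      have hit : ∀ (j : ℕ) (x : S), x ∈ L' →
          ((down (autFun γ))^[j] x : S) ∈ L' ∧
            ((((down (autFun γ))^[j] x : S)) : Ω) = autFun (γ ^ j) x := by
        intro j
        induction j with
        | zero => exact fun x hx => ⟨hx, (autFun_one (mem_sub.2 hx)).symm⟩
        | succ j ih =>
          intro x hx
          obtain ⟨h1, h2⟩ := ih x hx
          rw [Function.iterate_succ_apply']
          refine ⟨hself _ h1, ?_⟩
          rw [coe_down hm h1, h2, pow_succ', autFun_mul _ _ (mem_sub.2 hx)]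
      have h1 := hst.wt_one_of_pow hmul hiB hiA (k := k) fun x hx => Subtype.ext <| by
        rw [(hit _ x (hA' hx)).2, hk, autFun_one (mem_sub.2 (hA' hx))]
      intro x hx
      refine ⟨down (autFun γ) x, hiA x hx, coe_down hm (hA' hx), ?_⟩
      simpa using h1 x hx
    | one => exact one_mem triv
    | mul γ δ _ _ hγ hδ => exact mul_mem hγ hδ
    | inv γ _ hγ =>
      have hfin := isOfFinOrder_of_finite γ
      have h1 : γ⁻¹ ∈ Submonoid.powers γ := hfin.mem_powers_iff_mem_zpowers.2 (inv_mem (mem_zpowers γ))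
      exact (Submonoid.powers_le.2 hγ) h1
  intro x hx
  obtain ⟨hαA, -⟩ := hinv α hα hαL
  obtain ⟨y, -, hyx, hyB⟩ := htriv h hh (α x) (hαA x hx)
  have hνx : down g x = y := by
    refine Subtype.ext ?_
    rw [coe_down hgN (le_normalizer (hA' hx)), hgβ _ (mem_sub.2 (hA' hx)), hyx,
      autFun_mul _ _ (mem_sub.2 (hA' hx)), autFun_autOf hα hαimg (mem_sub.2 (hA' hx)), lift_coe]
  rw [hνx]
  have h2 := mul_mem (hw x hx) hyB
  rwa [mul_assoc, mul_inv_cancel_left] at h2

/-- The system of maps of `F`, with the class of `E₀`. -/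
noncomputable def sys (hS : IsPGroup p S) (hF : F.IsSaturated p) (E₀ : Subgroup Ω)
    (hcub : ∀ Q : Subgroup S, F.IsConj E₀ (sub Q) → Cubic p Q) : Sys S p where
  Map := MapS F
  cube Q := F.IsConj E₀ (sub Q)
  mulOn := mulOn_mapS
  inj := fun {L f} hf => inj_mapS hf
  mono := fun hf hle => IsMap.mono hf (map_mono hle)
  conj L g := (isMap_conj (sub_le L) g.2).congr fun y hy => by
    obtain ⟨x, -, rfl⟩ := exists_of_mem_sub hy
    rw [lift_coe]
    rfl
  comp := fun {L f g} hf hg => by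
    refine (IsMap.comp hf hg fun y hy => ?_).congr fun y hy => ?_
    · rw [sub_img hf]; exact hf.mem_img.2 ⟨y, hy, rfl⟩
    · obtain ⟨x, -, rfl⟩ := exists_of_mem_sub hy
      rw [Function.comp_apply, lift_coe, lift_coe f, lift_coe]
      rfl
  inv := fun {L f} hf => by
    obtain ⟨f', hf', h1, -⟩ := IsMap.exists_inv hf
    rw [← sub_img hf] at hf'
    refine ⟨down f', mapS_down hf', fun x hx => Subtype.ext ?_⟩
    rw [coe_down hf' ((mulOn_mapS hf).mem_of_mem hx), ← lift_coe, h1 _ (mem_sub.2 hx)]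
  cubic := fun {E} h => hcub E h
  cube_map := fun {E f} h hf => by
    rw [sub_img hf]
    exact isConj_trans h (isConj_iff.2 ⟨lift f, hf, rfl⟩)
  ext := exists_ext hS hF

end CfsgLib.Fusion.MaxClassCubeSystem
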