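import Cfsg.Agent.Lib.Fusion.System.SporadicTwoSimple
import Cfsg.Agent.Lib.Fusion.System.AltEightCentralizer
import Cfsg.Agent.Lib.Spor.McLPerm.Centralizer

/-!
# The 2-fusion system of the McLaughlin group is simple
-/

set_option autoImplicit false
set_option maxRecDepth 20000
set_option linter.style.haveILetI false

namespace CfsgLib.Fusion.McLTwo

open CfsgLib.Spor CfsgLib.Spor.McLPerm

theorem eight_check : ((McLPerm.basePts.all fun b => itN (qN 1) 8 b == b && itN (qN 1) 4 b == qN 28 b) &&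
    McLPerm.basePts.any fun b => !(itN (qN 1) 4 b == b)) = true := by decide +kernel

theorem class_check : ((List.range 128).all fun q => (McLPerm.basePts.all fun b => itN (qN q) 4 b == b) ||
    (List.range 128).any fun r => McLPerm.basePts.all fun b => qN q (qN r b) == qN r (qN 1 b)) = true := by
  decide +kernel

theorem gen_check : (([2, 22, 27, 28, 60, 77].all fun q => McLPerm.basePts.all fun b => qN q (qN q b) == b) &&
    McLPerm.basePts.all fun b => sgN 0 b == qN 2 (qN 60 (qN 77 b)) && sgN 1 b == qN 27 (qN 28 b) &&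
      sgN 2 b == qN 22 (qN 28 b)) = true := by decide +kernel

theorem pow_eight : Q 1 ^ 8 = 1 ∧ Q 1 ^ 4 = E zI ∧ Q 1 ^ 4 ≠ 1 := by
  have h := eight_check
  simp only [Bool.and_eq_true, List.all_eq_true, List.any_eq_true, beq_iff_eq, Bool.not_eq_true',
    beq_eq_false_iff_ne] at h
  obtain ⟨h, b, hb, hne⟩ := h
  have d4 := (does_Q (show 1 < 128 by norm_num)).pow 4
  refine ⟨eq_of_does ((does_Q (show 1 < 128 by norm_num)).pow 8) does_one fun b hb => (h b hb).1,
    ?_, fun e => hne (d4.congr_base does_one e hb)⟩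
  rw [← Q_28]
  exact eq_of_does d4 (does_Q (by norm_num)) fun b hb => (h b hb).2

theorem conj_Q_one {q : ℕ} (hq : q < 128) (h8 : Q q ^ 4 ≠ 1) :
    ∃ r < 128, Q r * Q 1 * (Q r)⁻¹ = Q q := by
  have h := class_check
  simp only [List.all_eq_true, List.mem_range, Bool.or_eq_true, List.any_eq_true, beq_iff_eq] at h
  rcases h q hq with h | ⟨r, hr, h⟩
  · exact absurd (eq_of_does ((does_Q hq).pow 4) does_one h) h8
  · refine ⟨r, hr, mul_inv_eq_iff_eq_mul.2 ?_⟩
    exact (eq_of_does ((does_Q hq).mul (does_Q hr))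
      ((does_Q hr).mul (does_Q (show 1 < 128 by norm_num))) h).symm

/-- The centralizer of the element of order eight has no elements of odd order. -/
theorem eq_one_of_commute_eight {g : ↥P} (hc : g * Q 1 = Q 1 * g)
    (hg : (orderOf g).Coprime 2) : g = 1 := by
  have := finite_P
  haveI : Fact (Nat.Prime 2) := ⟨Nat.prime_two⟩
  obtain ⟨-, hz, hz1⟩ := pow_eight
  set d := E dI
  have ht : E tI = MulAut.conj d (Q 1 ^ 4) := by rw [hz]; exact t_conj
  have hmem : ∀ u : ↥P, u * Q 1 = Q 1 * u → MulAut.conj d u ∈ Cent.K := by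
    intro u hu
    rw [Cent.card_K.2, Cent.C, Subgroup.mem_centralizer_singleton_iff, ht, ← map_mul, ← map_mul,
      (Commute.pow_right (show Commute u (Q 1) from hu) 4).eq]
  set x' : ↥Cent.K := ⟨MulAut.conj d (Q 1), hmem _ rfl⟩ with hx'
  set g' : ↥Cent.K := ⟨MulAut.conj d g, hmem _ hc⟩ with hg'
  have ker_sq : ∀ u : ↥Cent.K, u ∈ Cent.phi.ker → u * u = 1 := by
    intro u hu
    have h := pow_card_eq_one' (x := (⟨u, hu⟩ : ↥Cent.phi.ker))
    rw [Cent.ker_and_range.1, pow_two] at h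
    exact congrArg Subtype.val h
  have hx4 : x' ^ 4 = ⟨E tI, Cent.t_mem_K⟩ := Subtype.ext (by
    rw [Subgroup.coe_pow, hx', ← map_pow, ← ht])
  have hy4 : Cent.phi x' ^ (2 ^ (1 + 1)) = 1 := by
    rw [← map_pow, show (2 : ℕ) ^ (1 + 1) = 4 from rfl, hx4]
    exact MonoidHom.mem_ker.1 Cent.t_ker
  have hy2 : ¬ Cent.phi x' ^ 2 ^ 1 = 1 := fun e => by
    have h := ker_sq (x' ^ 2) (MonoidHom.mem_ker.2 (by rw [map_pow]; exact e))
    rw [← pow_add, hx4] at h
    exact Cent.t_ne_one (congrArg Subtype.val h)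
  have hsign : Equiv.Perm.sign (Cent.phi x') = 1 :=
    Equiv.Perm.mem_alternatingGroup.1 (Cent.ker_and_range.2 ▸ ⟨x', rfl⟩)
  have hord : orderOf g' = orderOf g := by
    rw [← Subgroup.orderOf_coe, hg', MulEquiv.orderOf_eq]
  have h1 : Cent.phi g' = 1 := by
    refine CfsgLib.Fusion.eq_one_of_odd_commute_four hsign (orderOf_eq_prime_pow hy2 hy4) ?_
      (hg.coprime_dvd_left (hord ▸ orderOf_map_dvd Cent.phi g'))
    rw [← map_mul, ← map_mul]
    exact congrArg Cent.phi (Subtype.ext (by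
      show MulAut.conj d g * MulAut.conj d (Q 1) = MulAut.conj d (Q 1) * MulAut.conj d g
      rw [← map_mul, hc, map_mul]))
  have h2 := ker_sq g' h1
  have h3 : orderOf g ∣ 2 := hord ▸ orderOf_dvd_of_pow_eq_one (by rw [pow_two]; exact h2)
  exact orderOf_eq_one_iff.1 (Nat.eq_one_of_dvd_coprimes hg dvd_rfl h3)

/-- A Sylow two-subgroup. -/
noncomputable def syl [Finite ↥P] : Sylow 2 ↥P :=
  haveI : Fact (Nat.Prime 2) := ⟨Nat.prime_two⟩
  Sylow.ofCard S2 (by rw [card_S2, card_P, multiplicities.1]; norm_num)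

theorem normalizer_syl [Finite ↥P] :
    Subgroup.normalizer (S2 : Set ↥P) = S2 := by
  haveI : Fact (Nat.Prime 2) := ⟨Nat.prime_two⟩
  refine le_antisymm (fun g hg => ?_) Subgroup.le_normalizer
  have h8 := pow_eight
  obtain ⟨q, hq, e⟩ := mem_S2 ((Subgroup.mem_normalizer_iff.1 hg _).1 (tree_mem 1 (by norm_num)))
  have hne : Q q ^ 4 ≠ 1 := fun h => h8.2.2 (by
    rw [e, conj_pow, mul_inv_eq_one] at h
    exact mul_left_cancel (h.trans (mul_one g).symm))
  obtain ⟨r, hr, hre⟩ := conj_Q_one hq hne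
  rw [e] at hre
  have hrS := tree_mem r hr
  suffices h : (Q r)⁻¹ * g ∈ S2 by
    simpa using mul_mem hrS h
  have hn : (Q r)⁻¹ * g ∈ Subgroup.normalizer (S2 : Set ↥P) :=
    mul_mem (inv_mem (Subgroup.le_normalizer hrS)) hg
  have hcomm : (Q r)⁻¹ * g * Q 1 = Q 1 * ((Q r)⁻¹ * g) := by
    calc (Q r)⁻¹ * g * Q 1 = (Q r)⁻¹ * (g * Q 1 * g⁻¹) * g := by group
      _ = (Q r)⁻¹ * (Q r * Q 1 * (Q r)⁻¹) * g := by rw [hre]
      _ = Q 1 * ((Q r)⁻¹ * g) := by group
  obtain ⟨a, b, hab, ha, hb, ⟨k, hk⟩, hbo⟩ := CfsgLib.CFun.exists_parts (p := 2) ((Q r)⁻¹ * g)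
  have hb1 : b = 1 := by
    refine eq_one_of_commute_eight ?_ hbo
    have hz : Subgroup.zpowers ((Q r)⁻¹ * g) ≤ Subgroup.centralizer ({Q 1} : Set ↥P) :=
      Subgroup.zpowers_le.2 (Subgroup.mem_centralizer_singleton_iff.2 hcomm)
    exact Subgroup.mem_centralizer_singleton_iff.1 (hz hb)
  have h1 : Subgroup.zpowers a ⊓ Subgroup.normalizer (S2 : Set ↥P) = Subgroup.zpowers a ⊓ S2 :=
    (CfsgLib.Fusion.isPGroup_zpowers_of_pow hk).inf_normalizer_sylow syl
  rw [hab, hb1, mul_one]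
  have h2 : a ∈ Subgroup.zpowers a ⊓ Subgroup.normalizer (S2 : Set ↥P) :=
    Subgroup.mem_inf.2 ⟨Subgroup.mem_zpowers a, Subgroup.zpowers_le.2 hn ha⟩
  rw [h1] at h2
  exact h2.2

theorem gens_spec : (∀ q ∈ [2, 22, 27, 28, 60, 77], Q q * Q q = 1) ∧
    G2 0 = Q 2 * (Q 60 * Q 77) ∧ G2 1 = Q 27 * Q 28 ∧ G2 2 = Q 22 * Q 28 := by
  have h := gen_check
  simp only [Bool.and_eq_true, List.all_eq_true, beq_iff_eq] at h
  obtain ⟨h1, h2⟩ := h
  refine ⟨fun q hq => ?_, ?_, ?_, ?_⟩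
  · have hq' : q < 128 := by
      simp only [List.mem_cons, List.not_mem_nil, or_false] at hq
      omega
    exact eq_of_does ((does_Q hq').mul (does_Q hq')) does_one (h1 q hq)
  · exact eq_of_does (does_G2 (by norm_num)) ((does_Q (by norm_num)).mul
      ((does_Q (by norm_num)).mul (does_Q (by norm_num)))) fun b hb => (h2 b hb).1.1
  · exact eq_of_does (does_G2 (by norm_num)) ((does_Q (by norm_num)).mul (does_Q (by norm_num)))
      fun b hb => (h2 b hb).1.2
  · exact eq_of_does (does_G2 (by norm_num)) ((does_Q (by norm_num)).mul (does_Q (by norm_num)))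
      fun b hb => (h2 b hb).2

theorem coreData [Finite ↥P] : CfsgLib.Fusion.HasCoreData 2 (syl : Subgroup ↥P) := by
  haveI : Fact (Nat.Prime 2) := ⟨Nat.prime_two⟩
  have hsyl : (syl : Subgroup ↥P) = S2 := rfl
  have hN := normalizer_syl
  rw [hsyl]
  refine ⟨fun hb => ?_, fun T hT hne hcl => ?_, S2, le_rfl, Subgroup.le_normalizer,
    (Subgroup.centralizer_le_normalizer _).trans hN.le, ?_⟩
  · have h := card_S2
    rw [hb, Subgroup.card_bot] at h
    norm_num at h
  · refine CfsgLib.Fusion.le_of_closed_one_class syl.2 (fun x y hx hy => _root_.isConj_iff.1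
      ((Cent.one_class x hx).symm.trans (Cent.one_class y hy)))
      (U := (fun q => Q q) '' {q | q ∈ [2, 22, 27, 28, 60, 77]}) ?_ ?_ T hT hne hcl
    · obtain ⟨-, e0, e1, e2⟩ := gens_spec
      have hm : ∀ q ∈ [2, 22, 27, 28, 60, 77],
          Q q ∈ Subgroup.closure ((fun q => Q q) '' {q | q ∈ [2, 22, 27, 28, 60, 77]}) :=
        fun q hq => Subgroup.subset_closure ⟨q, hq, rfl⟩
      refine (Subgroup.closure_le _).2 ?_
      rintro _ ⟨k, rfl⟩
      fin_cases k
      · show G2 0 ∈ _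
        exact e0 ▸ mul_mem (hm 2 (by simp)) (mul_mem (hm 60 (by simp)) (hm 77 (by simp)))
      · show G2 1 ∈ _
        exact e1 ▸ mul_mem (hm 27 (by simp)) (hm 28 (by simp))
      · show G2 2 ∈ _
        exact e2 ▸ mul_mem (hm 22 (by simp)) (hm 28 (by simp))
    · rintro _ ⟨q, hq, rfl⟩
      refine ⟨tree_mem q ?_, gens_spec.1 q hq⟩
      simp only [Set.mem_ofPred_eq, List.mem_cons, List.not_mem_nil, or_false] at hq
      omega
  · intro g hg
    refine Subgroup.subset_closure ⟨hg, ?_⟩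
    have hgS : g ∈ S2 := hN ▸ hg
    obtain ⟨k, hk⟩ := IsPGroup.iff_orderOf.1 syl.2 ⟨g, hgS⟩
    exact ⟨k, (Subgroup.orderOf_mk g hgS).symm.trans hk⟩

theorem isSimple {G : Type*} [Group G] [Finite G] (hG : Cfsg.Spor.IsoMcL G) (S : Sylow 2 G) :
    (Cfsg.groupFusionSystem (S : Subgroup G)).IsSimple 2 := by
  haveI : Fact (Nat.Prime 2) := ⟨Nat.prime_two⟩
  have := finite_P
  obtain ⟨e⟩ := hG
  obtain ⟨e'⟩ := nonempty_equiv_McL
  exact CfsgLib.Fusion.isSimple_group_of_coreData (e.trans e').symm syl coreData S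

end CfsgLib.Fusion.McLTwo
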