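import Cfsg.Agent.Lib.Fusion.System.TransportNormal

/-!
# Conjugates of subnormal subsystems and components
-/

set_option autoImplicit false
set_option linter.style.haveILetI false

open Subgroup
open scoped Classical

namespace CfsgLib.Fusion.Transport

open Cfsg (FusionSystem)
open Cfsg.FusionSystem (normalizerIn centralizerIn preimageAlong imageAlong InducedAlong)
open CfsgLib.Fusion

universe u

variable {Ω : Type u} [Group Ω] {S T : Subgroup Ω} {p : ℕ} [Fact p.Prime] {F : FusionSystem S}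

omit [Fact p.Prime] in
theorem giso_of_isMap {f f' : Ω → Ω} {T' : Subgroup Ω} (hf : IsMap F T f) (himg : img T f = T')
    (hl : ∀ x ∈ T, f' (f x) = x) (hr : ∀ y ∈ T', f' y ∈ T ∧ f (f' y) = y) : GIso T T' f f' :=
  ⟨fun x hx => himg.le (hf.mem_img.2 ⟨x, hx, rfl⟩), fun y hy => (hr y hy).1, hl, fun y hy => (hr y hy).2,
    fun _ hx _ hy => hf.map_mul hx hy⟩

omit [Fact p.Prime] in
/-- Two images of a system under the same isomorphism have the same maps. -/
theorem sameMaps {E : FusionSystem T} {T' : Subgroup Ω} {E₁ E₂ : FusionSystem T'} {e e' : Ω → Ω}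
    (h₁ : SysIso E E₁ e e') (h₂ : SysIso E E₂ e e') (P : Subgroup Ω) : E₁.Hom P = E₂.Hom P :=
  Set.Subset.antisymm (h₂.subsystem h₁ (fun _ _ h => h) P) (h₁.subsystem h₂ (fun _ _ h => h) P)

omit [Fact p.Prime] in
theorem eq_of_sameMaps {E₁ E₂ : FusionSystem T} (h : ∀ P, E₁.Hom P = E₂.Hom P) : E₁ = E₂ := by
  cases E₁; cases E₂
  congr
  exact funext h

omit [Fact p.Prime] in
theorem IsAut.sysIso [Finite S] {a : Ω → Ω} (ha : IsAut F S a) :
    ∃ a', SysIso F F a a' ∧ IsMap F S a' := by
  obtain ⟨a', ha', hl, hr⟩ := ha.1.exists_inv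
  rw [ha.2] at ha' hr
  have g : GIso S S a a' := giso_of_isMap ha.1 ha.2 hl hr
  refine ⟨a', ⟨g, fun P f hf => ?_, fun P f hf => ?_⟩, ha'⟩
  · have h1 : IsMap F (im a P) a' := ha'.mono (g.im_le hf.le)
    have h2 : IsMap F P (a ∘ f) := hf.comp ha.1 fun x hx => hf.mem_S hx
    exact h1.comp h2 fun x hx => ((g.mem_im_iff hf.le).1 hx).2
  · have h1 : IsMap F (im a' P) a := ha.1.mono (g.symm.im_le hf.le)
    have h2 : IsMap F P (a' ∘ f) := hf.comp ha' fun x hx => hf.mem_S hx
    exact h1.comp h2 fun x hx => ((g.symm.mem_im_iff hf.le).1 hx).2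

theorem sysIso_of_invariant {U : Subgroup Ω} {D : FusionSystem U} (hn : D.IsNormalIn F p)
    {a : Ω → Ω} (ha : IsAut F U a) : ∃ a', SysIso D D a a' := by
  have H := normalData_iff.1 hn
  obtain ⟨a', ha', hl, hr⟩ := ha.1.exists_inv
  rw [ha.2] at ha' hr
  have g : GIso U U a a' := giso_of_isMap ha.1 ha.2 hl hr
  have haI : IsAut F U a' := ⟨ha', le_antisymm (g.symm.im_le le_rfl) (g.symm.im_top.ge)⟩
  refine ⟨a', g, fun P f hf => ?_, fun P f hf => ?_⟩
  · obtain ⟨k, hk, hke⟩ := H.inv P f a hf ha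
    refine hk.congr fun y hy => ?_
    obtain ⟨x, hx, rfl⟩ := (g.mem_im hf.le).1 hy
    rw [hke x hx, Function.comp_apply, Function.comp_apply, g.left x (hf.le hx)]
  · obtain ⟨k, hk, hke⟩ := H.inv P f a' hf haI
    refine hk.congr fun y hy => ?_
    obtain ⟨x, hx, rfl⟩ := (g.symm.mem_im hf.le).1 hy
    rw [hke x hx, Function.comp_apply, Function.comp_apply, g.right x (hf.le hx)]

omit [Fact p.Prime] in
theorem subnormal_le {E : FusionSystem T} (h : E.IsSubnormalIn F p) : T ≤ S := by
  induction h with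
  | refl => exact le_rfl
  | step _ hD ih => exact ih.trans hD.1.2.2.2.1.1

theorem subnormal_transport {E : FusionSystem T} (h : E.IsSubnormalIn F p) :
    ∀ {S' : Subgroup Ω} {F' : FusionSystem S'} {e e' : Ω → Ω}, Fact p.Prime → Finite S → IsPGroup p S →
      SysIso F F' e e' →
      ∃ E' : FusionSystem (im e T), SysIso E E' e e' ∧ E'.IsSubnormalIn F' p := by
  induction h with
  | refl F p =>
    intro S' F' e e' _ _ _ hF
    obtain rfl := hF.giso.im_top
    exact ⟨F', hF, .refl F' p⟩
  | @step U S E D F p hED hD ih =>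
    intro S' F' e e' hp hfin hS hF
    haveI := hp
    haveI := hfin
    have hUS : U ≤ S := hD.1.2.2.2.1.1
    haveI : Finite U := finite_of_le hUS
    obtain ⟨D', hD'⟩ := exists_image (hF.giso.restrict hUS) D
    obtain ⟨E', hE', hsn⟩ := ih hp inferInstance (hS.to_le hUS) hD'
    exact ⟨E', hE', .step hsn (hF.normal hS hD' hD)⟩

/-- Images of subnormal subsystems under maps of the system are subnormal. -/
theorem subnormal_conjugate {E : FusionSystem T} (h : E.IsSubnormalIn F p) :
    ∀ (f : Ω → Ω), Fact p.Prime → Finite S → IsPGroup p S → IsMap F T f →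
      ∃ (f' : Ω → Ω) (E' : FusionSystem (im f T)), SysIso E E' f f' ∧ E'.IsSubnormalIn F p := by
  induction h with
  | @refl F p =>
    intro f _ hfin _ hf
    haveI := hfin
    have himg : img T f = T := img_eq_of_map_le le_rfl hf le_rfl fun x hx => hf.mem_S hx
    obtain ⟨f', hI, -⟩ := IsAut.sysIso (F := F) ⟨hf, himg⟩
    refine ⟨f', ?_⟩
    rw [show im f T = T from himg]
    exact ⟨F, hI, .refl F p⟩
  | @step U S E D F p hED hD ih =>
    intro f hp hfin hS hf
    haveI := hp
    haveI := hfin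
    have hUS : U ≤ S := hD.1.2.2.2.1.1
    haveI : Finite U := finite_of_le hUS
    have hTU : T ≤ U := subnormal_le hED
    obtain ⟨a, f0, ha, hf0, he⟩ := (normalData_iff.1 hD).frat T f hTU hf
    obtain ⟨f0', E₁, hE₁, hs₁⟩ := ih f0 hp inferInstance (hS.to_le hUS) hf0
    obtain ⟨a', hDD⟩ := sysIso_of_invariant hD ha
    obtain ⟨E₂, hE₂, hs₂⟩ := subnormal_transport hs₁ hp (inferInstance : Finite U) (hS.to_le hUS) hDD
    have him : im a (im f0 T) = im f T := by
      show Subgroup.closure (a '' (im f0 T : Set Ω)) = Subgroup.closure (f '' (T : Set Ω))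
      rw [hE₁.giso.coe_im le_rfl, Set.image_image]
      exact congrArg _ (Set.image_congr fun x hx => (he x hx).symm)
    refine ⟨f0' ∘ a', ?_⟩
    rw [← him]
    exact ⟨E₂, (hE₁.comp hE₂).congr he fun _ _ => rfl, .step hs₂ hD⟩

omit [Fact p.Prime] in
theorem preimage_unique {E : FusionSystem T} {T₁ T₂ : Subgroup Ω} {E₁ : FusionSystem T₁}
    {E₂ : FusionSystem T₂} {e e' d' : Ω → Ω} (h₁ : SysIso E E₁ e e') (h₂ : SysIso E E₂ e d')
    (P : Subgroup Ω) : E₁.Hom P = E₂.Hom P := by
  obtain rfl : T₁ = T₂ := h₁.giso.im_top.symm.trans h₂.giso.im_top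
  refine sameMaps h₁ (h₂.congr (fun _ _ => rfl) fun y hy => ?_) P
  exact h₂.giso.inj (h₁.giso.map' y hy) (h₂.giso.map' y hy)
    ((h₁.giso.right y hy).trans (h₂.giso.right y hy).symm)

/-- The image of a component under a map of the system is a component. -/
theorem component_conjugate [Finite S] (hS : IsPGroup p S) {E : FusionSystem T}
    (hE : E.IsComponentIn F p) {f : Ω → Ω} (hf : IsMap F T f) {T' : Subgroup Ω} {f' : Ω → Ω}
    {E' : FusionSystem T'} (hI : SysIso E E' f f') : E'.IsComponentIn F p := by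
  haveI : Finite T := finite_of_le hf.le
  obtain ⟨f'', E'', hI'', hsn⟩ := subnormal_conjugate hE.1 f inferInstance inferInstance hS hf
  obtain rfl : im f T = T' := hI.giso.im_top
  rw [eq_of_sameMaps (preimage_unique hI'' hI)] at hsn
  exact ⟨hsn, hI.quasisimple (hS.to_le hf.le) hE.2⟩

/-- The image of a component under an automorphism of the system is a component. -/
theorem component_transport [Finite S] (hS : IsPGroup p S) {S' : Subgroup Ω} {F' : FusionSystem S'}
    {e e' : Ω → Ω} (h : SysIso F F' e e') {E : FusionSystem T} (hE : E.IsComponentIn F p) :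
    ∃ E' : FusionSystem (im e T), SysIso E E' e e' ∧ E'.IsComponentIn F' p := by
  obtain ⟨E', hI, hsn⟩ := subnormal_transport hE.1 inferInstance inferInstance hS h
  haveI : Finite T := finite_of_le (subnormal_le hE.1)
  exact ⟨E', hI, hsn, hI.quasisimple (hS.to_le (subnormal_le hE.1)) hE.2⟩

/-- The layer is invariant under automorphisms of the system. -/
theorem layer_le_image [Finite S] (hS : IsPGroup p S) {e e' : Ω → Ω} (h : SysIso F F e e')
    {E : FusionSystem T} (hE : E.IsLayerOf F p) :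
    ∃ E' : FusionSystem (im e T), SysIso E E' e e' ∧ E.IsSubsystemOf E' := by
  obtain ⟨hn, hcont, hmin⟩ := hE
  have hTS : T ≤ S := hn.1.2.2.2.1.1
  haveI : Finite T := finite_of_le hTS
  obtain ⟨E', hI⟩ := exists_image (h.giso.restrict hTS) E
  refine ⟨E', hI, hmin _ E' (h.normal hS hI hn) fun U C hC => ?_⟩
  obtain ⟨C', hC'I, hC'⟩ := component_transport hS h.symm hC
  exact hI.subsystem hC'I.symm (hcont _ C' hC')

end CfsgLib.Fusion.Transport
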