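import Cfsg.Agent.Lib.Fusion.System.Model
import Cfsg.Agent.Lib.Fusion.System.GroupNormalSub

/-!
# Normal subgroups of a realizing group give normal subsystems; realizable simple systems

If `F` is realized by `G` on a Sylow subgroup and `N` is normal in `G`, the maps induced by `N` on
the preimage of `N` form a normal subsystem of `F`. A simple realizable system is therefore
realized by a simple group.
-/

set_option autoImplicit false
set_option linter.style.haveILetI false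
set_option maxHeartbeats 800000

open Subgroup
open scoped Classical

namespace CfsgLib.Fusion.RealizedNormal

open Cfsg (FusionSystem autInducedBy groupFusionSystem fusionSystemOfSubgroup)
open Cfsg.FusionSystem (normalizerIn centralizerIn preimageAlong imageAlong InducedAlong)

universe u v

section Nested

variable {Ω : Type v} [Group Ω] {S : Subgroup Ω} {F : FusionSystem S} {P : Subgroup Ω}
  {f : Ω → Ω} {p : ℕ} {G : Type u} [Group G] {ι : S →* G} (N : Subgroup G) [N.Normal]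

/-- `f` is induced on `P` by an element of `N`. -/
def NLMap (ι : S →* G) (P : Subgroup Ω) (f : Ω → Ω) : Prop :=
  P ≤ preimageAlong ι N ∧ (∀ x ∈ P, f x ∈ preimageAlong ι N) ∧
    ∃ g ∈ N, ∀ x ∈ P, ext1 ι (f x) = g * ext1 ι x * g⁻¹

variable (hF : F.IsRealizedBy ι)
include hF

theorem NLMap.isMap (h : NLMap N ι P f) : IsMap F P f := by
  obtain ⟨hP, hf, g, -, hg⟩ := h
  have hPS := hP.trans (preimageAlong_le ι N)
  have hfS : ∀ x ∈ P, f x ∈ S := fun x hx => preimageAlong_le ι N (hf x hx)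
  refine (isMap_realized_iff hF).2 ⟨hPS, hfS, fun a ha b hb => ?_, g, hg⟩
  refine ext1_inj hF.1 (hfS _ (mul_mem ha hb)) (S.mul_mem (hfS a ha) (hfS b hb)) ?_
  rw [hg _ (mul_mem ha hb), ext1_mul ι (hfS a ha) (hfS b hb), hg a ha, hg b hb,
    ext1_mul ι (hPS ha) (hPS hb)]
  group

/-- The system induced by `N`. -/
noncomputable def nlSystem : FusionSystem (preimageAlong ι N) :=
  mkSystem F (preimageAlong ι N) (NLMap N ι)
    (fun _ _ h => ⟨h.isMap N hF, h.1, h.2.1⟩)
    (fun P f g ⟨h1, h2, k, hk, hke⟩ he => ⟨h1, fun x hx => by rw [he x hx]; exact h2 x hx, k, hk,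
      fun x hx => by rw [he x hx]; exact hke x hx⟩)
    (fun P t hP ht => by
      obtain ⟨htS, htN⟩ := mem_preimageAlong.1 ht
      refine ⟨hP, fun x hx => mul_mem (mul_mem ht (hP hx)) (inv_mem ht), _, htN, fun x hx => ?_⟩
      exact ext1_conj ι htS (preimageAlong_le ι N (hP hx)))
    (fun P R f g ⟨h1, h2, k, hk, hke⟩ ⟨_, h4, l, hl, hle⟩ hm => ⟨h1, fun x hx => h4 _ (hm x hx),
      l * k, mul_mem hl hk, fun x hx => by
        show ext1 ι (g (f x)) = _
        rw [hle _ (hm x hx), hke x hx]; group⟩)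
    (fun P f f' h hf' he => by
      obtain ⟨h1, h2, k, hk, hke⟩ := id h
      refine ⟨(h.isMap N hF).img_le_of_forall h2, fun y hy => ?_, k⁻¹, inv_mem hk, fun y hy => ?_⟩
      all_goals obtain ⟨x, hx, rfl⟩ := (h.isMap N hF).mem_img.1 hy
      · rw [he x hx]; exact h1 hx
      · rw [he x hx, hke x hx]; group)

theorem isMap_nlSystem_iff : IsMap (nlSystem N hF) P f ↔ NLMap N ι P f :=
  isMap_mkSystem_iff _

variable [Finite S] [Finite G] [Fact p.Prime] (hS : IsPGroup p S) {T : Sylow p G}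
  (hT : (T : Subgroup G) = ι.range)
include hS hT

theorem isSaturated_nlSystem : (nlSystem N hF).IsSaturated p := by
  set U := preimageAlong ι N
  set TN := (T : Subgroup G) ⊓ N with hTN
  have hTNp : IsPGroup p TN := T.2.to_le inf_le_left
  have hTNr : TN ≤ ι.range := inf_le_left.trans hT.le
  set e : S ≃* ι.range := MonoidHom.ofInjective hF.1
  let θ : TN →* Ω := S.subtype.comp (e.symm.toMonoidHom.comp (Subgroup.inclusion hTNr))
  have hθS : ∀ x : TN, θ x ∈ S := fun x => SetLike.coe_mem _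
  have hθι : ∀ x : TN, ext1 ι (θ x) = (x : G) := fun x => by
    show ext1 ι ((e.symm (Subgroup.inclusion hTNr x) : S) : Ω) = _
    rw [ext1_coe]
    exact congrArg Subtype.val (e.apply_symm_apply (Subgroup.inclusion hTNr x))
  have hθU : ∀ x : TN, θ x ∈ U := fun x => mem_preimageAlong.2 ⟨hθS x, by
    rw [hθι]; exact x.2.2⟩
  have hθr : θ.range = U := by
    refine le_antisymm (fun y ⟨x, hx⟩ => hx ▸ hθU x) fun y hy => ?_
    obtain ⟨hyS, hyN⟩ := mem_preimageAlong.1 hy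
    have hm : ext1 ι y ∈ TN := ⟨hT.ge (ext1_mem_range ι y), hyN⟩
    exact ⟨⟨_, hm⟩, ext1_inj hF.1 (hθS _) hyS (hθι _)⟩
  have hmor : (fusionSystemOfSubgroup N TN inf_le_right).IsSurjectiveMorphism (nlSystem N hF) θ := by
    refine ⟨⟨hθU, fun P φ hφ => ?_⟩, hθr, fun P' hP' φ' hφ' => ?_⟩
    · obtain ⟨hP, hφT, g, hgN, hg⟩ := hφ
      have hIU : imageAlong θ P ≤ U := (Subgroup.map_le_range θ _).trans hθr.le
      have hmem : ∀ z ∈ imageAlong θ P, ∃ x : P, θ ⟨x, hP x.2⟩ = z := by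
        rintro z ⟨⟨x, hxT⟩, hx, rfl⟩
        exact ⟨⟨x, hx⟩, rfl⟩
      obtain ⟨k, hk, hke⟩ := exists_map_of_conj hF (g := g)
        (hIU.trans (preimageAlong_le ι N)) fun z hz => by
          obtain ⟨x, rfl⟩ := hmem z hz
          rw [hθι, ← hg x]
          exact hTNr (hφT x)
      have hkv : ∀ x : P, k (θ ⟨x, hP x.2⟩) = θ ⟨φ x, hφT x⟩ := fun x => by
        have hxm : θ ⟨x, hP x.2⟩ ∈ imageAlong θ P := ⟨⟨x, hP x.2⟩, x.2, rfl⟩
        refine ext1_inj hF.1 (hk.mem_S hxm) (hθS _) ?_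
        rw [hke _ hxm, hθι, hθι]
        exact (hg x).symm
      have hkm : IsMap (nlSystem N hF) (imageAlong θ P) k := (isMap_nlSystem_iff N hF).2
        ⟨hIU, fun z hz => by
          obtain ⟨x, rfl⟩ := hmem z hz
          rw [hkv]; exact hθU _, g, hgN, hke⟩
      obtain ⟨ψ, hψ, hψk⟩ := hkm
      exact ⟨ψ, hψ, hP, hφT, fun x => ⟨⟨x, hP x.2⟩, x.2, rfl⟩, fun x => (hψk _).trans (hkv x)⟩
    · obtain ⟨hP'U, hfU, g, hgN, hg⟩ := (isMap_nlSystem_iff N hF).1 (isMap_toFun hφ')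
      have hPT : preimageAlong θ P' ≤ TN := preimageAlong_le θ P'
      have hmem : ∀ x : preimageAlong θ P', θ ⟨x, hPT x.2⟩ ∈ P' := fun x => by
        obtain ⟨u, hu, hux⟩ := x.2
        rw [show (⟨(x : G), hPT x.2⟩ : TN) = u from Subtype.ext hux.symm]
        exact hu
      have hval : ∀ x : preimageAlong θ P',
          g * (x : G) * g⁻¹ = ext1 ι (toFun φ' (θ ⟨x, hPT x.2⟩)) := fun x => by
        rw [hg _ (hmem x), hθι]
      have hTx : ∀ x : preimageAlong θ P', g * (x : G) * g⁻¹ ∈ TN := fun x => by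
        rw [hval x]
        exact ⟨hT.ge (ext1_mem_range ι _), (mem_preimageAlong.1 (hfU _ (hmem x))).2⟩
      refine ⟨Cfsg.conjHom _ g, ⟨hPT, hTx, g, hgN, fun _ => rfl⟩, hPT, hTx, hmem, fun x => ?_⟩
      refine ext1_inj hF.1 (preimageAlong_le ι N ?_) (hθS _) ?_
      · rw [← toFun_apply φ' (hmem x)]; exact hfU _ (hmem x)
      · rw [← toFun_apply φ' (hmem x), hθι]
        exact (hval x).symm
  exact isSaturated_of_surjectiveMorphism hmor hTNp
    (isSaturated_subgroup inf_le_right hTNp (not_dvd_relIndex_inf_of_normal T N))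

theorem isNormalIn_nlSystem : (nlSystem N hF).IsNormalIn F p := by
  set U := preimageAlong ι N with hU
  have hUS : U ≤ S := preimageAlong_le ι N
  haveI : Finite U := finite_of_le hUS
  have hFs := isSaturated_of_realized hF hS hT
  have hTp : IsPGroup p ((T : Subgroup G) ⊓ N : Subgroup G) := T.2.to_le inf_le_left
  have hTNi : ¬ p ∣ ((T : Subgroup G) ⊓ N).relIndex N := not_dvd_relIndex_inf_of_normal T N
  have hmemU : ∀ {x : Ω}, x ∈ U ↔ x ∈ S ∧ ext1 ι x ∈ N := mem_preimageAlong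
  have hUT : ∀ {y : G}, y ∈ (T : Subgroup G) ⊓ N ↔ ∃ x ∈ U, ext1 ι x = y := by
    intro y
    constructor
    · rintro ⟨hyT, hyN⟩
      obtain ⟨s, rfl⟩ := hT.le hyT
      exact ⟨s, hmemU.2 ⟨s.2, by rwa [ext1_coe]⟩, ext1_coe ι s⟩
    · rintro ⟨x, hx, rfl⟩
      exact ⟨hT.ge (ext1_mem_range ι x), (hmemU.1 hx).2⟩
  have hsc : F.StronglyClosed U := stronglyClosed_iff.2 ⟨hUS, fun R f hR hf x hx => by
    obtain ⟨-, hfS, -, g, hg⟩ := (isMap_realized_iff hF).1 hf
    refine hmemU.2 ⟨hfS x hx, ?_⟩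
    rw [hg x hx]
    exact (inferInstance : N.Normal).conj_mem _ (hmemU.1 (hR hx)).2 g⟩
  have hsub : (nlSystem N hF).IsSubsystemOf F := fun R φ hφ =>
    mem_hom_iff.2 ((isMap_nlSystem_iff N hF).1 (isMap_toFun hφ) |>.isMap N hF)
  refine ⟨⟨isSaturated_nlSystem N hF hS hT, hFs, hsub, hsc, ?_, ?_⟩, ?_⟩
  · -- invariance
    intro P hPU φ hφ α hα
    obtain ⟨-, hfU, g, hgN, hg⟩ := (isMap_nlSystem_iff N hF).1 (isMap_toFun hφ)
    obtain ⟨-, -, -, n, hn⟩ := (isMap_realized_iff hF).1 ((mem_autGroup_iff hUS).1 hα)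
    have hαm := ((mem_autGroup_iff hUS).1 hα).mono hPU
    rw [map_subgroupOf_eq_img hPU]
    have hinv : ∀ x ∈ P, autFun α⁻¹ (autFun α x) = x := fun x hx => by
      rw [← autFun_mul _ _ (hPU hx), inv_mul_cancel, autFun_one (hPU hx)]
    have hmap : IsMap (nlSystem N hF) (img P (autFun α))
        (autFun α ∘ toFun φ ∘ autFun α⁻¹) := by
      refine (isMap_nlSystem_iff N hF).2 ⟨hαm.img_le_of_forall fun x hx => autFun_mem α (hPU hx),
        fun y hy => ?_, n * g * n⁻¹, (inferInstance : N.Normal).conj_mem g hgN n, fun y hy => ?_⟩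
      all_goals obtain ⟨x, hx, rfl⟩ := hαm.mem_img.1 hy
      · show autFun α (toFun φ (autFun α⁻¹ (autFun α x))) ∈ U
        rw [hinv x hx]
        exact autFun_mem α (hfU x hx)
      · show ext1 ι (autFun α (toFun φ (autFun α⁻¹ (autFun α x)))) = _
        rw [hinv x hx, hn _ (hfU x hx), hg x hx, hn x (hPU hx)]
        group
    obtain ⟨χ', hχ', hχe⟩ := hmap
    refine ⟨χ', hχ', fun x hφx hαx => ?_⟩
    refine (hχe ⟨_, hαx⟩).trans ?_
    show autFun α (toFun φ (autFun α⁻¹ ((α ⟨x, hPU x.2⟩ : U) : Ω))) = _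
    rw [← autFun_apply α (hPU x.2), hinv _ x.2, toFun_coe, autFun_apply α hφx]
  · -- Frattini
    intro P hPU φ hφ
    obtain ⟨hPS, hfS, -, g, hg⟩ := (isMap_realized_iff hF).1 (isMap_toFun hφ)
    obtain ⟨k, hk, hkT⟩ := exists_conj_le_of_not_dvd_relIndex hTp inf_le_right hTNi
      (isPGroup_conjBy g hTp) (conjBy_le_iff.2 fun x hx =>
        (inferInstance : N.Normal).conj_mem x hx.2 g)
    rw [conjBy_conjBy] at hkT
    set n := k * g with hn
    have hnU : ∀ x ∈ U, n * ext1 ι x * n⁻¹ ∈ (T : Subgroup G) ⊓ N := fun x hx =>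
      hkT (conj_mem_conjBy (hUT.2 ⟨x, hx, rfl⟩))
    obtain ⟨a, ha, hae⟩ := exists_map_of_conj hF hUS fun x hx => hT.le (hnU x hx).1
    have hai : img U a = U := img_eq_of_map_le hUS ha le_rfl fun x hx =>
      hmemU.2 ⟨ha.mem_S hx, (hae x hx).symm ▸ (hnU x hx).2⟩
    set α := autOf ha hai
    obtain ⟨a', ha', ha'1, ha'2⟩ := ha.exists_inv
    have hfU : ∀ x ∈ P, toFun φ x ∈ U := fun x hx =>
      (stronglyClosed_iff.1 hsc).2 P _ hPU (isMap_toFun hφ) x hx
    have hmap : IsMap (nlSystem N hF) P (a' ∘ toFun φ) := by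
      refine (isMap_nlSystem_iff N hF).2 ⟨hPU, fun x hx => (ha'2 _ (hai.ge (hfU x hx))).1, n⁻¹ * g, ?_,
        fun x hx => ?_⟩
      · rw [hn, show (k * g)⁻¹ * g = g⁻¹ * k⁻¹ * g⁻¹⁻¹ by group]
        exact (inferInstance : N.Normal).conj_mem _ (inv_mem hk) _
      · obtain ⟨h1, h2⟩ := ha'2 _ (hai.ge (hfU x hx))
        have h3 := hae _ h1
        rw [h2, hg x hx] at h3
        show ext1 ι (a' (toFun φ x)) = _
        calc ext1 ι (a' (toFun φ x)) = n⁻¹ * (n * ext1 ι (a' (toFun φ x)) * n⁻¹) * n := by group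
          _ = n⁻¹ * g * ext1 ι x * (n⁻¹ * g)⁻¹ := by rw [← h3]; group
    obtain ⟨φ₀, hφ₀, hφ₀e⟩ := hmap
    refine ⟨α, autOf_mem ha hai, φ₀, hφ₀, fun x hx => ?_⟩
    rw [← autFun_apply α hx, autFun_autOf ha hai hx, hφ₀e x]
    show φ x = a (a' (toFun φ x))
    rw [(ha'2 _ (hai.ge (hfU x x.2))).2, toFun_coe]
  · -- extension
    intro α hα
    obtain ⟨-, -, g, hgN, hg⟩ := (isMap_nlSystem_iff N hF).1 ((mem_autGroup_iff le_rfl).1 hα)
    set TN := (T : Subgroup G) ⊓ N
    have hgn : g ∈ Subgroup.normalizer (TN : Set G) := by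
      refine conjBy_eq_iff.1 (conjBy_eq_of_le (conjBy_le_iff.2 fun y hy => ?_))
      obtain ⟨x, hx, rfl⟩ := hUT.1 hy
      rw [← hg x hx]
      exact hUT.2 ⟨_, autFun_mem α hx, rfl⟩
    have hgE : conjAut g hgn ∈ (fusionSystemOfSubgroup N TN inf_le_right).autGroup TN :=
      (mem_autGroup_iff le_rfl).2 (isMap_subgroup_iff.2 ⟨le_rfl, g, hgN, fun y hy =>
        ⟨(Subgroup.mem_normalizer_iff.1 hgn y).1 hy, autFun_conjAut hgn hy⟩⟩)
    obtain ⟨β, hβ, hβ1, hβ2⟩ := (isNormalIn_of_normal T N).2 _ hgE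
    set W := TN ⊔ centralizerIn (T : Subgroup G) TN with hW
    have hWT : W ≤ (T : Subgroup G) := sup_le inf_le_left inf_le_left
    rw [autGroup_group hWT] at hβ
    obtain ⟨k, -, hk⟩ := mem_autInducedBy_iff.1 hβ
    set X := U ⊔ centralizerIn S U with hX
    have hXS : X ≤ S := sup_le hUS inf_le_left
    haveI : Finite X := finite_of_le hXS
    have hCU : ∀ c ∈ centralizerIn S U, ext1 ι c ∈ centralizerIn (T : Subgroup G) TN := fun c hc => by
      refine ⟨hT.ge (ext1_mem_range ι c), Subgroup.mem_centralizer_iff.2 fun y hy => ?_⟩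
      obtain ⟨x, hx, rfl⟩ := hUT.1 hy
      rw [← ext1_mul ι (hUS hx) hc.1, ← ext1_mul ι hc.1 (hUS hx),
        Subgroup.mem_centralizer_iff.1 hc.2 x hx]
    have hXW : ∀ x ∈ X, ext1 ι x ∈ W := by
      intro x hx
      rw [hX, Subgroup.sup_eq_closure] at hx
      induction hx using Subgroup.closure_induction with
      | mem y hy =>
        rcases hy with hy | hy
        · exact Subgroup.mem_sup_left (hUT.2 ⟨y, hy, rfl⟩)
        · exact Subgroup.mem_sup_right (hCU y hy)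
      | one => rw [ext1_one']; exact one_mem _
      | mul a b ha hb iha ihb =>
        rw [← Subgroup.sup_eq_closure] at ha hb
        rw [ext1_mul ι (hXS ha) (hXS hb)]
        exact mul_mem iha ihb
      | inv a ha iha =>
        rw [← Subgroup.sup_eq_closure] at ha
        rw [ext1_inv ι (hXS ha)]
        exact inv_mem iha
    obtain ⟨b, hb, hbe⟩ := exists_map_of_conj hF (g := k) hXS fun x hx => by
      rw [← hk _ (hXW x hx)]
      exact hT.le (hWT (autFun_mem _ (hXW x hx)))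
    have hbU : ∀ x ∈ U, b x = autFun α x := fun x hx => by
      refine ext1_inj hF.1 (hb.mem_S (Subgroup.mem_sup_left hx)) (hUS (autFun_mem α hx)) ?_
      have hm : ext1 ι x ∈ TN := hUT.2 ⟨x, hx, rfl⟩
      have h1 := hβ1 ⟨_, hm⟩
      rw [← autFun_coe, ← autFun_coe, Subgroup.coe_inclusion, hk _ (Subgroup.mem_sup_left hm),
        autFun_conjAut hgn hm] at h1
      rw [hbe x (Subgroup.mem_sup_left hx), hg x hx, h1]
    have hbC : ∀ c ∈ centralizerIn S U, b c ∈ centralizerIn S U := fun c hc => by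
      have hbU' : img U b = U := (IsMap.img_congr hbU).trans (img_autFun α)
      have h1 := map_mem_centralizerIn hb (le_sup_left (a := U)) (Subgroup.mem_sup_right hc) hc.2
      rwa [hbU'] at h1
    have hbi : img X b = X := img_eq_of_map_le hXS hb le_rfl fun x hx =>
      hb.map_mem_of_sup (fun y hy => Subgroup.mem_sup_left (by rw [hbU y hy]; exact autFun_mem α hy))
        (fun c hc => Subgroup.mem_sup_right (hbC c hc)) hx
    refine ⟨autOf hb hbi, autOf_mem hb hbi, fun x => ?_, fun c hc => ?_⟩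
    · rw [← autFun_coe, Subgroup.coe_inclusion, autFun_autOf hb hbi (Subgroup.mem_sup_left x.2),
        hbU x x.2, autFun_coe]
    · rw [← autFun_coe, autFun_autOf hb hbi c.2]
      have hcS := hc.1
      have hbc := hbC c hc
      have h2 := hβ2 ⟨_, hXW c c.2⟩ (hCU c hc)
      rw [← autFun_coe, hk _ (hXW c c.2), ← hbe c c.2, ← ext1_inv ι hcS,
        ← ext1_mul ι (S.inv_mem hcS) hbc.1] at h2
      exact ⟨hmemU.2 ⟨S.mul_mem (S.inv_mem hcS) hbc.1, h2.1.2⟩,
        Subgroup.mul_mem _ (Subgroup.inv_mem _ hc.2) hbc.2⟩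

omit hS

/-- If `N` meets the Sylow subgroup trivially, the quotient by `N` still realizes the system. -/
theorem isRealizedBy_quotient (hN : preimageAlong ι N = ⊥) :
    F.IsRealizedBy ((QuotientGroup.mk' N).comp ι) := by
  have hTN : ∀ y ∈ ι.range, y ∈ N → y = 1 := by
    rintro y ⟨s, rfl⟩ hy
    have h : (s : Ω) ∈ preimageAlong ι N := mem_preimageAlong.2 ⟨s.2, by rwa [ext1_coe]⟩
    rw [hN, Subgroup.mem_bot] at h
    rw [show s = 1 from Subtype.ext h, map_one]
  refine ⟨(injective_iff_map_eq_one _).2 fun s hs => ?_, fun P hP φ hφ => ⟨fun h => ?_, ?_⟩⟩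
  · exact hF.1 ((hTN _ ⟨s, rfl⟩ ((QuotientGroup.eq_one_iff _).1 hs)).trans (map_one ι).symm)
  · obtain ⟨g, hg⟩ := (hF.2 P hP φ hφ).1 h
    exact ⟨(g : G ⧸ N), fun x => congrArg (QuotientGroup.mk' N) (hg x)⟩
  · rintro ⟨γ, hγ⟩
    obtain ⟨γ, rfl⟩ := QuotientGroup.mk'_surjective N γ
    refine (hF.2 P hP φ hφ).2 ?_
    -- `ι (φ x)` and the conjugate of `ι x` differ by an element of `N`
    have hd : ∀ x : P, (ι ⟨φ x, hφ x⟩)⁻¹ * (γ * ι ⟨x, hP x.2⟩ * γ⁻¹) ∈ N := fun x =>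
      QuotientGroup.eq.1 (by simpa [MonoidHom.comp_apply] using hγ x)
    set R := (T : Subgroup G) ⊔ N with hR
    have hTR : (T : Subgroup G) ≤ R := le_sup_left
    have hi : ¬ p ∣ (T : Subgroup G).relIndex R := fun h =>
      T.not_dvd_index (h.trans (Subgroup.relIndex_dvd_index_of_le hTR))
    have hQR : conjBy γ (imgι ι P) ≤ R := conjBy_le_iff.2 fun y hy => by
      obtain ⟨x, hx, rfl⟩ := (mem_imgι hP).1 hy
      have h1 := hd ⟨x, hx⟩
      have h2 : ι ⟨φ ⟨x, hx⟩, hφ _⟩ ∈ R := hTR (hT.ge ⟨_, rfl⟩)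
      have h3 := Subgroup.mul_mem R h2 (Subgroup.mem_sup_right h1)
      rw [ext1_apply ι (hP hx)]
      rwa [mul_inv_cancel_left] at h3
    have hQp : IsPGroup p (conjBy γ (imgι ι P)) :=
      isPGroup_conjBy γ (T.2.to_le ((imgι_le_range P).trans hT.ge))
    obtain ⟨k, hk, hkT⟩ := exists_conj_le_of_not_dvd_relIndex T.2 hTR hi hQp hQR
    obtain ⟨s, hs, n, hn, rfl⟩ := Subgroup.mem_sup_of_normal_right.1 hk
    refine ⟨n * γ, fun x => ?_⟩
    set y := γ * ι ⟨x, hP x.2⟩ * γ⁻¹ with hy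
    have h1 : s * n * y * (s * n)⁻¹ ∈ (T : Subgroup G) := hkT (conj_mem_conjBy (conj_mem_conjBy
      ((mem_imgι hP).2 ⟨x, x.2, ext1_apply ι (hP x.2)⟩)))
    have h2 : n * y * n⁻¹ ∈ (T : Subgroup G) := by
      have := Subgroup.mul_mem _ (Subgroup.mul_mem _ (Subgroup.inv_mem _ hs) h1) hs
      convert this using 1; group
    have h3 : (ι ⟨φ x, hφ x⟩)⁻¹ * (n * y * n⁻¹) ∈ N := by
      have h4 : (ι ⟨φ x, hφ x⟩)⁻¹ * n * ι ⟨φ x, hφ x⟩ ∈ N := by
        simpa using (inferInstance : N.Normal).conj_mem n hn (ι ⟨φ x, hφ x⟩)⁻¹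
      have := Subgroup.mul_mem N (Subgroup.mul_mem N h4 (hd x)) (Subgroup.inv_mem N hn)
      convert this using 1
      rw [hy]; group
    have h5 := hTN _ (hT.le (Subgroup.mul_mem _ (Subgroup.inv_mem _ (hT.ge ⟨_, rfl⟩)) h2)) h3
    rw [inv_mul_eq_one.1 h5, hy]
    group

omit hT in
/-- If `N` contains the Sylow subgroup and induces the whole system, `N` realizes it. -/
theorem isRealizedBy_codRestrict (hN : ∀ s, ι s ∈ N)
    (hE : ∀ P, (nlSystem N hF).Hom P = F.Hom P) : F.IsRealizedBy (ι.codRestrict N hN) := by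
  refine ⟨fun a b h => hF.1 (congrArg Subtype.val h), fun P hP φ hφ => ⟨fun h => ?_, ?_⟩⟩
  · rw [← hE P] at h
    obtain ⟨-, -, g, hgN, hg⟩ := (isMap_nlSystem_iff N hF).1 (isMap_toFun h)
    refine ⟨⟨g, hgN⟩, fun x => Subtype.ext ?_⟩
    have := hg x x.2
    rw [toFun_coe, ext1_apply ι (hφ x), ext1_apply ι (hP x.2)] at this
    exact this
  · rintro ⟨g, hg⟩
    exact (hF.2 P hP φ hφ).2 ⟨(g : G), fun x => congrArg Subtype.val (hg x)⟩

end Nested

section Simple

variable {Ω : Type u} [Group Ω] {S : Subgroup Ω} [Finite S] {p : ℕ} [Fact p.Prime]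
  {F : FusionSystem S}

open Cfsg.FusionSystem in
theorem exists_simple_realization (hS : IsPGroup p S) (hsimple : F.IsSimple p)
    (hreal : F.IsRealizable p) :
    ∃ (G : Type u) (_ : Group G) (_ : Finite G) (_ : IsSimpleGroup G) (ι : ↥S →* G),
      F.IsRealizedBy ι ∧ ∃ T : Sylow p G, (T : Subgroup G) = ι.range := by
  classical
  have hex : ∃ n, ∃ (G : Type u) (_ : Group G) (_ : Finite G) (ι : ↥S →* G),
      F.IsRealizedBy ι ∧ (∃ T : Sylow p G, (T : Subgroup G) = ι.range) ∧ Nat.card G = n := by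
    obtain ⟨G, i1, i2, ι, hι, hT⟩ := hreal
    exact ⟨_, G, i1, i2, ι, hι, hT, rfl⟩
  obtain ⟨G, iG, iFin, ι, hF, ⟨T, hT⟩, hcard⟩ := Nat.find_spec hex
  have hmin : ∀ (H : Type u) (_ : Group H) (_ : Finite H) (j : ↥S →* H), F.IsRealizedBy j →
      (∃ T : Sylow p H, (T : Subgroup H) = j.range) → Nat.card G ≤ Nat.card H :=
    fun H i1 i2 j hj hjT => hcard.le.trans (Nat.find_le ⟨H, i1, i2, j, hj, hjT, rfl⟩)
  haveI : Nontrivial G := by
    obtain ⟨x, hxS, hx⟩ := (Subgroup.bot_or_exists_ne_one S).resolve_left hsimple.2.1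
    exact ⟨⟨ι ⟨x, hxS⟩, 1, fun h => hx (congrArg Subtype.val (hF.1 (h.trans (map_one ι).symm)))⟩⟩
  refine ⟨G, iG, iFin, ⟨fun N hN => ?_⟩, ι, hF, T, hT⟩
  by_contra hcon
  push Not at hcon
  haveI := hN
  rcases hsimple.2.2 _ _ (isNormalIn_nlSystem N hF hS hT) with hU | ⟨hU, hE⟩
  · have hT' : ((T.mapSurjective (QuotientGroup.mk'_surjective N) : Sylow p (G ⧸ N)) :
        Subgroup (G ⧸ N)) = ((QuotientGroup.mk' N).comp ι).range := by
      rw [Sylow.coe_mapSurjective, hT, MonoidHom.range_comp]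
    have h1 := hmin (G ⧸ N) inferInstance inferInstance _
      (isRealizedBy_quotient N hF hT hU) ⟨_, hT'⟩
    have h2 : 1 < Nat.card N := (Subgroup.one_lt_card_iff_ne_bot N).2 hcon.1
    have h3 := Subgroup.card_eq_card_quotient_mul_card_subgroup N
    nlinarith [Nat.card_pos (α := G ⧸ N)]
  · have hN : ∀ s : S, ι s ∈ N := fun s => by
      have := mem_preimageAlong.1 (hU.ge s.2)
      rw [ext1_coe] at this
      exact this.2
    have hTN : (T : Subgroup G) ≤ N := hT.le.trans (by rintro _ ⟨s, rfl⟩; exact hN s)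
    have hT' : ((T.subtype hTN : Sylow p N) : Subgroup N) = (ι.codRestrict N hN).range := by
      rw [Sylow.coe_subtype, hT]
      ext y
      constructor
      · rintro ⟨s, hs⟩
        exact ⟨s, Subtype.ext hs⟩
      · rintro ⟨s, hs⟩
        exact ⟨s, congrArg Subtype.val hs⟩
    have h1 := hmin N inferInstance inferInstance _
      (isRealizedBy_codRestrict N hF hN hE) ⟨_, hT'⟩
    exact hcon.2 (Subgroup.card_eq_iff_eq_top N |>.1 (le_antisymm N.card_le_card_group h1))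

end Simple

end CfsgLib.Fusion.RealizedNormal
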