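import Cfsg.Agent.Lib.PGroup.MetacyclicOmega
import Cfsg.Agent.Lib.Fusion.System.Transvection
import Cfsg.Agent.Lib.Fusion.System.CenterIndexCore
import Cfsg.Agent.Lib.Fusion.System.SeriesNormal
import Cfsg.Agent.Lib.Fusion.ZJElementary

/-!
# Strongly closed metacyclic subgroups are normal, `p` odd
-/

set_option autoImplicit false
set_option linter.style.haveILetI false
set_option linter.unusedSectionVars false
set_option maxHeartbeats 1000000

open Subgroup
open scoped Classical commutatorElement IsMulCommutative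

namespace CfsgLib.Fusion.Metacyclic

open Cfsg (FusionSystem autInducedBy)
open Cfsg.FusionSystem (normalizerIn centralizerIn)
open CfsgLib.Fusion.Transvection (dlt IsTrv)

variable {p : ℕ} [Fact p.Prime]

/-- The `p`-subgroups of the automorphisms of an elementary group of order `p²`. -/
theorem square_aut {M : Type*} [CommGroup M] [Finite M] (hcard : Nat.card M = p ^ 2)
    (H : Subgroup (MulAut M)) (hH : IsPGroup p H) :
    Nat.card H ≤ p ∧ ∀ u ∈ H, u ≠ 1 → (∀ x : M, x ^ p = 1) → IsTrv p u := by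
  have hp := (Fact.out : p.Prime)
  haveI : Finite (MulAut M) := Finite.of_injective (fun a : MulAut M => (a : M → M))
    fun a b h => MulEquiv.ext fun x => congrFun h x
  have hM : IsPGroup p M := IsPGroup.of_card hcard
  obtain ⟨x, hxfix, hx1⟩ := hH.exists_fixed_point_of_prime_dvd_card_of_fixed_point M
    (by rw [hcard]; exact dvd_pow_self p two_ne_zero)
    (a := (1 : M)) (fun h => map_one (h : MulAut M))
  obtain ⟨k, hk⟩ := hM x
  have hne : ∃ t : M, t ≠ 1 ∧ t ^ p = 1 ∧ ∀ h ∈ H, h t = t := by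
    haveI : Nontrivial (Subgroup.zpowers x) := by
      rw [Subgroup.nontrivial_iff_ne_bot, Ne, Subgroup.zpowers_eq_bot]
      exact fun e => hx1 e.symm
    obtain ⟨m, hm⟩ := (hM.to_subgroup (Subgroup.zpowers x)).exists_card_eq
    have hd : p ∣ Nat.card (Subgroup.zpowers x) := by
      rw [hm]
      refine dvd_pow_self p fun e => ?_
      rw [e, pow_zero] at hm
      have := Finite.one_lt_card (α := Subgroup.zpowers x)
      omega
    obtain ⟨t, ht⟩ := exists_prime_orderOf_dvd_card' p hd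
    refine ⟨t, fun e => ?_, ?_, fun h hh => ?_⟩
    · have : t = 1 := Subtype.ext e
      rw [this, orderOf_one] at ht
      exact hp.ne_one ht.symm
    · rw [← SubmonoidClass.coe_pow, ← ht, pow_orderOf_eq_one]
      rfl
    · obtain ⟨l, hl⟩ := Subgroup.mem_zpowers_iff.1 t.2
      rw [← hl, map_zpow]
      exact congrArg (· ^ l) (hxfix ⟨h, hh⟩)
  obtain ⟨t, ht1, htp, htfix⟩ := hne
  set T := Subgroup.zpowers t with hT
  have hTcard : Nat.card T = p := by
    rw [Nat.card_zpowers]; exact orderOf_eq_prime htp ht1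
  have hTker : ∀ h ∈ H, T ≤ (dlt h).ker := fun h hh =>
    Subgroup.zpowers_le.2 (Transvection.dlt_eq_one.2 (htfix h hh))
  have hrange : ∀ h ∈ H, (dlt h).range ≤ T := by
    intro h hh
    have hle : Nat.card (dlt h).range ≤ p := by
      have h1 := Subgroup.card_mul_index (dlt h).ker
      rw [Subgroup.index_ker, hcard] at h1
      have h2 : p ≤ Nat.card (dlt h).ker := hTcard ▸ Subgroup.card_le_of_le (hTker h hh)
      by_contra hlt
      push Not at hlt
      have := Nat.mul_lt_mul_of_le_of_lt h2 hlt Nat.card_pos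
      rw [← sq] at this
      omega
    by_contra hnle
    set R := (dlt h).range with hR
    obtain ⟨j, hj⟩ := (hM.to_subgroup R).exists_card_eq
    have hj1 : j = 1 := by
      have hj1 : j ≤ 1 := (Nat.pow_le_pow_iff_right hp.one_lt).1 (by rw [pow_one, ← hj]; exact hle)
      by_contra hj0
      have : j = 0 := by omega
      rw [this, pow_zero] at hj
      exact hnle (Subgroup.eq_bot_of_card_eq R hj ▸ bot_le)
    rw [hj1, pow_one] at hj
    have hinv : ∀ r ∈ R, h r ∈ R := fun r hr => by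
      rw [Transvection.apply_eq h r]
      exact R.mul_mem hr ⟨r, rfl⟩
    let A := Subgroup.zpowers h
    have hAle : A ≤ H := Subgroup.zpowers_le.2 hh
    have hAinv : ∀ g ∈ A, ∀ r ∈ R, g r ∈ R := by
      let St : Subgroup (MulAut M) :=
        { carrier := {g | (∀ r ∈ R, g r ∈ R) ∧ ∀ r ∈ R, g⁻¹ r ∈ R}
          one_mem' := ⟨fun r hr => hr, fun r hr => by rw [inv_one]; exact hr⟩
          mul_mem' := fun {a b} ha hb => ⟨fun r hr => ha.1 _ (hb.1 r hr), fun r hr => by
            rw [mul_inv_rev]; exact hb.2 _ (ha.2 r hr)⟩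
          inv_mem' := fun {a} ha => ⟨ha.2, fun r hr => by rw [inv_inv]; exact ha.1 r hr⟩ }
      have hinv' : ∀ r ∈ R, h⁻¹ r ∈ R := fun r hr => by
        have hi : Function.Injective (fun y : R => (⟨h y, hinv y y.2⟩ : R)) := fun a b e =>
          Subtype.ext (h.injective (congrArg Subtype.val e))
        obtain ⟨y, hy⟩ := Finite.injective_iff_surjective.1 hi ⟨r, hr⟩
        rw [show r = h y from (congrArg Subtype.val hy).symm]
        rw [show h⁻¹ (h y) = y from MulEquiv.symm_apply_apply h y]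
        exact y.2
      exact fun g hg => ((Subgroup.zpowers_le (H := St)).2 ⟨hinv, hinv'⟩ hg).1
    letI : MulAction A R :=
      { smul := fun g r => ⟨(g : MulAut M) r, hAinv g g.2 r r.2⟩
        one_smul := fun r => rfl
        mul_smul := fun g g' r => rfl }
    obtain ⟨r, hr, hr1⟩ := (hH.to_le hAle).exists_fixed_point_of_prime_dvd_card_of_fixed_point R
      (by rw [hj]) (a := (1 : R)) (fun g => Subtype.ext (map_one (g : MulAut M)))
    have hr' : (r : M) ∈ (dlt h).ker :=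
      Transvection.dlt_eq_one.2 (congrArg Subtype.val (hr ⟨h, Subgroup.mem_zpowers h⟩))
    have hRk : R ≤ (dlt h).ker := by
      have hz : Subgroup.zpowers (r : M) = R := by
        refine Subgroup.eq_of_le_of_card_ge (Subgroup.zpowers_le.2 r.2) ?_
        rw [hj, Nat.card_zpowers]
        rcases (Nat.dvd_prime hp).1 (hj ▸ Subgroup.orderOf_dvd_natCard _ r.2) with h' | h'
        · exact absurd (Subtype.ext (orderOf_eq_one_iff.1 h')).symm hr1
        · exact h'.ge
      rw [← hz, Subgroup.zpowers_le]; exact hr'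
    -- `M = T R`
    have hdis : Disjoint T R := by
      rw [disjoint_iff, eq_bot_iff]
      intro y hy
      by_contra hy1
      refine hnle ((Subgroup.eq_of_le_of_card_ge (Subgroup.zpowers_le.2 hy.2) ?_).ge.trans
        (Subgroup.zpowers_le.2 hy.1))
      rw [hj, Nat.card_zpowers]
      rcases (Nat.dvd_prime hp).1 (hj ▸ Subgroup.orderOf_dvd_natCard _ hy.2) with h' | h'
      · exact absurd (orderOf_eq_one_iff.1 h') (fun e => hy1 (Subgroup.mem_bot.2 e))
      · exact h'.ge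
    have htop : T ⊔ R = ⊤ := by
      refine Subgroup.eq_top_of_card_eq _ (le_antisymm (Subgroup.card_le_card_group _) ?_)
      have hi : Function.Injective (fun z : T × R => (⟨(z.1 : M) * z.2,
          Subgroup.mul_mem_sup z.1.2 z.2.2⟩ : (T ⊔ R : Subgroup M))) := fun a b e =>
        Subgroup.mul_injective_of_disjoint hdis (congrArg Subtype.val e)
      have := Nat.card_le_card_of_injective _ hi
      rwa [Nat.card_prod, hTcard, hj, ← sq, ← hcard] at this
    have hker : (dlt h).ker = ⊤ := top_unique (htop ▸ sup_le (hTker h hh) hRk)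
    exact hnle fun y ⟨z, hz⟩ => by
      have hz1 : dlt h z = 1 := MonoidHom.mem_ker.1 (hker ▸ Subgroup.mem_top z)
      rw [← hz, hz1]
      exact one_mem _
  refine ⟨?_, fun u hu hu1 hexp => ⟨?_, fun r => hTker u hu (hrange u hu ⟨r, rfl⟩)⟩⟩
  · obtain ⟨y, hy⟩ : ∃ y, y ∉ T := by
      by_contra hall
      push Not at hall
      have : T = ⊤ := (eq_top_iff' _).2 hall
      rw [this, Subgroup.card_top, hcard, sq] at hTcard
      have := hp.one_lt
      nlinarith
    have hinj : Function.Injective (fun h : H => (⟨dlt (h : MulAut M) y, hrange _ h.2 ⟨y, rfl⟩⟩ : T)) := by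
      intro h k e
      refine Subtype.ext (MulEquiv.ext fun r => ?_)
      set E := MonoidHom.eqLocus (dlt (h : MulAut M)) (dlt (k : MulAut M))
      have hTE : T ≤ E := fun z hz =>
        (MonoidHom.mem_ker.1 (hTker _ h.2 hz)).trans (MonoidHom.mem_ker.1 (hTker _ k.2 hz)).symm
      have hyE : y ∈ E := congrArg Subtype.val e
      have hE : E = ⊤ := by
        obtain ⟨j, hj2, hj⟩ := (Nat.dvd_prime_pow hp).1 (hcard ▸ Subgroup.card_subgroup_dvd_card E)
        refine Subgroup.eq_top_of_card_eq _ ?_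
        rw [hcard, hj]
        interval_cases j
        · exfalso
          rw [pow_zero] at hj
          rw [Subgroup.eq_bot_of_card_eq E hj, Subgroup.mem_bot] at hyE
          exact hy (hyE ▸ one_mem _)
        · exfalso
          refine hy ?_
          rw [Subgroup.eq_of_le_of_card_ge hTE (by rw [hj, hTcard, pow_one])]
          exact hyE
        · rfl
      rw [Transvection.apply_eq (h : MulAut M), Transvection.apply_eq (k : MulAut M),
        show dlt (h : MulAut M) r = dlt (k : MulAut M) r from hE.ge (Subgroup.mem_top r)]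
    have := Nat.card_le_card_of_injective _ hinj
    rwa [hTcard] at this
  · rcases (Nat.dvd_prime hp).1 (hTcard ▸ Subgroup.card_dvd_of_le (hrange u hu)) with h | h
    · refine absurd (MulEquiv.ext fun r => ?_) hu1
      have : dlt u r ∈ (⊥ : Subgroup M) := Subgroup.eq_bot_of_card_eq _ h ▸ ⟨r, rfl⟩
      exact Transvection.dlt_eq_one.1 (Subgroup.mem_bot.1 this)
    · exact h

variable {Ω : Type*} [Group Ω] {S : Subgroup Ω} [Finite S] {F : FusionSystem S}

theorem isNormal_metacyclic (hS : IsPGroup p S) (hF : F.IsSaturated p) {P : Subgroup Ω}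
    (hP : F.StronglyClosed P) (hp : p ≠ 2) (N : Subgroup P) [N.Normal] [IsCyclic N]
    (hq : IsCyclic (P ⧸ N)) : F.IsNormal P := by
  have hp' := (Fact.out : p.Prime)
  have hPS := hP.1
  haveI := finite_of_le hPS
  have hPp : IsPGroup p P := hS.to_le hPS
  have hPn := le_normalizerIn_of_stronglyClosed hP
  obtain ⟨W₀, hW₀, hW₀c, hW₀card⟩ := CfsgLib.MetacyclicOmega.exists_omega hPp hp (N := N) hq
  set W := Cfsg.omegaOne p P with hWd
  have hW : ∀ x, x ∈ W ↔ x ∈ P ∧ x ^ p = 1 := by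
    intro x
    refine ⟨fun hx => ?_, fun hx => Subgroup.subset_closure hx⟩
    have hle : W ≤ W₀.map P.subtype := (Subgroup.closure_le _).2 fun y hy =>
      ⟨⟨y, hy.1⟩, (hW₀ _).2 (Subtype.ext hy.2), rfl⟩
    obtain ⟨y, hy, rfl⟩ := hle hx
    exact ⟨y.2, by rw [← map_pow, (hW₀ y).1 hy, map_one]⟩
  have hWP : W ≤ P := fun x hx => ((hW x).1 hx).1
  have hWS : W ≤ S := hWP.trans hPS
  have hWeq : W = W₀.map P.subtype := le_antisymm
    (fun x hx => ⟨⟨x, hWP hx⟩, (hW₀ _).2 (Subtype.ext ((hW x).1 hx).2), rfl⟩)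
    (by
      rintro _ ⟨y, hy, rfl⟩
      exact (hW _).2 ⟨y.2, by rw [← map_pow, (hW₀ y).1 hy, map_one]⟩)
  have hWcard : Nat.card W ≤ p ^ 2 := by
    rw [hWeq, Subgroup.card_map_of_injective P.subtype_injective]; exact hW₀card
  have hWcomm : ∀ x ∈ W, ∀ y ∈ W, x * y = y * x := by
    intro x hx y hy
    rw [hWeq] at hx hy
    obtain ⟨a, ha, rfl⟩ := hx
    obtain ⟨b, hb, rfl⟩ := hy
    rw [← map_mul, hW₀c a ha b hb, map_mul]
  haveI : IsMulCommutative W := ⟨⟨fun x y => Subtype.ext (hWcomm x x.2 y y.2)⟩⟩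
  have hWsc : F.StronglyClosed W := stronglyClosed_iff.2 ⟨hWS, fun T f hT hf x hx => by
    refine (hW _).2 ⟨(stronglyClosed_iff.1 hP).2 T f (hT.trans hWP) hf x hx, ?_⟩
    have hpow : ∀ n : ℕ, f (x ^ n) = f x ^ n := by
      intro n
      induction n with
      | zero => rw [pow_zero, pow_zero, hf.map_one]
      | succ n ih => rw [pow_succ, pow_succ, hf.map_mul (pow_mem hx n) hx, ih]
    rw [← hpow, ((hW x).1 (hT hx)).2, hf.map_one]⟩
  have hWn : F.IsNormal W :=
    isNormal_of_stronglyClosed_abelian hS hF hWsc fun x hx y hy => hWcomm x hx y hy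
  have hWnS := le_normalizerIn_of_stronglyClosed hWsc
  haveI := finite_of_le hWS
  haveI := finite_mulAut (P := W)
  refine (isNormal_iff_omega_series hp hS hF hP).2 ?_
  by_cases hcent : ∀ x ∈ W, ∀ a ∈ P, a * x = x * a
  · refine ⟨1, ![⊥, W], rfl, rfl, ?_, ?_, ?_⟩
    · intro i j hij
      fin_cases i <;> fin_cases j <;> simp at hij ⊢
    · intro i
      fin_cases i
      · exact stronglyClosed_bot
      · exact hWsc
    · intro i
      fin_cases i
      refine Subgroup.commutator_le.2 fun x hx a ha => ?_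
      show ⁅x, a⁆ ∈ (⊥ : Subgroup Ω)
      rw [Subgroup.mem_bot, commutatorElement_eq_one_iff_mul_comm]
      exact (hcent x hx a ha).symm
  push Not at hcent
  obtain ⟨x₀, hx₀, a, ha, hax⟩ := hcent
  set L := F.autGroup W with hL
  have haS := hPS ha
  -- `|W| = p²`
  have hWp : IsPGroup p W := hS.to_le hWS
  have hcard2 : Nat.card W = p ^ 2 := by
    obtain ⟨k, hk⟩ := hWp.exists_card_eq
    have hk2 : k ≤ 2 := (Nat.pow_le_pow_iff_right hp'.one_lt).1 (hk ▸ hWcard)
    by_contra hne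
    have hk1 : k ≤ 1 := by
      by_contra h
      exact hne (by rw [hk, show k = 2 by omega])
    haveI : (W.subgroupOf P).Normal :=
      (Subgroup.normal_subgroupOf_iff_le_normalizer hWP).2
        (hPS.trans (hWnS.trans inf_le_right))
    have hc := CfsgLib.MetacyclicOmega.le_center_of_card_le hPp (W.subgroupOf P) (by
      rw [Nat.card_congr (Subgroup.subgroupOfEquivOfLe hWP).toEquiv, hk]
      exact (Nat.pow_le_pow_right hp'.pos hk1).trans_eq (pow_one p))
    exact hax (congrArg Subtype.val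
      (Subgroup.mem_center_iff.1 (hc (show (⟨x₀, hWP hx₀⟩ : P) ∈ W.subgroupOf P from hx₀)) ⟨a, ha⟩))
  have hexpW : ∀ x : W, x ^ p = 1 := fun x => Subtype.ext ((hW x).1 x.2).2
  have hsyl : ∀ H : Subgroup (MulAut W), H ≤ L → IsPGroup p H → Nat.card H ≤ p :=
    fun H _ hH => (square_aut hcard2 H hH).1
  have hu₀ : ∀ b (hb : b ∈ P), conjAut b ((hWnS (hPS hb)).2) ∈ autInducedBy S W := fun b hb =>
    conjAut_mem (hPS hb) _
  set u : MulAut W := conjAut a (hWnS haS).2 with hud
  have huS : u ∈ autInducedBy S W := hu₀ a ha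
  have huL : u ∈ L := autInducedBy_le_autGroup hWS huS
  have hu1 : u ≠ 1 := fun e => hax (by
    have h := autFun_conjAut (hWnS haS).2 hx₀
    rw [show conjAut a (hWnS haS).2 = u from rfl, e, autFun_one hx₀] at h
    exact (mul_inv_eq_iff_eq_mul.1 h.symm))
  have hAut : IsPGroup p (autInducedBy S W) := isPGroup_autInducedBy hS
  have hu : IsTrv p u := (square_aut hcard2 _ hAut).2 u huS hu1 hexpW
  have hAeq : Subgroup.zpowers u = autInducedBy S W := by
    refine Subgroup.eq_of_le_of_card_ge (Subgroup.zpowers_le.2 huS) ?_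
    rw [Nat.card_zpowers, hu.orderOf]
    exact (square_aut hcard2 _ hAut).1
  set Z₀ := (dlt u).range.map W.subtype with hZ₀
  have hZW : Z₀ ≤ W := Subgroup.map_subtype_le _
  have hdz : ∀ (k : ℤ) (r : W), dlt (u ^ k) r ∈ (dlt u).range := by
    intro k r
    have h1 : ∀ g ∈ Subgroup.zpowers u, g ∈ Transvection.stab ⊥ (dlt u).range bot_le := by
      refine fun g hg => (Subgroup.zpowers_le.2 ?_) hg
      exact ⟨fun x hx => by rw [Subgroup.mem_bot.1 hx]; exact map_one _,
        fun x ⟨y, hy⟩ => by rw [← hy]; exact Subgroup.mem_bot.2 (hu.fix y), fun y => ⟨y, rfl⟩⟩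
    exact (h1 _ (Subgroup.mem_zpowers_iff.2 ⟨k, rfl⟩)).2.2 r
  by_cases hinv : ∀ α ∈ L, ∀ z ∈ Z₀, autFun α z ∈ Z₀
  · -- the series through `Z₀`
    have hZsc : F.StronglyClosed Z₀ := stronglyClosed_iff.2 ⟨hZW.trans hWS, fun T f hT hf x hx => by
      obtain ⟨g, hg, hgf, hgW⟩ := (isNormal_iff.1 hWn).2 T f hf
      have hgm := hg.mono (le_sup_right : W ≤ T ⊔ W)
      rw [← hgf x hx, ← autFun_autOf hgm hgW (hZW (hT hx))]
      exact hinv _ (autOf_mem hgm hgW) x (hT hx)⟩
    refine ⟨2, ![⊥, Z₀, W], rfl, rfl, ?_, ?_, ?_⟩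
    · intro i j hij
      fin_cases i <;> fin_cases j <;>
        simp only [Fin.mk_le_mk, Fin.le_iff_val_le_val] at hij <;>
        first | exact le_rfl | exact bot_le | exact hZW | (exfalso; simp at hij)
    · intro i
      fin_cases i
      · exact stronglyClosed_bot
      · exact hZsc
      · exact hWsc
    · have hgen : ∀ x ∈ W, ∀ b ∈ P, ⁅x, b⁆ ∈ Z₀ ∧ ((∃ y : W, x = ((dlt u y : W) : Ω)) → ⁅x, b⁆ = 1) := by
        intro x hx b hb
        have hbm := hu₀ b hb
        rw [← hAeq] at hbm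
        obtain ⟨k, hk⟩ := Subgroup.mem_zpowers_iff.1 hbm
        have e : ∀ r : W, ((dlt (u ^ k) r : W) : Ω) = (r : Ω)⁻¹ * (b * r * b⁻¹) := by
          intro r; rw [hk]; rfl
        have hmem : ⁅x⁻¹, b⁆ ∈ Z₀ := ⟨_, hdz k ⟨x, hx⟩, by
          show ((dlt (u ^ k) ⟨x, hx⟩ : W) : Ω) = _
          rw [e, commutatorElement_def]; group⟩
        have hmem' : ⁅x, b⁆ ∈ Z₀ := ⟨_, hdz k ⟨x, hx⟩⁻¹, by
          show ((dlt (u ^ k) (⟨x, hx⟩⁻¹ : W) : W) : Ω) = _
          rw [e, commutatorElement_def, Subgroup.coe_inv]; group⟩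
        refine ⟨hmem', ?_⟩
        rintro ⟨y, rfl⟩
        have h0 : dlt (u ^ k) (dlt u y)⁻¹ = 1 := by
          have h1 : ∀ g ∈ Subgroup.zpowers u, g (dlt u y) = dlt u y := by
            intro g hg
            obtain ⟨l, rfl⟩ := Subgroup.mem_zpowers_iff.1 hg
            have hst : MulAction.stabilizer (MulAut W) (dlt u y) ≥ Subgroup.zpowers u :=
              Subgroup.zpowers_le.2 (Transvection.dlt_eq_one.1 (hu.fix y))
            exact hst (Subgroup.mem_zpowers_iff.2 ⟨l, rfl⟩)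
          rw [map_inv, inv_eq_one]
          exact Transvection.dlt_eq_one.2 (h1 _ (Subgroup.mem_zpowers_iff.2 ⟨k, rfl⟩))
        have h2 := congrArg Subtype.val h0
        rw [e, Subgroup.coe_inv, Subgroup.coe_one] at h2
        rw [commutatorElement_def]
        simpa [mul_assoc] using h2
      intro i
      fin_cases i
      · refine Subgroup.commutator_le.2 fun x hx b hb => ?_
        obtain ⟨y', ⟨y, rfl⟩, rfl⟩ := (hx : x ∈ Z₀)
        show ⁅_, b⁆ ∈ (⊥ : Subgroup Ω)
        exact Subgroup.mem_bot.2 ((hgen _ (dlt u y).2 b hb).2 ⟨y, rfl⟩)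
      · exact Subgroup.commutator_le.2 fun x hx b hb => (hgen x hx b hb).1
  exfalso
  push Not at hinv
  obtain ⟨α, hα, z₁, hz₁, hαz⟩ := hinv
  have hne : α * u * α⁻¹ ∉ Subgroup.zpowers u := by
    intro h
    obtain ⟨k, hk⟩ := Subgroup.mem_zpowers_iff.1 h
    obtain ⟨z', ⟨r, rfl⟩, rfl⟩ := hz₁
    refine hαz ⟨_, hdz k (α r), ?_⟩
    show ((dlt (u ^ k) (α r) : W) : Ω) = autFun α ((dlt u r : W) : Ω)
    rw [hk, Transvection.dlt_conj, show α⁻¹ (α r) = r from MulEquiv.symm_apply_apply α r, autFun_coe]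
  -- the element inverting `W`
  obtain ⟨t, ht, htT, htC, htu, htT'⟩ :=
    Transvection.exists_neg hWp hsyl hu (hu.conj α) huL (mul_mem (mul_mem hα huL) (inv_mem hα)) hne
  obtain ⟨τ, τ', e1, e2, e3, e4, hT, hT', hdec⟩ :=
    Transvection.exists_basis hWp hsyl hu (hu.conj α) huL
      (mul_mem (mul_mem hα huL) (inv_mem hα)) hne
  have hkcard : Nat.card (dlt u).ker = p := by
    have h2 := Subgroup.card_mul_index (dlt u).ker
    rw [Subgroup.index_ker, hcard2, hu.card, sq] at h2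
    exact Nat.eq_of_mul_eq_mul_right hp'.pos h2
  have hkT : (dlt u).range = (dlt u).ker :=
    Subgroup.eq_of_le_of_card_ge (fun y ⟨r, hr⟩ => hr ▸ hu.fix r) (by rw [hkcard, hu.card])
  have htinv : ∀ y : W, t y = y⁻¹ := by
    intro y
    obtain ⟨i, j, c, hc, hc', rfl⟩ := hdec y
    have hc1 : c = 1 := by
      by_contra hc1
      obtain ⟨l, hl⟩ := Subgroup.mem_zpowers_iff.1
        ((hu.zpowers_eq (hkT.ge hc) hc1).ge (show τ ∈ (dlt u).range from hT ▸ Subgroup.mem_zpowers τ))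
      exact e4 (by rw [← hl, map_zpow, hc', one_zpow])
    rw [hc1, mul_one, map_mul, map_zpow, map_zpow, htT _ (hT ▸ Subgroup.mem_zpowers τ),
      htT' _ (hT' ▸ Subgroup.mem_zpowers τ'), mul_inv, inv_zpow, inv_zpow]
  -- extend `t` to `S`
  obtain ⟨-, hrec⟩ := IsSaturated.automized_receptive hS hF (isFullyNormalized_of_isNormal hWn)
  have htm := (mem_autGroup_iff hWS).1 ht
  obtain ⟨g, hg, hge⟩ := (isReceptive_iff.1 hrec).2 W (autFun t) htm (img_autFun t)
  have hext : S ≤ extSub S W (autFun t) := by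
    intro s hs
    refine mem_extSub.2 ⟨hWnS hs, s, hs, fun x hx => ?_⟩
    have hsm : conjAut s (hWnS hs).2 ∈ Subgroup.zpowers u := hAeq ▸ conjAut_mem hs _
    obtain ⟨k, hk⟩ := Subgroup.mem_zpowers_iff.1 hsm
    have hc : t * u ^ k = u ^ k * t := (htu.zpow_right k).eq
    rw [← autFun_conjAut (hWnS hs).2 hx, ← hk, ← autFun_mul _ _ hx, hc, autFun_mul _ _ hx, hk,
      autFun_conjAut (hWnS hs).2 (autFun_mem _ hx)]
  have hgS := hg.mono hext
  have hφinv : ∀ y ∈ W, g y = y⁻¹ := fun y hy => by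
    rw [hge y hy, show autFun t y = ((t ⟨y, hy⟩ : W) : Ω) from autFun_coe t ⟨y, hy⟩, htinv]
    rfl
  -- the centralizer of `W` in `P`
  set M := P ⊓ Subgroup.centralizer (W : Set Ω) with hMd
  have hMP : M ≤ P := inf_le_left
  have hMS : M ≤ S := hMP.trans hPS
  have hWM : W ≤ M := fun x hx => Subgroup.mem_inf.2 ⟨hWP hx,
    Subgroup.mem_centralizer_iff.2 fun y hy => hWcomm y hy x hx⟩
  haveI := finite_of_le hMS
  have hextM : ∀ γ ∈ L, ∃ Φ : MulAut M, ∀ x ∈ W, autFun Φ x = autFun γ x := by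
    intro γ hγ
    have hγm := (mem_autGroup_iff hWS).1 hγ
    obtain ⟨h, hh, hhe⟩ := (isReceptive_iff.1 hrec).2 W (autFun γ) hγm (img_autFun γ)
    have hle : M ≤ extSub S W (autFun γ) := fun m hm =>
      centralizerIn_le_extSub ⟨hMS hm, hm.2⟩
    have hhM := hh.mono hle
    have hWimg : img W h = W := (IsMap.img_congr hhe).trans (img_autFun γ)
    have himg : img M h = M := img_eq_of_map_le hMS hhM le_rfl fun m hm => by
      refine Subgroup.mem_inf.2 ⟨(stronglyClosed_iff.1 hP).2 M h hMP hhM m hm, ?_⟩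
      have := map_mem_centralizerIn hhM hWM hm hm.2
      rw [hWimg] at this
      exact this.2
    exact ⟨autOf hhM himg, fun x hx => by rw [autFun_autOf hhM himg (hWM hx), hhe x hx]⟩
  have hdich : ∀ K : Subgroup Ω, (∀ γ ∈ L, ∀ x ∈ W ⊓ K, autFun γ x ∈ K) → W ⊓ K ≠ ⊥ → W ≤ K := by
    intro K hK hne'
    obtain ⟨x, hx, hx1⟩ : ∃ x ∈ W ⊓ K, x ≠ 1 := by
      by_contra h
      push Not at h
      exact hne' (eq_bot_iff.2 fun x hx => Subgroup.mem_bot.2 (h x hx))
    have hy : ∃ y : W, y ∈ (dlt u).range ∧ y ≠ 1 ∧ (y : Ω) ∈ K := by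
      by_cases h : dlt u ⟨x, hx.1⟩ = 1
      · exact ⟨⟨x, hx.1⟩, hkT.ge h, fun e => hx1 (congrArg Subtype.val e), hx.2⟩
      · refine ⟨_, ⟨_, rfl⟩, h, ?_⟩
        show ((dlt u ⟨x, hx.1⟩ : W) : Ω) ∈ K
        exact K.mul_mem (K.inv_mem hx.2) (by
          have := hK u huL x hx
          rwa [show x = ((⟨x, hx.1⟩ : W) : Ω) from rfl, autFun_coe] at this)
    obtain ⟨y, hy, hy1, hyK⟩ := hy
    have hZK : Z₀ ≤ K := by
      rintro _ ⟨z, hz, rfl⟩
      obtain ⟨l, hl⟩ := Subgroup.mem_zpowers_iff.1 ((hu.zpowers_eq hy hy1).ge hz)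
      rw [← hl, map_zpow]
      exact K.zpow_mem hyK l
    have hbig : ¬ K.subgroupOf W ≤ (dlt u).range := fun h => by
      have h1 : autFun α z₁ ∈ K := hK α hα z₁ ⟨hZW hz₁, hZK hz₁⟩
      exact hαz ⟨⟨_, autFun_mem α (hZW hz₁)⟩, h h1, rfl⟩
    have hle : (dlt u).range ≤ K.subgroupOf W := fun z hz => hZK ⟨z, hz, rfl⟩
    have htop : K.subgroupOf W = ⊤ := by
      obtain ⟨j, hj2, hj⟩ :=
        (Nat.dvd_prime_pow hp').1 (hcard2 ▸ Subgroup.card_subgroup_dvd_card (K.subgroupOf W))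
      refine Subgroup.eq_top_of_card_eq _ ?_
      rw [hcard2, hj]
      by_contra hne2
      have hj1 : j ≤ 1 := by
        by_contra h
        exact hne2 (by rw [show j = 2 by omega])
      refine hbig (Subgroup.eq_of_le_of_card_ge hle ?_).ge
      rw [hu.card, hj]
      exact (Nat.pow_le_pow_right hp'.pos hj1).trans_eq (pow_one p)
    exact fun w hw => (Subgroup.mem_subgroupOf (h := (⟨w, hw⟩ : W))).1 (htop ▸ Subgroup.mem_top _)
  -- `M` is abelian
  have hDN : ⁅M, M⁆ ≤ N.map P.subtype := by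
    refine Subgroup.commutator_le.2 fun b hb c hc => ⟨⁅(⟨b, hMP hb⟩ : P), ⟨c, hMP hc⟩⁆, ?_, rfl⟩
    haveI := hq
    show ⁅(⟨b, hMP hb⟩ : P), ⟨c, hMP hc⟩⁆ ∈ N
    rw [← QuotientGroup.eq_one_iff, ← QuotientGroup.mk'_apply, map_commutatorElement,
      commutatorElement_eq_one_iff_mul_comm]
    exact (IsCyclic.isMulCommutative (α := P ⧸ N)).is_comm.comm _ _
  have hDbot : ⁅M, M⁆ = ⊥ := by
    have hWD : W ⊓ ⁅M, M⁆ = ⊥ := by
      by_contra hne'
      have h1 := hdich ⁅M, M⁆ (fun γ hγ x hx => by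
        obtain ⟨Φ, hΦ⟩ := hextM γ hγ
        rw [← hΦ x hx.1]
        exact CenterIndex.map_derived Φ hx.2) hne'
      have h2 := CfsgLib.MetacyclicOmega.card_pow_eq_one_le (R := P) (p := p) (A := N)
        (W.subgroupOf P) (fun x hx => by
          obtain ⟨y, hy, he⟩ := hDN (h1 (show (x : Ω) ∈ W from hx))
          rw [← P.subtype_injective he]
          exact hy)
        (fun x hx => Subtype.ext ((hW x).1 hx).2)
      rw [Nat.card_congr (Subgroup.subgroupOfEquivOfLe hWP).toEquiv, hcard2, sq] at h2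
      have := hp'.one_lt
      nlinarith
    by_contra hne'
    haveI : Nontrivial (⁅M, M⁆ : Subgroup Ω) := (Subgroup.nontrivial_iff_ne_bot _).2 hne'
    have hDM : ⁅M, M⁆ ≤ M := Subgroup.commutator_le_self M
    haveI := finite_of_le (S := S) (P := ⁅M, M⁆) (hDM.trans hMS)
    obtain ⟨e, he⟩ := (hS.to_le (hDM.trans hMS)).exists_card_eq
    have he0 : e ≠ 0 := by
      rintro rfl
      rw [pow_zero] at he
      have := Finite.one_lt_card (α := (⁅M, M⁆ : Subgroup Ω))
      omega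
    obtain ⟨y, hy⟩ := exists_prime_orderOf_dvd_card' (G := (⁅M, M⁆ : Subgroup Ω)) p
      (by rw [he]; exact dvd_pow_self p he0)
    have hyW : (y : Ω) ∈ W ⊓ ⁅M, M⁆ := Subgroup.mem_inf.2 ⟨(hW _).2 ⟨hMP (hDM y.2), by
      rw [← SubmonoidClass.coe_pow, ← hy, pow_orderOf_eq_one]; rfl⟩, y.2⟩
    rw [hWD, Subgroup.mem_bot] at hyW
    rw [show y = 1 from Subtype.ext hyW, orderOf_one] at hy
    exact hp'.ne_one hy.symm
  have hMcomm : ∀ x ∈ M, ∀ y ∈ M, x * y = y * x := fun x hx y hy => by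
    rw [← commutatorElement_eq_one_iff_mul_comm, ← Subgroup.mem_bot, ← hDbot]
    exact Subgroup.commutator_mem_commutator hx hy
  haveI : IsMulCommutative M := ⟨⟨fun x y => Subtype.ext (hMcomm x x.2 y y.2)⟩⟩
  -- index of `M`
  let ψ : P →* MulAut W :=
    W.normalizerMonoidHom.comp (Subgroup.inclusion ((hPS.trans hWnS).trans inf_le_right))
  have hψker : ψ.ker = M.subgroupOf P := by
    ext b
    rw [MonoidHom.mem_ker, Subgroup.mem_subgroupOf]
    constructor
    · intro h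
      refine Subgroup.mem_inf.2 ⟨b.2, Subgroup.mem_centralizer_iff.2 fun y hy => ?_⟩
      have h1 : ((ψ b ⟨y, hy⟩ : W) : Ω) = y := by rw [h]; rfl
      exact (mul_inv_eq_iff_eq_mul.1 (show (b : Ω) * y * (b : Ω)⁻¹ = y from h1)).symm
    · intro h
      refine MulEquiv.ext fun y => Subtype.ext ?_
      show (b : Ω) * y * (b : Ω)⁻¹ = y
      rw [← Subgroup.mem_centralizer_iff.1 h.2 y y.2, mul_inv_cancel_right]
  have hψrange : ψ.range = Subgroup.zpowers u := by
    refine le_antisymm ?_ (Subgroup.zpowers_le.2 ⟨⟨a, ha⟩, rfl⟩)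
    rintro _ ⟨b, rfl⟩
    rw [hAeq]
    exact hu₀ b b.2
  have hMidx : M.relIndex P = p := by
    rw [Subgroup.relIndex, ← hψker, Subgroup.index_ker, hψrange, Nat.card_zpowers, hu.orderOf]
  have hMn : ∀ b ∈ P, ∀ m ∈ M, b * m * b⁻¹ ∈ M := fun b hb m hm => by
    have h : (⟨b, hb⟩ * ⟨m, hMP hm⟩ * (⟨b, hb⟩ : P)⁻¹ : P) ∈ ψ.ker :=
      Subgroup.Normal.conj_mem inferInstance _ (hψker.symm ▸ (Subgroup.mem_subgroupOf.2 hm)) _
    rw [hψker] at h
    exact h
  -- power maps
  have hexists : ∃ n, ∀ m : M, m ^ p ^ n = 1 := by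
    obtain ⟨e, he⟩ := (hS.to_le hMS).exists_card_eq
    exact ⟨e, fun m => he ▸ pow_card_eq_one'⟩
  obtain ⟨n, hn, hn'⟩ : ∃ n, (∀ m : M, m ^ p ^ n = 1) ∧ ∀ j < n, ∃ m : M, m ^ p ^ j ≠ 1 := by
    refine ⟨Nat.find hexists, Nat.find_spec hexists, fun j hj => ?_⟩
    have := Nat.find_min hexists hj
    push Not at this
    exact this
  obtain ⟨i, rfl⟩ : ∃ i, n = i + 1 := by
    refine Nat.exists_eq_succ_of_ne_zero fun h0 => ?_
    subst h0
    have h1 : x₀ = 1 := by
      have := congrArg Subtype.val (hn ⟨x₀, hWM hx₀⟩)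
      simpa using this
    exact hax (by rw [h1, one_mul, mul_one])
  obtain ⟨m₀, hm₀⟩ := hn' i (Nat.lt_succ_self i)
  set k := p ^ i with hk
  have hkp : ∀ m : M, (m ^ k) ^ p = 1 := fun m => by
    rw [← pow_mul, hk, ← pow_succ]; exact hn m
  set G := (powMonoidHom (α := M) k).range with hG
  have hGW : G.map M.subtype = W := by
    refine le_antisymm ?_ ?_
    · rintro _ ⟨_, ⟨m, rfl⟩, rfl⟩
      exact (hW _).2 ⟨hMP (powMonoidHom k m : M).2, congrArg Subtype.val (hkp m)⟩
    · refine hdich _ (fun γ hγ x hx => ?_) ?_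
      · obtain ⟨Φ, hΦ⟩ := hextM γ hγ
        rw [← hΦ x hx.1]
        obtain ⟨_, ⟨m, rfl⟩, rfl⟩ := hx.2
        refine ⟨_, ⟨Φ m, rfl⟩, ?_⟩
        show (((Φ m) ^ k : M) : Ω) = autFun Φ ((m ^ k : M) : Ω)
        rw [autFun_coe, map_pow]
      · intro h
        have h1 : ((m₀ ^ k : M) : Ω) ∈ W ⊓ G.map M.subtype := Subgroup.mem_inf.2
          ⟨(hW _).2 ⟨hMP (m₀ ^ k : M).2, congrArg Subtype.val (hkp m₀)⟩, ⟨_, ⟨m₀, rfl⟩, rfl⟩⟩
        rw [h, Subgroup.mem_bot] at h1
        exact hm₀ (Subtype.ext h1)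
  set V := (powMonoidHom (α := M) p).range with hV
  have hcardW : Nat.card (W.subgroupOf M) = p ^ 2 := by
    rw [Nat.card_congr (Subgroup.subgroupOfEquivOfLe hWM).toEquiv, hcard2]
  have hkerp : (powMonoidHom (α := M) p).ker = W.subgroupOf M := by
    ext m
    rw [MonoidHom.mem_ker, Subgroup.mem_subgroupOf, hW]
    refine ⟨fun h => ⟨hMP m.2, congrArg Subtype.val h⟩, fun h => Subtype.ext h.2⟩
  have hVidx : V.index = p ^ 2 := by
    have h1 := Subgroup.card_mul_index V
    have h2 := Subgroup.card_mul_index (powMonoidHom (α := M) p).ker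
    rw [Subgroup.index_ker, ← hV, hkerp, hcardW, ← h1, mul_comm] at h2
    exact (Nat.eq_of_mul_eq_mul_left Nat.card_pos h2).symm
  have hVker : V = (powMonoidHom (α := M) k).ker := by
    refine Subgroup.eq_of_le_of_card_ge ?_ (le_of_eq ?_)
    · rintro _ ⟨m, rfl⟩
      show (m ^ p) ^ k = 1
      rw [← pow_mul, mul_comm, pow_mul, hkp]
    · have h1 := Subgroup.card_mul_index V
      have h2 := Subgroup.card_mul_index (powMonoidHom (α := M) k).ker
      rw [Subgroup.index_ker, ← hG, show Nat.card G = p ^ 2 by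
        rw [← Subgroup.card_map_of_injective M.subtype_injective, hGW, hcard2], ← h1, hVidx] at h2
      exact Nat.eq_of_mul_eq_mul_right (pow_pos hp'.pos 2) h2
  -- the quotient `P / V`
  set V' : Subgroup P := (V.map M.subtype).subgroupOf P with hV'
  haveI hV'n : V'.Normal := by
    refine ⟨fun v hv b => ?_⟩
    obtain ⟨_, ⟨m, rfl⟩, he⟩ := (Subgroup.mem_subgroupOf.1 hv)
    refine Subgroup.mem_subgroupOf.2 ⟨_, ⟨⟨_, hMn b b.2 m m.2⟩, rfl⟩, ?_⟩
    show ((b : Ω) * m * (b : Ω)⁻¹) ^ p = (b : Ω) * v * (b : Ω)⁻¹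
    rw [conj_pow, ← he]
    rfl
  have hVM : V.map M.subtype ≤ M := Subgroup.map_subtype_le _
  have hV'idx : V'.index = p ^ 3 := by
    have h1 := Subgroup.relIndex_mul_relIndex (V.map M.subtype) M P hVM hMP
    rw [hMidx, show (V.map M.subtype).relIndex M = V.index by
      rw [Subgroup.relIndex, Subgroup.subgroupOf,
        Subgroup.comap_map_eq_self_of_injective M.subtype_injective], hVidx, ← pow_succ] at h1
    exact h1.symm
  obtain ⟨x, hx⟩ : ∃ x : P, x ^ p ∉ V' := by
    by_contra hall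
    push Not at hall
    have := CfsgLib.MetacyclicOmega.index_le_of_pow_mem hPp (N := N) hq hall
    rw [hV'idx] at this
    exact absurd ((Nat.pow_le_pow_iff_right hp'.one_lt).1 this) (by norm_num)
  -- the image of `x`
  have hgx : g x ∈ P := (stronglyClosed_iff.1 hP).2 P g le_rfl (hgS.mono hPS) _ x.2
  set y : P := ⟨g x, hgx⟩
  have hm : (x⁻¹ * y : P) ∈ M.subgroupOf P := by
    rw [← hψker, MonoidHom.mem_ker, map_mul, map_inv, inv_mul_eq_one]
    refine MulEquiv.ext fun w => Subtype.ext ?_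
    show (x : Ω) * w * (x : Ω)⁻¹ = g x * w * (g x)⁻¹
    have hw' : (x : Ω) * (w : Ω)⁻¹ * (x : Ω)⁻¹ ∈ W :=
      (Subgroup.mem_normalizer_iff.1 (hWnS (hPS x.2)).2 _).1 (inv_mem w.2)
    have h1 := hgS.map_conj (hPS x.2) (hWS (inv_mem w.2))
    rw [hφinv _ (inv_mem w.2), inv_inv, hφinv _ hw'] at h1
    rw [← h1]
    group
  set m : P := x⁻¹ * y
  have hxM : x ^ p ∈ M.subgroupOf P := by
    haveI : (M.subgroupOf P).Normal := hψker ▸ inferInstance
    have h := Subgroup.pow_index_mem (M.subgroupOf P) x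
    rwa [show (M.subgroupOf P).index = p from hMidx] at h
  have hpowV : ∀ m : P, m ∈ M.subgroupOf P → m ^ p ∈ V' := fun m hm =>
    ⟨_, ⟨⟨m, hm⟩, rfl⟩, by simp⟩
  let π := QuotientGroup.mk' V'
  have hcl := CfsgLib.MetacyclicOmega.commutator_le_center_of_card (R := P ⧸ V')
    (hPp.to_quotient V') hV'idx
  have hcen : ∀ q : P ⧸ V', Commute ⁅π m, π x⁆ q := fun q => (Subgroup.mem_center_iff.1
    (hcl (by rw [_root_.commutator_def]; exact Subgroup.commutator_mem_commutator trivial trivial)) q).symm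
  have hc : ⁅π m, π x⁆ ^ p = 1 := by
    rw [← map_commutatorElement, ← map_pow]
    refine (QuotientGroup.eq_one_iff _).2 (hpowV _ ?_)
    have h1 : x * m⁻¹ * x⁻¹ ∈ M.subgroupOf P := hMn x x.2 _ (inv_mem hm)
    have := mul_mem hm h1
    rwa [commutatorElement_def, show m * x * m⁻¹ * x⁻¹ = m * (x * m⁻¹ * x⁻¹) by group]
  have hym : π (y ^ p) = π (x ^ p) := by
    rw [map_pow, show π y = π x * π m by rw [← map_mul, mul_inv_cancel_left],
      CfsgLib.Fusion.mul_pow_eq_of_central_commutator (c := ⁅π m, π x⁆) hp' hp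
        (by rw [commutatorElement_def]; group) (hcen _) (hcen _) hc,
      ← map_pow π m, show π (m ^ p) = 1 from (QuotientGroup.eq_one_iff _).2 (hpowV m hm), mul_one,
      map_pow]
  obtain ⟨_, ⟨v, rfl⟩, hv⟩ :=
    Subgroup.mem_subgroupOf.1 ((QuotientGroup.eq (s := V')).1 hym.symm)
  set c : M := ⟨((x ^ p : P) : Ω), hxM⟩
  have hpow : ∀ j : ℕ, ∀ z ∈ S, g (z ^ j) = g z ^ j := by
    intro j z hz
    induction j with
    | zero => rw [pow_zero, pow_zero, hgS.map_one]
    | succ j ih => rw [pow_succ, pow_succ, hgS.map_mul (pow_mem hz j) hz, ih]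
  have hgc : g (c : Ω) = ((c * v ^ p : M) : Ω) := by
    show g ((x : Ω) ^ p) = _
    rw [hpow p _ (hPS x.2)]
    show ((y ^ p : P) : Ω) = _
    rw [show (y ^ p : P) = x ^ p * ((x ^ p)⁻¹ * y ^ p) by rw [mul_inv_cancel_left],
      Subgroup.coe_mul, Subgroup.coe_mul]
    congr 1
    exact hv.symm
  have hcW : ((c ^ k : M) : Ω) ∈ W := hGW.le ⟨_, ⟨c, rfl⟩, rfl⟩
  have h1 := hφinv _ hcW
  rw [SubmonoidClass.coe_pow, hpow k _ (hMS c.2), hgc, ← SubmonoidClass.coe_pow, mul_pow,
    ← pow_mul v, mul_comm p k, pow_mul, hkp, mul_one, ← SubmonoidClass.coe_pow,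
    ← Subgroup.coe_inv] at h1
  have h2 : (c ^ k) ^ 2 = 1 := by
    rw [sq, mul_eq_one_iff_eq_inv]
    exact Subtype.ext h1
  have h3 : c ^ k = 1 := CenterIndex.pow_fix_of_dvd hp h2 (hkp c)
  refine hx (Subgroup.mem_subgroupOf.2 ?_)
  have h4 : c ∈ V := hVker.ge h3
  exact ⟨c, h4, rfl⟩

end CfsgLib.Fusion.Metacyclic
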