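import Cfsg.Agent.Lib.Fusion.System.OmegaSevenSigned
import Cfsg.Agent.Lib.Orth.Facts
import Cfsg.Agent.Lib.Classical.SpInvolClasses
import Cfsg.Agent.Lib.Classical.OrthNineSpec.Coords

/-!
# Monomial isometries of the sum of seven squares
-/

set_option autoImplicit false
set_option linter.all false

namespace CfsgLib.Fusion.OmegaSeven

open scoped Matrix
open Matrix Cfsg.Geo CfsgLib.Orth CfsgLib.Perm.Asch CfsgLib.Perm.Trans CfsgLib.Perm.Trans.Quad

variable {F : Type*} [Field F]

local notation "pol" => QuadraticMap.polar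

/-- the sum of seven squares -/
def Q7 (F : Type*) [Field F] (v : Fin 7 → F) : F := ∑ i, v i * v i

theorem pol_Q7 (x y : Fin 7 → F) : pol (Q7 F) x y = 2 * ∑ i, x i * y i := by
  simp only [QuadraticMap.polar, Q7, Pi.add_apply, Finset.mul_sum, ← Finset.sum_sub_distrib]
  exact Finset.sum_congr rfl fun i _ => by ring

theorem Q7_nd (h2 : (2 : F) ≠ 0) : IsNondegenerateQuadraticForm (Q7 F) := by
  refine ⟨fun c v => ?_, ?_, ?_⟩
  · simp only [Q7, Pi.smul_apply, smul_eq_mul, Finset.mul_sum]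
    exact Finset.sum_congr rfl fun i _ => by ring
  · constructor <;> intros <;>
      simp only [pol_Q7, Pi.add_apply, Pi.smul_apply, smul_eq_mul, Finset.mul_sum, ← Finset.sum_add_distrib] <;>
      exact Finset.sum_congr rfl fun i _ => by ring
  · intro v hv
    obtain ⟨i, hi⟩ := Function.ne_iff.1 hv
    have hy : pol (Q7 F) v (Pi.single i 1) = 2 * v i := by
      rw [pol_Q7]
      simp [Pi.single_apply]
    exact ⟨⟨Pi.single i 1, by rw [QuadraticMap.polar_comm, hy]; exact mul_ne_zero h2 hi⟩,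
      ⟨Pi.single i 1, by rw [hy]; exact mul_ne_zero h2 hi⟩⟩

theorem Q7_single (i : Fin 7) : Q7 F (Pi.single i 1) = 1 := by
  simp [Q7, Pi.single_apply]

/-- the matrix of a signed permutation -/
def monMat (x : Mo) : Matrix (Fin 7) (Fin 7) F :=
  Matrix.of fun r c => if r = x.right c then ((x.left r : ℤ) : F) else 0

theorem monMat_mulVec (x : Mo) (v : Fin 7 → F) (r : Fin 7) :
    (monMat (F := F) x *ᵥ v) r = ((x.left r : ℤ) : F) * v (x.right⁻¹ r) := by
  simp only [Matrix.mulVec, dotProduct, monMat, Matrix.of_apply, ite_mul, zero_mul]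
  rw [Finset.sum_eq_single (x.right⁻¹ r)]
  · simp
  · intro b _ hb
    rw [if_neg fun h => hb (by rw [h]; simp)]
  · simp

theorem monMat_mul (x y : Mo) : monMat (F := F) (x * y) = monMat x * monMat y := by
  refine Matrix.ext_iff_mulVec.2 fun v => funext fun r => ?_
  rw [← Matrix.mulVec_mulVec, monMat_mulVec, monMat_mulVec, monMat_mulVec]
  simp only [SemidirectProduct.mul_left, SemidirectProduct.mul_right, Pi.mul_apply, permAct_apply,
    _root_.mul_inv_rev, Equiv.Perm.mul_apply, Units.val_mul, Int.cast_mul]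
  ring

theorem monMat_one : monMat (F := F) 1 = 1 := by
  refine Matrix.ext_iff_mulVec.2 fun v => funext fun r => ?_
  rw [monMat_mulVec, Matrix.one_mulVec]
  simp

/-- signed permutations as isometries -/
noncomputable def mono : Mo →* ↥(Cfsg.isometryGroup F (Q7 F)) where
  toFun x := ⟨⟨monMat x, monMat x⁻¹, by rw [← monMat_mul, mul_inv_cancel, monMat_one],
    by rw [← monMat_mul, inv_mul_cancel, monMat_one]⟩, mem_iso.2 fun v => by
      show Q7 F (monMat x *ᵥ v) = Q7 F v
      simp only [Q7, monMat_mulVec]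
      rw [← Equiv.sum_comp x.right]
      refine Finset.sum_congr rfl fun i _ => ?_
      rcases Int.units_eq_one_or (x.left (x.right i)) with h | h <;> simp [h]⟩
  map_one' := Subtype.ext (Units.ext monMat_one)
  map_mul' x y := Subtype.ext (Units.ext (monMat_mul x y))

theorem mono_mulVec (x : Mo) (v : Fin 7 → F) (r : Fin 7) :
    (((mono (F := F) x).1 : Matrix (Fin 7) (Fin 7) F) *ᵥ v) r = ((x.left r : ℤ) : F) * v (x.right⁻¹ r) :=
  monMat_mulVec x v r

theorem unit_cast_inj (h2 : (2 : F) ≠ 0) {a b : ℤˣ} (h : ((a : ℤ) : F) = ((b : ℤ) : F)) : a = b := by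
  rcases Int.units_eq_one_or a with rfl | rfl <;> rcases Int.units_eq_one_or b with rfl | rfl
  · rfl
  · exact absurd (by simpa using h : (1 : F) = -1) fun e => h2 (by linear_combination e)
  · exact absurd (by simpa using h : (-1 : F) = 1) fun e => h2 (by linear_combination -e)
  · rfl

theorem mono_injective (h2 : (2 : F) ≠ 0) : Function.Injective (mono (F := F)) := by
  rw [injective_iff_map_eq_one]
  intro x hx
  have h : ∀ (v : Fin 7 → F) (r : Fin 7), ((x.left r : ℤ) : F) * v (x.right⁻¹ r) = v r := fun v r => by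
    rw [← mono_mulVec, hx]
    simp
  have hr : x.right = 1 := Equiv.ext fun i => by
    have := h (Pi.single i 1) (x.right i)
    by_contra hne
    simp only [Equiv.Perm.one_apply] at hne
    rw [Pi.single_apply, Pi.single_apply, if_pos (by simp), if_neg hne, mul_one] at this
    rcases Int.units_eq_one_or (x.left (x.right i)) with he | he <;> simp [he] at this
  refine SemidirectProduct.ext (funext fun i => unit_cast_inj h2 ?_) hr
  have := h (fun _ => 1) i
  simpa using this

variable [Fintype F] (h2 : (2 : F) ≠ 0)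

/-- spinor norm and parity on the isometries -/
noncomputable def cls : ↥(Cfsg.isometryGroup F (Q7 F)) →* SqClass F × Multiplicative (ZMod 2) :=
  clsHom (Q7_nd h2) (hex_of_two h2)

theorem mem_omega_iff_cls {g : ↥(Cfsg.isometryGroup F (Q7 F))} :
    g ∈ Cfsg.Omega F (Q7 F) ↔ cls h2 g = 1 := by
  rw [← clsHom_ker (Q7_nd h2) (by rw [Fintype.card_fin]; norm_num) (hex_of_two h2), MonoidHom.mem_ker]
  rfl

theorem cls_of_refl {g : ↥(Cfsg.isometryGroup F (Q7 F))} {v : Fin 7 → F} (hv : Q7 F v ≠ 0)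
    (hg : IsRefl (Q7 F) v g.1) : cls h2 g = (sqc (Q7 F v), Multiplicative.ofAdd (1 : ZMod 2)) := by
  obtain ⟨e1, e2⟩ := refl_spn (Q7_nd h2) g.2 hg hv
  refine Prod.ext e2 ?_
  show Multiplicative.ofAdd ((wrk g.1 : ℕ) : ZMod 2) = _
  rw [e1, Nat.cast_one]

theorem cls_sign (i : Fin 7) : cls h2 (mono (F := F) ⟨Pi.mulSingle i (-1), 1⟩) =
    (1, Multiplicative.ofAdd (1 : ZMod 2)) := by
  rw [cls_of_refl h2 (v := Pi.single i 1) (by rw [Q7_single]; exact one_ne_zero), Q7_single, sqc_one]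
  intro x
  funext r
  rw [mono_mulVec, Q7_single, pol_Q7]
  simp only [inv_one, Equiv.Perm.one_apply, one_mul, Pi.sub_apply, Pi.smul_apply, smul_eq_mul, Pi.single_apply]
  rcases eq_or_ne r i with rfl | h
  · simp [Pi.mulSingle_eq_same]
    ring
  · simp [Pi.mulSingle_eq_of_ne h, h]

theorem cls_swap {i j : Fin 7} (hij : i ≠ j) : cls h2 (mono (F := F) ⟨1, Equiv.swap i j⟩) =
    (sqc (2 : F), Multiplicative.ofAdd (1 : ZMod 2)) := by
  set v : Fin 7 → F := Pi.single i 1 - Pi.single j 1 with hv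
  have hQ : Q7 F v = 2 := by
    simp only [Q7, hv, Pi.sub_apply, mul_sub, sub_mul, Finset.sum_sub_distrib, Pi.single_apply]
    simp [hij, hij.symm]
    ring
  rw [cls_of_refl h2 (v := v) (hQ ▸ h2), hQ]
  intro x
  funext r
  rw [mono_mulVec, hQ, pol_Q7]
  have hs : ∑ k, x k * v k = x i - x j := by
    simp [hv, Pi.single_apply, mul_sub, Finset.sum_sub_distrib]
  rw [hs]
  simp only [hv, Pi.sub_apply, Pi.smul_apply, smul_eq_mul, Equiv.swap_inv]
  rw [show (2 : F)⁻¹ * (2 * (x i - x j)) = x i - x j by field_simp]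
  rcases eq_or_ne r i with rfl | hri
  · simp [Pi.single_apply, hij]
  rcases eq_or_ne r j with rfl | hrj
  · simp [Pi.single_apply, hij.symm]
  simp [Pi.single_apply, hri, hrj, Equiv.swap_apply_of_ne_of_ne hri hrj]

/-- the class of spinor norm two and odd parity, raised to a sign -/
noncomputable def signPow (t : SqClass F × Multiplicative (ZMod 2)) (ht : t * t = 1) :
    ℤˣ →* SqClass F × Multiplicative (ZMod 2) where
  toFun u := if u = 1 then 1 else t
  map_one' := if_pos rfl
  map_mul' a b := by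
    rcases Int.units_eq_one_or a with rfl | rfl <;> rcases Int.units_eq_one_or b with rfl | rfl <;> simp [ht]

theorem cls_mono (x : Mo) : cls h2 (mono (F := F) x) =
    (if (∏ i, x.left i) = 1 then 1 else (1, Multiplicative.ofAdd (1 : ZMod 2))) *
      (if Equiv.Perm.sign x.right = 1 then 1 else (sqc (2 : F), Multiplicative.ofAdd (1 : ZMod 2))) := by
  have ho : (Multiplicative.ofAdd (1 : ZMod 2)) * Multiplicative.ofAdd (1 : ZMod 2) = 1 := by decide
  let s := signPow (F := F) (1, Multiplicative.ofAdd (1 : ZMod 2)) (Prod.ext (one_mul 1) ho)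
  let t := signPow (F := F) (sqc (2 : F), Multiplicative.ofAdd (1 : ZMod 2))
    (Prod.ext (sqc_mul_self h2) ho)
  have hN : ∀ e : Sgn, cls h2 (mono (F := F) (SemidirectProduct.inl e)) = s (∏ i, e i) := by
    intro e
    rw [map_prod s]
    conv_lhs => rw [← Finset.univ_prod_mulSingle e]
    show ((cls h2).comp ((mono (F := F)).comp SemidirectProduct.inl)) _ = _
    rw [map_prod]
    simp only [MonoidHom.comp_apply]
    refine Finset.prod_congr rfl fun i _ => ?_
    rcases Int.units_eq_one_or (e i) with h | h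
    · rw [h, Pi.mulSingle_one, map_one, map_one, map_one, map_one]
    · rw [h, show (SemidirectProduct.inl (Pi.mulSingle i (-1)) : Mo) = ⟨Pi.mulSingle i (-1), 1⟩ from rfl,
        cls_sign]
      simp [s, signPow]
  have hG : ∀ σ : Equiv.Perm (Fin 7),
      cls h2 (mono (F := F) (SemidirectProduct.inr σ)) = t (Equiv.Perm.sign σ) := by
    intro σ
    induction σ using Equiv.Perm.swap_induction_on with
    | one => simp
    | swap_mul f i j hij ih =>
      rw [map_mul, map_mul, map_mul, map_mul, map_mul, ih, Equiv.Perm.sign_swap hij]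
      congr 1
      rw [show (SemidirectProduct.inr (Equiv.swap i j) : Mo) = ⟨1, Equiv.swap i j⟩ from rfl, cls_swap h2 hij]
      simp [t, signPow]
  conv_lhs => rw [← SemidirectProduct.inl_left_mul_inr_right x]
  rw [map_mul, map_mul, hN, hG]
  rfl

include h2 in
theorem mono_mem_omega_iff (hsq : ¬ IsSquare (2 : F)) (x : Mo) :
    mono (F := F) x ∈ Cfsg.Omega F (Q7 F) ↔ x ∈ good := by
  rw [mem_omega_iff_cls h2, cls_mono h2, mem_good]
  have ht : sqc (2 : F) ≠ 1 := fun h => hsq ((sqc_eq_one_iff h2).1 h)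
  split_ifs with h1 h3 h3
  · simp [h1, h3]
  · simp only [one_mul]
    exact ⟨fun h => absurd (congrArg Prod.fst h) ht, fun h => absurd h.2 h3⟩
  · simp only [mul_one]
    exact ⟨fun h => absurd (congrArg Prod.snd h) (show Multiplicative.ofAdd (1 : ZMod 2) ≠ 1 by decide),
      fun h => absurd h.1 h1⟩
  · exact ⟨fun h => absurd (by simpa using congrArg Prod.fst h) ht, fun h => absurd h.2 h3⟩

include h2 in
/-- an isometry normalizing the even sign changes is monomial -/
theorem exists_mono_of_normalize {g : ↥(Cfsg.isometryGroup F (Q7 F))}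
    (h : ∀ e' : Sgn, (∏ i, e' i) = 1 → ∃ e : Sgn,
      g * mono (F := F) ⟨e, 1⟩ = mono (F := F) ⟨e', 1⟩ * g) : ∃ x : Mo, mono (F := F) x = g := by
  classical
  set M : Matrix (Fin 7) (Fin 7) F := (g.1 : Matrix (Fin 7) (Fin 7) F) with hM
  have hcol : ∀ i k l, M k i ≠ 0 → M l i ≠ 0 → k = l := by
    intro i k l hk hl
    by_contra hkl
    obtain ⟨m, hmk, hml⟩ : ∃ m : Fin 7, m ≠ k ∧ m ≠ l :=
      (show ∀ i j : Fin 7, ∃ k : Fin 7, k ≠ i ∧ k ≠ j by decide) k l
    obtain ⟨e, he⟩ := h (pair k m) (prod_pair k m)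
    have hent : ∀ r, M r i * ((e i : ℤ) : F) = ((pair k m r : ℤ) : F) * M r i := by
      intro r
      have h1 := congrArg (fun y : ↥(Cfsg.isometryGroup F (Q7 F)) =>
        ((y.1 : Matrix (Fin 7) (Fin 7) F) *ᵥ Pi.single i 1) r) he
      simp only [Subgroup.coe_mul, gl_mul_mulVec] at h1
      rw [mono_mulVec] at h1
      have e1 : (((mono (F := F) ⟨e, 1⟩).1 : Matrix (Fin 7) (Fin 7) F) *ᵥ Pi.single i 1) =
          ((e i : ℤ) : F) • Pi.single i 1 := funext fun s => by
        rw [mono_mulVec]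
        show ((e s : ℤ) : F) * (Pi.single i (1 : F) : Fin 7 → F) ((1 : Equiv.Perm (Fin 7)) s) = _
        simp only [Equiv.Perm.one_apply, Pi.smul_apply, smul_eq_mul]
        rcases eq_or_ne s i with rfl | hsi <;> simp [*]
      rw [e1, Matrix.mulVec_smul] at h1
      simpa [Matrix.mulVec_single_one, mul_comm, hM] using h1
    have h3 : ∀ r, M r i ≠ 0 → ((e i : ℤ) : F) = ((pair k m r : ℤ) : F) := fun r hr => by
      have := hent r
      rw [mul_comm ((pair k m r : ℤ) : F)] at this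
      exact mul_left_cancel₀ hr this
    have h4 : pair k m k = pair k m l := unit_cast_inj h2 ((h3 k hk).symm.trans (h3 l hl))
    simp [pair, hmk.symm, Ne.symm hkl, hml.symm] at h4
  have hQ : ∀ i, Q7 F (M *ᵥ Pi.single i 1) = 1 := fun i => by rw [mem_iso.1 g.2, Q7_single]
  have hex : ∀ i, ∃ k, M k i ≠ 0 := by
    intro i
    by_contra h0
    push Not at h0
    have := hQ i
    simp [Q7, Matrix.mulVec_single_one, h0] at this
  choose σ hσ using hex
  have hoff : ∀ i r, r ≠ σ i → M r i = 0 := fun i r hr => by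
    by_contra h0
    exact hr (hcol i r (σ i) h0 (hσ i))
  have hsq : ∀ i, M (σ i) i = 1 ∨ M (σ i) i = -1 := fun i => by
    have := hQ i
    simp only [Q7, Matrix.mulVec_single_one, Matrix.col_apply] at this
    rw [Finset.sum_eq_single (σ i) (fun b _ hb => by rw [hoff i b hb, mul_zero]) (by simp)] at this
    rw [← sq_eq_one_iff, sq]
    exact this
  have hinj : Function.Injective σ := by
    intro i j hij
    by_contra hne
    have hp := iso_pol g.2 (Pi.single i (1 : F)) (Pi.single j 1)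
    rw [pol_Q7, pol_Q7] at hp
    rw [Finset.sum_eq_single (σ i) (fun b _ hb => by simp [Matrix.mulVec_single_one, ← hM, hoff i b hb])
      (by simp)] at hp
    rw [show ∑ b, (Pi.single i (1 : F) : Fin 7 → F) b * (Pi.single j (1 : F) : Fin 7 → F) b = 0 by
      simp [Pi.single_apply, hne, Ne.symm hne], mul_zero] at hp
    simp only [Matrix.mulVec_single_one, Matrix.col_apply, ← hM] at hp
    rcases mul_eq_zero.1 ((mul_eq_zero.1 hp).resolve_left h2) with h0 | h0
    · exact hσ i h0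
    · exact hσ j (hij ▸ h0)
  let π : Equiv.Perm (Fin 7) := Equiv.ofBijective σ ⟨hinj, Finite.surjective_of_injective hinj⟩
  let e : Sgn := fun r => if M r (π⁻¹ r) = 1 then 1 else -1
  refine ⟨⟨e, π⟩, Subtype.ext (gl_ext_vec fun v => funext fun r => ?_)⟩
  rw [mono_mulVec]
  show _ = (M *ᵥ v) r
  have hr : σ (π⁻¹ r) = r := π.apply_symm_apply r
  simp only [Matrix.mulVec, dotProduct]
  rw [Finset.sum_eq_single (π⁻¹ r) (fun b _ hb => by
    rw [hoff b r (fun hb' => hb (hinj (by rw [hr, ← hb']))), zero_mul]) (by simp)]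
  congr 1
  have := hsq (π⁻¹ r)
  rw [hr] at this
  rcases this with h1 | h1
  · rw [show e r = 1 from if_pos h1, h1]
    simp
  · have hne1 : M r (π⁻¹ r) ≠ 1 := fun h' => h2 (by linear_combination (h'.symm.trans h1))
    rw [show e r = -1 from if_neg hne1, h1]
    simp

/-- a rotated orthonormal frame -/
def frameMat (a b : F) : Matrix (Fin 7) (Fin 7) F :=
  Matrix.of ![![a, -b, a, -b, 0, 0, 0], ![-a, b, a, -b, 0, 0, 0], ![b, a, b, a, 0, 0, 0],
    ![-b, -a, b, a, 0, 0, 0], ![0, 0, 0, 0, 1, 0, 0], ![0, 0, 0, 0, 0, 1, 0], ![0, 0, 0, 0, 0, 0, 1]]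

include h2 in
theorem exists_fusing (hsq : ¬ IsSquare (2 : F)) : ∃ g ∈ Cfsg.Omega F (Q7 F),
    g * mono (F := F) ⟨pair 0 1, 1⟩ = mono (F := F) ⟨1, pz⟩ * g := by
  obtain ⟨a, b, hab⟩ := CfsgLib.Classical.SpInvolClasses.exists_two_sq h2 (2⁻¹ : F)
  have hab' : 2 * (a ^ 2 + b ^ 2) = 1 := by rw [hab, mul_inv_cancel₀ h2]
  have horth : (frameMat a b)ᵀ * frameMat a b = 1 := by
    ext i j
    fin_cases i <;> fin_cases j <;>
      simp [frameMat, Matrix.mul_apply, Fin.sum_univ_seven] <;>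
      first | linear_combination hab' | linear_combination -hab' | ring
  have horth' : frameMat a b * (frameMat a b)ᵀ = 1 := mul_eq_one_comm.1 horth
  let G0 : GL (Fin 7) F := ⟨frameMat a b, (frameMat a b)ᵀ, horth', horth⟩
  have hG0 : G0 ∈ Cfsg.isometryGroup F (Q7 F) := mem_iso.2 fun v => by
    show (frameMat a b *ᵥ v) ⬝ᵥ (frameMat a b *ᵥ v) = v ⬝ᵥ v
    rw [Matrix.dotProduct_mulVec, ← Matrix.mulVec_transpose, Matrix.mulVec_mulVec, horth, Matrix.one_mulVec]
  obtain ⟨g0, hg0⟩ : ∃ g0 : ↥(Cfsg.isometryGroup F (Q7 F)), g0 = ⟨G0, hG0⟩ := ⟨_, rfl⟩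
  have heq : g0 * mono (F := F) ⟨pair 0 1, 1⟩ = mono (F := F) ⟨1, pz⟩ * g0 := by
    refine Subtype.ext (gl_ext_vec fun v => funext fun r => ?_)
    simp only [Subgroup.coe_mul, gl_mul_mulVec, hg0]
    have h' : ((mono (F := F) ⟨1, pz⟩).1 : Matrix (Fin 7) (Fin 7) F) *ᵥ (frameMat a b *ᵥ v) =
        fun r => (frameMat a b *ᵥ v) (pz⁻¹ r) := funext fun s => by rw [mono_mulVec]; simp
    rw [h']
    have h'' : ((mono (F := F) ⟨pair 0 1, 1⟩).1 : Matrix (Fin 7) (Fin 7) F) *ᵥ v =
        ![-v 0, -v 1, v 2, v 3, v 4, v 5, v 6] := funext fun s => by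
      rw [mono_mulVec]
      fin_cases s <;> simp [pair]
    rw [h'']
    show (frameMat a b *ᵥ _) r = _
    fin_cases r <;>
      simp [frameMat, Matrix.mulVec, dotProduct, Fin.sum_univ_seven, pz, Equiv.swap_apply_def] <;>
      ring
  -- a correction commuting with the sign change
  set y1 : Mo := ⟨Pi.mulSingle 0 (-1), 1⟩ with hy1
  set y2 : Mo := ⟨1, Equiv.swap 0 1⟩ with hy2
  have hc1 : y1 * ⟨pair 0 1, 1⟩ = ⟨pair 0 1, 1⟩ * y1 := by
    rw [hy1]; exact SemidirectProduct.ext (by decide +kernel) (by decide +kernel)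
  have hc2 : y2 * ⟨pair 0 1, 1⟩ = ⟨pair 0 1, 1⟩ * y2 := by
    rw [hy2]; exact SemidirectProduct.ext (by decide +kernel) (by decide +kernel)
  have ht : sqc (2 : F) ≠ 1 := fun h => hsq ((sqc_eq_one_iff h2).1 h)
  obtain ⟨y, hy, hcl⟩ : ∃ y : Mo, y * ⟨pair 0 1, 1⟩ = ⟨pair 0 1, 1⟩ * y ∧
      cls h2 (mono (F := F) y) = (cls h2 g0)⁻¹ := by
    obtain ⟨⟨p, q⟩, hpq⟩ : ∃ z, z = (cls h2 g0)⁻¹ := ⟨_, rfl⟩
    rw [← hpq]
    have hp := sqclass_cases h2 ht p
    have hq : q = 1 ∨ q = Multiplicative.ofAdd (1 : ZMod 2) :=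
      (show ∀ z : Multiplicative (ZMod 2), z = 1 ∨ z = Multiplicative.ofAdd (1 : ZMod 2) by decide) q
    have e1 := cls_sign h2 (0 : Fin 7)
    have e2 := cls_swap h2 (show (0 : Fin 7) ≠ 1 by decide)
    rw [← hy1] at e1
    rw [← hy2] at e2
    rcases hp with rfl | rfl <;> rcases hq with rfl | rfl
    · exact ⟨1, by simp, by rw [map_one, map_one]; rfl⟩
    · exact ⟨y1, hc1, e1⟩
    · refine ⟨y1 * y2, by rw [mul_assoc, hc2, ← mul_assoc, hc1, mul_assoc], ?_⟩
      rw [map_mul, map_mul, e1, e2]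
      exact Prod.ext (one_mul _)
        (show Multiplicative.ofAdd (1 : ZMod 2) * Multiplicative.ofAdd (1 : ZMod 2) = 1 by decide)
    · exact ⟨y2, hc2, e2⟩
  refine ⟨g0 * mono (F := F) y, (mem_omega_iff_cls h2).2 (by rw [map_mul, hcl, mul_inv_cancel]), ?_⟩
  rw [mul_assoc, ← map_mul, hy, map_mul, ← mul_assoc, heq, mul_assoc]

include h2 in
/-- the standard odd form in seven variables has the isometry group of the sum of seven squares -/
theorem exists_omega_equiv :
    Nonempty (↥(Cfsg.Omega F (Q7 F)) ≃* ↥(Cfsg.Omega F (Cfsg.quadFormOdd 3 F))) := by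
  obtain ⟨a, b, hab⟩ := CfsgLib.Classical.SpInvolClasses.exists_two_sq h2 (-1 : F)
  let L : (Fin 7 → F) →ₗ[F] (Unit ⊕ (Fin 3 ⊕ Fin 3) → F) :=
    { toFun := fun x => Sum.elim (fun _ => a * x 0 - b * x 1)
        (Sum.elim ![b * x 0 + a * x 1 + x 4, a * x 2 - b * x 3 + x 5, b * x 2 + a * x 3 + x 6]
          ![b * x 0 + a * x 1 - x 4, a * x 2 - b * x 3 - x 5, b * x 2 + a * x 3 - x 6])
      map_add' := fun x y => by
        funext i
        rcases i with ⟨⟩ | i | i <;> try fin_cases i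
        all_goals simp <;> ring
      map_smul' := fun c x => by
        funext i
        rcases i with ⟨⟩ | i | i <;> try fin_cases i
        all_goals simp <;> ring }
  have hLQ : ∀ x, Cfsg.quadFormOdd 3 F (L x) = (-1 : F) * Q7 F x := by
    intro x
    simp [L, Cfsg.quadFormOdd, Q7, Fin.sum_univ_three, Fin.sum_univ_seven]
    linear_combination (x 0 * x 0 + x 1 * x 1 + x 2 * x 2 + x 3 * x 3) * hab
  have hinj : Function.Injective L := by
    rw [← LinearMap.ker_eq_bot, LinearMap.ker_eq_bot']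
    intro x hx
    by_contra hne
    obtain ⟨⟨y, hy⟩, -⟩ := (Q7_nd h2).nondegenerate x hne
    apply hy
    have h0 : ∀ v, Q7 F v = -Cfsg.quadFormOdd 3 F (L v) := fun v => by rw [hLQ]; ring
    simp only [QuadraticMap.polar, h0, map_add, hx, zero_add, add_zero, map_zero]
    simp [Cfsg.quadFormOdd]
  have hdim : Module.finrank F (Fin 7 → F) = Module.finrank F (Unit ⊕ (Fin 3 ⊕ Fin 3) → F) := by
    simp
  obtain ⟨e, -⟩ := CfsgLib.Classical.OrthNineSpec.exists_congr (Q := Cfsg.quadFormOdd 3 F) (R := Q7 F)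
    (LinearMap.linearEquivOfInjective L hinj hdim) (neg_ne_zero.2 one_ne_zero) hLQ
  refine ⟨(e.subgroupMap (Cfsg.Omega F (Q7 F))).trans (MulEquiv.subgroupCongr ?_)⟩
  ext z
  rw [show ((e : _ ≃* _) : _ →* _) = e.toMonoidHom from rfl, Subgroup.mem_map_equiv]
  conv_rhs => rw [← e.apply_symm_apply z, CfsgLib.Classical.OrthNineSpec.congr_mem_omega]

end CfsgLib.Fusion.OmegaSeven
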