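import Cfsg.Agent.Lib.Fusion.System.OmegaSevenTables
import Mathlib.GroupTheory.SemidirectProduct
import Mathlib.GroupTheory.SpecificGroups.Alternating
import Mathlib.GroupTheory.PGroup

/-!
# Signed permutations of seven letters: the two-local data of seven-dimensional orthogonal groups

The group `2^6 : A_7` of signed even permutations with even sign change, its two-subgroup `2^6 : D_8`,
the uniqueness of the elementary abelian subgroup of order `64`, and the irreducibility facts.
-/

set_option autoImplicit false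
set_option linter.all false
set_option maxRecDepth 100000

namespace CfsgLib.Fusion.OmegaSeven

open Equiv

/-- permutations move sign vectors -/
def permAct : Perm (Fin 7) →* MulAut Sgn where
  toFun σ :=
    { toFun := fun e i => e (σ⁻¹ i)
      invFun := fun e i => e (σ i)
      left_inv := fun e => funext fun i => by simp
      right_inv := fun e => funext fun i => by simp
      map_mul' := fun a b => rfl }
  map_one' := MulEquiv.ext fun e => rfl
  map_mul' a b := MulEquiv.ext fun e => rfl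

/-- signed permutations -/
abbrev Mo := Sgn ⋊[permAct] Perm (Fin 7)

theorem permAct_apply (σ : Perm (Fin 7)) (e : Sgn) (i : Fin 7) : permAct σ e i = e (σ⁻¹ i) := rfl

/-- sign change parity and permutation parity -/
def parity : Mo →* ℤˣ × ℤˣ where
  toFun x := (∏ i, x.left i, Perm.sign x.right)
  map_one' := by simp
  map_mul' x y := by
    refine Prod.ext ?_ (by simp)
    show ∏ i, (x.left i * permAct x.right y.left i) = _
    rw [Finset.prod_mul_distrib]
    congr 1
    exact Equiv.prod_comp x.right⁻¹ fun i => y.left i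

/-- `2^6 : A_7` -/
def good : Subgroup Mo := parity.ker

theorem mem_good {x : Mo} : x ∈ good ↔ (∏ i, x.left i) = 1 ∧ Perm.sign x.right = 1 := Prod.ext_iff

/-- `2^6` -/
def even : Subgroup Mo := good ⊓ (SemidirectProduct.rightHom (φ := permAct)).ker

theorem mem_even {x : Mo} : x ∈ even ↔ (∏ i, x.left i) = 1 ∧ x.right = 1 := by
  rw [even, Subgroup.mem_inf, mem_good, MonoidHom.mem_ker, SemidirectProduct.rightHom_eq_right]
  exact ⟨fun h => ⟨h.1.1, h.2⟩, fun h => ⟨⟨h.1, by rw [h.2]; simp⟩, h.2⟩⟩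

/-- the dihedral group of order eight -/
def P8 : Subgroup (Perm (Fin 7)) where
  carrier := {a | a ∈ p8l}
  one_mem' := by simp [p8l]
  mul_mem' ha hb := p8_mul _ ha _ hb
  inv_mem' {a} ha := by
    obtain ⟨b, hb, h⟩ := p8_inv a ha
    rwa [Set.mem_setOf_eq, inv_eq_of_mul_eq_one_right h]

theorem mem_P8 {a : Perm (Fin 7)} : a ∈ P8 ↔ a ∈ p8l := Iff.rfl

theorem card_P8 : Nat.card P8 = 8 := by
  have e : Nat.card P8 = p8l.toFinset.card := by
    rw [← Nat.card_eq_finsetCard]
    exact Nat.card_congr (Equiv.subtypeEquivRight fun a => by rw [List.mem_toFinset]; rfl)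
  rw [e]
  decide +kernel

theorem pz_mem : pz ∈ P8 := by simp [mem_P8, p8l]
theorem pa_mem : pa ∈ P8 := by simp [mem_P8, p8l]
theorem pb_mem : pb ∈ P8 := by simp [mem_P8, p8l]

theorem mem_P8_of_centralize {π : Perm (Fin 7)} (hs : Perm.sign π = 1) (h6 : π 6 = 6)
    (hz : π * pz = pz * π) : π ∈ P8 := by
  have hzc : ∀ i, π (pz i) = pz (π i) := fun i => congrArg (fun f : Perm (Fin 7) => f i) hz
  have hmove : ∀ i, pz i ≠ i → pz (π i) ≠ π i := fun i hi h => hi (π.injective (by rw [hzc, h]))
  obtain ⟨q, hq, hq0, hq2⟩ := p8_transitive (π 0) (π 2) (hmove 0 (by decide)) (hmove 2 (by decide))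
    (fun h => absurd (π.injective h) (by decide))
    (fun h => by rw [← hzc] at h; exact absurd (π.injective h) (by decide))
  obtain ⟨r, rfl⟩ : ∃ r, π = q * r := ⟨q⁻¹ * π, by group⟩
  refine P8.mul_mem hq ?_
  have hqs : Perm.sign q = 1 := p8_sign q hq
  rw [map_mul, hqs, one_mul] at hs
  have hq6 : q 6 = 6 := (p8_fix 6).2 rfl q hq
  have r6 : r 6 = 6 := q.injective (h6.trans hq6.symm)
  have r0 : r 0 = 0 := q.injective hq0.symm
  have r2 : r 2 = 2 := q.injective hq2.symm
  have hrz : r * pz = pz * r := by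
    have h := p8_z q hq
    apply mul_left_cancel (a := q)
    rw [← mul_assoc, hz, ← mul_assoc, ← mul_assoc, h]
  have hrc : ∀ i, r (pz i) = pz (r i) := fun i => congrArg (fun f : Perm (Fin 7) => f i) hrz
  have r1 : r 1 = 1 := by
    have := hrc 0
    rwa [r0, show pz 0 = 1 by decide] at this
  have r3 : r 3 = 3 := by
    have := hrc 2
    rwa [r2, show pz 2 = 3 by decide] at this
  have h45 : ∀ i, (i = 4 ∨ i = 5) → r i = 4 ∨ r i = 5 := by
    intro i hi
    have key : ∀ j : Fin 7, j = 0 ∨ j = 1 ∨ j = 2 ∨ j = 3 ∨ j = 6 ∨ j = 4 ∨ j = 5 := by decide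
    rcases key (r i) with h | h | h | h | h | h | h
    · have := r.injective (h.trans r0.symm); rcases hi with rfl | rfl <;> exact absurd this (by decide)
    · have := r.injective (h.trans r1.symm); rcases hi with rfl | rfl <;> exact absurd this (by decide)
    · have := r.injective (h.trans r2.symm); rcases hi with rfl | rfl <;> exact absurd this (by decide)
    · have := r.injective (h.trans r3.symm); rcases hi with rfl | rfl <;> exact absurd this (by decide)
    · have := r.injective (h.trans r6.symm); rcases hi with rfl | rfl <;> exact absurd this (by decide)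
    · exact Or.inl h
    · exact Or.inr h
  have hr : r = 1 ∨ r = swap 4 5 := by
    rcases h45 4 (Or.inl rfl) with h4 | h4
    · have h5 : r 5 = 5 := by
        rcases h45 5 (Or.inr rfl) with h | h
        · exact absurd (r.injective (h.trans h4.symm)) (by decide)
        · exact h
      left
      refine Equiv.ext fun i => ?_
      fin_cases i <;> simp_all
    · have h5 : r 5 = 4 := by
        rcases h45 5 (Or.inr rfl) with h | h
        · exact h
        · exact absurd (r.injective (h.trans h4.symm)) (by decide)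
      right
      refine Equiv.ext fun i => ?_
      fin_cases i <;> simp_all [swap_apply_of_ne_of_ne]
  rcases hr with rfl | rfl
  · exact P8.one_mem
  · rw [Perm.sign_swap (by decide)] at hs
    exact absurd hs (by decide)

/-- even permutations normalizing the dihedral group lie in it -/
theorem mem_P8_of_normalize {π : Perm (Fin 7)} (hs : Perm.sign π = 1)
    (h : ∀ a ∈ P8, π * a * π⁻¹ ∈ P8) : π ∈ P8 := by
  have hbij : ∀ b ∈ P8, ∃ a ∈ P8, π * a * π⁻¹ = b := by
    intro b hb
    have hf : Function.Surjective fun a : P8 => (⟨π * a * π⁻¹, h a a.2⟩ : P8) :=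
      Finite.surjective_of_injective fun a a' e =>
        Subtype.ext (mul_left_cancel (mul_right_cancel (congrArg Subtype.val e)))
    obtain ⟨a, ha⟩ := hf ⟨b, hb⟩
    exact ⟨a, a.2, congrArg Subtype.val ha⟩
  refine mem_P8_of_centralize hs ((p8_fix _).1 fun b hb => ?_) ?_
  · obtain ⟨a, ha, rfl⟩ := hbij b hb
    simp [(p8_fix 6).2 rfl a ha]
  · have hc := p8_center (π * pz * π⁻¹) (h pz pz_mem)
      (fun e => absurd (conj_eq_one_iff.1 e) (by decide +kernel)) fun b hb => by
        obtain ⟨a, ha, rfl⟩ := hbij b hb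
        rw [conj_mul, conj_mul, p8_z a ha]
    exact mul_inv_eq_iff_eq_mul.1 hc

/-- `2^6 : D_8` -/
def two : Subgroup Mo := good ⊓ P8.comap (SemidirectProduct.rightHom (φ := permAct))

theorem mem_two {x : Mo} : x ∈ two ↔ (∏ i, x.left i) = 1 ∧ x.right ∈ P8 := by
  rw [two, Subgroup.mem_inf, mem_good, Subgroup.mem_comap, SemidirectProduct.rightHom_eq_right]
  exact ⟨fun h => ⟨h.1.1, h.2⟩, fun h => ⟨⟨h.1, p8_sign _ h.2⟩, h.2⟩⟩

theorem two_le_good : two ≤ good := inf_le_left

theorem even_le_two : even ≤ two := fun x hx => by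
  rw [mem_even] at hx
  exact mem_two.2 ⟨hx.1, hx.2 ▸ P8.one_mem⟩

theorem sq_eq_one_of_right {x : Mo} (hx : x.right = 1) : x * x = 1 :=
  SemidirectProduct.ext (funext fun i => by simp [hx, permAct_apply, Int.units_mul_self]) (by simp [hx])

theorem two_isPGroup : IsPGroup 2 two := by
  intro x
  refine ⟨3, Subtype.ext ?_⟩
  have hpow4 : ∀ a : Perm (Fin 7), a ^ 4 = a * a * (a * a) := fun a => by
    rw [show (4 : ℕ) = 2 + 2 by norm_num, pow_add, pow_two]
  have h4 : ((x : Mo) ^ 4).right = 1 := by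
    rw [← SemidirectProduct.rightHom_eq_right, map_pow, SemidirectProduct.rightHom_eq_right,
      hpow4]
    exact p8_pow _ (mem_two.1 x.2).2
  rw [Subgroup.coe_pow, show (2 : ℕ) ^ 3 = 4 + 4 by norm_num, pow_add]
  exact sq_eq_one_of_right h4

/-- a two-subgroup of `2^6 : A_7` containing `2^6 : D_8` equals it -/
theorem eq_two_of_le {R : Subgroup Mo} (hR : IsPGroup 2 R) (h1 : two ≤ R) (h2 : R ≤ good) : R = two := by
  refine le_antisymm (fun x hx => ?_) h1
  set E := R.map (SemidirectProduct.rightHom (φ := permAct)) with hE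
  have hEA : E ≤ alternatingGroup (Fin 7) := by
    rintro _ ⟨y, hy, rfl⟩
    exact (mem_good.1 (h2 hy)).2
  have hPE : P8 ≤ E := fun a ha => ⟨⟨1, a⟩, h1 (mem_two.2 ⟨by simp, ha⟩), rfl⟩
  obtain ⟨k, hk⟩ := IsPGroup.iff_card.1 (hR.map (SemidirectProduct.rightHom (φ := permAct)))
  rw [← hE] at hk
  have hdvd : Nat.card E ∣ 2520 := by
    refine (Subgroup.card_dvd_of_le hEA).trans (dvd_of_eq ?_)
    rw [nat_card_alternatingGroup, Nat.card_eq_fintype_card, Fintype.card_fin]
    rfl
  have hle : Nat.card E ≤ Nat.card P8 := by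
    rw [hk] at hdvd ⊢
    rw [card_P8]
    by_contra hgt
    have : 4 ≤ k := by
      by_contra hk4
      have := Nat.pow_le_pow_right (n := 2) (by norm_num) (show k ≤ 3 by omega)
      omega
    exact absurd ((pow_dvd_pow 2 this).trans hdvd) (by norm_num)
  have := Subgroup.eq_of_le_of_card_ge hPE hle
  exact mem_two.2 ⟨(mem_good.1 (h2 hx)).1, this ▸ ⟨x, hx, rfl⟩⟩

theorem left_fixed_of_commute {a d : Mo} (hd : d.right = 1) (h : a * d = d * a) (i : Fin 7) :
    d.left (a.right i) = d.left i := by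
  have h1 := congrArg (fun y : Mo => y.left (a.right i)) h
  simp only [SemidirectProduct.mul_left, Pi.mul_apply, permAct_apply, hd] at h1
  simp only [inv_one, Perm.one_apply, Perm.coe_inv, Equiv.symm_apply_apply] at h1
  rw [mul_comm (d.left (a.right i))] at h1
  exact (mul_left_cancel h1).symm

/-- the elementary abelian subgroup of order `64` of `2^6 : D_8` is unique -/
theorem le_even_of_elementary {A : Subgroup Mo} (hA : A ≤ two) (hinv : ∀ x ∈ A, x * x = 1)
    (hcomm : ∀ x ∈ A, ∀ y ∈ A, x * y = y * x) (hcard : 64 ≤ Nat.card A) : A ≤ even := by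
  intro x hx
  by_contra hxe
  have hxr : x.right ≠ 1 := fun h => hxe (mem_even.2 ⟨(mem_two.1 (hA hx)).1, h⟩)
  set π : A →* Perm (Fin 7) := (SemidirectProduct.rightHom (φ := permAct)).comp A.subtype with hπ
  have hmul := Subgroup.card_mul_index π.ker
  rw [Subgroup.index_ker] at hmul
  have hmem : ∀ σ ∈ π.range, σ ∈ P8 ∧ σ * σ = 1 := by
    rintro _ ⟨a, rfl⟩
    exact ⟨(mem_two.1 (hA a.2)).2, by rw [← map_mul, show a * a = 1 from Subtype.ext (hinv a a.2), map_one]⟩
  have hrc : ∀ σ ∈ π.range, ∀ τ ∈ π.range, σ * τ = τ * σ := by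
    rintro _ ⟨a, rfl⟩ _ ⟨b, rfl⟩
    rw [← map_mul, ← map_mul, show a * b = b * a from Subtype.ext (hcomm a a.2 b b.2)]
  have hrange : Nat.card π.range ≤ 4 := by
    have hle : π.range ≤ P8 := fun σ hσ => (hmem σ hσ).1
    obtain ⟨m, hm⟩ : Nat.card π.range ∣ 8 := card_P8 ▸ Subgroup.card_dvd_of_le hle
    rcases (show m = 0 ∨ m = 1 ∨ 2 ≤ m by omega) with rfl | rfl | hm2
    · simp at hm
    · have := Subgroup.eq_of_le_of_card_ge hle (by rw [card_P8]; omega)
      have h1 := (hmem (pa * pb) (this ▸ P8.mul_mem pa_mem pb_mem)).2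
      exact absurd h1 (by decide +kernel)
    · have := Nat.mul_le_mul_left (Nat.card π.range) hm2
      omega
  have hkmem : ∀ k : π.ker, (k : Mo).right = 1 := fun k => k.2
  have hker : ∀ S : Finset Sgn, (∀ k : π.ker, (k : Mo).left ∈ S) → Nat.card π.ker ≤ S.card := by
    intro S hS
    refine (Nat.card_le_card_of_injective (fun k : π.ker => (⟨(k : Mo).left, hS k⟩ : S))
      fun k l hkl => Subtype.ext (Subtype.ext (SemidirectProduct.ext (congrArg Subtype.val hkl)
        ((hkmem k).trans (hkmem l).symm)))).trans ?_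
    rw [Nat.card_eq_finsetCard]
  have hσ : x.right ∈ π.range := ⟨⟨x, hx⟩, rfl⟩
  obtain ⟨hσP, hσ2⟩ := hmem _ hσ
  have hfix : ∀ a : A, ∀ k : π.ker, ∀ i, (k : Mo).left ((a : Mo).right i) = (k : Mo).left i :=
    fun a k => left_fixed_of_commute (hkmem k) (hcomm a a.2 (k : Mo) (k : A).2)
  by_cases h2 : ∃ τ ∈ π.range, τ ≠ 1 ∧ τ ≠ x.right
  · obtain ⟨τ, hτ, hτ1, hτx⟩ := h2
    obtain ⟨b, hb⟩ := hτ
    have hk := hker (Finset.univ.filter fun e : Sgn =>
        (∏ i, e i) = 1 ∧ (∀ i, e (x.right i) = e i) ∧ ∀ i, e (τ i) = e i)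
      (fun k => Finset.mem_filter.2 ⟨Finset.mem_univ _, (mem_two.1 (hA (k : A).2)).1,
      fun i => hfix (⟨x, hx⟩ : A) k i, fun i => by rw [← hb]; exact hfix b k i⟩)
    have := hk.trans (fix_two x.right hσP τ (hb ▸ (hmem _ ⟨b, rfl⟩).1) hxr hτ1 (Ne.symm hτx) hσ2
      (hb ▸ (hmem _ ⟨b, rfl⟩).2) (hrc _ hσ _ ⟨b, hb⟩))
    have := Nat.mul_le_mul this hrange
    omega
  · push Not at h2
    have hk := (hker (Finset.univ.filter fun e : Sgn => (∏ i, e i) = 1 ∧ ∀ i, e (x.right i) = e i) (fun k => Finset.mem_filter.2 ⟨Finset.mem_univ _, (mem_two.1 (hA (k : A).2)).1,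
      fun i => hfix (⟨x, hx⟩ : A) k i⟩)).trans (fix_one x.right hσP hxr hσ2)
    have hr2 : Nat.card π.range ≤ 2 := by
      refine (Nat.card_le_card_of_injective
        (fun t : π.range => decide ((t : Perm (Fin 7)) = 1)) fun s t hst => ?_).trans (by simp)
      rcases em ((s : Perm (Fin 7)) = 1) with hs | hs <;>
        rcases em ((t : Perm (Fin 7)) = 1) with ht | ht <;> simp [hs, ht] at hst
      · exact Subtype.ext (hs.trans ht.symm)
      · exact Subtype.ext ((h2 _ s.2 hs).trans (h2 _ t.2 ht).symm)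
    have := Nat.mul_le_mul hk hr2
    omega

theorem card_even : Nat.card even = 64 := by
  have e : Nat.card even = (Finset.univ.filter fun e : Sgn => (∏ i, e i) = 1).card := by
    rw [← Nat.card_eq_finsetCard]
    refine Nat.card_congr
      { toFun := fun x => ⟨(x : Mo).left, Finset.mem_filter.2 ⟨Finset.mem_univ _, (mem_even.1 x.2).1⟩⟩
        invFun := fun e => ⟨⟨e.1, 1⟩, mem_even.2 ⟨(Finset.mem_filter.1 e.2).2, rfl⟩⟩
        left_inv := fun x => Subtype.ext (SemidirectProduct.ext rfl (mem_even.1 x.2).2.symm)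
        right_inv := fun e => rfl }
  rw [e]
  decide +kernel

/-- the sign vector negative exactly at two letters -/
def pair (a b : Fin 7) : Sgn := Pi.mulSingle a (-1) * Pi.mulSingle b (-1)

theorem pair_comm (a b : Fin 7) : pair a b = pair b a := mul_comm _ _

theorem prod_pair (a b : Fin 7) : (∏ i, pair a b i) = 1 := by
  simp [pair, Finset.prod_mul_distrib, Finset.prod_pi_mulSingle']

theorem exists_cycle : ∀ e : Sgn, (∏ i, e i) = 1 → e ≠ 1 → ∃ i j k : Fin 7,
    Perm.sign (swap i j * swap j k) = 1 ∧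
      ∃ a b : Fin 7, a ≠ b ∧ e * (fun l => e ((swap i j * swap j k)⁻¹ l)) = pair a b := by
  intro e hp he
  obtain ⟨i, hi⟩ : ∃ i, e i = -1 := by
    by_contra h
    push Not at h
    exact he (funext fun i => (Int.units_eq_one_or (e i)).resolve_right (h i))
  obtain ⟨j, hj⟩ : ∃ j, e j = 1 := by
    by_contra h
    push Not at h
    have : ∀ i, e i = -1 := fun i => (Int.units_eq_one_or (e i)).resolve_left (h i)
    simp [this] at hp
    exact absurd hp (by decide)
  have hij : i ≠ j := fun h => by rw [h, hj] at hi; exact absurd hi (by decide)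
  obtain ⟨k, hki, hkj⟩ : ∃ k : Fin 7, k ≠ i ∧ k ≠ j :=
    (show ∀ i j : Fin 7, ∃ k : Fin 7, k ≠ i ∧ k ≠ j by decide) i j
  refine ⟨i, j, k, by rw [map_mul, Perm.sign_swap hij, Perm.sign_swap hkj.symm]; decide, ?_⟩
  have hinv : (swap i j * swap j k)⁻¹ = swap j k * swap i j := by simp
  rw [hinv]
  rcases Int.units_eq_one_or (e k) with hk | hk
  · refine ⟨i, j, hij, funext fun l => ?_⟩
    simp only [Pi.mul_apply, Perm.mul_apply, pair]
    rcases eq_or_ne l i with rfl | hli
    · simp [swap_apply_of_ne_of_ne, hij, hij.symm, hki, hki.symm, hkj, hkj.symm, hi, hk]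
    rcases eq_or_ne l j with rfl | hlj
    · simp [swap_apply_of_ne_of_ne, hij, hij.symm, hki, hki.symm, hkj, hkj.symm, hi, hj]
    rcases eq_or_ne l k with rfl | hlk
    · simp [swap_apply_of_ne_of_ne, hij, hij.symm, hki, hki.symm, hkj, hkj.symm, hj, hk, hi]
    simp [swap_apply_of_ne_of_ne, hli, hlj, hlk, Int.units_mul_self]
  · refine ⟨j, k, hkj.symm, funext fun l => ?_⟩
    simp only [Pi.mul_apply, Perm.mul_apply, pair]
    rcases eq_or_ne l i with rfl | hli
    · simp [swap_apply_of_ne_of_ne, hij, hij.symm, hki, hki.symm, hkj, hkj.symm, hi, hk]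
    rcases eq_or_ne l j with rfl | hlj
    · simp [swap_apply_of_ne_of_ne, hij, hij.symm, hki, hki.symm, hkj, hkj.symm, hi, hj]
    rcases eq_or_ne l k with rfl | hlk
    · simp [swap_apply_of_ne_of_ne, hij, hij.symm, hki, hki.symm, hkj, hkj.symm, hj, hk, hi]
    simp [swap_apply_of_ne_of_ne, hli, hlj, hlk, Int.units_mul_self]

theorem prod_pairs : ∀ e : Sgn, (∏ i, e i) = 1 →
    (∏ i : Fin 6, (if e i.castSucc = -1 then pair i.castSucc 6 else 1)) = e := by
  decide +kernel

/-- subgroups of the even sign vectors invariant under even permutations -/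
theorem even_vectors_irreducible {U : Subgroup Sgn}
    (hinv : ∀ σ : Perm (Fin 7), Perm.sign σ = 1 → ∀ e ∈ U, (fun l => e (σ⁻¹ l)) ∈ U)
    {e₀ : Sgn} (he : e₀ ∈ U) (hp : (∏ i, e₀ i) = 1) (hne : e₀ ≠ 1) {e : Sgn} (hep : (∏ i, e i) = 1) :
    e ∈ U := by
  obtain ⟨i, j, k, hs, a, b, hab, heq⟩ := exists_cycle e₀ hp hne
  have h0 : pair a b ∈ U := heq ▸ U.mul_mem he (hinv _ hs _ he)
  have step : ∀ a b c : Fin 7, a ≠ b → a ≠ c → pair a b ∈ U → pair a c ∈ U := by
    intro a b c hab hac h
    by_cases hbc : b = c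
    · exact hbc ▸ h
    obtain ⟨d, hda, hdb, hdc⟩ := (show ∀ a b c : Fin 7, ∃ d : Fin 7, d ≠ a ∧ d ≠ b ∧ d ≠ c by decide) a b c
    have hs : Perm.sign (swap b c * swap c d) = 1 := by
      rw [map_mul, Perm.sign_swap hbc, Perm.sign_swap hdc.symm]; decide
    have h1 := hinv _ hs _ h
    have h2 : (fun l => pair a b ((swap b c * swap c d)⁻¹ l)) = pair a c := funext fun l => by
      have ha' : (swap b c * swap c d) a = a := by
        simp [swap_apply_of_ne_of_ne, hab, hac, hda.symm]
      have hb' : (swap b c * swap c d) b = c := by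
        simp [swap_apply_of_ne_of_ne, hbc, hdb.symm]
      have hbij : ((swap b c * swap c d)⁻¹ l = a ↔ l = a) ∧ ((swap b c * swap c d)⁻¹ l = b ↔ l = c) :=
        ⟨by rw [Perm.inv_eq_iff_eq, ha'], by rw [Perm.inv_eq_iff_eq, hb']⟩
      simp only [pair, Pi.mul_apply, Pi.mulSingle_apply, hbij.1, hbij.2]
    rw [h2] at h1
    exact h1
  have all : ∀ a' b' : Fin 7, a' ≠ b' → pair a' b' ∈ U := by
    intro a' b' h'
    by_cases h1 : a' = a
    · subst h1
      exact step a' b b' hab h' h0
    by_cases h2 : b' = a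
    · subst h2
      rw [pair_comm]
      exact step b' b a' hab (Ne.symm h1) h0
    have h3 : pair a a' ∈ U := step a b a' hab (Ne.symm h1) h0
    rw [pair_comm] at h3
    exact step a' a b' h1 h' h3
  rw [← prod_pairs e hep]
  refine U.prod_mem fun i _ => ?_
  split_ifs
  · exact all _ _ (Fin.ne_of_lt i.castSucc_lt_last)
  · exact U.one_mem

/-- `pa` and `pb` are conjugates of `pz` by even permutations -/
theorem pa_conj : (swap 2 4 * swap 3 5) * pz * (swap 2 4 * swap 3 5)⁻¹ = pa := by decide +kernel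
theorem pb_conj : (swap 1 2 * swap 4 5) * pz * (swap 1 2 * swap 4 5)⁻¹ = pb := by decide +kernel

end CfsgLib.Fusion.OmegaSeven
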