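import Mathlib.GroupTheory.SpecificGroups.Alternating
import Mathlib.GroupTheory.PGroup

/-!
# Signed permutations of seven letters: the two-local data of seven-dimensional orthogonal groups

The group `2^6 : A_7` of signed even permutations with even sign change, its two-subgroup `2^6 : D_8`,
the uniqueness of the elementary abelian subgroup of order `64`, and the irreducibility facts.
-/

set_option autoImplicit false
set_option linter.all false
set_option maxRecDepth 100000

namespace CfsgLib.Fusion.OmegaSeven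

open Equiv

/-- sign vectors -/
abbrev Sgn := Fin 7 → ℤˣ

/-- the central involution of the chosen dihedral group -/
def pz : Perm (Fin 7) := swap 0 1 * swap 2 3

/-- a second involution -/
def pa : Perm (Fin 7) := swap 0 1 * swap 4 5

/-- a third involution -/
def pb : Perm (Fin 7) := swap 0 2 * swap 1 3

/-- the dihedral group of order eight as a list -/
def p8l : List (Perm (Fin 7)) :=
  [1, pz, pa, swap 2 3 * swap 4 5, pb, swap 0 3 * swap 1 2, pa * pb, swap 2 3 * swap 4 5 * pb]

theorem p8_mul : ∀ a ∈ p8l, ∀ b ∈ p8l, a * b ∈ p8l := by decide +kernel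
theorem p8_inv : ∀ a ∈ p8l, ∃ b ∈ p8l, a * b = 1 := by decide +kernel
theorem p8_pow : ∀ a ∈ p8l, a * a * (a * a) = 1 := by decide +kernel
theorem p8_sign : ∀ a ∈ p8l, Perm.sign a = 1 := by decide +kernel
theorem p8_center : ∀ a ∈ p8l, a ≠ 1 → (∀ b ∈ p8l, a * b = b * a) → a = pz := by decide +kernel
theorem p8_z : ∀ a ∈ p8l, pz * a = a * pz := by decide +kernel
theorem p8_fix : ∀ i : Fin 7, (∀ a ∈ p8l, a i = i) ↔ i = 6 := by decide +kernel
theorem p8_transitive : ∀ a b : Fin 7, pz a ≠ a → pz b ≠ b → b ≠ a → b ≠ pz a →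
    ∃ q ∈ p8l, q 0 = a ∧ q 2 = b := by decide +kernel
theorem p8_gen : ∀ a ∈ p8l, a ∈ [1, pz, pa, pb, pz * pa, pz * pb, pa * pb, pz * pa * pb] := by
  decide +kernel

theorem fix_one : ∀ a ∈ p8l, a ≠ 1 → a * a = 1 →
    (Finset.univ.filter fun e : Sgn => (∏ i, e i) = 1 ∧ ∀ i, e (a i) = e i).card ≤ 16 := by
  decide +kernel

theorem fix_two : ∀ a ∈ p8l, ∀ b ∈ p8l, a ≠ 1 → b ≠ 1 → a ≠ b → a * a = 1 → b * b = 1 → a * b = b * a →
    (Finset.univ.filter fun e : Sgn => (∏ i, e i) = 1 ∧ (∀ i, e (a i) = e i) ∧ ∀ i, e (b i) = e i).card ≤ 8 := by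
  decide +kernel

end CfsgLib.Fusion.OmegaSeven
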