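import Cfsg.Agent.Lib.Fusion.System.SimpleGroupAutomizer
import Cfsg.Agent.Lib.Fusion.System.SimpleSmallTwo
import Cfsg.Agent.Lib.Fusion.System.Invariant

/-!
# Simplicity of fusion systems of groups through one normal centric subgroup
-/

set_option autoImplicit false
set_option linter.style.haveILetI false

open Subgroup
open scoped Classical

namespace CfsgLib.Fusion

open Cfsg (FusionSystem groupFusionSystem autInducedBy)

variable {G : Type*} [Group G] [Finite G] {p : ℕ} [Fact p.Prime]

/-- No proper closed subgroup, and the normalizer is generated inside the normalizer of a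
self-centralizing normal subgroup by elements of `p`-power order. -/
def HasCoreData (p : ℕ) {G : Type*} [Group G] (S : Subgroup G) : Prop :=
  S ≠ ⊥ ∧
    (∀ T : Subgroup G, T ≤ S → T ≠ ⊥ →
      (∀ x ∈ T, ∀ g : G, g * x * g⁻¹ ∈ S → g * x * g⁻¹ ∈ T) → S ≤ T) ∧
    ∃ Q : Subgroup G, Q ≤ S ∧ S ≤ Subgroup.normalizer (Q : Set G) ∧
      Subgroup.centralizer (Q : Set G) ≤ Q ∧
      Subgroup.normalizer (S : Set G) ≤
        Subgroup.closure {g : G | g ∈ Subgroup.normalizer (Q : Set G) ∧ ∃ k : ℕ, orderOf g = p ^ k}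

omit [Finite G] [Fact p.Prime] in
theorem HasCoreData.map {H : Type*} [Group H] (e : G ≃* H) {S : Subgroup G} (h : HasCoreData p S) :
    HasCoreData p (S.map e.toMonoidHom) := by
  obtain ⟨h1, h2, Q, h3, h4, h5, h6⟩ := h
  refine ⟨fun hb => h1 ((Subgroup.map_eq_bot_iff_of_injective _ e.injective).1 hb),
    fun T hT hne hcl => ?_, Q.map e.toMonoidHom, Subgroup.map_mono h3, ?_, ?_, ?_⟩
  · have hT' : T.comap e.toMonoidHom ≤ S := fun x hx => by
      obtain ⟨y, hy, hye⟩ := hT hx
      exact e.injective hye ▸ hy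
    have h7 := h2 (T.comap e.toMonoidHom) hT' (fun hb => hne ?_) fun x hx g hg => ?_
    · rintro y ⟨x, hx, rfl⟩
      exact h7 hx
    · rw [Subgroup.eq_bot_iff_forall]
      intro y hy
      have hm : e.symm y ∈ T.comap e.toMonoidHom := by simpa [Subgroup.mem_comap] using hy
      rw [hb, Subgroup.mem_bot] at hm
      simpa using hm
    · rw [Subgroup.mem_comap] at hx ⊢
      have h8 := hcl _ hx (e g) ⟨_, hg, by simp⟩
      simpa using h8
  · rw [← Subgroup.map_equiv_normalizer_eq]
    exact Subgroup.map_mono h4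
  · intro y hy
    refine ⟨e.symm y, h5 (Subgroup.mem_centralizer_iff.2 fun q hq => e.injective ?_), by simp⟩
    have := Subgroup.mem_centralizer_iff.1 hy (e q) ⟨q, hq, rfl⟩
    simpa using this
  · rw [← Subgroup.map_equiv_normalizer_eq]
    refine (Subgroup.map_mono h6).trans ?_
    rw [MonoidHom.map_closure]
    refine Subgroup.closure_mono ?_
    rintro y ⟨x, ⟨hx, k, hk⟩, rfl⟩
    refine ⟨?_, k, by rw [MulEquiv.coe_toMonoidHom, MulEquiv.orderOf_eq, hk]⟩
    rw [← Subgroup.map_equiv_normalizer_eq]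
    exact ⟨x, hx, rfl⟩

/-- The criterion at one Sylow subgroup of an isomorphic group. -/
theorem isSimple_group_of_coreData {H : Type*} [Group H] [Finite H] (e : H ≃* G) (P : Sylow p H)
    (h : HasCoreData p (P : Subgroup H)) (S : Sylow p G) :
    (groupFusionSystem (S : Subgroup G)).IsSimple p := by
  obtain ⟨a, ha⟩ := MulAction.exists_smul_eq G (P.mapSurjective (f := e.toMonoidHom) e.surjective) S
  have h' : HasCoreData p (S : Subgroup G) := by
    rw [← ha]
    exact (h.map e).map (MulAut.conj a)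
  obtain ⟨hne, hcl, Q, hQP, hQn, hQc, hN⟩ := h'
  refine isSimple_group_of_closed_automizer S hne hcl fun E hE hinv g hg => ?_
  have hfn : (groupFusionSystem (S : Subgroup G)).IsFullyNormalized Q := by
    refine ⟨hQP, fun R _ => ?_⟩
    have e' : Cfsg.FusionSystem.normalizerIn (S : Subgroup G) Q = (S : Subgroup G) :=
      inf_eq_left.2 hQn
    rw [e']
    exact Subgroup.card_le_of_le inf_le_left
  refine autSub_of_centric S.2 (isSaturated_group S) hinv.1 hE hQc hQP le_rfl hg ?_
  refine (Subgroup.closure_le _).2 ?_ (hN hg)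
  rintro y ⟨hy, k, hk⟩
  refine ⟨⟨y, hy⟩, pElement_mem_of_invariant S.2 (isSaturated_group S) hinv hfn ?_ (k := k) ?_, rfl⟩
  · rw [autGroup_group hQP]
    exact conjAut_mem (Subgroup.mem_top _) hy
  · rw [← map_pow, show (⟨y, hy⟩ : Subgroup.normalizer (Q : Set G)) ^ p ^ k = 1 from
        Subtype.ext (by rw [Subgroup.coe_pow, ← hk, pow_orderOf_eq_one]; rfl), map_one]

omit [Fact p.Prime] in
/-- With one class of involutions, a closed subgroup contains what involutions generate. -/
theorem le_of_closed_one_class {S : Subgroup G} (hS : IsPGroup 2 S)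
    (hinv : ∀ x y : G, orderOf x = 2 → orderOf y = 2 → ∃ g, g * x * g⁻¹ = y)
    {U : Set G} (hU : S ≤ Subgroup.closure U) (hU2 : ∀ u ∈ U, u ∈ S ∧ u * u = 1)
    (T : Subgroup G) (hTS : T ≤ S) (hne : T ≠ ⊥)
    (hcl : ∀ x ∈ T, ∀ g : G, g * x * g⁻¹ ∈ S → g * x * g⁻¹ ∈ T) : S ≤ T := by
  refine hU.trans ((Subgroup.closure_le T).2 fun u hu => ?_)
  by_cases h1 : u = 1
  · exact h1 ▸ T.one_mem
  · exact invol_mem_of_closed hS hTS hne hcl (fun x y _ _ => hinv x y) (hU2 u hu).1
      (orderOf_eq_prime (by rw [pow_two]; exact (hU2 u hu).2) h1)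

omit [Finite G] in
/-- An element with trivial square is a `2`-element. -/
theorem exists_orderOf_eq_two_pow {x : G} (h : x * x = 1) : ∃ k : ℕ, orderOf x = 2 ^ k := by
  obtain ⟨k, -, hk⟩ := (Nat.dvd_prime_pow Nat.prime_two).1
    (orderOf_dvd_of_pow_eq_one (n := 2 ^ 1) (x := x) (by rw [pow_one, pow_two, h]))
  exact ⟨k, hk⟩

end CfsgLib.Fusion
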