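import Cfsg.Agent.Lib.Fusion.System.OmegaSevenMonomial
import Cfsg.Agent.Lib.Fusion.System.SporadicTwoSimple
import Mathlib.GroupTheory.Nilpotent

/-!
# The two-fusion system of seven-dimensional orthogonal groups, `q` congruent to three or five mod eight
-/

set_option autoImplicit false
set_option linter.all false

namespace CfsgLib.Fusion.OmegaSeven

open scoped Matrix

variable {F : Type*} [Field F] [Fintype F]

/-- `Omega` of the sum of seven squares -/
abbrev H7 (F : Type*) [Field F] : Type _ := ↥(Cfsg.Omega F (Q7 F))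

/-- the elements of `Omega` given by the monomials of a subgroup -/
noncomputable def toOmega (F : Type*) [Field F] (X : Subgroup Mo) : Subgroup ↥(Cfsg.Omega F (Q7 F)) :=
  (X.map (mono (F := F))).comap (Cfsg.Omega F (Q7 F)).subtype

theorem mem_toOmega {X : Subgroup Mo} {g : (H7 F)} :
    g ∈ toOmega F X ↔ ∃ x ∈ X, mono (F := F) x = g.1 :=
  Subgroup.mem_map

theorem toOmega_mono {X Y : Subgroup Mo} (h : X ≤ Y) : toOmega F X ≤ toOmega F Y :=
  Subgroup.comap_mono (Subgroup.map_mono h)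

section

variable (h2 : (2 : F) ≠ 0) (hsq : ¬ IsSquare (2 : F))
include h2 hsq

/-- a good monomial as an element of `Omega` -/
theorem exists_el {x : Mo} (hx : x ∈ good) : ∃ g : (H7 F), g.1 = mono (F := F) x :=
  ⟨⟨_, (mono_mem_omega_iff h2 hsq x).2 hx⟩, rfl⟩

theorem two_pgroup : IsPGroup 2 (toOmega F two) := by
  rintro ⟨g, hg⟩
  obtain ⟨x, hx, hxg⟩ := mem_toOmega.1 hg
  obtain ⟨k, hk⟩ := two_isPGroup ⟨x, hx⟩
  refine ⟨k, Subtype.ext (Subtype.ext ?_)⟩
  have hk' : x ^ 2 ^ k = 1 := congrArg Subtype.val hk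
  show g.1 ^ 2 ^ k = 1
  rw [← hxg, ← map_pow, hk', map_one]

theorem conj_even_le {g : (H7 F)} (hg : ∀ d ∈ toOmega F even, g * d * g⁻¹ ∈ toOmega F two) :
    ∀ d ∈ toOmega F even, g * d * g⁻¹ ∈ toOmega F even := by
  set ψ : ↥(Cfsg.isometryGroup F (Q7 F)) →* ↥(Cfsg.isometryGroup F (Q7 F)) := (MulAut.conj g.1).toMonoidHom
  set A : Subgroup Mo := ((even.map (mono (F := F))).map ψ).comap (mono (F := F)) with hA
  have hAm : ∀ a, a ∈ A ↔ ∃ d ∈ even, g.1 * mono (F := F) d * g.1⁻¹ = mono (F := F) a := fun a => by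
    rw [hA, Subgroup.mem_comap, Subgroup.mem_map]
    exact ⟨fun ⟨y, ⟨d, hd, hdy⟩, hy⟩ => ⟨d, hd, by rw [hdy]; exact hy⟩,
      fun ⟨d, hd, h⟩ => ⟨_, ⟨d, hd, rfl⟩, h⟩⟩
  have himg : ∀ d ∈ even, ∃ a ∈ two, g.1 * mono (F := F) d * g.1⁻¹ = mono (F := F) a := fun d hd => by
    obtain ⟨e, he⟩ := exists_el h2 hsq (even_le_two.trans two_le_good hd)
    obtain ⟨a, ha, hae⟩ := mem_toOmega.1 (hg e (mem_toOmega.2 ⟨d, hd, he.symm⟩))
    exact ⟨a, ha, by rw [hae, ← he]; rfl⟩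
  have hAtwo : A ≤ two := fun a ha => by
    obtain ⟨d, hd, h⟩ := (hAm a).1 ha
    obtain ⟨b, hb, h'⟩ := himg d hd
    rwa [mono_injective h2 (h.symm.trans h')]
  have hsq2 : ∀ x ∈ A, x * x = 1 := fun x hx => by
    obtain ⟨d, hd, h⟩ := (hAm x).1 hx
    refine mono_injective h2 ?_
    rw [map_mul, ← h, conj_mul, ← map_mul, sq_eq_one_of_right (mem_even.1 hd).2, map_one]
    simp
  have hcomm : ∀ x ∈ A, ∀ y ∈ A, x * y = y * x := fun x hx y hy => by
    have := hsq2 _ (A.mul_mem hx hy)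
    calc x * y = (x * y)⁻¹ := eq_inv_of_mul_eq_one_left this
      _ = y * x := by
        rw [_root_.mul_inv_rev, inv_eq_of_mul_eq_one_right (hsq2 x hx), inv_eq_of_mul_eq_one_right (hsq2 y hy)]
  have hcard : 64 ≤ Nat.card A := by
    rw [← card_even]
    have hex : ∀ d : even, ∃ a : A, g.1 * mono (F := F) (d : Mo) * g.1⁻¹ = mono (F := F) (a : Mo) := fun d => by
      obtain ⟨a, -, h⟩ := himg d d.2
      exact ⟨⟨a, (hAm a).2 ⟨d, d.2, h⟩⟩, h⟩
    choose φ hφ using hex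
    haveI : Finite Mo := Finite.of_equiv _ SemidirectProduct.equivProd.symm
    refine Nat.card_le_card_of_injective φ fun d d' h => Subtype.ext (mono_injective h2 ?_)
    have := hφ d
    rw [h, ← hφ d'] at this
    exact mul_left_cancel (mul_right_cancel this)
  have hle := le_even_of_elementary hAtwo hsq2 hcomm hcard
  intro d hd
  obtain ⟨x, hx, hxd⟩ := mem_toOmega.1 hd
  obtain ⟨a, -, h⟩ := himg x hx
  exact mem_toOmega.2 ⟨a, hle ((hAm a).2 ⟨x, hx, h⟩), by rw [← h, hxd]; rfl⟩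

theorem mem_good_of_conj_even {g : (H7 F)} (hg : ∀ d ∈ toOmega F even, g * d * g⁻¹ ∈ toOmega F even) :
    g ∈ toOmega F good := by
  obtain ⟨x, hx⟩ := exists_mono_of_normalize h2 (g := g.1) fun e' he' => by
    have hfin : Function.Surjective fun d : toOmega F even =>
        (⟨g * (d : (H7 F)) * g⁻¹, hg d d.2⟩ : toOmega F even) :=
      Finite.surjective_of_injective fun a a' e =>
        Subtype.ext (mul_left_cancel (mul_right_cancel (congrArg Subtype.val e)))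
    have hm : (⟨e', 1⟩ : Mo) ∈ even := mem_even.2 ⟨he', rfl⟩
    obtain ⟨t, ht⟩ := exists_el h2 hsq (even_le_two.trans two_le_good hm)
    obtain ⟨⟨d, hd⟩, hdt⟩ := hfin ⟨t, mem_toOmega.2 ⟨_, hm, ht.symm⟩⟩
    obtain ⟨y, hy, hyd⟩ := mem_toOmega.1 hd
    refine ⟨y.left, ?_⟩
    rw [show (⟨y.left, 1⟩ : Mo) = y from SemidirectProduct.ext rfl (mem_even.1 hy).2.symm, hyd, ← ht]
    exact mul_inv_eq_iff_eq_mul.1 (congrArg Subtype.val (congrArg Subtype.val hdt))
  refine mem_toOmega.2 ⟨x, ?_, hx⟩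
  rw [← mono_mem_omega_iff h2 hsq, hx]
  exact g.2

theorem normalizer_two : Subgroup.normalizer ((toOmega F two : Subgroup (H7 F)) : Set (H7 F)) = toOmega F two := by
  refine le_antisymm (fun g hg => ?_) Subgroup.le_normalizer
  obtain ⟨x, hx, hxg⟩ := mem_toOmega.1 (mem_good_of_conj_even h2 hsq (conj_even_le h2 hsq fun d hd =>
    (Subgroup.mem_normalizer_iff.1 hg d).1 (toOmega_mono even_le_two hd)))
  refine mem_toOmega.2 ⟨x, mem_two.2 ⟨(mem_good.1 hx).1, mem_P8_of_normalize (mem_good.1 hx).2 fun a ha => ?_⟩, hxg⟩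
  have hm : (⟨1, a⟩ : Mo) ∈ two := mem_two.2 ⟨by simp, ha⟩
  obtain ⟨t, ht⟩ := exists_el h2 hsq (two_le_good hm)
  obtain ⟨y, hy, hyt⟩ := mem_toOmega.1 ((Subgroup.mem_normalizer_iff.1 hg t).1 (mem_toOmega.2 ⟨_, hm, ht.symm⟩))
  have hy' : y = x * ⟨1, a⟩ * x⁻¹ := mono_injective h2 (by
    rw [hyt, map_mul, map_mul, map_inv, hxg, ← ht]; rfl)
  have := (mem_two.1 hy).2
  rw [hy'] at this
  simpa using this

/-- `2^6 : D_8` is a Sylow two-subgroup of `Omega` -/
theorem exists_sylow : ∃ P : Sylow 2 (H7 F), (P : Subgroup (H7 F)) = toOmega F two := by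
  obtain ⟨P, hP⟩ := IsPGroup.exists_le_sylow (two_pgroup h2 hsq)
  refine ⟨P, ?_⟩
  by_contra hne
  haveI : Group.IsNilpotent ↥(P : Subgroup (H7 F)) := P.2.isNilpotent
  have hlt := normalizerCondition_of_isNilpotent ((toOmega F two).subgroupOf (P : Subgroup (H7 F)))
    (lt_top_iff_ne_top.2 fun e => hne (le_antisymm (Subgroup.subgroupOf_eq_top.1 e) hP))
  refine absurd (le_antisymm (fun y hy => ?_) hlt.le) (ne_of_gt hlt)
  have hy' : (y : (H7 F)) ∈ Subgroup.normalizer ((toOmega F two : Subgroup (H7 F)) : Set (H7 F)) := by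
    rw [Subgroup.mem_normalizer_iff] at hy ⊢
    intro d
    refine ⟨fun hd => ?_, fun hd => ?_⟩
    · have := (hy ⟨d, hP hd⟩).1 hd
      exact this
    · have hdP : d ∈ (P : Subgroup (H7 F)) := by
        have := mul_mem (mul_mem (inv_mem y.2) (hP hd)) y.2
        simpa [mul_assoc] using this
      exact (hy ⟨d, hdP⟩).2 hd
  rw [normalizer_two h2 hsq] at hy'
  exact hy'

theorem centralizer_even : Subgroup.centralizer ((toOmega F even : Subgroup (H7 F)) : Set (H7 F)) ≤ toOmega F even := by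
  intro g hg
  have hc : ∀ d ∈ toOmega F even, g * d * g⁻¹ = d := fun d hd => by
    rw [← Subgroup.mem_centralizer_iff.1 hg d hd, mul_inv_cancel_right]
  obtain ⟨x, hx, hxg⟩ := mem_toOmega.1 (mem_good_of_conj_even h2 hsq fun d hd => (hc d hd).symm ▸ hd)
  refine mem_toOmega.2 ⟨x, mem_even.2 ⟨(mem_good.1 hx).1, Equiv.ext fun i => ?_⟩, hxg⟩
  by_contra hne
  obtain ⟨k, hki, hkj⟩ : ∃ k : Fin 7, k ≠ i ∧ k ≠ x.right i :=
    (show ∀ i j : Fin 7, ∃ k : Fin 7, k ≠ i ∧ k ≠ j by decide) i (x.right i)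
  have hm : (⟨pair i k, 1⟩ : Mo) ∈ even := mem_even.2 ⟨prod_pair i k, rfl⟩
  obtain ⟨t, ht⟩ := exists_el h2 hsq (even_le_two.trans two_le_good hm)
  have hcom : x * ⟨pair i k, 1⟩ = ⟨pair i k, 1⟩ * x := mono_injective h2 (by
    rw [map_mul, map_mul, hxg, ← ht]
    exact congrArg Subtype.val (Subgroup.mem_centralizer_iff.1 hg t (mem_toOmega.2 ⟨_, hm, ht.symm⟩)).symm)
  have h1 := left_fixed_of_commute (a := x) (d := ⟨pair i k, 1⟩) rfl hcom i
  simp only [Equiv.Perm.one_apply] at hne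
  simp [pair, hki, hkj, Ne.symm hki, Ne.symm hkj, hne, Ne.symm hne] at h1

/-- the data for the criterion -/
theorem coreData : HasCoreData 2 (toOmega F two) := by
  have hDS : toOmega F even ≤ toOmega F two := toOmega_mono even_le_two
  have hel : ∀ x ∈ two, ∃ t ∈ toOmega F two, t.1 = mono (F := F) x := fun x hx => by
    obtain ⟨t, ht⟩ := exists_el h2 hsq (two_le_good hx)
    exact ⟨t, mem_toOmega.2 ⟨x, hx, ht.symm⟩, ht⟩
  refine ⟨fun hb => ?_, fun T hTS hne hcl => ?_, toOmega F even, hDS, fun g hg => ?_,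
    centralizer_even h2 hsq, ?_⟩
  · obtain ⟨t, ht, hte⟩ := hel ⟨1, pz⟩ (mem_two.2 ⟨by simp, pz_mem⟩)
    rw [hb, Subgroup.mem_bot] at ht
    rw [ht] at hte
    have := congrArg SemidirectProduct.right (mono_injective h2 (hte.symm.trans (map_one _).symm))
    exact absurd this (by decide +kernel)
  · -- a nontrivial closed subgroup meets the sign group
    obtain ⟨t0, ht0T, ht0D, ht01⟩ : ∃ t, t ∈ T ∧ t ∈ toOmega F even ∧ t ≠ 1 := by
      by_contra hcon
      push Not at hcon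
      refine hne ((Subgroup.eq_bot_iff_forall T).2 fun t ht => ?_)
      have htN : ∀ d ∈ toOmega F even, t * d * t⁻¹ ∈ toOmega F even :=
        conj_even_le h2 hsq fun d hd => mul_mem (mul_mem (hTS ht) (hDS hd)) (inv_mem (hTS ht))
      have htC : t ∈ Subgroup.centralizer ((toOmega F even : Subgroup (H7 F)) : Set (H7 F)) := by
        rw [Subgroup.mem_centralizer_iff]
        intro d hd
        have h1 : d * t * d⁻¹ ∈ T := hcl t ht d (mul_mem (mul_mem (hDS hd) (hTS ht)) (inv_mem (hDS hd)))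
        have h3 := hcon (d * t * d⁻¹ * t⁻¹) (mul_mem h1 (inv_mem ht)) (by
          rw [show d * t * d⁻¹ * t⁻¹ = d * (t * d⁻¹ * t⁻¹) by group]
          exact mul_mem hd (htN _ (inv_mem hd)))
        rw [mul_inv_eq_one, mul_inv_eq_iff_eq_mul] at h3
        exact h3
      exact hcon t ht (centralizer_even h2 hsq htC)
    -- hence contains it
    let U : Subgroup Sgn :=
      (T.map (Cfsg.Omega F (Q7 F)).subtype).comap ((mono (F := F)).comp SemidirectProduct.inl)
    have hUm : ∀ e, e ∈ U ↔ ∃ t ∈ T, t.1 = mono (F := F) ⟨e, 1⟩ := fun e => by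
      rw [Subgroup.mem_comap, Subgroup.mem_map]
      rfl
    have hDT : toOmega F even ≤ T := by
      obtain ⟨x0, hx0, hx0t⟩ := mem_toOmega.1 ht0D
      have hx0' : x0 = ⟨x0.left, 1⟩ := SemidirectProduct.ext rfl (mem_even.1 hx0).2
      intro d hd
      obtain ⟨x, hx, hxd⟩ := mem_toOmega.1 hd
      have hxU : x.left ∈ U := by
        refine even_vectors_irreducible (U := U) (fun σ hσ e he => ?_) (e₀ := x0.left) ?_ (mem_even.1 hx0).1 ?_
          (mem_even.1 hx).1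
        · obtain ⟨t, ht, hte⟩ := (hUm e).1 he
          obtain ⟨s, hs⟩ := exists_el h2 hsq (x := ⟨1, σ⟩) (mem_good.2 ⟨by simp, hσ⟩)
          have heq : (⟨1, σ⟩ : Mo) * ⟨e, 1⟩ * (⟨1, σ⟩ : Mo)⁻¹ = ⟨fun l => e (σ⁻¹ l), 1⟩ :=
            SemidirectProduct.ext (funext fun l => by simp [permAct_apply]) (by simp)
          refine (hUm _).2 ⟨s * t * s⁻¹, hcl t ht s ?_, ?_⟩
          · obtain ⟨y, hy, hyt⟩ := mem_toOmega.1 (hTS ht)
            have hye : y = ⟨e, 1⟩ := mono_injective h2 (hyt.trans hte)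
            refine mem_toOmega.2 ⟨_, mem_two.2 ⟨?_, P8.one_mem⟩, (show mono (F := F)
              ⟨fun l => e (σ⁻¹ l), 1⟩ = (s * t * s⁻¹).1 from ?_)⟩
            · show ∏ i, e (σ⁻¹ i) = 1
              rw [Equiv.prod_comp σ⁻¹ e]
              have := (mem_two.1 hy).1
              rwa [hye] at this
            · rw [← heq, map_mul, map_mul, map_inv, ← hs, ← hte]; rfl
          · rw [← heq, map_mul, map_mul, map_inv, ← hs, ← hte]; rfl
        · exact (hUm _).2 ⟨t0, ht0T, by rw [← hx0', hx0t]⟩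
        · intro h1
          apply ht01
          have : x0 = 1 := by rw [hx0', h1]; rfl
          rw [this, map_one] at hx0t
          exact Subtype.ext hx0t.symm
      obtain ⟨t, ht, hte⟩ := (hUm _).1 hxU
      rw [show (⟨x.left, 1⟩ : Mo) = x from SemidirectProduct.ext rfl (mem_even.1 hx).2.symm, hxd] at hte
      rwa [← Subtype.ext hte]
    -- and the permutations
    let V : Subgroup (Equiv.Perm (Fin 7)) :=
      (T.map (Cfsg.Omega F (Q7 F)).subtype).comap ((mono (F := F)).comp SemidirectProduct.inr)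
    have hVm : ∀ a, a ∈ V ↔ ∃ t ∈ T, t.1 = mono (F := F) ⟨1, a⟩ := fun a => by
      rw [Subgroup.mem_comap, Subgroup.mem_map]
      rfl
    have hz : pz ∈ V := by
      obtain ⟨g, hgΩ, hg⟩ := exists_fusing h2 hsq
      have hm : (⟨pair 0 1, 1⟩ : Mo) ∈ even := mem_even.2 ⟨prod_pair 0 1, rfl⟩
      obtain ⟨t, ht⟩ := exists_el h2 hsq (even_le_two.trans two_le_good hm)
      have htT : t ∈ T := hDT (mem_toOmega.2 ⟨_, hm, ht.symm⟩)
      have heq : ((⟨g, hgΩ⟩ : (H7 F)) * t * (⟨g, hgΩ⟩ : (H7 F))⁻¹).1 = mono (F := F) ⟨1, pz⟩ := by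
        show g * t.1 * g⁻¹ = _
        rw [ht, hg, mul_inv_cancel_right]
      exact (hVm _).2 ⟨_, hcl t htT ⟨g, hgΩ⟩
        (mem_toOmega.2 ⟨_, mem_two.2 ⟨by simp, pz_mem⟩, heq.symm⟩), heq⟩
    have hconj : ∀ π : Equiv.Perm (Fin 7), Equiv.Perm.sign π = 1 → π * pz * π⁻¹ ∈ P8 → π * pz * π⁻¹ ∈ V := by
      intro π hπ hP
      obtain ⟨t, ht, hte⟩ := (hVm _).1 hz
      obtain ⟨s, hs⟩ := exists_el h2 hsq (x := ⟨1, π⟩) (mem_good.2 ⟨by simp, hπ⟩)
      have heq : (⟨1, π⟩ : Mo) * ⟨1, pz⟩ * (⟨1, π⟩ : Mo)⁻¹ = ⟨1, π * pz * π⁻¹⟩ :=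
        SemidirectProduct.ext (funext fun l => by simp [permAct_apply]) (by simp)
      have he : (s * t * s⁻¹).1 = mono (F := F) ⟨1, π * pz * π⁻¹⟩ := by
        rw [← heq, map_mul, map_mul, map_inv, ← hs, ← hte]; rfl
      exact (hVm _).2 ⟨_, hcl t ht s (mem_toOmega.2 ⟨_, mem_two.2 ⟨by simp, hP⟩, he.symm⟩), he⟩
    have ha : pa ∈ V := pa_conj ▸ hconj _ (by decide +kernel) (pa_conj.symm ▸ pa_mem)
    have hb : pb ∈ V := pb_conj ▸ hconj _ (by decide +kernel) (pb_conj.symm ▸ pb_mem)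
    intro g hg
    obtain ⟨x, hx, hxg⟩ := mem_toOmega.1 hg
    obtain ⟨hxp, hxr⟩ := mem_two.1 hx
    have hxV : x.right ∈ V := by
      have := p8_gen x.right hxr
      simp only [List.mem_cons, List.not_mem_nil, or_false] at this
      rcases this with h | h | h | h | h | h | h | h <;> rw [h]
      exacts [V.one_mem, hz, ha, hb, V.mul_mem hz ha, V.mul_mem hz hb, V.mul_mem ha hb,
        V.mul_mem (V.mul_mem hz ha) hb]
    obtain ⟨t, ht, hte⟩ := (hVm _).1 hxV
    have hm : (⟨x.left, 1⟩ : Mo) ∈ even := mem_even.2 ⟨hxp, rfl⟩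
    obtain ⟨d, hd⟩ := exists_el h2 hsq (even_le_two.trans two_le_good hm)
    have hg' : g = d * t := Subtype.ext (by
      show g.1 = d.1 * t.1
      rw [hd, hte, ← map_mul, ← hxg]
      exact congrArg _ (SemidirectProduct.ext (by simp) (by simp)))
    rw [hg']
    exact mul_mem (hDT (mem_toOmega.2 ⟨_, hm, hd.symm⟩)) ht
  · refine conj_le_of_subset fun d hd => ?_
    exact conj_even_le h2 hsq (fun e he => mul_mem (mul_mem hg (hDS he)) (inv_mem hg)) d hd
  · rw [normalizer_two h2 hsq]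
    intro g hg
    refine Subgroup.subset_closure ⟨conj_le_of_subset fun d hd =>
      conj_even_le h2 hsq (fun e he => mul_mem (mul_mem hg (hDS he)) (inv_mem hg)) d hd, ?_⟩
    obtain ⟨k, hk⟩ := IsPGroup.iff_orderOf.1 (two_pgroup h2 hsq) ⟨g, hg⟩
    exact ⟨k, (Subgroup.orderOf_mk g hg).symm.trans hk⟩

end

variable [DecidableEq F]

/-- the three assertions for `Omega_7(q)` -/
theorem main (hq : Fintype.card F % 8 = 3 ∨ Fintype.card F % 8 = 5)
    (S : Sylow 2 ↥(Cfsg.Omega F (Cfsg.quadFormOdd 3 F))) :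
    (Cfsg.groupFusionSystem (S : Subgroup ↥(Cfsg.Omega F (Cfsg.quadFormOdd 3 F)))).autGroup S = Cfsg.Inn ↥(S : Subgroup ↥(Cfsg.Omega F (Cfsg.quadFormOdd 3 F))) ∧
      (∀ T : Subgroup ↥(Cfsg.Omega F (Cfsg.quadFormOdd 3 F)),
        (Cfsg.groupFusionSystem (S : Subgroup ↥(Cfsg.Omega F (Cfsg.quadFormOdd 3 F)))).StronglyClosed T →
          T = ⊥ ∨ T = (S : Subgroup ↥(Cfsg.Omega F (Cfsg.quadFormOdd 3 F)))) ∧
      (Cfsg.groupFusionSystem (S : Subgroup ↥(Cfsg.Omega F (Cfsg.quadFormOdd 3 F)))).IsSimple 2 := by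
  have h2 : (2 : F) ≠ 0 := CfsgLib.Orth.two_ne_zero_of_odd (Nat.odd_iff.2 (by omega))
  have hsq : ¬ IsSquare (2 : F) := by rw [FiniteField.isSquare_two_iff]; omega
  obtain ⟨e⟩ := exists_omega_equiv (F := F) h2
  obtain ⟨P, hP⟩ := exists_sylow h2 hsq
  have hcore : HasCoreData 2 (P : Subgroup (H7 F)) := hP ▸ coreData h2 hsq
  obtain ⟨a, ha⟩ := MulAction.exists_smul_eq ↥(Cfsg.Omega F (Cfsg.quadFormOdd 3 F))
    (P.mapSurjective (f := e.toMonoidHom) e.surjective) S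
  have hSdef : (S : Subgroup ↥(Cfsg.Omega F (Cfsg.quadFormOdd 3 F))) =
      ((P : Subgroup (H7 F)).map e.toMonoidHom).map (MulAut.conj a).toMonoidHom := by
    rw [← ha]
    rfl
  have hNP : Subgroup.normalizer ((P : Subgroup (H7 F)) : Set (H7 F)) = (P : Subgroup (H7 F)) := by
    rw [hP]; exact normalizer_two h2 hsq
  have hNS : Subgroup.normalizer ((S : Subgroup ↥(Cfsg.Omega F (Cfsg.quadFormOdd 3 F))) : Set _) = (S : Subgroup ↥(Cfsg.Omega F (Cfsg.quadFormOdd 3 F))) := by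
    rw [hSdef, ← Subgroup.map_equiv_normalizer_eq, ← Subgroup.map_equiv_normalizer_eq, hNP]
  have hcoreS : HasCoreData 2 (S : Subgroup ↥(Cfsg.Omega F (Cfsg.quadFormOdd 3 F))) := by
    rw [hSdef]; exact (hcore.map e).map (MulAut.conj a)
  refine ⟨?_, fun T hT => ?_, isSimple_group_of_coreData e P hcore S⟩
  · rw [autGroup_group le_rfl]
    ext α
    constructor
    · intro hα
      obtain ⟨g, -, hg⟩ := mem_autInducedBy_iff.1 hα
      have hgS := hNS.le (mem_normalizer_of_autFun hg)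
      refine ⟨⟨g, hgS⟩, MulEquiv.ext fun x => Subtype.ext ?_⟩
      have := hg x x.2
      rw [autFun_apply _ x.2] at this
      simpa using this.symm
    · rintro ⟨g, rfl⟩
      exact mem_autInducedBy_iff.2 ⟨g, Subgroup.mem_top _, fun x hx => by rw [autFun_apply _ hx]; simp⟩
  · obtain ⟨hTS, hclT⟩ := stronglyClosed_iff.1 hT
    refine or_iff_not_imp_left.2 fun hne => le_antisymm hTS (hcoreS.2.1 T hTS hne fun x hx g hgx => ?_)
    refine hclT (Subgroup.zpowers x) (fun y => g * y * g⁻¹) (Subgroup.zpowers_le.2 hx) ?_ x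
      (Subgroup.mem_zpowers x)
    refine isMap_group_conj (Subgroup.zpowers_le.2 (hTS hx)) (conjBy_le_iff.2 fun y hy => ?_)
    obtain ⟨k, rfl⟩ := Subgroup.mem_zpowers_iff.1 hy
    rw [← conj_zpow]
    exact zpow_mem hgx k

end CfsgLib.Fusion.OmegaSeven
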