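import Cfsg.Agent.Lib.Fusion.System.OrderFifthFourth
import Cfsg.Agent.Lib.Fusion.System.MaxClassCubeEssential

/-!
# Elementary abelian essential subgroups of order `p³` in a group of order `p⁵`

Such a subgroup `E` has normalizer `N` of order `p⁴` with centre `E ∩ E^g`.  The tori of the
automizer of `E` extend to `S`; hence `[g, x]` is centralized by `g` modulo `N'`, and `p = 3`.
-/

set_option autoImplicit false
set_option linter.style.haveILetI false
set_option linter.unusedSectionVars false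
set_option maxHeartbeats 1000000

open Subgroup
open scoped Classical commutatorElement

namespace CfsgLib.Fusion.OrderFifth

open Cfsg (FusionSystem autInducedBy)
open Cfsg.FusionSystem (normalizerIn centralizerIn)
open CfsgLib.Fusion.LineTorus (Inv Sec Plane zpow_congr cast_of_zpow_eq)
open CfsgLib.Fusion.Transvection (dlt dlt_eq_one apply_eq IsTrv)
open CfsgLib.PGroup.OrderFifth (NoAb Mid line gen_step)

universe u

variable {Ω : Type u} [Group Ω] {S : Subgroup Ω} [Finite S] {p : ℕ} [Fact p.Prime]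
  {F : FusionSystem S}

/-- The conclusions drawn from an elementary abelian essential subgroup of order `p³`. -/
theorem cube (hs : Setup p F) {E : Subgroup Ω} (hE : F.IsEssential p E)
    (hcard : Nat.card E = p ^ 3) (hab : ∀ a b : E, a * b = b * a) (hexp : ∀ a : E, a ^ p = 1) :
    p = 3 ∧
    ∃ τ g x : S, Mid p ((normalizerIn S E).subgroupOf S) (zen ((normalizerIn S E).subgroupOf S)) τ ∧
      x ∈ (normalizerIn S E).subgroupOf S ∧ ⁅g, x⁆ ∉ zen ((normalizerIn S E).subgroupOf S) ∧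
      ⁅g, ⁅g, x⁆⁆ ∈ zpowers τ ∧ Nat.card (normalizerIn S E) = p ^ 4 ∧
      ∀ K : Subgroup Ω, Covers S K →
        F.autGroup (normalizerIn S E) ≤ fixGroup K (normalizerIn S E) →
        F.autGroup E ≤ fixGroup K E := by
  have hp := (Fact.out : p.Prime)
  have hS := hs.isP
  have hES := hE.1.1
  haveI := finite_of_le hES
  haveI := finite_mulAut (P := E)
  letI : CommGroup E := { (inferInstance : Group E) with mul_comm := hab }
  set X := F.autGroup E
  set Q := autInducedBy S E with hQdef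
  have hQp : Nat.card Q = p :=
    MaxClassCubeEssential.card_autInducedBy_cube hS hs.sat hE hcard hab
  have hCE : centralizerIn S E = E := le_antisymm (centralizerIn_le_of_isCentric hE.1)
    (le_inf hES fun x hx => mem_centralizer_iff.2 fun y hy =>
      congrArg Subtype.val (hab ⟨y, hy⟩ ⟨x, hx⟩))
  set N := normalizerIn S E with hNdef
  have hNS : N ≤ S := inf_le_left
  haveI := finite_of_le hNS
  haveI := finite_mulAut (P := N)
  have hEN : E ≤ N := le_normalizerIn hES
  have hNc : Nat.card N = p ^ 4 := by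
    rw [hNdef, ← card_autInducedBy_mul, hCE, ← hQdef, hQp, hcard, ← pow_succ']
  set E₀ := E.subgroupOf S with hE0
  set N₀ := N.subgroupOf S with hN0
  have hEN0 : E₀ ≤ N₀ := fun y hy => hEN hy
  have hE3 : Nat.card E₀ = p ^ 3 := (card_subgroupOf hES).trans hcard
  have hN4 : Nat.card N₀ = p ^ 4 := (card_subgroupOf hNS).trans hNc
  haveI hNn := normal_of_card_four hs hN4
  have hEab : ∀ a ∈ E₀, ∀ b ∈ E₀, a * b = b * a := fun a ha b hb =>
    Subtype.ext (congrArg (fun z : E => (z : Ω)) (hab ⟨a, ha⟩ ⟨b, hb⟩))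
  have hcen : ∀ g : S, (∀ m ∈ E₀, g * m = m * g) → g ∈ E₀ := fun g hg =>
    centralizerIn_le_of_isCentric hE.1 ⟨g.2, mem_centralizer_iff.2 fun y hy =>
      (congrArg Subtype.val (hg ⟨y, hES hy⟩ hy)).symm⟩
  have hself : ∀ g : S, (∀ m ∈ N₀, g * m = m * g) → g ∈ N₀ := fun g hg =>
    hEN0 (hcen g fun m hm => hg m (hEN0 hm))
  obtain ⟨g, -, hgN⟩ : ∃ g : S, g ∈ (⊤ : Subgroup S) ∧ g ∉ N₀ := by
    refine SetLike.not_le_iff_exists.1 fun hle => ?_
    have h1 := Subgroup.card_le_of_le hle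
    rw [card_top, hs.card, hN4] at h1
    exact absurd ((Nat.pow_le_pow_iff_right hp.one_lt).1 h1) (by norm_num)
  set E₁ := E₀.map (MulAut.conj g).toMonoidHom with hE1
  have hE1N : E₁ ≤ N₀ := by
    rintro _ ⟨y, hy, rfl⟩
    exact hNn.conj_mem _ (hEN0 hy) g
  have hE1c : Nat.card E₁ = p ^ 3 := by
    rw [hE1, card_map_of_injective (MulAut.conj g).injective, hE3]
  have hE1ne : E₁ ≠ E₀ := by
    intro e
    refine hgN ⟨g.2, ?_⟩
    refine conjBy_eq_iff.1 (eq_of_le_of_card_le hES (conjBy_le_iff.2 fun y hy => ?_) (card_conjBy _ _).ge)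
    have h1 : (⟨y, hES hy⟩ : S) ∈ E₀ := hy
    have h2 : (MulAut.conj g) ⟨y, hES hy⟩ ∈ E₀ := e.le (mem_map_of_mem (MulAut.conj g).toMonoidHom h1)
    exact h2
  set R := E₀ ⊓ E₁ with hR
  have hRlt : R < E₀ := lt_of_le_of_ne inf_le_left fun e => hE1ne
    (eq_of_le_of_card_ge (inf_eq_left.1 e) (by rw [hE1c, hE3])).symm
  have hsup : E₀ ⊔ E₁ = N₀ := by
    refine eq_of_le_of_card_ge (sup_le hEN0 hE1N) ?_
    have hlt : E₀ < E₀ ⊔ E₁ := lt_of_le_of_ne le_sup_left fun e => hE1ne
      (eq_of_le_of_card_ge (e ▸ le_sup_right) (by rw [hE1c, hE3]))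
    have h1 := CfsgLib.MaxClassCube.mul_card_le hS hlt
    rwa [hE3, ← pow_succ', ← hN4] at h1
  have hRZ : R = zen N₀ := by
    refine le_antisymm (le_inf (inf_le_left.trans hEN0) fun r hr => ?_) fun r hr => ?_
    · refine mem_centralizer_iff.2 fun w hw => ?_
      have hle : E₀ ⊔ E₁ ≤ centralizer ({r} : Set S) := sup_le
        (fun a ha => mem_centralizer_singleton_iff.2 (hEab a ha r hr.1))
        (fun a ha => mem_centralizer_singleton_iff.2 (by
          obtain ⟨a', ha', rfl⟩ := ha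
          obtain ⟨r', hr', hre⟩ := hr.2
          rw [← hre, ← map_mul, ← map_mul, hEab a' ha' r' hr']))
      exact mem_centralizer_singleton_iff.1 (hle (hsup.ge hw))
    · have hc : ∀ w ∈ N₀, r * w = w * r := fun w hw => (mem_centralizer_iff.1 hr.2 w hw).symm
      refine ⟨hcen r fun m hm => hc m (hEN0 hm), g⁻¹ * r * g, ?_, ?_⟩
      · refine hcen _ fun m hm => ?_
        have h1 := hc (g * m * g⁻¹) (hNn.conj_mem m (hEN0 hm) g)
        calc g⁻¹ * r * g * m = g⁻¹ * (r * (g * m * g⁻¹)) * g := by group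
          _ = g⁻¹ * (g * m * g⁻¹ * r) * g := by rw [h1]
          _ = m * (g⁻¹ * r * g) := by group
      · show MulAut.conj g (g⁻¹ * r * g) = r
        rw [MulAut.conj_apply]; group
  have hR2 : Nat.card R = p ^ 2 := by
    refine le_antisymm (CfsgLib.PGroup.OrderFifth.card_normal_sub hS hRlt hE3) ?_
    have hrel : ∀ {A : Subgroup S}, A ≤ N₀ → Nat.card A = p ^ 3 → A.relIndex N₀ = p := by
      intro A hA hAc
      have e := relIndex_mul_relIndex ⊥ A N₀ bot_le hA
      rw [relIndex_bot_left, relIndex_bot_left, hAc, hN4, pow_succ p 3] at e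
      exact Nat.eq_of_mul_eq_mul_left (pow_pos hp.pos 3) e
    have h1 : R.relIndex N₀ ≤ p * p := by
      refine (relIndex_inf_le (H := E₀) (K := E₁) (L := N₀)).trans ?_
      rw [hrel hEN0 hE3, hrel hE1N hE1c]
    have e := relIndex_mul_relIndex ⊥ R N₀ bot_le (inf_le_left.trans hEN0)
    rw [relIndex_bot_left, relIndex_bot_left, hN4] at e
    have h2 := Nat.mul_le_mul_left (Nat.card R) h1
    rw [e, show p ^ 4 = p ^ 2 * (p * p) by ring] at h2
    exact Nat.le_of_mul_le_mul_right h2 (Nat.mul_pos hp.pos hp.pos)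
  have hZ : Nat.card (center N) = p ^ 2 := by
    rw [center_eq_pull hNS, card_pull hNS inf_le_left]
    show Nat.card (zen N₀) = p ^ 2
    rw [← hRZ]; exact hR2
  obtain ⟨τ, hm, hτ⟩ := exists_mid hs hNS hNc hZ hself
  obtain ⟨hNfn, hNN⟩ := isFullyNormalized_of_normal (F := F) hNS
  -- an element of `E` outside the centre is moved
  have hmove : ∀ y ∈ E₀, y ∉ zen N₀ → ⁅g, y⁆ ∉ zen N₀ := by
    intro y hy hyR hcon
    refine hyR ?_
    rw [← hRZ] at hcon ⊢
    have h1 : g * y * g⁻¹ ∈ R := by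
      refine ⟨?_, mem_map_of_mem _ hy⟩
      have := mul_mem hcon.1 hy
      rwa [commutatorElement_def, inv_mul_cancel_right] at this
    have h2 : (R : Subgroup S).Normal := hRZ ▸ hm.normalR
    have := h2.conj_mem _ h1 g⁻¹
    rwa [show g⁻¹ * (g * y * g⁻¹) * g⁻¹⁻¹ = y by group] at this
  -- the transvection
  obtain ⟨y, hy, hyE⟩ : ∃ y ∈ N₀, y ∉ E₀ := SetLike.not_le_iff_exists.1 fun hle => by
    have h1 := Subgroup.card_le_of_le hle
    rw [hE3, hN4] at h1
    exact absurd ((Nat.pow_le_pow_iff_right hp.one_lt).1 h1) (by norm_num)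
  have hyN : (y : Ω) ∈ normalizer (E : Set Ω) := hy.2
  set u := conjAut (y : Ω) hyN with hu
  have huQ : u ∈ Q := conjAut_mem y.2 hyN
  have huX : u ∈ X := autInducedBy_le_autGroup hES huQ
  set iE := inc hES with hiE
  have hdlt : ∀ r : E, iE (dlt u r) = ⁅y, iE r⁆ := fun r => by
    show iE (r⁻¹ * u r) = _
    rw [mul_comm, map_mul, map_inv, hiE, hu, conjAut_inc, commutatorElement_def]
  have hu1 : u ≠ 1 := fun e => hyE (hcen y fun m hm' => by
    obtain ⟨m', rfl⟩ := exists_inc hES hm'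
    have h := conjAut_inc hES hyN m'
    rw [← hu, e, MulAut.one_apply] at h
    exact (eq_mul_inv_iff_mul_eq.1 h).symm)
  have hdτ : ∀ r : E, iE (dlt u r) ∈ zpowers τ := fun r =>
    hdlt r ▸ hm.comm y hy _ (hEN0 (inc_mem hES r))
  have htrv : IsTrv p u := by
    refine ⟨?_, fun r => ?_⟩
    · obtain ⟨r, hr⟩ : ∃ r, dlt u r ≠ 1 := by
        by_contra hc
        push Not at hc
        exact hu1 (MulEquiv.ext fun r => dlt_eq_one.1 (hc r))
      refine le_antisymm ?_ ?_
      · rw [← card_map_of_injective (K := (dlt u).range) (f := iE) (inclusion_injective hES),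
          ← hm.card_tau]
        exact Subgroup.card_le_of_le (by rintro _ ⟨_, ⟨r, rfl⟩, rfl⟩; exact hdτ r)
      · have hd : orderOf (dlt u r) = p := orderOf_eq_prime (hexp _) hr
        rw [← hd, ← Nat.card_zpowers]
        exact Subgroup.card_le_of_le (zpowers_le.2 ⟨r, rfl⟩)
    · refine (inclusion_injective hES : Function.Injective iE) ?_
      rw [hdlt, map_one]
      exact commutatorElement_eq_one_iff_mul_comm.2 (hm.tau_central y _ (hdτ r))
  have hQu : zpowers u = Q := eq_of_le_of_card_ge (zpowers_le.2 huQ)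
    (by rw [hQp, Nat.card_zpowers, htrv.orderOf])
  obtain ⟨M, hM⟩ := MaxClassCubeEssential.exists_embedded hS hs.sat hE hab
  have hsyl : ∀ H : Subgroup (MulAut E), H ≤ X → IsPGroup p H → Nat.card H ≤ p := by
    intro H hH hHp
    obtain ⟨k, -, hk⟩ := exists_conj_le_of_not_dvd_relIndex hM.isP hM.qle hM.sylow hHp hH
    rw [← card_conjBy k, ← hQp]
    exact card_le_of_le hk
  obtain ⟨w, hwX, hwne⟩ : ∃ w ∈ X, w * u * w⁻¹ ∉ zpowers u := by
    by_contra hno
    push Not at hno
    obtain ⟨v, hv, hvM⟩ := SetLike.not_le_iff_exists.1 hM.proper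
    exact hvM (hM.mem_of_conj hv huQ htrv.ne_one (hM.qM (hQu.le (hno v hv))))
  have hEfn : F.IsFullyNormalized E := hE.2.1
  -- tori normalize `Q` and extend to `N` and to `S`
  have hnorm : ∀ {T : MulAut E} {k : ℤ}, T * u * T⁻¹ = u ^ k →
      T ∈ normalizer (Q : Set (MulAut E)) := by
    intro T k hT
    refine conjBy_eq_iff.1 (eq_of_le_of_card_ge (conjBy_le_iff.2 fun q hq => ?_) (card_conjBy T Q).ge)
    obtain ⟨i, rfl⟩ := mem_zpowers_iff.1 (hQu.ge hq)
    rw [← conj_zpow, hT, ← hQu]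
    exact zpow_mem (zpow_mem (mem_zpowers u) k) i
  have htorus : ∀ a b : ℤ, ((a * b : ℤ) : ZMod p) = 1 → (b : ZMod p) ≠ 1 →
      ∃ τ' : E, iE τ' ∈ E₀ ∧ iE τ' ∉ zen N₀ ∧
        ∃ α : MulAut S, (iE τ' ^ a)⁻¹ * α (iE τ') ∈ line N₀ (zen N₀) ∧ α τ = τ ^ b ∧
          ∀ r ∈ zen N₀, r⁻¹ * α r ∈ zpowers τ := by
    intro a b hab' hb1
    obtain ⟨T, hTX, τ₀, τ', hτ0, hττ', -, hTτ, hTτ', hTu, -, d, hd1, hdu, hTd⟩ :=
      CubeAutomizer.exists_torus hcard hsyl htrv huX hwX hwne hab'
    have hxE : iE τ' ∈ E₀ := inc_mem hES τ'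
    have hxR : iE τ' ∉ zen N₀ := fun h => hτ0 <| (inclusion_injective hES : Function.Injective iE) (by
      rw [← hττ', hdlt, map_one]
      exact commutatorElement_eq_one_iff_mul_comm.2 (mem_centralizer_iff.1 h.2 y hy))
    have hgx := hmove _ hxE hxR
    have hxN := hEN0 hxE
    have hτ0' : iE τ₀ ∈ zpowers τ := hττ' ▸ hdτ τ'
    obtain ⟨T', hT', hT'T⟩ := extend hS hs.sat hEfn hNdef.symm hEN hTX (hnorm hTu)
    obtain ⟨hCn, hRC, hCM, hCc⟩ := hm.line_spec hxN hgx
    set L : Subgroup N := E₀.comap (inc hNS) with hL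
    have hLmem : ∀ z : N, z ∈ L ↔ ∃ r : E, inclusion hEN r = z := fun z =>
      ⟨fun hz => ⟨⟨z, hz⟩, Subtype.ext rfl⟩, by rintro ⟨r, rfl⟩; exact r.2⟩
    obtain ⟨eC, hsec, hsecD⟩ := mid_secs hs hNS hm hτ (F := F)
    obtain ⟨β, hβ, hβL, -, hβs⟩ := lift hs hNfn hNN hNS (mid_plane hs hNS hm hτ hxN hgx) (L := L)
      (by rw [eC, hL]; exact comap_mono (hRZ ▸ inf_le_left))
      (by rw [hL, card_pull hNS hEN0, card_pull hNS hCM, hE3, hCc])
      (fun e => hm.x_notMem hxN hgx (by
        have h1 : inclusion hEN τ' ∈ L := (hLmem _).2 ⟨τ', rfl⟩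
        exact (e.le h1 : _)))
      hT' (fun z hz => by
        obtain ⟨r, rfl⟩ := (hLmem z).1 hz
        exact (hLmem _).2 ⟨T r, (hT'T r).symm⟩)
    have hinc : ∀ r : E, inclusion hNS (inclusion hEN r) = iE r := fun r => rfl
    refine ⟨τ', hxE, hxR, β, ?_, ?_, ?_⟩
    · obtain ⟨c, hc, e⟩ := hβL _ ((hLmem _).2 ⟨τ', rfl⟩)
      rw [hinc, hT'T, map_mul, hinc, hTτ', map_zpow] at e
      rw [e, inv_mul_cancel_left]
      exact hc
    · obtain ⟨k, hk⟩ := mem_zpowers_iff.1 hτ0'
      have hk0 : (k : ZMod p) ≠ 0 := fun e => hτ0 ((inclusion_injective hES : Function.Injective iE) (by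
        rw [← hk, map_one, zpow_congr hm.tau_pow (s := 0) (by simpa using e), zpow_zero]))
      have e1 : β (iE τ₀) = iE τ₀ ^ b := by
        have hmem : inclusion hEN τ₀ ∈ commutator N := by
          rw [commutator_eq_pull hNS, mem_pull, hτ]; exact hτ0'
        obtain ⟨c, hc, e⟩ := hβs _ _ hsecD _ hmem
        rw [mem_bot.1 hc, mul_one, hinc, hT'T, hTτ, hinc, map_zpow] at e
        exact e
      obtain ⟨j, hj⟩ : ∃ j : ℤ, (k : ZMod p) * j = 1 :=
        ⟨(((k : ZMod p)⁻¹).val : ℤ), by push_cast; rw [ZMod.natCast_zmod_val, mul_inv_cancel₀ hk0]⟩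
      have e2 : τ = iE τ₀ ^ j := by
        rw [← hk, ← zpow_mul, zpow_congr hm.tau_pow (r := k * j) (s := 1) (by push_cast; exact hj), zpow_one]
      rw [e2, map_zpow, e1, ← zpow_mul, ← zpow_mul, mul_comm]
    · have hdR : iE d ∈ zen N₀ := by
        rw [← hRZ]
        refine ⟨inc_mem hES d, ?_⟩
        by_contra hd'
        refine hd1 (absurd (hdlt d) fun e => ?_)
        rw [hdu, map_one, eq_comm, commutatorElement_eq_one_iff_mul_comm] at e
        refine hd' (hRZ.ge ⟨hEN0 (inc_mem hES d), mem_centralizer_iff.2 fun n hn => ?_⟩).2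
        have hlt : E₀ < E₀ ⊔ zpowers y := lt_of_le_of_ne le_sup_left fun e' =>
          hyE (e'.ge (mem_sup_right (mem_zpowers y)))
        have h1 := CfsgLib.MaxClassCube.mul_card_le hS hlt
        rw [hE3, ← pow_succ', ← hN4] at h1
        have hle : E₀ ⊔ zpowers y ≤ centralizer ({iE d} : Set S) := sup_le
          (fun a ha => mem_centralizer_singleton_iff.2 (hEab a ha _ (inc_mem hES d)))
          (zpowers_le.2 (mem_centralizer_singleton_iff.2 e))
        exact mem_centralizer_singleton_iff.1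
          (hle ((eq_of_le_of_card_ge (sup_le hEN0 (zpowers_le.2 hy)) h1).ge hn))
      have hdt : iE d ∉ zpowers τ := fun hmem => by
        obtain ⟨k, hk⟩ := mem_zpowers_iff.1 hτ0'
        obtain ⟨l, hl⟩ := mem_zpowers_iff.1 hmem
        have hk0 : (k : ZMod p) ≠ 0 := fun e => hτ0 ((inclusion_injective hES : Function.Injective iE) (by
          rw [← hk, map_one, zpow_congr hm.tau_pow (s := 0) (by simpa using e), zpow_zero]))
        have hd : d = τ₀ ^ (l * (((k : ZMod p)⁻¹).val : ℤ)) :=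
          (inclusion_injective hES : Function.Injective iE) (by
            rw [map_zpow, ← hk, ← zpow_mul, ← hl]
            refine zpow_congr hm.tau_pow ?_
            push_cast; rw [ZMod.natCast_zmod_val]; field_simp)
        have h1 := hTd
        rw [hd, map_zpow, hTτ, ← zpow_mul] at h1
        have h2 := cast_of_zpow_eq (p := p) (hexp τ₀) hτ0 h1
        push_cast at h2
        have hne : ((l : ZMod p) * ((k : ZMod p)⁻¹)) ≠ 0 := by
          refine mul_ne_zero (fun e => hd1 ?_) (inv_ne_zero hk0)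
          rw [hd, zpow_congr (hexp τ₀) (s := 0) (by push_cast; rw [e]; ring), zpow_zero]
        rw [ZMod.natCast_zmod_val] at h2
        exact hb1 (mul_right_cancel₀ hne (h2.trans (one_mul _).symm))
      haveI := hm.tau_normal
      intro r hr
      obtain ⟨-, hgenR⟩ := gen_step hm.tau_le hm.step_tau hdR hdt
      obtain ⟨j, hj, -⟩ := hgenR r hr
      have hd2 : (iE d)⁻¹ * β (iE d) ∈ zpowers τ := by
        obtain ⟨c, hc, e⟩ := hβs _ _ hsec (inclusion hEN d) (eC.ge hdR)
        rw [hinc, hT'T, hTd, map_mul, hinc] at e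
        rw [e, inv_mul_cancel_left]
        rw [commutator_eq_pull hNS, mem_pull, hτ] at hc
        exact hc
      have hcomm : ∀ t ∈ zpowers τ, β t ∈ zpowers τ := by
        intro t ht
        obtain ⟨i, rfl⟩ := mem_zpowers_iff.1 ht
        obtain ⟨t', ht'⟩ := exists_inc hNS (hm.leM (hm.tau_le (mem_zpowers τ)))
        have hmem : t' ∈ commutator N := by
          rw [commutator_eq_pull hNS, mem_pull, hτ, ht']; exact mem_zpowers τ
        obtain ⟨c, hc, e⟩ := hβs _ _ hsecD t' hmem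
        rw [mem_bot.1 hc, mul_one] at e
        have h2 := hsecD.invU T' hT' t' hmem
        rw [commutator_eq_pull hNS, mem_pull, hτ] at h2
        have e' : β τ ∈ zpowers τ := by
          rw [show β τ = inc hNS (T' t') from ((congrArg β ht').symm.trans e)]; exact h2
        rw [map_zpow]
        exact zpow_mem e' i
      have e : r⁻¹ * β r = ((iE d ^ j)⁻¹ * r)⁻¹ * ((iE d ^ j)⁻¹ * β (iE d ^ j)) *
          β ((iE d ^ j)⁻¹ * r) := by
        simp only [map_mul, map_inv]; group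
      rw [e]
      refine mul_mem (mul_mem (inv_mem hj) ?_) (hcomm _ hj)
      rw [← QuotientGroup.eq, map_zpow, QuotientGroup.mk_zpow, QuotientGroup.mk_zpow,
        QuotientGroup.eq.2 hd2]
  -- the weights
  obtain ⟨x, hxE, hxR, α, hα1, hα2, hα3⟩ := htorus (-1) (-1) (by simp) (by
    push_cast
    intro e
    have : (2 : ZMod p) = 0 := by linear_combination -e
    exact hs.odd ((Nat.prime_dvd_prime_iff_eq hp Nat.prime_two).1
      ((ZMod.natCast_eq_zero_iff 2 p).1 (by exact_mod_cast this))))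
  have hgx := hmove _ hxE hxR
  have hxN := hEN0 hxE
  have hgm : ⁅g, ⁅g, iE x⁆⁆ ∈ zpowers τ := by
    by_contra hgm
    obtain ⟨σ, h1, h2, -⟩ := hm.key hxN hgx α hα1 hα2 hα3
    have h3 := h2 hgm
    push_cast at h1 h3
    have : (2 : ZMod p) = 0 := by linear_combination -h3 - ((σ : ZMod p) - 1) * h1
    exact hs.odd ((Nat.prime_dvd_prime_iff_eq hp Nat.prime_two).1
      ((ZMod.natCast_eq_zero_iff 2 p).1 (by exact_mod_cast this)))
  have hp3 : p = 3 := by
    have h2 : (2 : ZMod p) ≠ 0 := fun e => hs.odd ((Nat.prime_dvd_prime_iff_eq hp Nat.prime_two).1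
      ((ZMod.natCast_eq_zero_iff 2 p).1 (by exact_mod_cast e)))
    obtain ⟨x₂, hx₂E, hx₂R, α₂, k1, k2, k3⟩ := htorus 2 (((2 : ZMod p)⁻¹).val : ℤ)
      (by push_cast; rw [ZMod.natCast_zmod_val, mul_inv_cancel₀ h2])
      (by
        push_cast
        rw [ZMod.natCast_zmod_val]
        intro e
        have h' := mul_inv_cancel₀ h2
        rw [e, mul_one] at h'
        exact one_ne_zero (show (1 : ZMod p) = 0 by linear_combination h'))
    have hgx₂ := hmove _ hx₂E hx₂R
    have hgm₂ : ⁅g, ⁅g, iE x₂⁆⁆ ∈ zpowers τ :=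
      hm.comm_tau_of_line hxN hgx hgm (hm.m_mem (hEN0 hx₂E) hgx₂)
    obtain ⟨g', -, -, -, -, hr⟩ := hm.adjust (hEN0 hx₂E) hgx₂ hs.noAb hgm₂
    obtain ⟨σ, h1, -, h3⟩ := hm.key (hEN0 hx₂E) hgx₂ α₂ k1 k2 k3
    have h4 := h3 hr
    push_cast at h1 h4
    rw [h4, ZMod.natCast_zmod_val] at h1
    have h5 : ((3 : ℕ) : ZMod p) = 0 := by
      push_cast
      have h' := mul_inv_cancel₀ h2
      linear_combination (2 : ZMod p) * h1 - 4 * h' + h'
    exact (Nat.prime_dvd_prime_iff_eq hp Nat.prime_three).1 ((ZMod.natCast_eq_zero_iff 3 p).1 h5)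
  refine ⟨hp3, τ, g, iE x, hm, hxN, hgx, hgm, hNc, fun K hK hfix => ?_⟩
  have hQK : Q ≤ fixGroup K E := autInducedBy_le_fixGroup hK hES
  refine autGroup_le_fixGroup hS hs.sat hEfn hNdef.symm hEN hfix
    (pGen_le_of_conj (autInducedBy_le_autGroup hES) (isPGroup_autInducedBy hS)
      (sylow_autGroup hS hs.sat hEfn) fun v hv q hq => ?_)
  obtain ⟨i, rfl⟩ := mem_zpowers_iff.1 (hQu.ge hq)
  rw [← conj_zpow]
  refine zpow_mem ?_ i
  by_cases hvu : v * u * v⁻¹ ∈ zpowers u
  · exact hQK (hQu.le hvu)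
  obtain ⟨T, hTX, τ₀, τ', hτ0, -, -, -, hTτ', hTu, hrange, -⟩ :=
    CubeAutomizer.exists_torus hcard hsyl htrv huX hv hvu (a := -1) (b := -1) (by simp)
  have hTK := mem_fixGroup_of_extend hS hs.sat hEfn hNdef.symm hEN hfix hTX (hnorm hTu) τ'
  rw [hTτ', zpow_neg_one, Subgroup.coe_inv] at hTK
  have hτK : (τ' : Ω) ∈ K := by
    have h2 : (τ' : Ω) ^ 2 ∈ K := by
      have := inv_mem hTK
      simpa [pow_two] using this
    obtain ⟨n, hn⟩ : Odd p := hp.odd_of_ne_two hs.odd
    have h3 := pow_mem h2 (n + 1)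
    rw [← pow_mul, show 2 * (n + 1) = p + 1 by omega, pow_succ,
      show (τ' : Ω) ^ p = 1 from congrArg Subtype.val (hexp τ'), one_mul] at h3
    exact h3
  intro r
  obtain ⟨j, hj⟩ := mem_zpowers_iff.1 (hrange r)
  have e : ((r⁻¹ * (v * u * v⁻¹) r : E) : Ω) = ((τ' ^ j : E) : Ω) := congrArg Subtype.val hj.symm
  rw [Subgroup.coe_mul, Subgroup.coe_inv, Subgroup.coe_zpow] at e
  rw [e]
  exact zpow_mem hτK j

end CfsgLib.Fusion.OrderFifth
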