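import Cfsg.Agent.Lib.Fusion.System.CenterIndexCore
import Cfsg.Agent.Lib.PGroup.MaxClassShift
import Cfsg.Agent.Lib.Coprime.UniqueOrderP

/-!
# Pearls

An essential subgroup that is elementary abelian of order `p²`, or nonabelian of order `p³` with
`p` odd, contains an element of order `p` whose centralizer in `S` has order `p²`.
-/

set_option autoImplicit false
set_option linter.style.haveILetI false
set_option linter.unusedSectionVars false

open Subgroup
open scoped Classical commutatorElement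

namespace CfsgLib.Fusion.Pearl

open Cfsg (FusionSystem autInducedBy)
open Cfsg.FusionSystem (normalizerIn centralizerIn)
open CfsgLib.Fusion.CenterIndex (commute_center)

variable {Ω : Type*} [Group Ω] {S : Subgroup Ω} [Finite S] {F : FusionSystem S} {p : ℕ}
  [Fact p.Prime] {E : Subgroup Ω}

theorem card_mul_relIndex' {P Q : Subgroup Ω} (hPQ : P ≤ Q) :
    Nat.card P * P.relIndex Q = Nat.card Q := by
  have e := Subgroup.relIndex_mul_relIndex ⊥ P Q bot_le hPQ
  simpa only [Subgroup.relIndex_bot_left] using e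

/-- An element of `S` acting trivially on a series of invariant subgroups of an essential
subgroup lies in it. -/
theorem mem_of_stabilize (hS : IsPGroup p S) (hE : F.IsEssential p E) {L M : Subgroup Ω}
    (hML : M ≤ L) (hLE : L ≤ E)
    (hLinv : ∀ α ∈ F.autGroup E, ∀ y ∈ L, autFun α y ∈ L)
    (hMinv : ∀ α ∈ F.autGroup E, ∀ y ∈ M, autFun α y ∈ M)
    {s : Ω} (hs : s ∈ S) (h1 : ∀ y ∈ M, ⁅s, y⁆ = 1) (h2 : ∀ y ∈ L, ⁅s, y⁆ ∈ M)
    (h3 : ∀ y ∈ E, ⁅s, y⁆ ∈ L) : s ∈ E := by
  have hES := hE.1.1
  have hsN : s ∈ Subgroup.normalizer (E : Set Ω) := by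
    haveI := finite_of_le hES
    refine conjBy_eq_iff.1 (eq_of_le_of_card_le hES (conjBy_le_iff.2 fun y hy => ?_)
      (card_conjBy s E).ge)
    have := mul_mem (hLE (h3 y hy)) hy
    rwa [commutatorElement_def, inv_mul_cancel_right] at this
  have hbot : ∀ α ∈ F.autGroup E, ∀ y ∈ (⊥ : Subgroup Ω), autFun α y ∈ (⊥ : Subgroup Ω) :=
    fun α _ y hy => by
      rw [Subgroup.mem_bot] at hy ⊢
      rw [hy, autFun_map_one]
  let K : Subgroup (F.autGroup E) :=
    relStab (F.autGroup E) M ⊥ hbot (hML.trans hLE) bot_le hMinv ⊓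
    relStab (F.autGroup E) L M hMinv hLE (hML.trans hLE) hLinv ⊓
      relStab (F.autGroup E) E L hLinv le_rfl hLE (fun α _ y hy => autFun_mem α hy)
  haveI hKn : K.Normal := @Subgroup.normal_inf_normal _ _ _ _
    (@Subgroup.normal_inf_normal _ _ _ _ relStab_normal relStab_normal) relStab_normal
  obtain ⟨m, hm⟩ := IsPGroup.iff_card.1 hS
  have hKp : IsPGroup p K := by
    intro a
    refine ⟨m + m, Subtype.ext (Subtype.ext (autFun_ext fun y hy => ?_))⟩
    simp only [Subgroup.coe_pow, Subgroup.coe_one]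
    rw [autFun_one hy, pow_add, pow_mul]
    have hL1 : ∀ z ∈ L, autFun (((a : F.autGroup E) : MulAut E) ^ p ^ m) z = z := fun z hz => by
      refine pow_fix_step hES hm hLE (hML.trans hLE) (fun w hw => ?_)
        (mem_relStab.1 (Subgroup.mem_inf.1 (Subgroup.mem_inf.1 a.2).1).2) z hz
      exact (inv_mul_eq_one.1 (Subgroup.mem_bot.1
        (mem_relStab.1 (Subgroup.mem_inf.1 (Subgroup.mem_inf.1 a.2).1).1 w hw))).symm
    refine pow_fix_step hES hm le_rfl hLE hL1 (fun z hz => ?_) y hy
    have h := mem_relStab.1 (pow_mem (Subgroup.mem_inf.1 a.2).2 (p ^ m)) z hz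
    rwa [Subgroup.coe_pow] at h
  have hm' : conjAut s hsN ∈ F.autGroup E := autInducedBy_le_autGroup hES (conjAut_mem hs _)
  have key : ∀ y ∈ E, y⁻¹ * (s * y * s⁻¹) = ⁅s, y⁻¹⁆⁻¹ := fun y _ => by
    rw [commutatorElement_def]; group
  have hK : (⟨_, hm'⟩ : F.autGroup E) ∈ K := by
    refine Subgroup.mem_inf.2 ⟨Subgroup.mem_inf.2 ⟨fun y hy => ?_, fun y hy => ?_⟩, fun y hy => ?_⟩
    · show y⁻¹ * autFun (conjAut s hsN) y ∈ (⊥ : Subgroup Ω)
      rw [autFun_conjAut hsN (hLE (hML hy)), key y (hLE (hML hy)), h1 _ (inv_mem hy), inv_one]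
      exact one_mem _
    · show y⁻¹ * autFun (conjAut s hsN) y ∈ M
      rw [autFun_conjAut hsN (hLE hy), key y (hLE hy)]
      exact inv_mem (h2 _ (inv_mem hy))
    · show y⁻¹ * autFun (conjAut s hsN) y ∈ L
      rw [autFun_conjAut hsN hy, key y hy]
      exact inv_mem (h3 _ (inv_mem hy))
  have h4 : conjAut s hsN ∈ Cfsg.Inn E :=
    (isRadical_of_isEssential hS hE).2 ▸ ⟨_, CfsgLib.Coprime.le_pCore hKp hK, rfl⟩
  exact mem_of_conjAut_mem_inn hs hsN hES (centralizerIn_le_of_isCentric hE.1) h4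

theorem center_le (hE : F.IsEssential p E) : centralizerIn S S ≤ E :=
  (inf_le_inf_left _ (Subgroup.centralizer_le hE.1.1)).trans (centralizerIn_le_of_isCentric hE.1)

theorem center_card_ne_one (hS : IsPGroup p S) (hSb : S ≠ ⊥) :
    Nat.card (centralizerIn S S) ≠ 1 := by
  intro h1
  haveI : Nontrivial S := (Subgroup.nontrivial_iff_ne_bot S).2 hSb
  haveI := hS.center_nontrivial
  refine (Subgroup.nontrivial_iff_ne_bot (Subgroup.center S)).1 inferInstance ?_
  rw [← CenterIndex.centralizerIn_subgroupOf, Subgroup.eq_bot_of_card_eq _ h1,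
    Subgroup.bot_subgroupOf]

/-- The abelian pearl. -/
theorem exists_elem_abelian (hS : IsPGroup p S) (hF : F.IsSaturated p) (hE : F.IsEssential p E)
    (hcard : Nat.card E = p ^ 2) (hexp : ∀ y ∈ E, y ^ p = 1) :
    ∃ x ∈ E, x ^ p = 1 ∧ centralizerIn S (Subgroup.zpowers x) = E := by
  have hp := (Fact.out : p.Prime)
  have hES := hE.1.1
  haveI := finite_of_le hES
  have hne : ¬ E ≤ centralizerIn S S := fun hle => by
    refine ne_self_of_isEssential hS hF hE (le_antisymm hES fun s hs =>
      centralizerIn_le_of_isCentric hE.1 ⟨hs, Subgroup.mem_centralizer_iff.2 fun y hy => ?_⟩)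
    exact (Subgroup.mem_centralizer_iff.1 (hle hy).2 s hs).symm
  obtain ⟨x, hx, hxZ⟩ := SetLike.not_le_iff_exists.1 hne
  haveI : IsMulCommutative E := IsPGroup.isMulCommutative_of_card_eq_prime_sq hcard
  have hcomm : ∀ a ∈ E, ∀ b ∈ E, Commute a b := fun a ha b hb => congrArg Subtype.val
    (isMulCommutative_iff.1 ‹IsMulCommutative E› ⟨a, ha⟩ ⟨b, hb⟩)
  refine ⟨x, hx, hexp x hx, le_antisymm (fun s hs => ?_) fun y hy => ⟨hES hy,
    Subgroup.mem_centralizer_iff.2 fun w hw => ?_⟩⟩
  · refine centralizerIn_le_of_isCentric hE.1 ⟨hs.1, ?_⟩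
    have hle : centralizerIn S S ⊔ Subgroup.zpowers x ≤ E :=
      sup_le (center_le hE) (Subgroup.zpowers_le.2 hx)
    have hZS : centralizerIn S S ≤ S := inf_le_left
    haveI := finite_of_le hZS
    have hsup : centralizerIn S S ⊔ Subgroup.zpowers x = E := by
      refine eq_of_le_of_card_le hES hle ?_
      have hSb : S ≠ ⊥ := fun h => hxZ (by
        have h1 := hES hx
        rw [h, Subgroup.mem_bot] at h1
        rw [h1]; exact one_mem _)
      obtain ⟨i, hi2, hi⟩ := (Nat.dvd_prime_pow hp).1 (hcard ▸ Subgroup.card_dvd_of_le hle)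
      obtain ⟨j, hj2, hj⟩ := (Nat.dvd_prime_pow hp).1 (hcard ▸ Subgroup.card_dvd_of_le (center_le hE))
      have hlt : Nat.card (centralizerIn S S) <
          Nat.card (centralizerIn S S ⊔ Subgroup.zpowers x : Subgroup Ω) :=
        card_lt_of_lt (hle.trans hES) (lt_of_le_of_ne le_sup_left fun e => hxZ
          (e.ge (Subgroup.mem_sup_right (Subgroup.mem_zpowers x))))
      rw [hi, hj] at hlt
      rw [hi, hcard]
      have := (Nat.pow_lt_pow_iff_right hp.one_lt).1 hlt
      have hj0 : j ≠ 0 := fun e => center_card_ne_one hS hSb (by rw [hj, e, pow_zero])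
      exact Nat.pow_le_pow_right hp.pos (show 2 ≤ i by omega)
    rw [← hsup]
    refine Subgroup.mem_centralizer_iff.2 fun y hy => ?_
    have hle2 : centralizerIn S S ⊔ Subgroup.zpowers x ≤ Subgroup.centralizer {s} :=
      sup_le (fun z hz => Subgroup.mem_centralizer_iff.2 fun w hw => by
          rw [Set.mem_singleton_iff.1 hw]; exact commute_center hz hs.1)
        (Subgroup.zpowers_le.2 (Subgroup.mem_centralizer_iff.2 fun w hw => by
          rw [Set.mem_singleton_iff.1 hw]
          exact (Subgroup.mem_centralizer_iff.1 hs.2 x (Subgroup.mem_zpowers x)).symm))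
    exact (Subgroup.mem_centralizer_iff.1 (hle2 hy) s rfl).symm
  · obtain ⟨k, rfl⟩ := Subgroup.mem_zpowers_iff.1 hw
    exact ((hcomm x hx y hy).zpow_left k).eq

/-- The extraspecial pearl. -/
theorem exists_elem_nonabelian (hp2 : p ≠ 2) (hS : IsPGroup p S) (hF : F.IsSaturated p)
    (hE : F.IsEssential p E) (hcard : Nat.card E = p ^ 3) (hna : ¬ IsMulCommutative E) :
    ∃ x ∈ E, x ^ p = 1 ∧ Nat.card (centralizerIn S (Subgroup.zpowers x)) = p ^ 2 := by
  have hp := (Fact.out : p.Prime)
  have hES := hE.1.1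
  haveI := finite_of_le hES
  have hEp : IsPGroup p E := hS.to_le hES
  have hZc : Nat.card (Subgroup.center E) = p := by
    obtain ⟨k, hk3, hk⟩ := (Nat.dvd_prime_pow hp).1 (hcard ▸ (Subgroup.center E).card_subgroup_dvd_card)
    haveI : Nontrivial E := Finite.one_lt_card_iff_nontrivial.1
      (hcard ▸ Nat.one_lt_pow three_ne_zero hp.one_lt)
    haveI := hEp.center_nontrivial
    have hk0 : k ≠ 0 := fun e => by
      have := Finite.one_lt_card (α := Subgroup.center E)
      rw [hk, e, pow_zero] at this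
      exact lt_irrefl 1 this
    have hk2 : ¬ 2 ≤ k := fun h2 => hna <| by
      haveI : IsCyclic (E ⧸ Subgroup.center E) := by
        have e := (Subgroup.center E).card_mul_index
        rw [hk, hcard, show p ^ 3 = p ^ k * p ^ (3 - k) by rw [← pow_add]; congr 1; omega,
          Subgroup.index_eq_card] at e
        have e2 := Nat.eq_of_mul_eq_mul_left (pow_pos hp.pos k) e
        rcases (show k = 2 ∨ k = 3 by omega) with rfl | rfl
        · exact isCyclic_of_prime_card (p := p) (by rw [e2]; norm_num)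
        · haveI : Subsingleton (E ⧸ Subgroup.center E) :=
            (Nat.card_eq_one_iff_unique.1 (by rw [e2]; norm_num)).1
          exact isCyclic_of_subsingleton
      exact ⟨⟨fun a b => commutative_of_cyclic_center_quotient
        (QuotientGroup.mk' (Subgroup.center E)) (QuotientGroup.ker_mk' _).le a b⟩⟩
    rw [hk, show k = 1 by omega, pow_one]
  set Z := centralizerIn S S with hZdef
  set ZE := (Subgroup.center E).map E.subtype with hZE
  have hSb : S ≠ ⊥ := fun h => by
    have h1 : Nat.card E ≤ Nat.card S := card_le_of_le' le_rfl hES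
    rw [h, Subgroup.card_bot, hcard] at h1
    exact absurd (Nat.one_lt_pow three_ne_zero hp.one_lt) (not_lt.2 h1)
  have hZZ : Z = ZE := by
    haveI : Finite Z := finite_of_le (S := S) inf_le_left
    haveI : Finite ZE := finite_of_le (S := S) ((Subgroup.map_subtype_le _).trans hES)
    refine eq_of_le_of_card_le ((Subgroup.map_subtype_le _).trans hES) (fun z hz => ?_) ?_
    · exact ⟨⟨z, center_le hE hz⟩, Subgroup.mem_center_iff.2 fun w =>
        Subtype.ext (commute_center hz (hES w.2)), rfl⟩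
    · rw [hZE, Subgroup.card_map_of_injective E.subtype_injective, hZc]
      have hZp : IsPGroup p Z := hS.to_le inf_le_left
      obtain ⟨j, hj⟩ := IsPGroup.iff_card.1 hZp
      rw [hj]
      refine Nat.le_self_pow (fun e => center_card_ne_one hS hSb ?_) p
      rw [← hZdef, hj, e, pow_zero]
  have hZinv : ∀ α ∈ F.autGroup E, ∀ y ∈ Z, autFun α y ∈ Z := fun α _ y hy => by
    rw [hZZ] at hy ⊢
    obtain ⟨w, hw, rfl⟩ := hy
    rw [show E.subtype w = (w : Ω) from rfl, autFun_coe]
    refine ⟨α w, Subgroup.mem_center_iff.2 fun v => ?_, rfl⟩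
    rw [← α.apply_symm_apply v, ← map_mul, ← map_mul, Subgroup.mem_center_iff.1 hw]
  have hEinv : ∀ α ∈ F.autGroup E, ∀ y ∈ E, autFun α y ∈ E := fun α _ y hy => autFun_mem α hy
  -- the second centre
  set T := (Subgroup.upperCentralSeries S 2).map S.subtype with hT
  have hTmem : ∀ y, y ∈ T ↔ y ∈ S ∧ ∀ w ∈ S, ⁅y, w⁆ ∈ Z := by
    have key : ∀ w : S, (w : Ω) ∈ Z ↔ w ∈ Subgroup.upperCentralSeries S 1 := fun w => by
      rw [Subgroup.upperCentralSeries_one, ← CenterIndex.centralizerIn_subgroupOf,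
        Subgroup.mem_subgroupOf]
    intro y
    constructor
    · rintro ⟨v, hv, rfl⟩
      exact ⟨v.2, fun w hw =>
        (key ⁅v, ⟨w, hw⟩⁆).2 (Subgroup.mem_upperCentralSeries_succ_iff.1 hv ⟨w, hw⟩)⟩
    · rintro ⟨hy, hw⟩
      exact ⟨⟨y, hy⟩,
        Subgroup.mem_upperCentralSeries_succ_iff.2 fun w => (key _).1 (hw w w.2), rfl⟩
  have hcomm_one : ∀ s ∈ S, ∀ y ∈ Z, ⁅s, y⁆ = 1 := fun s hs y hy =>
    commutatorElement_eq_one_iff_mul_comm.2 (commute_center hy hs)
  have hTE : T ≤ E := fun y hy => mem_of_stabilize hS hE (L := Z) (M := Z) le_rfl (center_le hE)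
    hZinv hZinv ((hTmem y).1 hy).1 (hcomm_one y ((hTmem y).1 hy).1)
    (fun w hw => by rw [hcomm_one y ((hTmem y).1 hy).1 w hw]; exact one_mem _)
    (fun w hw => ((hTmem y).1 hy).2 w (hES hw))
  have hTneE : ¬ E ≤ T := fun h => ne_self_of_isEssential hS hF hE (le_antisymm hES fun s hs =>
    mem_of_stabilize hS hE (L := Z) (M := Z) le_rfl (center_le hE) hZinv hZinv hs (hcomm_one s hs)
      (fun w hw => by rw [hcomm_one s hs w hw]; exact one_mem _)
      (fun w hw => commutatorElement_inv w s ▸ inv_mem (((hTmem w).1 (h hw)).2 s hs)))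
  have hZT : Z ≤ T := fun z hz => (hTmem z).2 ⟨hz.1, fun w hw => by
    rw [commutatorElement_eq_one_iff_mul_comm.2 (commute_center hz hw).symm]
    exact one_mem _⟩
  have hTc : Nat.card T = p ^ 2 := by
    haveI : Finite T := finite_of_le (S := S) (hTE.trans hES)
    obtain ⟨i, hi3, hi⟩ := (Nat.dvd_prime_pow hp).1 (hcard ▸ Subgroup.card_dvd_of_le hTE)
    have hi3' : i ≠ 3 := fun e => hTneE
      (eq_of_le_of_card_le hES hTE (by rw [hi, e, hcard])).ge
    have hlt : Z < T := by
      refine lt_of_le_of_ne hZT fun e => ?_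
      -- otherwise `S` would be abelian
      have htop : Subgroup.upperCentralSeries S 2 = Subgroup.upperCentralSeries S 1 := by
        refine le_antisymm (fun w hw => ?_) (Subgroup.upperCentralSeries_mono S (by omega))
        rw [Subgroup.upperCentralSeries_one, ← CenterIndex.centralizerIn_subgroupOf,
          Subgroup.mem_subgroupOf, ← hZdef, e]
        exact Subgroup.mem_map_of_mem S.subtype hw
      haveI : Group.IsNilpotent S := hS.isNilpotent
      have hstab : ∀ k, 1 ≤ k →
          Subgroup.upperCentralSeries S k = Subgroup.upperCentralSeries S 1 := by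
        intro k hk
        induction k, hk using Nat.le_induction with
        | base => rfl
        | succ k hk ih =>
          ext w
          rw [← htop, Subgroup.mem_upperCentralSeries_succ_iff,
            Subgroup.mem_upperCentralSeries_succ_iff, ih]
      obtain ⟨k, hk⟩ := Group.IsNilpotent.nilpotent (G := S)
      have h1 : Subgroup.upperCentralSeries S 1 = ⊤ := top_unique (by
        rw [← hstab (k + 1) (by omega), ← hk]
        exact Subgroup.upperCentralSeries_mono S (by omega))
      refine hna ⟨⟨fun a b => Subtype.ext ?_⟩⟩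
      have h2 : (⟨a, hES a.2⟩ : S) ∈ Subgroup.center S := by
        rw [← Subgroup.upperCentralSeries_one, h1]; exact Subgroup.mem_top _
      exact (congrArg Subtype.val (Subgroup.mem_center_iff.1 h2 ⟨b, hES b.2⟩)).symm
    have hc := card_lt_of_lt (hTE.trans hES) hlt
    rw [hi, hZZ, hZE, Subgroup.card_map_of_injective E.subtype_injective, hZc] at hc
    have : 1 < i := (Nat.pow_lt_pow_iff_right hp.one_lt).1 (by rwa [pow_one])
    rw [hi, show i = 2 by omega]
  -- the elements of order `p`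
  haveI hcn : ((Subgroup.center E).map E.subtype).subgroupOf E = Subgroup.center E := by
    rw [Subgroup.subgroupOf, Subgroup.comap_map_eq_self_of_injective E.subtype_injective]
  have hcl : ∀ a b : E, ⁅a, b⁆ ∈ Subgroup.center E := by
    intro a b
    have hq : Nat.card (E ⧸ Subgroup.center E) = p ^ 2 := by
      have e := (Subgroup.center E).card_mul_index
      rw [hZc, hcard, Subgroup.index_eq_card, show p ^ 3 = p * p ^ 2 by ring] at e
      exact Nat.eq_of_mul_eq_mul_left hp.pos e
    rw [← QuotientGroup.eq_one_iff, ← QuotientGroup.mk'_apply, map_commutatorElement,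
      commutatorElement_eq_one_iff_mul_comm]
    exact IsPGroup.commutative_of_card_eq_prime_sq hq _ _
  have hpc : p ∣ p.choose 2 := hp.dvd_choose_self two_ne_zero (by have := hp.two_le; omega)
  have hzp : ∀ z ∈ Subgroup.center E, z ^ p = 1 := fun z hz => by
    have h1 : (⟨z, hz⟩ : Subgroup.center E) ^ p = 1 := hZc ▸ pow_card_eq_one'
    exact congrArg Subtype.val h1
  have hmul : ∀ a b : E, (a * b) ^ p = a ^ p * b ^ p := fun a b => by
    have h1 := hcl b⁻¹ a⁻¹
    obtain ⟨q, hq⟩ := hpc
    rw [CfsgLib.Coprime.mul_pow_of_central (c := ⁅b⁻¹, a⁻¹⁆)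
      (fun w => (Subgroup.mem_center_iff.1 h1 w).symm) (by rw [commutatorElement_def]; group) p,
      hq, pow_mul, hzp _ h1, one_pow, mul_one]
  let pw : E →* E := MonoidHom.mk' (fun a => a ^ p) hmul
  set Om := pw.ker.map E.subtype with hOm
  have hpwr : pw.range ≤ Subgroup.center E := by
    rintro _ ⟨a, rfl⟩
    rw [← QuotientGroup.eq_one_iff]
    show ((a ^ p : E) : E ⧸ Subgroup.center E) = 1
    -- the quotient is not cyclic
    have hq : Nat.card (E ⧸ Subgroup.center E) = p ^ 2 := by
      have e := (Subgroup.center E).card_mul_index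
      rw [hZc, hcard, Subgroup.index_eq_card, show p ^ 3 = p * p ^ 2 by ring] at e
      exact Nat.eq_of_mul_eq_mul_left hp.pos e
    rw [QuotientGroup.mk_pow]
    by_contra hne1
    obtain ⟨j, hj2, hj⟩ := (Nat.dvd_prime_pow hp).1 (hq ▸ orderOf_dvd_natCard (a : E ⧸ Subgroup.center E))
    haveI : IsCyclic (E ⧸ Subgroup.center E) := by
      refine isCyclic_of_orderOf_eq_card (a : E ⧸ Subgroup.center E) ?_
      rw [hj, hq]
      rcases (show j = 0 ∨ j = 1 ∨ j = 2 by omega) with rfl | rfl | rfl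
      · exact absurd (by rw [orderOf_eq_one_iff.1 (hj.trans (pow_zero p)), one_pow]) hne1
      · exact absurd (by rw [← pow_one p, ← hj, pow_orderOf_eq_one]) hne1
      · rfl
    exact hna ⟨⟨fun u v => commutative_of_cyclic_center_quotient
      (QuotientGroup.mk' (Subgroup.center E)) (QuotientGroup.ker_mk' _).le u v⟩⟩
  have hOmc : p ^ 2 ≤ Nat.card Om := by
    rw [hOm, Subgroup.card_map_of_injective E.subtype_injective]
    have e := pw.ker.card_mul_index
    rw [Subgroup.index_ker, hcard] at e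
    have hr : Nat.card pw.range ≤ p := (Subgroup.card_le_of_le hpwr).trans hZc.le
    refine Nat.le_of_mul_le_mul_right ?_ hp.pos
    rw [← pow_succ, ← e]
    exact Nat.mul_le_mul_left _ hr
  have hOmE : Om ≤ E := Subgroup.map_subtype_le _
  have hOmT : ¬ Om ≤ T := by
    intro hle
    haveI : Finite T := finite_of_le (S := S) (hTE.trans hES)
    have heq : Om = T := eq_of_le_of_card_le (hTE.trans hES) hle (hTc ▸ hOmc)
    have hTinv : ∀ α ∈ F.autGroup E, ∀ y ∈ T, autFun α y ∈ T := fun α _ y hy => by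
      rw [← heq] at hy ⊢
      obtain ⟨w, hw, rfl⟩ := hy
      rw [show E.subtype w = (w : Ω) from rfl, autFun_coe]
      refine ⟨α w, ?_, rfl⟩
      rw [SetLike.mem_coe, MonoidHom.mem_ker] at hw ⊢
      show α w ^ p = 1
      rw [← map_pow, show w ^ p = 1 from hw, map_one]
    -- the normalizer stabilizes `1 ≤ Z ≤ T ≤ E`
    set N := normalizerIn S E
    haveI : Finite N := finite_of_le (S := S) inf_le_left
    have hEN : E ≤ N := le_normalizerIn hES
    haveI hTn : (T.subgroupOf N).Normal := ⟨fun w hw g => by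
      rw [Subgroup.mem_subgroupOf] at hw ⊢
      have h1 := commutatorElement_inv (w : Ω) (g : Ω) ▸
        inv_mem (hZT (((hTmem _).1 hw).2 _ g.2.1))
      have h2 := mul_mem h1 hw
      rwa [commutatorElement_def, inv_mul_cancel_right] at h2⟩
    set q := QuotientGroup.mk' (T.subgroupOf N)
    set Eb := (E.subgroupOf N).map q
    haveI : (E.subgroupOf N).Normal := ⟨fun w hw g =>
      (Subgroup.mem_normalizer_iff.1 g.2.2 _).1 hw⟩
    haveI : Eb.Normal := Subgroup.Normal.map inferInstance q (QuotientGroup.mk'_surjective _)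
    have hEbc : Nat.card Eb ≤ p := by
      rw [← Subgroup.relIndex_ker, QuotientGroup.ker_mk', Subgroup.relIndex_subgroupOf hEN]
      have e := card_mul_relIndex' hTE
      rw [hTc, hcard, show p ^ 3 = p ^ 2 * p by ring] at e
      exact (Nat.eq_of_mul_eq_mul_left (pow_pos hp.pos 2) e).le
    have hNp : IsPGroup p N := hS.to_le inf_le_left
    have hc := CfsgLib.MetacyclicOmega.le_center_of_card_le (hNp.to_quotient _) Eb hEbc
    obtain ⟨s, hs, hsE⟩ := SetLike.exists_of_lt
      (lt_normalizerIn hS hES (ne_self_of_isEssential hS hF hE))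
    refine hsE (mem_of_stabilize hS hE hZT hTE hTinv hZinv hs.1 (hcomm_one s hs.1)
      (fun y hy => commutatorElement_inv y s ▸ inv_mem (((hTmem y).1 hy).2 s hs.1)) fun y hy => ?_)
    have h1 : q ⁅(⟨s, hs⟩ : N), ⟨y, hEN hy⟩⁆ = 1 := by
      rw [map_commutatorElement, commutatorElement_eq_one_iff_mul_comm]
      exact Subgroup.mem_center_iff.1 (hc (Subgroup.mem_map_of_mem q
        (show (⟨y, hEN hy⟩ : N) ∈ E.subgroupOf N from hy))) _
    exact Subgroup.mem_subgroupOf.1 ((QuotientGroup.eq_one_iff _).1 h1)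
  obtain ⟨x, hxO, hxT⟩ := SetLike.not_le_iff_exists.1 hOmT
  have hxE := hOmE hxO
  obtain ⟨w, hw, hwx⟩ := hxO
  refine ⟨x, hxE, ?_, ?_⟩
  · rw [← hwx, ← map_pow, show w ^ p = 1 from hw, map_one]
  -- the centralizer lies in `E`
  haveI : Finite T := finite_of_le (S := S) (hTE.trans hES)
  have hsup : T ⊔ Subgroup.zpowers x = E := by
    have hle : T ⊔ Subgroup.zpowers x ≤ E := sup_le hTE (Subgroup.zpowers_le.2 hxE)
    obtain ⟨i, hi3, hi⟩ := (Nat.dvd_prime_pow hp).1 (hcard ▸ Subgroup.card_dvd_of_le hle)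
    refine eq_of_le_of_card_le hES hle ?_
    have hlt := card_lt_of_lt (hle.trans hES) (lt_of_le_of_ne le_sup_left fun e => hxT
      (e.ge (Subgroup.mem_sup_right (Subgroup.mem_zpowers x))))
    rw [hi, hTc] at hlt
    rw [hi, hcard]
    exact Nat.pow_le_pow_right hp.pos ((Nat.pow_lt_pow_iff_right hp.one_lt).1 hlt)
  have hCE : centralizerIn S (Subgroup.zpowers x) ≤ E := fun s hs => by
    refine mem_of_stabilize hS hE (L := Z) (M := Z) le_rfl (center_le hE) hZinv hZinv hs.1
      (hcomm_one s hs.1) (fun w hw => by rw [hcomm_one s hs.1 w hw]; exact one_mem _) fun y hy => ?_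
    let Y : Subgroup Ω :=
      { carrier := {v | v ∈ S ∧ ⁅s, v⁆ ∈ Z}
        one_mem' := ⟨one_mem _, by simp⟩
        mul_mem' := fun {u v} hu hv => ⟨mul_mem hu.1 hv.1, by
          rw [show ⁅s, u * v⁆ = ⁅s, u⁆ * (u * ⁅s, v⁆ * u⁻¹) by
            simp only [commutatorElement_def]; group,
            mul_inv_eq_iff_eq_mul.2 (commute_center hv.2 hu.1)]
          exact mul_mem hu.2 hv.2⟩
        inv_mem' := fun {u} hu => ⟨inv_mem hu.1, by
          have hcu : u⁻¹ * ⁅s, u⁆⁻¹ * u = ⁅s, u⁆⁻¹ := by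
            rw [mul_assoc, ← commute_center (inv_mem hu.2) hu.1, inv_mul_cancel_left]
          rw [show ⁅s, u⁻¹⁆ = u⁻¹ * ⁅s, u⁆⁻¹ * u by simp only [commutatorElement_def]; group, hcu]
          exact inv_mem hu.2⟩ }
    have hY : T ⊔ Subgroup.zpowers x ≤ Y := sup_le
      (fun v hv => ⟨((hTmem v).1 hv).1,
        commutatorElement_inv v s ▸ inv_mem (((hTmem v).1 hv).2 s hs.1)⟩)
      (Subgroup.zpowers_le.2 ⟨hES hxE, by
        rw [commutatorElement_eq_one_iff_mul_comm.2
          ((Subgroup.mem_centralizer_iff.1 hs.2 x (Subgroup.mem_zpowers x)).symm)]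
        exact one_mem _⟩)
    exact (hY (hsup.ge hy)).2
  haveI : Finite (centralizerIn S (Subgroup.zpowers x)) := finite_of_le (S := S) inf_le_left
  haveI : Finite Z := finite_of_le (S := S) inf_le_left
  obtain ⟨i, hi3, hi⟩ := (Nat.dvd_prime_pow hp).1 (hcard ▸ Subgroup.card_dvd_of_le hCE)
  have hZC : Z < centralizerIn S (Subgroup.zpowers x) := by
    refine lt_of_le_of_ne (inf_le_inf_left _ (Subgroup.centralizer_le
      (Subgroup.zpowers_le.2 (hES hxE)))) fun e => hxT (hZT ?_)
    exact e.ge ⟨hES hxE, Subgroup.mem_centralizer_iff.2 fun v hv => by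
      obtain ⟨k, rfl⟩ := Subgroup.mem_zpowers_iff.1 hv
      exact ((Commute.refl x).zpow_left k).eq⟩
  have hne : i ≠ 3 := fun e => by
    have hEC : E ≤ centralizerIn S (Subgroup.zpowers x) :=
      (eq_of_le_of_card_le hES hCE (by rw [hi, e, hcard])).ge
    refine hxT (hZT ?_)
    rw [hZZ]
    exact ⟨⟨x, hxE⟩, Subgroup.mem_center_iff.2 fun v => Subtype.ext
      (Subgroup.mem_centralizer_iff.1 (hEC v.2).2 x (Subgroup.mem_zpowers x)).symm, rfl⟩
  have h2 : Nat.card Z < Nat.card (centralizerIn S (Subgroup.zpowers x)) :=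
    card_lt_of_lt inf_le_left hZC
  rw [hi, hZZ, hZE, Subgroup.card_map_of_injective E.subtype_injective, hZc] at h2
  have : 1 < i := (Nat.pow_lt_pow_iff_right hp.one_lt).1 (by rwa [pow_one])
  rw [hi, show i = 2 by omega]

end CfsgLib.Fusion.Pearl
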