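import Cfsg.Agent.Lib.Fusion.System.OrderFifthMaps
import Cfsg.Agent.Lib.Fusion.System.EssentialCube
import Cfsg.Agent.Lib.Fusion.System.Pearl
import Cfsg.Agent.Lib.Block.POrderFour
import Cfsg.Agent.Lib.PGroup.RankTwoThree
import Cfsg.Agent.Lib.PGroup.OrderFifth

/-!
# Normal subgroups of order `p⁴` in a fusion system on a group of order `p⁵`

An automorphism of a subgroup preserving a second line can be moved to one that extends to the
normalizer.  An essential subgroup `M` of order `p⁴` with centre of order `p²` has an automorphism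
that is `-1` on `M / Z(M)` and extends to `S`; hence `[g, m]` lies in `M'` and, modulo any subgroup
on which the automorphisms of `S` act trivially, those of `M` do as well.
-/

set_option autoImplicit false
set_option linter.style.haveILetI false
set_option linter.unusedSectionVars false

open Subgroup
open scoped Classical commutatorElement

namespace CfsgLib.Fusion.OrderFifth

open Cfsg (FusionSystem autInducedBy)
open Cfsg.FusionSystem (normalizerIn centralizerIn)
open CfsgLib.Fusion.LineTorus (Inv Sec Plane pGen pGen_le pGen_fix comm_fix le_pGen stab_inner inv_top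
  inv_bot normal_of_comm)
open CfsgLib.PGroup.OrderFifth (NoAb Mid line)

universe u

variable {Ω : Type u} [Group Ω] {S : Subgroup Ω} [Finite S] {p : ℕ} [Fact p.Prime]
  {F : FusionSystem S}

/-- The standing hypotheses. -/
structure Setup (p : ℕ) (F : FusionSystem S) : Prop where
  odd : p ≠ 2
  isP : IsPGroup p S
  sat : F.IsSaturated p
  card : Nat.card S = p ^ 5
  noAb : NoAb p S

/-- The centre of `L`, as a subgroup of the whole group. -/
abbrev zen (L : Subgroup S) : Subgroup S := L ⊓ centralizer (L : Set S)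

variable {P : Subgroup Ω}

/-- The inclusion in `S`. -/
abbrev inc (hPS : P ≤ S) : P →* S := Subgroup.inclusion hPS

theorem mem_pull {hPS : P ≤ S} {L : Subgroup S} {x : P} : x ∈ L.comap (inc hPS) ↔ inc hPS x ∈ L :=
  Iff.rfl

theorem exists_inc (hPS : P ≤ S) {y : S} (hy : y ∈ P.subgroupOf S) : ∃ x : P, inc hPS x = y :=
  ⟨⟨y, hy⟩, Subtype.ext rfl⟩

theorem inc_mem (hPS : P ≤ S) (x : P) : inc hPS x ∈ P.subgroupOf S := x.2

theorem card_pull (hPS : P ≤ S) {L : Subgroup S} (hL : L ≤ P.subgroupOf S) :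
    Nat.card (L.comap (inc hPS)) = Nat.card L := by
  have h : (L.comap (inc hPS)).map (inc hPS) = L := by
    refine map_comap_eq_self fun y hy => ?_
    obtain ⟨x, hx⟩ := exists_inc hPS (hL hy)
    exact ⟨x, hx⟩
  conv_rhs => rw [← h]
  exact (card_map_of_injective (inclusion_injective hPS)).symm

theorem card_subgroupOf (hPS : P ≤ S) : Nat.card (P.subgroupOf S) = Nat.card P :=
  Nat.card_congr (subgroupOfEquivOfLe hPS).toEquiv

theorem center_eq_pull (hPS : P ≤ S) :
    center P = (zen (P.subgroupOf S)).comap (inc hPS) := by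
  ext x
  rw [mem_center_iff, mem_pull, zen, mem_inf, mem_centralizer_iff]
  constructor
  · intro h
    refine ⟨inc_mem hPS x, fun y hy => ?_⟩
    obtain ⟨w, rfl⟩ := exists_inc hPS (SetLike.mem_coe.1 hy)
    rw [← map_mul, ← map_mul, h w]
  · intro h w
    refine inclusion_injective hPS ?_
    show inc hPS (w * x) = inc hPS (x * w)
    rw [map_mul, map_mul, h.2 _ (inc_mem hPS w)]

theorem commutator_eq_pull (hPS : P ≤ S) :
    commutator P = ⁅P.subgroupOf S, P.subgroupOf S⁆.comap (inc hPS) := by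
  have h : (⊤ : Subgroup P).map (inc hPS) = P.subgroupOf S := by
    ext y
    constructor
    · rintro ⟨x, -, rfl⟩; exact inc_mem hPS x
    · intro hy
      obtain ⟨x, rfl⟩ := exists_inc hPS hy
      exact ⟨x, mem_top x, rfl⟩
  rw [← h, ← map_commutator, comap_map_eq_self_of_injective (inclusion_injective hPS), commutator_def]

theorem isFullyNormalized_of_normal (hPS : P ≤ S) [hn : (P.subgroupOf S).Normal] :
    F.IsFullyNormalized P ∧ normalizerIn S P = S := by
  have hN : normalizerIn S P = S := inf_eq_left.2 ((normal_subgroupOf_iff_le_normalizer hPS).1 hn)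
  exact ⟨⟨hPS, fun R _ => by rw [hN]; exact card_le_of_le' le_rfl inf_le_left⟩, hN⟩

theorem normal_of_card_four (hs : Setup p F) {L : Subgroup S} (hL : Nat.card L = p ^ 4) :
    L.Normal := by
  refine CfsgLib.RankTwoThree.normal_of_index hs.isP ?_
  have e := L.card_mul_index
  rw [hL, hs.card, pow_succ] at e
  exact Nat.eq_of_mul_eq_mul_left (pow_pos (Fact.out : p.Prime).pos 4) e

/-- The configuration of a normal subgroup with centre of order `p²`. -/
theorem exists_mid (hs : Setup p F) (hPS : P ≤ S) (hc : Nat.card P = p ^ 4)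
    (hZ : Nat.card (center P) = p ^ 2)
    (hself : ∀ g : S, (∀ m ∈ P.subgroupOf S, g * m = m * g) → g ∈ P.subgroupOf S) :
    ∃ τ : S, Mid p (P.subgroupOf S) (zen (P.subgroupOf S)) τ ∧
      ⁅P.subgroupOf S, P.subgroupOf S⁆ = zpowers τ := by
  have hp := (Fact.out : p.Prime)
  haveI := finite_of_le hPS
  set M₀ := P.subgroupOf S with hM₀
  have hM4 : Nat.card M₀ = p ^ 4 := (card_subgroupOf hPS).trans hc
  haveI := normal_of_card_four hs hM4
  have hi : (center P).index = p ^ 2 := by
    have e := (center P).card_mul_index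
    rw [hZ, hc, show p ^ 4 = p ^ 2 * p ^ 2 by ring] at e
    exact Nat.eq_of_mul_eq_mul_left (pow_pos hp.pos 2) e
  have hD : Nat.card (⁅M₀, M₀⁆ : Subgroup S) = p := by
    have h := CfsgLib.Block.card_commutator_of_center_index (P := P) (p := p) hi
    rwa [commutator_eq_pull hPS, card_pull hPS (commutator_le_self M₀)] at h
  have hR : Nat.card (zen M₀) = p ^ 2 := by
    rw [← hZ, center_eq_pull hPS, card_pull hPS inf_le_left]
  obtain ⟨τ, hτ, hτ1⟩ : ∃ τ ∈ ⁅M₀, M₀⁆, τ ≠ 1 := (bot_or_exists_ne_one _).resolve_left fun e => by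
    rw [e, card_bot] at hD
    exact hp.ne_one hD.symm
  have hτp : τ ^ p = 1 := by
    have h := pow_card_eq_one' (x := (⟨τ, hτ⟩ : (⁅M₀, M₀⁆ : Subgroup S)))
    rw [hD] at h
    exact congrArg Subtype.val h
  have heq : ⁅M₀, M₀⁆ = zpowers τ := (eq_of_le_of_card_ge (zpowers_le.2 hτ)
    (by rw [hD, Nat.card_zpowers, orderOf_eq_prime hτp hτ1])).symm
  have hDZ : ⁅M₀, M₀⁆ ≤ zen M₀ := by
    refine le_inf (commutator_le_self M₀) fun y hy => mem_centralizer_iff.2 fun w hw => ?_
    have hc2 : commutator P ≤ center P := by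
      rw [commutator_def]
      refine commutator_le.2 fun a _ b _ => ?_
      rw [← QuotientGroup.eq_one_iff, ← QuotientGroup.mk'_apply, map_commutatorElement,
        commutatorElement_eq_one_iff_mul_comm]
      exact IsPGroup.commutative_of_card_eq_prime_sq (by rw [← index_eq_card]; exact hi) _ _
    obtain ⟨x, rfl⟩ := exists_inc hPS (commutator_le_self M₀ hy)
    obtain ⟨v, rfl⟩ := exists_inc hPS (SetLike.mem_coe.1 hw)
    have hx : x ∈ commutator P := (commutator_eq_pull hPS).ge hy
    rw [← map_mul, ← map_mul, mem_center_iff.1 (hc2 hx) v]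
  refine ⟨τ, ⟨hs.card, hM4, inferInstance, inferInstance, inf_le_left, hR,
    fun r hr m hm => (mem_centralizer_iff.1 hr.2 m hm).symm,
    fun m hm h => ⟨hm, mem_centralizer_iff.2 fun w hw => (h w hw).symm⟩, hDZ hτ, hτ1, hτp, ?_,
    fun a ha b hb => heq ▸ commutator_mem_commutator ha hb, hself⟩, heq⟩
  rw [← heq]; infer_instance

/-- If the line were invariant, `Aut_S(P)` would consist of inner automorphisms. -/
theorem exists_neg_normalizer (hs : Setup p F) (hE : F.IsEssential p P) (hN : normalizerIn S P ≠ P)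
    {R C : Subgroup P} (hpl : Plane p (F.autGroup P) (autInducedBy S P) R C)
    (D : ℕ → Subgroup P) (k : ℕ) (h0 : D 0 = R) (hk : D k = ⊥) (hinv : ∀ i, Inv (F.autGroup P) (D i))
    (hsec : ∀ i < k, Sec p (F.autGroup P) (D i) (D (i + 1))) :
    ∃ t ∈ pGen p (F.autGroup P), (∀ x : P, x * t x ∈ R) ∧
      t ∈ normalizer (autInducedBy S P : Set (MulAut P)) ∧
      ∀ β ∈ F.autGroup P, ⁅t, β⁆ ∈ autInducedBy S P := by
  haveI := finite_of_le hE.1.1
  haveI := finite_mulAut (P := P)
  set X := F.autGroup P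
  set Q := autInducedBy S P
  obtain ⟨hcore, -⟩ := EssentialCube.autGroup_data hs.isP hE
  have hPp : IsPGroup p P := hs.isP.to_le hE.1.1
  have hinnQ : Cfsg.Inn P ≤ Q := by
    rw [inn_eq_autInducedBy]
    intro a ha
    obtain ⟨g, hg, h⟩ := mem_autInducedBy_iff.1 ha
    exact mem_autInducedBy_iff.2 ⟨g, hE.1.1 hg, h⟩
  have hC : ¬ Inv X C := by
    intro hCi
    have hsT : Sec p X ⊤ C := ⟨le_top, normal_of_comm hpl.comm hpl.le, card_top.trans hpl.cardH,
      inv_top, hCi⟩
    have hsC : Sec p X C R := ⟨hpl.le, hpl.normal, hpl.cardC, hCi, hpl.invR⟩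
    refine hN (le_antisymm (fun s hs' => ?_) (le_normalizerIn hE.1.1))
    refine mem_of_conjAut_mem_inn hs'.1 hs'.2 hE.1.1 (centralizerIn_le_of_isCentric hE.1) ?_
    have hq : conjAut s hs'.2 ∈ pGen p X :=
      le_pGen hpl.qle hpl.isP (conjAut_mem hs'.1 hs'.2)
    refine stab_inner hPp hcore (fun i => if i = 0 then ⊤ else if i = 1 then C else D (i - 2))
      (k + 2) (by simp) (by simp [hk]) ?_ (pGen_le hq) ?_
    · intro i
      split_ifs
      · exact inv_top
      · exact hCi
      · exact hinv _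
    · intro i hi
      rcases (show i = 0 ∨ i = 1 ∨ 2 ≤ i by omega) with rfl | rfl | h2
      · intro x _
        simpa using pGen_fix hsT hq x (mem_top x)
      · intro x hx
        simp only [one_ne_zero, if_false, if_true] at hx
        simpa [h0] using pGen_fix hsC hq x hx
      · intro x hx
        simp only [show i ≠ 0 by omega, show i ≠ 1 by omega, if_false] at hx
        simp only [show i + 1 ≠ 0 by omega, show i + 1 ≠ 1 by omega, if_false]
        rw [show i + 1 - 2 = i - 2 + 1 by omega]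
        exact pGen_fix (hsec _ (by omega)) hq x hx
  obtain ⟨t, ht, hneg, hcomm⟩ := hpl.exists_neg hC
  have htX := pGen_le ht
  have hinn : ∀ β ∈ X, ⁅t, β⁆ ∈ Cfsg.Inn P := by
    intro β hβ
    refine stab_inner hPp hcore (fun i => if i = 0 then ⊤ else D (i - 1)) (k + 1) (by simp)
      (by simp [hk]) ?_ (by
        rw [commutatorElement_def]
        exact mul_mem (mul_mem (mul_mem htX hβ) (inv_mem htX)) (inv_mem hβ)) ?_
    · intro i
      split_ifs
      · exact inv_top
      · exact hinv _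
    · intro i hi x hx
      rcases (show i = 0 ∨ 1 ≤ i by omega) with rfl | h1
      · simpa [h0] using hcomm β hβ x
      · simp only [show i ≠ 0 by omega, if_false] at hx
        simp only [show i + 1 ≠ 0 by omega, if_false]
        rw [show i + 1 - 1 = i - 1 + 1 by omega]
        exact comm_fix (hsec _ (by omega)) htX hβ x hx
  refine ⟨t, ht, hneg, ?_, fun β hβ => hinnQ (hinn β hβ)⟩
  refine conjBy_eq_iff.1 ?_
  refine eq_of_le_of_card_ge (conjBy_le_iff.2 fun q hq => ?_) (card_conjBy t Q).ge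
  have := mul_mem (hinnQ (hinn q (hpl.qle hq))) hq
  rwa [commutatorElement_def, inv_mul_cancel_right] at this

/-- An automorphism preserving a second line, moved to one that extends. -/
theorem lift (hs : Setup p F) (hP : F.IsFullyNormalized P) {N : Subgroup Ω}
    (hN : normalizerIn S P = N) (hPN : P ≤ N) {R C L : Subgroup P}
    (hpl : Plane p (F.autGroup P) (autInducedBy S P) R C) (hRL : R ≤ L)
    (hL : Nat.card L = Nat.card C) (hne : L ≠ C) {t : MulAut P} (ht : t ∈ F.autGroup P)
    (htL : ∀ x ∈ L, t x ∈ L) :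
    ∃ β ∈ F.autGroup N,
      (∀ x ∈ L, ∃ c ∈ C, β (inclusion hPN x) = inclusion hPN (t x * c)) ∧
      (∀ x : P, ∃ c : P, β (inclusion hPN x) = inclusion hPN c) ∧
      ∀ U D : Subgroup P, Sec p (F.autGroup P) U D → ∀ x ∈ U, ∃ c ∈ D,
        β (inclusion hPN x) = inclusion hPN (t x * c) := by
  haveI := finite_of_le hP.1
  haveI := finite_mulAut (P := P)
  obtain ⟨n, hn, hnn, hnC, hnL, hns⟩ := hpl.adjust hRL hL hne ht htL
  obtain ⟨β, hβ, hβn⟩ := extend hs.isP hs.sat hP hN hPN hn hnn
  exact ⟨β, hβ, fun x hx => ⟨_, hnL x hx, by rw [hβn, mul_inv_cancel_left]⟩,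
    fun x => ⟨_, hβn x⟩,
    fun U D h x hx => ⟨_, hns U D h x hx, by rw [hβn, mul_inv_cancel_left]⟩⟩

theorem conjAut_inc (hPS : P ≤ S) {s : S} (hs' : (s : Ω) ∈ normalizer (P : Set Ω)) (x : P) :
    inc hPS (conjAut (s : Ω) hs' x) = s * inc hPS x * s⁻¹ := Subtype.ext rfl

section Normal

variable (hs : Setup p F) (hPS : P ≤ S) {τ g x : S}
  (hm : Mid p (P.subgroupOf S) (zen (P.subgroupOf S)) τ)
  (hτ : ⁅P.subgroupOf S, P.subgroupOf S⁆ = zpowers τ)
include hs hm hτ

theorem mid_secs :
    (center P : Subgroup P) = (zen (P.subgroupOf S)).comap (inc hPS) ∧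
    Sec p (F.autGroup P) (center P) (commutator P) ∧ Sec p (F.autGroup P) (commutator P) ⊥ := by
  haveI := hm.tau_normal
  haveI := finite_of_le hPS
  have eC := center_eq_pull hPS
  have eD : commutator P = (zpowers τ).comap (inc hPS) := by rw [commutator_eq_pull hPS, hτ]
  have hle : zpowers τ ≤ P.subgroupOf S := hm.tau_le.trans hm.leM
  refine ⟨eC, ⟨?_, inferInstance, ?_, ?_, ?_⟩, ⟨bot_le, inferInstance, ?_, ?_, inv_bot⟩⟩
  · rw [eC, eD]; exact comap_mono hm.tau_le
  · rw [eC, eD, card_pull hPS inf_le_left, card_pull hPS hle, hm.cardR, hm.card_tau, pow_two]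
  · exact fun α _ y hy => (characteristic_iff_le_comap.1 (inferInstance : (center P).Characteristic) α) hy
  · exact fun α _ y hy =>
      (characteristic_iff_le_comap.1 (inferInstance : (commutator P).Characteristic) α) hy
  · rw [eD, card_pull hPS hle, hm.card_tau, card_bot, mul_one]
  · exact fun α _ y hy =>
      (characteristic_iff_le_comap.1 (inferInstance : (commutator P).Characteristic) α) hy

variable (hx : x ∈ P.subgroupOf S) (hgx : ⁅g, x⁆ ∉ zen (P.subgroupOf S))
include hx hgx

theorem mid_plane :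
    Plane p (F.autGroup P) (autInducedBy S P) (center P)
      ((line (P.subgroupOf S) (zen (P.subgroupOf S))).comap (inc hPS)) := by
  haveI := hm.normalM
  haveI := hm.normalR
  haveI := finite_of_le hPS
  obtain ⟨hPn, hPN⟩ := isFullyNormalized_of_normal (F := F) hPS
  obtain ⟨hCn, hRC, hCM, hCc⟩ := hm.line_spec hx hgx
  obtain ⟨hs1, hs2, -⟩ := hm.line_step hx hgx
  obtain ⟨eC, hsec, -⟩ := mid_secs hs hPS hm hτ (F := F)
  refine ⟨autInducedBy_le_autGroup hPS, isPGroup_autInducedBy hs.isP,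
    sylow_autGroup hs.isP hs.sat hPn, inferInstance, fun a b => ?_, hsec.invU, ?_, ?_, ?_,
    fun q hq y hy => ?_, ?_⟩
  · rw [eC, mem_pull, map_commutatorElement]
    exact hm.tau_le (hm.comm _ (inc_mem hPS a) _ (inc_mem hPS b))
  · rw [eC]; exact comap_mono hRC
  · rw [eC, card_pull hPS hCM, card_pull hPS inf_le_left, hs1]
  · rw [card_pull hPS hCM, ← card_subgroupOf hPS, hs2]
  · obtain ⟨s, hsS, hq'⟩ := mem_autInducedBy_iff.1 hq
    rw [mem_pull] at hy ⊢
    have e : inc hPS (q y) = ⟨s, hsS⟩ * inc hPS y * ⟨s, hsS⟩⁻¹ := Subtype.ext (by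
      show ((q y : P) : Ω) = s * (y : Ω) * s⁻¹
      rw [← autFun_coe, hq' y y.2])
    rw [e]
    exact hCn.conj_mem _ hy _
  · have hgN : (g : Ω) ∈ normalizer (P : Set Ω) := (hPN.ge g.2).2
    obtain ⟨x', rfl⟩ := exists_inc hPS hx
    refine ⟨conjAut (g : Ω) hgN, conjAut_mem g.2 hgN, x', fun hmem => hgx ?_⟩
    rw [eC, mem_pull, map_mul, map_inv, conjAut_inc] at hmem
    have h := hm.normalR.conj_mem _ hmem (inc hPS x')
    have e : ⁅g, inc hPS x'⁆ = inc hPS x' * ((inc hPS x')⁻¹ * (g * inc hPS x' * g⁻¹)) * (inc hPS x')⁻¹ := by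
      rw [commutatorElement_def]; group
    rw [e]; exact h

end Normal

/-- An element outside an essential subgroup of order `p⁴` moves it modulo the centre. -/
theorem exists_moving (hs : Setup p F) (hE : F.IsEssential p P) (hPS : P ≤ S)
    (hc : Nat.card P = p ^ 4) {τ : S}
    (hm : Mid p (P.subgroupOf S) (zen (P.subgroupOf S)) τ)
    (hτ : ⁅P.subgroupOf S, P.subgroupOf S⁆ = zpowers τ) :
    ∃ g : S, ∃ x ∈ P.subgroupOf S, ⁅g, x⁆ ∉ zen (P.subgroupOf S) := by
  haveI := hm.normalR
  haveI := hm.tau_normal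
  obtain ⟨g, -, hg⟩ : ∃ g : S, g ∈ (⊤ : Subgroup S) ∧ g ∉ P.subgroupOf S := by
    refine SetLike.not_le_iff_exists.1 fun hle => ?_
    have h1 := Subgroup.card_le_of_le hle
    rw [card_top, hs.card, card_subgroupOf hPS, hc] at h1
    exact absurd ((Nat.pow_le_pow_iff_right (Fact.out : p.Prime).one_lt).1 h1) (by norm_num)
  refine ⟨g, ?_⟩
  by_contra hcon
  push Not at hcon
  refine hg ?_
  have hinvZ : ∀ α ∈ F.autGroup P, ∀ y ∈ (zen (P.subgroupOf S)).map S.subtype,
      autFun α y ∈ (zen (P.subgroupOf S)).map S.subtype := by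
    rintro α hα _ ⟨r, hr, rfl⟩
    obtain ⟨r', rfl⟩ := exists_inc hPS hr.1
    have h1 : r' ∈ center P := (center_eq_pull hPS).ge hr
    have h2 := (characteristic_iff_le_comap.1 (inferInstance : (center P).Characteristic) α) h1
    rw [center_eq_pull hPS] at h2
    exact ⟨_, h2, (autFun_coe α r').symm⟩
  have hinvT : ∀ α ∈ F.autGroup P, ∀ y ∈ (zpowers τ).map S.subtype,
      autFun α y ∈ (zpowers τ).map S.subtype := by
    rintro α hα _ ⟨r, hr, rfl⟩
    obtain ⟨r', rfl⟩ := exists_inc hPS (hm.leM (hm.tau_le hr))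
    have eD : commutator P = (zpowers τ).comap (inc hPS) := by rw [commutator_eq_pull hPS, hτ]
    have h1 : r' ∈ commutator P := eD.ge hr
    have h2 := (characteristic_iff_le_comap.1 (inferInstance : (commutator P).Characteristic) α) h1
    rw [eD] at h2
    exact ⟨_, h2, (autFun_coe α r').symm⟩
  refine Pearl.mem_of_stabilize hs.isP hE (L := (zen (P.subgroupOf S)).map S.subtype)
    (M := (zpowers τ).map S.subtype) (map_mono hm.tau_le)
    (fun y hy => by obtain ⟨r, hr, rfl⟩ := hy; exact hr.1) hinvZ hinvT g.2 ?_ ?_ ?_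
  · rintro _ ⟨t, ht, rfl⟩
    exact congrArg Subtype.val (commutatorElement_eq_one_iff_mul_comm.2 (hm.tau_central g t ht))
  · rintro _ ⟨r, hr, rfl⟩
    exact ⟨_, hm.comm_R g hr, map_commutatorElement S.subtype g r⟩
  · intro y hy
    exact ⟨_, hcon _ (inc_mem hPS ⟨y, hy⟩), map_commutatorElement S.subtype g _⟩

/-- An essential subgroup of order `p⁴`. -/
theorem fourth (hs : Setup p F) (hE : F.IsEssential p P) (hc : Nat.card P = p ^ 4)
    (hZ : Nat.card (center P) = p ^ 2) :
    ∃ τ g x : S, Mid p (P.subgroupOf S) (zen (P.subgroupOf S)) τ ∧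
      ⁅P.subgroupOf S, P.subgroupOf S⁆ = zpowers τ ∧
      x ∈ P.subgroupOf S ∧ ⁅g, x⁆ ∉ zen (P.subgroupOf S) ∧ ⁅g, ⁅g, x⁆⁆ ∈ zpowers τ ∧
      ∀ K : Subgroup Ω, Covers S K → F.autGroup S ≤ fixGroup K S →
        F.autGroup P ≤ fixGroup K P := by
  have hPS := hE.1.1
  have hp := (Fact.out : p.Prime)
  haveI := finite_of_le hPS
  haveI := finite_mulAut (P := P)
  have hself : ∀ g : S, (∀ m ∈ P.subgroupOf S, g * m = m * g) → g ∈ P.subgroupOf S := fun g h =>
    centralizerIn_le_of_isCentric hE.1 ⟨g.2, mem_centralizer_iff.2 fun y hy =>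
      (congrArg Subtype.val (h ⟨y, hPS hy⟩ hy)).symm⟩
  obtain ⟨τ, hm, hτ⟩ := exists_mid hs hPS hc hZ hself
  obtain ⟨g, x, hx, hgx⟩ := exists_moving hs hE hPS hc hm hτ
  obtain ⟨eC, hsec, hsecD⟩ := mid_secs hs hPS hm hτ (F := F)
  haveI := hm.normalM
  obtain ⟨hPn, hPN⟩ := isFullyNormalized_of_normal (F := F) hPS
  have hne : normalizerIn S P ≠ P := fun e => by
    rw [hPN] at e
    rw [← e, hs.card] at hc
    exact absurd (Nat.pow_right_injective hp.two_le hc) (by norm_num)
  have hpl := mid_plane hs hPS hm hτ hx hgx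
  obtain ⟨t, htg, hneg, htn, htc⟩ := exists_neg_normalizer hs hE hne hpl
    (fun i => if i = 0 then center P else if i = 1 then commutator P else ⊥) 2 rfl rfl
    (fun i => by
      split_ifs
      · exact hsec.invU
      · exact hsecD.invU
      · exact inv_bot)
    (fun i hi => by
      rcases (show i = 0 ∨ i = 1 by omega) with rfl | rfl
      · simpa using hsec
      · simpa using hsecD)
  have htX := pGen_le htg
  refine ⟨τ, g, x, hm, hτ, hx, hgx, ?_, fun K hK hfix => ?_⟩
  · obtain ⟨β, -, hβ⟩ := extend hs.isP hs.sat hPn hPN hPS htX htn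
    obtain ⟨x', rfl⟩ := exists_inc hPS hx
    by_contra hgm
    have hτP : τ ∈ P.subgroupOf S := hm.leM hm.tau_mem
    obtain ⟨τ', hτ'⟩ := exists_inc hPS hτP
    have hβτ : β τ = τ ^ (1 : ℤ) := by
      have hmem : τ' ∈ commutator P := by
        rw [commutator_eq_pull hPS, mem_pull, hτ', hτ]; exact mem_zpowers τ
      have h1 := pGen_fix hsecD htg τ' hmem
      rw [mem_bot, inv_mul_eq_one] at h1
      rw [zpow_one, ← hτ', hβ, ← h1]
    have hβR : ∀ r ∈ zen (P.subgroupOf S), r⁻¹ * β r ∈ zpowers τ := by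
      intro r hr
      obtain ⟨r', rfl⟩ := exists_inc hPS hr.1
      have h1 := pGen_fix hsec htg r' (eC.ge hr)
      rw [commutator_eq_pull hPS, mem_pull, map_mul, map_inv, hτ] at h1
      rwa [hβ]
    have hxa : (inc hPS x' ^ (-1 : ℤ))⁻¹ * β (inc hPS x') ∈
        line (P.subgroupOf S) (zen (P.subgroupOf S)) := by
      have h1 := hneg x'
      rw [eC, mem_pull, map_mul] at h1
      rw [zpow_neg_one, inv_inv, hβ]
      exact (hm.line_spec hx hgx).2.1 h1
    obtain ⟨σ, hσ, hσ2, -⟩ := hm.key hx hgx β hxa hβτ hβR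
    have hσ3 := hσ2 hgm
    push_cast at hσ hσ3
    have : (2 : ZMod p) = 0 := by linear_combination -hσ3 - ((σ : ZMod p) + 1) * hσ
    exact hs.odd ((Nat.prime_dvd_prime_iff_eq hp Nat.prime_two).1
      ((ZMod.natCast_eq_zero_iff 2 p).1 (by exact_mod_cast this)))
  · -- modulo `K`
    set X := F.autGroup P
    set Q := autInducedBy S P
    have hQK : Q ≤ fixGroup K P := autInducedBy_le_fixGroup hK hPS
    have hTK : ∀ d ∈ zpowers τ, (d : Ω) ∈ K := by
      intro d hd
      have : ⁅P.subgroupOf S, P.subgroupOf S⁆ ≤ K.subgroupOf S := commutator_le.2 fun a _ b _ => by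
        have h := hK b b.2 (a : Ω)⁻¹ (inv_mem a.2)
        simpa [mem_subgroupOf, commutatorElement_def, mul_assoc] using h
      exact this (hτ ▸ hd)
    have hpR : ∀ β ∈ pGen p X, ∀ r ∈ center P, (r : Ω)⁻¹ * (β r : Ω) ∈ K := fun β hβ r hr => by
      have h1 := pGen_fix hsec hβ r hr
      rw [commutator_eq_pull hPS, mem_pull, hτ] at h1
      exact hTK _ h1
    have htK : t ∈ fixGroup K P := mem_fixGroup_of_extend hs.isP hs.sat hPn hPN hPS hfix htX htn
    haveI hKn : (K.subgroupOf S).Normal := ⟨fun n hn y => by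
      have h1 := mul_mem (mem_subgroupOf.1 hn) (hK y y.2 n n.2)
      rw [mul_inv_cancel_left] at h1
      exact mem_subgroupOf.2 h1⟩
    refine autGroup_le_fixGroup hs.isP hs.sat hPn hPN hPS hfix fun β hβ => ?_
    set π := (QuotientGroup.mk' (K.subgroupOf S)).comp (inc hPS) with hπ
    have hmod : ∀ {a : MulAut P}, a ∈ fixGroup K P → ∀ z : P, π (a z) = π z := fun {a} ha z => by
      refine (QuotientGroup.eq.2 ?_).symm
      exact ha z
    intro y
    have hr := hneg y
    have e1 : π (β (t y)) = π (β y) := by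
      have hc1 : ⁅β, t⁆ ∈ fixGroup K P := by
        rw [← commutatorElement_inv]
        exact inv_mem (hQK (htc β (pGen_le hβ)))
      have e : β (t y) = ⁅β, t⁆ (t (β y)) := by
        simp only [commutatorElement_def, MulAut.mul_apply, MulAut.inv_apply_self]
      rw [e, hmod hc1, hmod htK]
    have e2 : π (t y) = π y := hmod htK y
    have e3 : π (β (y * t y)) = π (y * t y) := ((QuotientGroup.eq.2 (show (inc hPS (y * t y))⁻¹ * inc hPS (β (y * t y)) ∈ K.subgroupOf S from
        hpR β hβ _ hr) : π (y * t y) = π (β (y * t y)))).symm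
    rw [map_mul, map_mul, map_mul, e1, e2, ← pow_two, ← pow_two] at e3
    have hSp : IsPGroup p (S ⧸ K.subgroupOf S) := hs.isP.to_quotient _
    have h2 : Nat.Coprime (Nat.card (S ⧸ K.subgroupOf S)) 2 := by
      obtain ⟨j, hj⟩ := hSp.exists_card_eq
      rw [hj]
      exact Nat.Coprime.pow_left j ((Nat.coprime_primes hp Nat.prime_two).2 hs.odd)
    have e4 := (powCoprime h2).injective e3
    exact (QuotientGroup.eq.1 (show QuotientGroup.mk (inc hPS y) = QuotientGroup.mk (inc hPS (β y)) from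
      e4.symm) : _ ∈ K.subgroupOf S)

end CfsgLib.Fusion.OrderFifth
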