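import Cfsg.Agent.Lib.Fusion.System.LineTorus
import Cfsg.Agent.Lib.Fusion.System.Normal
import Cfsg.Agent.Lib.Fusion.System.FamilySat
import Cfsg.Agent.Lib.Fusion.System.Alperin
import Cfsg.Agent.Lib.Fusion.System.Hyperfocal

/-!
# Extensions to normalizers and maps that are trivial modulo a subgroup

An automorphism normalizing `Aut_S(P)` extends to an automorphism of `N_S(P)`.  The maps that are
trivial modulo `K` form a fusion system, so they can be tested on `S` and on the essential
subgroups, and going downwards the orders can be bounded below.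
-/

set_option autoImplicit false
set_option linter.style.haveILetI false
set_option linter.unusedSectionVars false

open Subgroup
open scoped Classical

namespace CfsgLib.Fusion.OrderFifth

open Cfsg (FusionSystem autInducedBy)
open Cfsg.FusionSystem (normalizerIn centralizerIn)
open CfsgLib.Fusion.LineTorus (pGen pGen_le pGen_conj le_pGen)

universe u

variable {Ω : Type u} [Group Ω] {S : Subgroup Ω} [Finite S] {p : ℕ} [Fact p.Prime]
  {F : FusionSystem S} {P N K : Subgroup Ω}

theorem sylow_autGroup (hS : IsPGroup p S) (hF : F.IsSaturated p) (hP : F.IsFullyNormalized P) :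
    ¬ p ∣ (autInducedBy S P).relIndex (F.autGroup P) :=
  ((isFullyAutomized_iff hS).1 (IsSaturated.automized_receptive hS hF hP).1).2

/-- An automorphism normalizing `Aut_S(P)` extends to the normalizer. -/
theorem extend (hS : IsPGroup p S) (hF : F.IsSaturated p) (hP : F.IsFullyNormalized P)
    (hN : normalizerIn S P = N) (hPN : P ≤ N) {a : MulAut P} (ha : a ∈ F.autGroup P)
    (hn : a ∈ normalizer (autInducedBy S P : Set (MulAut P))) :
    ∃ β ∈ F.autGroup N, ∀ x : P, β (inclusion hPN x) = inclusion hPN (a x) := by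
  subst hN
  obtain ⟨g, hg, hga⟩ := FamilySat.exists_ext (IsSaturated.automized_receptive hS hF hP).2 ha le_rfl
    (fun n hn' => (mem_normalizer_iff.1 hn _).1 (conjAut_mem hn'.1 hn'.2))
  have himg : img (normalizerIn S P) g = normalizerIn S P := by
    refine eq_of_le_of_card_le inf_le_left (fun y hy => ?_) hg.card_img.ge
    obtain ⟨x, hx, rfl⟩ := hg.mem_img.1 hy
    have h := map_mem_normalizerIn hg hPN hx hx.2
    rwa [IsMap.img_congr hga, img_autFun] at h
  refine ⟨autOf hg himg, autOf_mem hg himg, fun x => Subtype.ext ?_⟩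
  rw [← autFun_coe, autFun_autOf hg himg (inclusion hPN x).2]
  exact (hga x x.2).trans (autFun_coe a x)

/-- The automorphisms of `P` that are trivial modulo `K`. -/
def fixGroup (K P : Subgroup Ω) : Subgroup (MulAut P) where
  carrier := {a | ∀ x : P, (x : Ω)⁻¹ * (a x : Ω) ∈ K}
  one_mem' := fun x => by simp
  mul_mem' := fun {a b} ha hb x => by
    have h := mul_mem (hb x) (ha (b x))
    rw [show (x : Ω)⁻¹ * (b x : Ω) * ((b x : Ω)⁻¹ * (a (b x) : Ω))
      = (x : Ω)⁻¹ * (a (b x) : Ω) by group] at h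
    exact h
  inv_mem' := fun {a} ha x => by
    have h := inv_mem (ha (a⁻¹ x))
    rw [MulAut.apply_inv_self] at h
    simpa using h

theorem mem_fixGroup {a : MulAut P} :
    a ∈ fixGroup K P ↔ ∀ x : P, (x : Ω)⁻¹ * (a x : Ω) ∈ K := Iff.rfl

/-- `K` contains all commutators of `S`. -/
def Covers (S K : Subgroup Ω) : Prop := ∀ s ∈ S, ∀ x ∈ S, x⁻¹ * (s * x * s⁻¹) ∈ K

theorem autInducedBy_le_fixGroup (hK : Covers S K) (hP : P ≤ S) :
    autInducedBy S P ≤ fixGroup K P := fun a ha x => by
  obtain ⟨s, hs, h⟩ := mem_autInducedBy_iff.1 ha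
  rw [← autFun_coe, h x x.2]
  exact hK s hs x (hP x.2)

theorem mem_fixGroup_of_extend (hS : IsPGroup p S) (hF : F.IsSaturated p)
    (hP : F.IsFullyNormalized P) (hN : normalizerIn S P = N) (hPN : P ≤ N)
    (hfix : F.autGroup N ≤ fixGroup K N) {a : MulAut P} (ha : a ∈ F.autGroup P)
    (hn : a ∈ normalizer (autInducedBy S P : Set (MulAut P))) : a ∈ fixGroup K P := fun x => by
  obtain ⟨β, hβ, hβa⟩ := extend hS hF hP hN hPN ha hn
  have h := hfix hβ (inclusion hPN x)
  rwa [hβa x] at h

/-- The conjugates of a Sylow subgroup generate the subgroup generated by the `p`-elements. -/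
theorem pGen_le_of_conj {H : Type u} [Group H] [Finite H] {X Q Y : Subgroup (MulAut H)} (hQX : Q ≤ X)
    (hQp : IsPGroup p Q) (hsyl : ¬ p ∣ Q.relIndex X)
    (h : ∀ g ∈ X, ∀ q ∈ Q, g * q * g⁻¹ ∈ Y) : pGen p X ≤ Y := by
  refine (closure_le _).2 fun a ⟨ha, k, hk⟩ => ?_
  have hap : IsPGroup p (zpowers a) := by
    rintro ⟨b, hb⟩
    obtain ⟨i, rfl⟩ := mem_zpowers_iff.1 hb
    exact ⟨k, Subtype.ext (by
      show (a ^ i) ^ p ^ k = 1
      rw [← zpow_natCast, ← zpow_mul, mul_comm, zpow_mul, zpow_natCast, hk, one_zpow])⟩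
  obtain ⟨g, hg, hle⟩ := exists_conj_le_of_not_dvd_relIndex hQp hQX hsyl hap (zpowers_le.2 ha)
  have h1 := hle (conj_mem_conjBy (mem_zpowers a))
  have h2 := h g⁻¹ (inv_mem hg) _ h1
  simpa [mul_assoc] using h2

/-- Generation of the automizer by the `p`-elements and the elements that extend. -/
theorem autGroup_le_fixGroup (hS : IsPGroup p S) (hF : F.IsSaturated p)
    (hP : F.IsFullyNormalized P) (hN : normalizerIn S P = N) (hPN : P ≤ N)
    (hfix : F.autGroup N ≤ fixGroup K N) (hgen : pGen p (F.autGroup P) ≤ fixGroup K P) :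
    F.autGroup P ≤ fixGroup K P := by
  intro a ha
  haveI := finite_of_le hP.1
  haveI := finite_mulAut (P := P)
  have hQX := autInducedBy_le_autGroup (F := F) hP.1
  have hle := le_pGen hQX (isPGroup_autInducedBy (P := P) hS)
  obtain ⟨c, hc, hcn⟩ := CfsgLib.FourFree.frattini_rel (C := pGen p (F.autGroup P))
    (S := autInducedBy S P) (L := F.autGroup P) (isPGroup_autInducedBy hS) hle
    (fun hd => sylow_autGroup hS hF hP (hd.trans (Dvd.intro _
      (relIndex_mul_relIndex (autInducedBy S P) (pGen p (F.autGroup P)) (F.autGroup P) hle pGen_le))))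
    (fun g hg x hx => pGen_conj hg hx) ha
  have h1 := mem_fixGroup_of_extend hS hF hP hN hPN hfix (mul_mem (pGen_le hc) ha) hcn
  have h2 := mul_mem (inv_mem (hgen hc)) h1
  rwa [inv_mul_cancel_left] at h2

/-- The maps of `F` that are trivial modulo `K`. -/
noncomputable def fixSystem (F : FusionSystem S) (hK : Covers S K) : FusionSystem S :=
  mkSystem F S (fun P f => IsMap F P f ∧ ∀ x ∈ P, x⁻¹ * f x ∈ K)
    (fun _ _ h => ⟨h.1, h.1.le, fun _ hx => h.1.mem_S hx⟩)
    (fun P f g h he => ⟨h.1.congr he, fun x hx => by rw [he x hx]; exact h.2 x hx⟩)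
    (fun P t hP ht => ⟨isMap_conj hP ht, fun x hx => hK t ht x (hP hx)⟩)
    (fun P Q f g hf hg h => ⟨hf.1.comp hg.1 h, fun x hx => by
      have := mul_mem (hf.2 x hx) (hg.2 _ (h x hx))
      simpa [mul_assoc] using this⟩)
    (fun P f f' hf hf' h => ⟨hf', fun y hy => by
      obtain ⟨x, hx, rfl⟩ := hf.1.mem_img.1 hy
      rw [h x hx]
      simpa using inv_mem (hf.2 x hx)⟩)

theorem autGroup_le_fixSystem (hK : Covers S K) (hP : P ≤ S) (h : F.autGroup P ≤ fixGroup K P) :
    F.autGroup P ≤ (fixSystem F hK).autGroup P := fun a ha =>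
  (mem_autGroup_iff hP).2 ((isMap_mkSystem_iff _).2 ⟨(mem_autGroup_iff hP).1 ha, fun x hx => by
    rw [autFun_apply a hx]
    exact h ha ⟨x, hx⟩⟩)

/-- Downward induction. -/
theorem autGroup_le_of_above (hS : IsPGroup p S) (hF : F.IsSaturated p) (hK : Covers S K)
    (hP : P ≤ S) (h : ∀ R : Subgroup Ω, Nat.card P ≤ Nat.card R → (R = S ∨ F.IsEssential p R) →
      F.autGroup R ≤ fixGroup K R) : F.autGroup P ≤ fixGroup K P := fun a ha x => by
  have hm := isMap_of_autGroup_le_above hS hF (E := fixSystem F hK) (P := P)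
    (fun R hR hR' => autGroup_le_fixSystem hK (hR'.elim (fun e => e.le) fun e => e.1.1) (h R hR hR'))
    ((mem_autGroup_iff hP).1 ha)
  have h1 := ((isMap_mkSystem_iff _).1 hm).2 x x.2
  rwa [autFun_coe] at h1

theorem focal_le (hS : IsPGroup p S) (hF : F.IsSaturated p) (hK : Covers S K)
    (h : ∀ R : Subgroup Ω, (R = S ∨ F.IsEssential p R) → F.autGroup R ≤ fixGroup K R) :
    F.focalSubgroup ≤ K := by
  refine (closure_le _).2 ?_
  rintro _ ⟨P, φ, x, hφ, rfl⟩
  have hm := isMap_of_autGroup_le hS hF (E := fixSystem F hK)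
    (fun R hR => autGroup_le_fixSystem hK (hR.elim (fun e => e.le) fun e => e.1.1) (h R hR))
    (isMap_toFun hφ)
  have h1 := ((isMap_mkSystem_iff _).1 hm).2 x x.2
  rwa [toFun_coe] at h1

end CfsgLib.Fusion.OrderFifth
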