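import Cfsg.Agent.Lib.Fusion.System.OrderFifthFourth
import Cfsg.Agent.Lib.Fusion.System.EssentialPlane
import Cfsg.Agent.Lib.PGroup.OrderFifthMaxClass
import Cfsg.Agent.Lib.PGroup.NormalRankFour

/-!
# Pearls in groups of order `p⁵`

The torus of an abelian pearl extends along the chain of normalizers to `S`, where the weights
`2` and `1 / 2` need `p ∈ {3, 7}`.  For `p = 3` every pearl lies in any subgroup modulo which the
maps of its normalizer are trivial.
-/

set_option autoImplicit false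
set_option linter.style.haveILetI false
set_option linter.unusedSectionVars false
set_option maxHeartbeats 1000000

open Subgroup
open scoped Classical commutatorElement

namespace CfsgLib.Fusion.OrderFifth

open Cfsg (FusionSystem autInducedBy)
open Cfsg.FusionSystem (normalizerIn centralizerIn)
open CfsgLib.Fusion.LineTorus (Inv Sec Plane zpow_congr inv_bot)
open CfsgLib.PGroup.OrderFifth (NoAb gen_step mk_commute upK)
open CfsgLib.MaxClassShift (gam Small gam_comm gam_anti gam_normal)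

universe u

variable {Ω : Type u} [Group Ω] {S : Subgroup Ω} [Finite S] {p : ℕ} [Fact p.Prime]
  {F : FusionSystem S} {E : Subgroup Ω}

theorem small_of_centralizer (hs : Setup p F) {x : S} (hx : x ^ p = 1)
    (hc : Nat.card (centralizerIn S (zpowers (x : Ω))) = p ^ 2) : Small x p 5 := by
  refine ⟨hs.card, hx, ?_, by norm_num⟩
  rw [← hc]
  refine (Nat.card_congr (Equiv.subtypeEquivRight fun y : S => ?_)).trans
    (card_subgroupOf (P := centralizerIn S (zpowers (x : Ω))) inf_le_left)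
  rw [mem_subgroupOf, centralizerIn, mem_inf]
  simp only [y.2, true_and, mem_centralizer_singleton_iff]
  constructor
  · intro h
    refine mem_centralizer_iff.2 fun w hw => ?_
    obtain ⟨k, rfl⟩ := mem_zpowers_iff.1 hw
    exact (Commute.zpow_left (show Commute (x : Ω) (y : Ω) from (congrArg Subtype.val h).symm) k).eq
  · intro h
    exact Subtype.ext (mem_centralizer_iff.1 h x (mem_zpowers _)).symm

/-- A pearl yields an element with centralizer of order `p²`. -/
theorem small_of_pearl (hs : Setup p F) (hE : F.IsEssential p E)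
    (h : (Nat.card E = p ^ 2 ∧ ∀ y ∈ E, y ^ p = 1) ∨ (Nat.card E = p ^ 3 ∧ ¬ IsMulCommutative E)) :
    ∃ x : S, Small x p 5 := by
  rcases h with ⟨hc, hexp⟩ | ⟨hc, hna⟩
  · obtain ⟨x, hxE, hxp, hx⟩ := Pearl.exists_elem_abelian hs.isP hs.sat hE hc hexp
    exact ⟨⟨x, hE.1.1 hxE⟩, small_of_centralizer hs (Subtype.ext hxp)
      ((congrArg (fun A : Subgroup Ω => Nat.card A) hx).trans hc)⟩
  · obtain ⟨x, hxE, hxp, hx⟩ := Pearl.exists_elem_nonabelian hs.odd hs.isP hs.sat hE hc hna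
    exact ⟨⟨x, hE.1.1 hxE⟩, small_of_centralizer hs (Subtype.ext hxp) hx⟩

/-- The torus of an abelian pearl, extended to the normalizer. -/
theorem pearl_torus (hs : Setup p F) (hE : F.IsEssential p E) (hcard : Nat.card E = p ^ 2)
    (hexp : ∀ y ∈ E, y ^ p = 1) {a b : ℤ} (hab : (a : ZMod p) * b = 1) :
    ∃ y : E, Small (inc hE.1.1 y) p 5 ∧
      E.subgroupOf S = centralizer ({inc hE.1.1 y} : Set S) ∧
      ∃ β ∈ F.autGroup (normalizerIn S E),
        (∀ e : E, ∃ e' : E, β (inclusion (le_normalizerIn hE.1.1) e) = inclusion (le_normalizerIn hE.1.1) e') ∧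
        β (inclusion (le_normalizerIn hE.1.1) y) = inclusion (le_normalizerIn hE.1.1) (y ^ a) ∧
        ∀ z : E, inc hE.1.1 z ∈ gam S 4 →
          β (inclusion (le_normalizerIn hE.1.1) z) = inclusion (le_normalizerIn hE.1.1) (z ^ b) := by
  have hp := (Fact.out : p.Prime)
  have hES := hE.1.1
  haveI := finite_of_le hES
  haveI := finite_mulAut (P := E)
  haveI : IsMulCommutative E := IsPGroup.isMulCommutative_of_card_eq_prime_sq hcard
  have hcomm : ∀ a b : E, a * b = b * a := fun a b => mul_comm' a b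
  have hexp' : ∀ a : E, a ^ p = 1 := fun a => Subtype.ext (hexp a a.2)
  have hQle := autInducedBy_le_autGroup (F := F) hES
  have hQne : autInducedBy S E ≠ ⊥ := fun h => sylow_autGroup hs.isP hs.sat hE.2.1 (by
    rw [h, relIndex_bot_left]; exact EssentialPlane.dvd_card_autGroup hE)
  obtain ⟨j, hj⟩ := (isPGroup_autInducedBy (P := E) hs.isP).exists_card_eq
  obtain ⟨a₀, ha₀⟩ := exists_prime_orderOf_dvd_card' (G := autInducedBy S E) p (by
    rw [hj]
    exact dvd_pow_self p fun e => hQne (eq_bot_of_card_eq _ (by rw [hj, e, pow_zero])))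
  let aX : F.autGroup E := ⟨a₀, hQle a₀.2⟩
  have haX : orderOf aX = p := by
    rw [← Subgroup.orderOf_coe, ← ha₀, ← Subgroup.orderOf_coe a₀]
  obtain ⟨x₀, y₀, L, -, hLX, hx1, hy, hax, hay, hL⟩ := EssentialPlane.exists_sl_two_hom hcomm hexp'
    hcard (F.autGroup E) (EssentialPlane.pCore_autGroup_eq_bot hs.isP hE hcomm) aX haX
  obtain ⟨n, hnS, hn⟩ := mem_autInducedBy_iff.1 a₀.2
  set iE := inc hES
  have hgen : ∀ r : E, ∃ i k : ℤ, r = x₀ ^ i * y₀ ^ k := by
    have htop : zpowers x₀ ⊔ zpowers y₀ = ⊤ := by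
      refine eq_top_of_le_card _ ?_
      have hlt : zpowers x₀ < zpowers x₀ ⊔ zpowers y₀ := lt_of_le_of_ne le_sup_left fun e =>
        hy (e.ge (mem_sup_right (mem_zpowers y₀)))
      have h1 := CfsgLib.MaxClassCube.mul_card_le (hs.isP.to_le hES) hlt
      rwa [Nat.card_zpowers, orderOf_eq_prime (hexp' x₀) hx1, ← pow_two, ← hcard] at h1
    intro r
    obtain ⟨u, hu, v, hv, rfl⟩ := mem_sup_of_normal_left.1 (htop.ge (mem_top r))
    obtain ⟨i, rfl⟩ := mem_zpowers_iff.1 hu
    obtain ⟨k, rfl⟩ := mem_zpowers_iff.1 hv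
    exact ⟨i, k, rfl⟩
  -- the fixed line is central in `S`
  have hCE : centralizerIn S E ≤ E := centralizerIn_le_of_isCentric hE.1
  obtain ⟨x, hxE, hxp, hxC⟩ := Pearl.exists_elem_abelian hs.isP hs.sat hE hcard hexp
  have hsm : Small (⟨x, hES hxE⟩ : S) p 5 := small_of_centralizer hs (Subtype.ext hxp)
    ((congrArg (fun A : Subgroup Ω => Nat.card A) hxC).trans hcard)
  have hz4 : gam S 4 ≤ E.subgroupOf S := fun z hz => hCE ⟨z.2, mem_centralizer_iff.2 fun w hw =>
    congrArg Subtype.val (commutatorElement_eq_one_iff_mul_comm.1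
      (CfsgLib.PGroup.OrderFifth.gam_four_central hsm ⟨w, hES hw⟩ hz))⟩
  have hzc : ∀ z : E, iE z ∈ gam S 4 → z ∈ zpowers x₀ := by
    intro z hz
    obtain ⟨i, k, e⟩ := hgen z
    have hfix : (aX : MulAut E) z = z := Subtype.ext (by
      show (((a₀ : MulAut E) z : E) : Ω) = z
      rw [← autFun_coe, hn z z.2]
      exact mul_inv_eq_iff_eq_mul.2 (congrArg Subtype.val (commutatorElement_eq_one_iff_mul_comm.1
        (CfsgLib.PGroup.OrderFifth.gam_four_central hsm ⟨n, hnS⟩ hz))))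
    have h1 : y₀ ^ k * x₀ ^ k = y₀ ^ k := by
      have h2 := hfix
      rw [e, map_mul, map_zpow, map_zpow, hax, hay, (show Commute y₀ x₀ from hcomm _ _).mul_zpow] at h2
      exact mul_left_cancel h2
    rw [mul_eq_left] at h1
    have hk : (k : ZMod p) = ((0 : ℤ) : ZMod p) :=
      LineTorus.cast_of_zpow_eq (hexp' x₀) hx1 (r := k) (s := 0) (by rw [h1, zpow_zero])
    rw [e, zpow_congr (hexp' y₀) hk, zpow_zero, mul_one]
    exact zpow_mem (mem_zpowers x₀) i
  have hx4 : iE x₀ ∈ gam S 4 := by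
    obtain ⟨z, hz, hz1, -⟩ := LineTorus.exists_gen (p := p) (bot_le : (⊥ : Subgroup S) ≤ gam S 4)
      (by rw [hsm.card_gam (k := 4) (by norm_num) (by norm_num), card_bot]; norm_num)
    obtain ⟨z', rfl⟩ := exists_inc hES (hz4 hz)
    obtain ⟨i, hi⟩ := mem_zpowers_iff.1 (hzc z' hz)
    have hz'1 : z' ≠ 1 := fun e => hz1 (by rw [e, map_one]; exact one_mem _)
    have hi0 : (i : ZMod p) ≠ 0 := fun e => hz'1 (by
      rw [← hi, zpow_congr (hexp' x₀) (s := 0) (by simpa using e), zpow_zero])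
    have e : x₀ = z' ^ (((i : ZMod p)⁻¹).val : ℤ) := by
      rw [← hi, ← zpow_mul]
      conv_lhs => rw [← zpow_one x₀]
      refine zpow_congr (hexp' x₀) ?_
      push_cast; rw [ZMod.natCast_zmod_val, mul_inv_cancel₀ hi0]
    rw [e, map_zpow]
    exact zpow_mem hz _
  have hcent : centralizerIn S (zpowers (iE y₀ : Ω)) = E := by
    refine le_antisymm (fun s hs' => hCE ⟨hs'.1, mem_centralizer_iff.2 fun w hw => ?_⟩) fun s hs' =>
      ⟨hES hs', mem_centralizer_iff.2 fun w hw => ?_⟩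
    · obtain ⟨i, k, e⟩ := hgen ⟨w, hw⟩
      have ew : w = (x₀ : Ω) ^ i * (y₀ : Ω) ^ k := congrArg Subtype.val e
      have c1 : Commute (x₀ : Ω) s := congrArg Subtype.val (commutatorElement_eq_one_iff_mul_comm.1
        (CfsgLib.PGroup.OrderFifth.gam_four_central hsm ⟨s, hs'.1⟩ hx4)).symm
      have c2 : Commute (y₀ : Ω) s := mem_centralizer_iff.1 hs'.2 _ (mem_zpowers (y₀ : Ω))
      rw [ew]
      exact ((c1.zpow_left i).mul_left (c2.zpow_left k)).eq
    · obtain ⟨k, rfl⟩ := mem_zpowers_iff.1 hw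
      exact ((show Commute (y₀ : Ω) s from
        congrArg Subtype.val (hcomm y₀ ⟨s, hs'⟩)).zpow_left k).eq
  have hy4 : Small (iE y₀) p 5 := small_of_centralizer hs
    ((map_pow iE y₀ p).symm.trans (by rw [hexp', map_one]))
    ((congrArg (fun A : Subgroup Ω => Nat.card A) hcent).trans hcard)
  have hE0 : E.subgroupOf S = centralizer ({iE y₀} : Set S) := by
    refine eq_of_le_of_card_ge (fun w hw => mem_centralizer_singleton_iff.2 ?_) (by
      rw [hy4.cent, card_subgroupOf hES, hcard])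
    exact Subtype.ext (congrArg (fun z : E => (z : Ω)) (hcomm ⟨w, hw⟩ y₀))
  -- the torus
  have hab' : ((b : ZMod p) * a) = 1 := by rw [mul_comm]; exact hab
  let A : Matrix.SpecialLinearGroup (Fin 2) (ZMod p) :=
    ⟨!![(b : ZMod p), 0; 0, (a : ZMod p)], by simp [Matrix.det_fin_two, hab']⟩
  set t := L A with ht
  have htX : t ∈ F.autGroup E := hLX ⟨A, rfl⟩
  have hval : ∀ {w : E} (c : ℤ), w ^ ((c : ZMod p)).val = w ^ c := fun {w} c => by
    rw [← zpow_natCast]
    exact zpow_congr (hexp' w) (by push_cast; rw [ZMod.natCast_zmod_val])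
  have htx : t x₀ = x₀ ^ b := by
    have h := hL A ![1, 0]
    simp [A, Matrix.mulVec, dotProduct, Fin.sum_univ_two, ZMod.val_one, hval] at h
    exact h
  have hty : t y₀ = y₀ ^ a := by
    have h := hL A ![0, 1]
    simp [A, Matrix.mulVec, dotProduct, Fin.sum_univ_two, ZMod.val_one, hval] at h
    exact h
  have htn : t ∈ normalizer (autInducedBy S E : Set (MulAut E)) := by
    refine conjBy_eq_iff.1 (eq_of_le_of_card_ge (conjBy_le_iff.2 fun q hq => ?_)
      (card_conjBy t (autInducedBy S E)).ge)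
    -- an element of `Aut_S(E)` is a power of `a₀`
    obtain ⟨m, hmS, hm⟩ := mem_autInducedBy_iff.1 hq
    have hqx : q x₀ = x₀ := Subtype.ext (by
      rw [← autFun_coe, hm x₀ x₀.2]
      exact mul_inv_eq_iff_eq_mul.2 (congrArg Subtype.val (commutatorElement_eq_one_iff_mul_comm.1
        (CfsgLib.PGroup.OrderFifth.gam_four_central hsm ⟨m, hmS⟩ hx4))))
    obtain ⟨k, hk⟩ := (isPGroup_autInducedBy (P := E) hs.isP) ⟨q, hq⟩
    obtain ⟨i, l, e⟩ := hgen (q y₀)
    have hl : (l : ZMod p) = 1 := by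
      have hpow : ∀ d : ℕ, ∃ i' : ℤ, (q ^ d) y₀ = x₀ ^ i' * y₀ ^ (l ^ d) := by
        intro d
        induction d with
        | zero => exact ⟨0, by simp⟩
        | succ d ih =>
          obtain ⟨i', hi'⟩ := ih
          refine ⟨i' + i * l ^ d, ?_⟩
          rw [pow_succ' q, MulAut.mul_apply, hi', map_mul, map_zpow, map_zpow, hqx, e,
            (show Commute (x₀ ^ i) (y₀ ^ l) from hcomm _ _).mul_zpow, ← zpow_mul, ← zpow_mul,
            ← mul_assoc, ← zpow_add, ← pow_succ']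
      obtain ⟨i', hi'⟩ := hpow (p ^ k)
      rw [show q ^ p ^ k = 1 from congrArg Subtype.val hk, MulAut.one_apply] at hi'
      have hmem : y₀ ^ (1 - l ^ p ^ k) ∈ zpowers x₀ := by
        rw [zpow_sub, zpow_one]
        nth_rw 1 [hi']
        rw [mul_inv_cancel_right]
        exact zpow_mem (mem_zpowers _) _
      by_contra hne
      refine hy ?_
      have h0 : ((1 - l ^ p ^ k : ℤ) : ZMod p) ≠ 0 := by
        push_cast
        rw [ZMod.pow_card_pow]
        exact sub_ne_zero.2 (Ne.symm hne)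
      have h1 := zpow_mem hmem ((((1 - l ^ p ^ k : ℤ) : ZMod p)⁻¹).val : ℤ)
      rwa [← zpow_mul, zpow_congr (hexp' y₀) (s := 1) (by
        push_cast; rw [ZMod.natCast_zmod_val]; exact mul_inv_cancel₀ (by exact_mod_cast h0)), zpow_one] at h1
    have haq : t * q * t⁻¹ = (a₀ : MulAut E) ^ (i * b * b) := by
      rw [mul_inv_eq_iff_eq_mul]
      have hpw : ∀ c : ℤ, ((a₀ : MulAut E) ^ c) y₀ = y₀ * x₀ ^ c ∧ ((a₀ : MulAut E) ^ c) x₀ = x₀ := by
        have hay' : (a₀ : MulAut E) y₀ = y₀ * x₀ := hay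
        have hax' : (a₀ : MulAut E) x₀ = x₀ := hax
        have hinv : (a₀ : MulAut E)⁻¹ x₀ = x₀ := by
          conv_lhs => rw [← hax']
          exact MulAut.inv_apply_self _ _ _
        intro c
        induction c using Int.induction_on with
        | zero => simp
        | succ c ih =>
          rw [zpow_add_one, MulAut.mul_apply, MulAut.mul_apply, hay', map_mul, ih.1, hax', ih.2]
          exact ⟨by rw [mul_assoc, ← zpow_add_one], rfl⟩
        | pred c ih =>
          have hiy : (a₀ : MulAut E)⁻¹ y₀ = y₀ * x₀⁻¹ := by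
            apply (a₀ : MulAut E).injective
            rw [MulAut.apply_inv_self, map_mul, map_inv, hay', hax', mul_inv_cancel_right]
          rw [zpow_sub_one, MulAut.mul_apply, MulAut.mul_apply, hiy, map_mul, map_inv, ih.1, hinv, ih.2]
          exact ⟨by rw [mul_assoc, ← zpow_sub_one], rfl⟩
      refine MulEquiv.ext fun r => ?_
      obtain ⟨c, d, rfl⟩ := hgen r
      have e2 : q y₀ = x₀ ^ i * y₀ := by
        rw [e, zpow_congr (hexp' y₀) (s := 1) (by simpa using hl), zpow_one]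
      simp only [MulAut.mul_apply, map_mul, map_zpow, hqx, e2, htx, hty, (hpw _).1, (hpw _).2]
      congr 1
      rw [(show Commute y₀ (x₀ ^ (i * b * b)) from hcomm _ _).mul_zpow, ← zpow_mul,
        ← zpow_mul, zpow_congr (hexp' x₀) (r := i * b * b * a) (s := b * i) (by
          push_cast
          linear_combination ((i : ZMod p) * b) * hab'), hcomm]
    rw [haq]
    exact zpow_mem a₀.2 _
  obtain ⟨β, hβ, hβt⟩ := extend hs.isP hs.sat hE.2.1 rfl (le_normalizerIn hES) htX htn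
  refine ⟨y₀, hy4, hE0, β, hβ, fun e => ⟨t e, hβt e⟩, by rw [hβt, hty], fun z hz => ?_⟩
  obtain ⟨i, hi⟩ := mem_zpowers_iff.1 (hzc z hz)
  rw [hβt, ← hi, map_zpow, htx, ← zpow_mul, ← zpow_mul, mul_comm]

/-- An abelian pearl has `p = 3` or `p = 7`. -/
theorem pearl_large (hs : Setup p F) (hE : F.IsEssential p E) (hcard : Nat.card E = p ^ 2)
    (hexp : ∀ y ∈ E, y ^ p = 1) (hp3 : p ≠ 3) (hp7 : p ≠ 7) : False := by
  have hp := (Fact.out : p.Prime)
  have h2 : (2 : ZMod p) ≠ 0 := fun e => hs.odd ((Nat.prime_dvd_prime_iff_eq hp Nat.prime_two).1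
    ((ZMod.natCast_eq_zero_iff 2 p).1 (by exact_mod_cast e)))
  obtain ⟨b, hb⟩ : ∃ b : ℤ, ((2 : ℤ) : ZMod p) * b = 1 :=
    ⟨(((2 : ZMod p)⁻¹).val : ℤ), by push_cast; rw [ZMod.natCast_zmod_val, mul_inv_cancel₀ h2]⟩
  set N₁ := normalizerIn S E with hN₁
  obtain ⟨y, hsm, hE0, β₁, hβ₁, hβE, hβy, hβz⟩ := pearl_torus hs hE hcard hexp hb
  have hES := hE.1.1
  set Y := inc hES y with hY
  have hEN : E ≤ N₁ := le_normalizerIn hES
  have hN₁S : N₁ ≤ S := inf_le_left
  haveI := finite_of_le hES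
  haveI := finite_of_le hN₁S
  haveI := gam_normal (G := S) 2
  haveI := gam_normal (G := S) 3
  haveI := gam_normal (G := S) 4
  set N₀ := N₁.subgroupOf S
  have hYE : Y ∈ E.subgroupOf S := inc_mem hES y
  have hEc : Nat.card (E.subgroupOf S) = p ^ 2 := (card_subgroupOf hES).trans hcard
  have hz4 : gam S 4 ≤ E.subgroupOf S := fun z hz => by
    rw [hE0, mem_centralizer_singleton_iff]
    exact (commutatorElement_eq_one_iff_mul_comm.1
      (CfsgLib.PGroup.OrderFifth.gam_four_central hsm Y hz)).symm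
  have hYg : Y ∉ gam S 2 := hsm.notMem_gam
  have h32 : gam S 3 ≤ gam S 2 := gam_anti (by norm_num)
  -- `N₁ = ⟨y⟩ γ₃`
  have hmemN : ∀ w : S, (∀ e ∈ E.subgroupOf S, ⁅w, e⁆ ∈ E.subgroupOf S) → w ∈ N₀ := fun w hw => by
    refine ⟨w.2, conjBy_eq_iff.1 (eq_of_le_of_card_le hES (conjBy_le_iff.2 fun e he => ?_) (card_conjBy _ _).ge)⟩
    have h1 := mul_mem (hw ⟨e, hES he⟩ he) (show (⟨e, hES he⟩ : S) ∈ E.subgroupOf S from he)
    rw [commutatorElement_def, inv_mul_cancel_right] at h1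
    exact h1
  have hg3N : gam S 3 ≤ N₀ := fun w hw => hmemN w fun e _ =>
    hz4 (gam_comm (a := 3) (b := 1) (by norm_num) le_rfl hw (mem_top e))
  have hYN : Y ∈ N₀ := hEN y.2
  have hNc : Nat.card N₀ = p ^ 3 := by
    refine le_antisymm ?_ ?_
    · have hCE : centralizerIn S E = E := le_antisymm (centralizerIn_le_of_isCentric hE.1)
        (le_inf hES fun x hx => by
          haveI : IsMulCommutative E := IsPGroup.isMulCommutative_of_card_eq_prime_sq hcard
          exact mem_centralizer_iff.2 fun w hw =>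
            congrArg Subtype.val (mul_comm' (⟨w, hw⟩ : E) ⟨x, hx⟩))
      -- `Aut_S(E)` is determined by the image of `y`
      let f : autInducedBy S E → gam S 4 := fun q => ⟨inc hES (y⁻¹ * (q : MulAut E) y), by
        obtain ⟨m, hmS, hm⟩ := mem_autInducedBy_iff.1 q.2
        set w := inc hES (y⁻¹ * (q : MulAut E) y)
        have hwE : w ∈ centralizer ({Y} : Set S) := hE0 ▸ inc_mem hES _
        have he : w = ⁅Y⁻¹, ⟨m, hmS⟩⁆ := Subtype.ext (by
          show (y : Ω)⁻¹ * (((q : MulAut E) y : E) : Ω) = (y : Ω)⁻¹ * m * (y : Ω)⁻¹⁻¹ * m⁻¹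
          rw [← autFun_coe, hm y y.2]; group)
        have hw2 : w ∈ gam S 2 := he ▸ gam_comm (a := 1) (b := 1) le_rfl le_rfl (mem_top _) (mem_top _)
        exact hsm.inf_centralizer.le ⟨hwE, hw2⟩⟩
      have hf : Function.Injective f := by
        intro q q' e
        have e1 : (q : MulAut E) y = (q' : MulAut E) y := mul_left_cancel
          (inclusion_injective hES (congrArg Subtype.val e))
        refine Subtype.ext (MulEquiv.ext fun r => ?_)
        obtain ⟨m, hmS, hm⟩ := mem_autInducedBy_iff.1 q.2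
        obtain ⟨m', hmS', hm'⟩ := mem_autInducedBy_iff.1 q'.2
        have hd : (⟨m', hmS'⟩⁻¹ * ⟨m, hmS⟩ : S) ∈ centralizer ({Y} : Set S) := by
          rw [mem_centralizer_singleton_iff]
          have e2 := congrArg Subtype.val e1
          rw [← autFun_coe, ← autFun_coe, hm y y.2, hm' y y.2] at e2
          refine Subtype.ext ?_
          show m'⁻¹ * m * (y : Ω) = (y : Ω) * (m'⁻¹ * m)
          calc m'⁻¹ * m * (y : Ω) = m'⁻¹ * (m * (y : Ω) * m⁻¹) * m := by group
            _ = (y : Ω) * (m'⁻¹ * m) := by rw [e2]; group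
        rw [← hE0] at hd
        haveI : IsMulCommutative E := IsPGroup.isMulCommutative_of_card_eq_prime_sq hcard
        refine Subtype.ext ?_
        rw [← autFun_coe, ← autFun_coe, hm r r.2, hm' r r.2]
        have hc : Commute (m'⁻¹ * m) (r : Ω) := congrArg Subtype.val (mul_comm' (⟨_, hd⟩ : E) r)
        calc m * (r : Ω) * m⁻¹ = m' * (m'⁻¹ * m * (r : Ω)) * m⁻¹ := by group
          _ = m' * ((r : Ω) * (m'⁻¹ * m)) * m⁻¹ := by rw [hc.eq]
          _ = m' * (r : Ω) * m'⁻¹ := by group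
      have hQ : Nat.card (autInducedBy S E) ≤ p := by
        refine (Nat.card_le_card_of_injective f hf).trans ?_
        rw [hsm.card_gam (k := 4) (by norm_num) (by norm_num)]
        norm_num
      rw [card_subgroupOf hN₁S, hN₁, ← card_autInducedBy_mul, hCE, hcard, pow_succ' p 2]
      exact Nat.mul_le_mul_right _ hQ
    · have hlt : gam S 3 < N₀ := lt_of_le_of_ne hg3N fun e => hYg (h32 (e.ge hYN))
      have h1 := CfsgLib.MaxClassCube.mul_card_le hs.isP hlt
      rwa [hsm.card_gam (k := 3) (by norm_num) (by norm_num), ← pow_succ'] at h1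
  have hN3 : Nat.card N₀ = p * Nat.card (gam S 3) := by
    rw [hNc, hsm.card_gam (k := 3) (by norm_num) (by norm_num), show 5 - 3 = 2 from rfl, ← pow_succ']
  obtain ⟨-, hgenN⟩ := gen_step hg3N hN3 hYN (fun h => hYg (h32 h))
  have hY3 : Y ∉ gam S 3 := fun h => hYg (h32 h)
  -- commutators in `N₁`
  have hNcomm : ∀ u ∈ N₀, ∀ v ∈ N₀, ⁅u, v⁆ ∈ gam S 4 := by
    intro u hu v hv
    set π := QuotientGroup.mk' (gam S 4)
    have c3 : ∀ w ∈ gam S 3, ∀ r : S, Commute (π w) (π r) := fun w hw r =>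
      mk_commute (gam_comm (a := 3) (b := 1) (by norm_num) le_rfl hw (mem_top r))
    obtain ⟨i, hi, -⟩ := hgenN u hu
    obtain ⟨k, hk, -⟩ := hgenN v hv
    have c1 : Commute (π Y) (π v) := by
      have := ((Commute.refl (π Y)).zpow_right k).mul_right (c3 _ hk Y).symm
      rwa [← map_zpow, ← map_mul, mul_inv_cancel_left] at this
    have := (c1.zpow_left i).mul_left (c3 _ hi v)
    rw [← map_zpow, ← map_mul, mul_inv_cancel_left] at this
    rw [← QuotientGroup.eq_one_iff, ← QuotientGroup.mk'_apply, map_commutatorElement]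
    exact commutatorElement_eq_one_iff_commute.2 this
  obtain ⟨y₁, hy₁, hy₁2⟩ := CfsgLib.PGroup.OrderFifth.exists_mem_upK hsm
  obtain ⟨hc2, hc23, -, -, h22, -⟩ := CfsgLib.PGroup.OrderFifth.upK_data hsm hs.noAb hy₁ hy₁2
  set c := ⁅Y, y₁⁆
  have hYc : ⁅Y, c⁆ ∉ gam S 4 := CfsgLib.PGroup.OrderFifth.comm_x_notMem hsm le_rfl (by norm_num) hc2 hc23
  have hg3 : ∃ w ∈ gam S 3, ⁅Y, w⁆ ≠ 1 := by
    refine ⟨⁅Y, c⁆, gam_comm (a := 1) (b := 2) le_rfl (by norm_num) (mem_top _) hc2, fun e => ?_⟩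
    exact CfsgLib.PGroup.OrderFifth.comm_x_notMem hsm (by norm_num) le_rfl
      (gam_comm (a := 1) (b := 2) le_rfl (by norm_num) (mem_top _) hc2) hYc (by rw [e]; exact one_mem _)
  have hzen : ∀ r : S, r ∈ zen N₀ ↔ r ∈ gam S 4 := by
    intro r
    constructor
    · rintro ⟨hr, hrc⟩
      have hrE : r ∈ centralizer ({Y} : Set S) :=
        mem_centralizer_singleton_iff.2 (mem_centralizer_iff.1 hrc Y hYN).symm
      have hcY : Y ∉ zen N₀ := fun h => by
        obtain ⟨w, hw, hne⟩ := hg3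
        exact hne (commutatorElement_eq_one_iff_mul_comm.2
          (mem_centralizer_iff.1 h.2 w (hg3N hw)).symm)
      by_contra hr4
      refine hcY ?_
      have hE4 : Nat.card (E.subgroupOf S) = p * Nat.card (gam S 4) := by
        rw [hEc, hsm.card_gam (k := 4) (by norm_num) (by norm_num)]; norm_num [pow_two]
      obtain ⟨j, hj, -⟩ := (gen_step hz4 hE4 (hE0 ▸ hrE) hr4).2 Y hYE
      have h4z : gam S 4 ≤ zen N₀ := fun w hw => ⟨hg3N (gam_anti (by norm_num) hw),
        mem_centralizer_iff.2 fun v _ => commutatorElement_eq_one_iff_mul_comm.1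
          (CfsgLib.PGroup.OrderFifth.gam_four_central hsm v hw)⟩
      have := mul_mem (zpow_mem (show r ∈ zen N₀ from ⟨hr, hrc⟩) j) (h4z hj)
      rwa [mul_inv_cancel_left] at this
    · intro hr
      exact ⟨hg3N (gam_anti (by norm_num) hr), mem_centralizer_iff.2 fun v _ =>
        commutatorElement_eq_one_iff_mul_comm.1 (CfsgLib.PGroup.OrderFifth.gam_four_central hsm v hr)⟩
  -- the second normalizer
  set M₀ : Subgroup S := zpowers Y ⊔ gam S 2 with hM₀
  set M₁ : Subgroup Ω := M₀.map S.subtype with hM₁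
  have hM₁S : M₁ ≤ S := map_subtype_le _
  have hM₁0 : M₁.subgroupOf S = M₀ := comap_map_eq_self_of_injective S.subtype_injective M₀
  haveI := finite_of_le hM₁S
  have hg3M : gam S 2 ≤ M₀ := le_sup_right
  have hYM : Y ∈ M₀ := mem_sup_left (mem_zpowers Y)
  have hM4 : Nat.card M₀ = p ^ 4 := by
    refine le_antisymm ?_ ?_
    · have hlt : M₀ < ⊤ := lt_top_iff_ne_top.2 fun e => by
        obtain ⟨j, w, hw, e1⟩ : ∃ (j : ℤ) (w : S), w ∈ gam S 2 ∧ y₁ = Y ^ j * w := by
          obtain ⟨u, hu, w, hw, e1⟩ := mem_sup_of_normal_right.1 (e.ge (mem_top y₁))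
          obtain ⟨j, rfl⟩ := mem_zpowers_iff.1 hu
          exact ⟨j, w, hw, e1.symm⟩
        have hj : Y ^ j ∈ upK S := by
          have := mul_mem hy₁ (inv_mem (CfsgLib.PGroup.OrderFifth.gam_two_le_upK hsm hw))
          rwa [e1, mul_inv_cancel_right] at this
        by_cases hj0 : (j : ZMod p) = 0
        · refine hy₁2 ?_
          rw [e1, zpow_congr hsm.pow (s := 0) (by simpa using hj0), zpow_zero, one_mul]
          exact hw
        · refine CfsgLib.PGroup.OrderFifth.x_notMem_upK hsm ?_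
          have := zpow_mem hj (((j : ZMod p)⁻¹).val : ℤ)
          rwa [← zpow_mul, zpow_congr hsm.pow (s := 1) (by
            push_cast; rw [ZMod.natCast_zmod_val, mul_inv_cancel₀ hj0]), zpow_one] at this
      exact CfsgLib.PGroup.OrderFifth.card_normal_sub hs.isP hlt (by rw [card_top, hs.card])
    · have hlt : gam S 2 < M₀ := lt_of_le_of_ne hg3M fun e => hYg (e.ge hYM)
      have h1 := CfsgLib.MaxClassCube.mul_card_le hs.isP hlt
      rwa [hsm.card_gam (k := 2) le_rfl (by norm_num), ← pow_succ'] at h1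
  have hM2 : Nat.card M₀ = p * Nat.card (gam S 2) := by
    rw [hM4, hsm.card_gam (k := 2) le_rfl (by norm_num), show 5 - 2 = 3 from rfl, ← pow_succ']
  haveI hM₁n : (M₁.subgroupOf S).Normal := hM₁0 ▸ normal_of_card_four hs hM4
  have hNM : N₀ ≤ M₀ := fun u hu => by
    obtain ⟨i, hi, -⟩ := hgenN u hu
    have := mul_mem (zpow_mem hYM i) (hg3M (h32 hi))
    rwa [mul_inv_cancel_left] at this
  have hNM₁ : N₁ ≤ M₁ := fun w hw => ⟨⟨w, hN₁S hw⟩, hNM hw, rfl⟩
  have hnn : ∀ w ∈ M₀, (w : Ω) ∈ normalizer (N₁ : Set Ω) := by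
    suffices h : M₀ ≤ (normalizer (N₁ : Set Ω)).subgroupOf S from fun w hw => h hw
    refine sup_le (zpowers_le.2 (le_normalizer (show (Y : Ω) ∈ N₁ from hYN))) fun w hw => ?_
    refine conjBy_eq_iff.1 (eq_of_le_of_card_le hN₁S (conjBy_le_iff.2 fun e he => ?_) (card_conjBy _ _).ge)
    have h1 := mul_mem (hg3N (gam_comm (a := 2) (b := 1) (by norm_num) le_rfl hw (mem_top ⟨e, hN₁S he⟩)))
      (show (⟨e, hN₁S he⟩ : S) ∈ N₀ from he)
    rw [commutatorElement_def, inv_mul_cancel_right] at h1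
    exact h1
  have hsN : normalizerIn S N₁ = M₁ := by
    refine le_antisymm (fun w hw => ?_) ?_
    · by_contra hwM
      have hlt : M₀ < (normalizerIn S N₁).subgroupOf S := lt_of_le_of_ne
        (fun v hv => ⟨v.2, hnn v hv⟩) fun e => hwM ⟨⟨w, hw.1⟩, e.ge hw, rfl⟩
      have h1 := CfsgLib.MaxClassCube.mul_card_le hs.isP hlt
      rw [hM4, ← pow_succ', ← hs.card, ← card_top] at h1
      have htop := eq_of_le_of_card_ge le_top h1
      -- then `N₁` would be normal
      obtain ⟨k, hk⟩ := hsm.exists_conj hc2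
      have hkN : k * Y * k⁻¹ ∈ N₀ := by
        have hn' := (htop.ge (mem_top k)).2
        exact (mem_normalizer_iff.1 hn' (Y : Ω)).1 hYN
      rw [hk] at hkN
      have hcN : c ∈ N₀ := (Subgroup.mul_mem_cancel_right _ hYN).1 hkN
      exact hYc (hNcomm Y hYN c hcN)
    · rintro _ ⟨v, hv, rfl⟩
      exact ⟨v.2, hnn v hv⟩
  have hN₁fn : F.IsFullyNormalized N₁ := by
    refine ⟨hN₁S, fun R hR => ?_⟩
    rw [hsN, hM₁, card_map_of_injective S.subtype_injective, hM4]
    by_contra hcon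
    have hRS : R ≤ S := (isConj_le hR).2
    have hle : Nat.card ((normalizerIn S R).subgroupOf S) ≤ p ^ 5 :=
      hs.card ▸ card_le_card_group _
    have hfull : (normalizerIn S R).subgroupOf S = ⊤ := by
      refine eq_top_of_le_card _ ?_
      rw [hs.card]
      obtain ⟨k, hk⟩ := (hs.isP.to_subgroup ((normalizerIn S R).subgroupOf S)).exists_card_eq
      rw [card_subgroupOf (P := normalizerIn S R) inf_le_left] at hk ⊢
      rw [hk] at hcon ⊢
      have := (Nat.pow_lt_pow_iff_right hp.one_lt).1 (not_le.1 hcon)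
      exact Nat.pow_le_pow_right hp.pos this
    haveI hRn : (R.subgroupOf S).Normal := (normal_subgroupOf_iff_le_normalizer hRS).2
      fun w hw => (hfull.ge (mem_top (⟨w, hw⟩ : S))).2
    have hR3 : Nat.card (R.subgroupOf S) = p ^ 3 := by
      rw [card_subgroupOf hRS, isConj_card hR, ← card_subgroupOf hN₁S, hNc]
    have hq : Nat.card (S ⧸ R.subgroupOf S) = p ^ 2 := by
      have e := (R.subgroupOf S).card_mul_index
      rw [hR3, hs.card, index_eq_card, show p ^ 5 = p ^ 3 * p ^ 2 by ring] at e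
      exact Nat.eq_of_mul_eq_mul_left (pow_pos hp.pos 3) e
    have hle2 : gam S 2 ≤ R.subgroupOf S := by
      show ⁅(⊤ : Subgroup S), ⊤⁆ ≤ _
      refine commutator_le.2 fun u _ v _ => ?_
      rw [← QuotientGroup.eq_one_iff, ← QuotientGroup.mk'_apply, map_commutatorElement,
        commutatorElement_eq_one_iff_mul_comm]
      exact IsPGroup.commutative_of_card_eq_prime_sq hq _ _
    have heq : gam S 2 = R.subgroupOf S := eq_of_le_of_card_ge hle2 (by
      rw [hR3, hsm.card_gam (k := 2) le_rfl (by norm_num)])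
    obtain ⟨f, hf, hfR⟩ := isConj_iff.1 hR
    obtain ⟨w, hw, hne⟩ := hg3
    refine hne (commutatorElement_eq_one_iff_mul_comm.2 ?_)
    have hYN' : (Y : Ω) ∈ N₁ := hYN
    have hwN : (w : Ω) ∈ N₁ := hg3N hw
    have hm1 : f (Y : Ω) ∈ R := hfR.le (hf.mem_img.2 ⟨_, hYN', rfl⟩)
    have hm2 : f (w : Ω) ∈ R := hfR.le (hf.mem_img.2 ⟨_, hwN, rfl⟩)
    have hc' := congrArg Subtype.val (h22 ⟨_, hRS hm1⟩ (heq.ge hm1) ⟨_, hRS hm2⟩ (heq.ge hm2))
    refine Subtype.ext (hf.inj (mul_mem hYN' hwN) (mul_mem hwN hYN') ?_)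
    show f ((Y : Ω) * w) = f ((w : Ω) * Y)
    rw [hf.map_mul hYN' hwN, hf.map_mul hwN hYN']
    exact hc'
  -- first step
  have eC₁ : center N₁ = (gam S 4).comap (inc hN₁S) := by
    rw [center_eq_pull hN₁S]
    ext r
    exact hzen _
  have h4N : gam S 4 ≤ N₀ := fun w hw => hg3N (gam_anti (by norm_num) hw)
  have hsec₁ : Sec p (F.autGroup N₁) (center N₁) ⊥ := by
    refine ⟨bot_le, inferInstance, ?_, fun α _ r hr =>
      (characteristic_iff_le_comap.1 (inferInstance : (center N₁).Characteristic) α) hr, inv_bot⟩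
    rw [eC₁, card_pull hN₁S h4N, hsm.card_gam (k := 4) (by norm_num) (by norm_num), card_bot]
    norm_num
  have hpl₁ : Plane p (F.autGroup N₁) (autInducedBy S N₁) (center N₁) ((gam S 3).comap (inc hN₁S)) := by
    refine ⟨autInducedBy_le_autGroup hN₁S, isPGroup_autInducedBy hs.isP,
      sylow_autGroup hs.isP hs.sat hN₁fn, inferInstance, fun u v => ?_, hsec₁.invU, ?_, ?_, ?_,
      fun q hq r hr => ?_, ?_⟩
    · rw [eC₁, mem_pull, map_commutatorElement]
      exact hNcomm _ (inc_mem hN₁S u) _ (inc_mem hN₁S v)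
    · rw [eC₁]; exact comap_mono (gam_anti (by norm_num))
    · rw [eC₁, card_pull hN₁S hg3N, card_pull hN₁S h4N, hsm.card_gam (k := 3) (by norm_num) (by norm_num),
        hsm.card_gam (k := 4) (by norm_num) (by norm_num), ← pow_succ']
    · rw [card_pull hN₁S hg3N, ← card_subgroupOf hN₁S, hN3]
    · obtain ⟨s, hsS, hq'⟩ := mem_autInducedBy_iff.1 hq
      rw [mem_pull] at hr ⊢
      have e : inc hN₁S (q r) = ⟨s, hsS⟩ * inc hN₁S r * ⟨s, hsS⟩⁻¹ := Subtype.ext (by
        show ((q r : N₁) : Ω) = s * (r : Ω) * s⁻¹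
        rw [← autFun_coe, hq' r r.2])
      rw [e]
      exact (gam_normal (G := S) 3).conj_mem _ hr _
    · have hcn : (c : Ω) ∈ normalizer (N₁ : Set Ω) := hnn c (hg3M hc2)
      refine ⟨conjAut (c : Ω) hcn, conjAut_mem c.2 hcn, inclusion hEN y, fun hmem => hYc ?_⟩
      rw [eC₁, mem_pull, map_mul, map_inv, conjAut_inc] at hmem
      have h := inv_mem ((gam_normal (G := S) 4).conj_mem _ hmem Y)
      have e : ⁅Y, c⁆ = (Y * (Y⁻¹ * (c * Y * c⁻¹)) * Y⁻¹)⁻¹ := by
        rw [commutatorElement_def]; group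
      rw [e]; exact h
  obtain ⟨β₂, hβ₂, hβ₂L, hβ₂N, hβ₂s⟩ := lift hs hN₁fn hsN hNM₁ hpl₁
    (L := (E.subgroupOf S).comap (inc hN₁S)) (by rw [eC₁]; exact comap_mono hz4)
    (by rw [card_pull hN₁S (fun w hw => hEN hw), card_pull hN₁S hg3N, hEc,
      hsm.card_gam (k := 3) (by norm_num) (by norm_num)])
    (fun e => hY3 (e.le (show inclusion hEN y ∈ (E.subgroupOf S).comap (inc hN₁S) from hYE)))
    hβ₁ (fun r hr => by
      obtain ⟨e', he'⟩ := hβE ⟨r, hr⟩
      rw [show β₁ r = inclusion hEN e' from he']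
      exact e'.2)
  -- second step
  set M' := M₁.subgroupOf S with hM'
  have hgM : gam S 2 ≤ M' := hM₁0 ▸ hg3M
  have hg3M' : gam S 3 ≤ M' := h32.trans hgM
  obtain ⟨hM₁fn, hM₁N⟩ := isFullyNormalized_of_normal (F := F) hM₁S
  obtain ⟨-, hgenM⟩ := gen_step hgM (hM₁0 ▸ hM2) (hM₁0 ▸ hYM) hYg
  have hder : ⁅M', M'⁆ = gam S 3 := by
    refine eq_of_le_of_card_ge (commutator_le.2 fun u hu v hv => ?_) ?_
    · set π := QuotientGroup.mk' (gam S 3)
      have c2' : ∀ w ∈ gam S 2, ∀ r : S, Commute (π w) (π r) := fun w hw r =>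
        mk_commute (gam_comm (a := 2) (b := 1) (by norm_num) le_rfl hw (mem_top r))
      obtain ⟨i, hi, -⟩ := hgenM u hu
      obtain ⟨k, hk, -⟩ := hgenM v hv
      have c1 : Commute (π Y) (π v) := by
        have := ((Commute.refl (π Y)).zpow_right k).mul_right (c2' _ hk Y).symm
        rwa [← map_zpow, ← map_mul, mul_inv_cancel_left] at this
      have := (c1.zpow_left i).mul_left (c2' _ hi v)
      rw [← map_zpow, ← map_mul, mul_inv_cancel_left] at this
      rw [← QuotientGroup.eq_one_iff, ← QuotientGroup.mk'_apply, map_commutatorElement]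
      exact commutatorElement_eq_one_iff_commute.2 this
    · have hw1 : ⁅Y, c⁆ ∈ ⁅M', M'⁆ := commutator_mem_commutator (hM₁0 ▸ hYM) (hgM hc2)
      have hd1 : ⁅Y, c⁆ ∈ gam S 3 := gam_comm (a := 1) (b := 2) le_rfl (by norm_num) (mem_top _) hc2
      have hz : ⁅Y, ⁅Y, c⁆⁆ ∈ ⁅M', M'⁆ := commutator_mem_commutator (hM₁0 ▸ hYM) (hg3M' hd1)
      have hz4' : ⁅Y, ⁅Y, c⁆⁆ ∈ gam S 4 :=
        gam_comm (a := 1) (b := 3) le_rfl (by norm_num) (mem_top _) hd1
      have hz1 : ⁅Y, ⁅Y, c⁆⁆ ∉ gam S 5 :=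
        CfsgLib.PGroup.OrderFifth.comm_x_notMem hsm (by norm_num) le_rfl hd1 hYc
      obtain ⟨-, hg4⟩ := gen_step (gam_anti (G := S) (show 4 ≤ 5 by norm_num))
        (CfsgLib.PGroup.OrderFifth.step_gam hsm (by norm_num) le_rfl) hz4' hz1
      obtain ⟨-, hg3'⟩ := gen_step (gam_anti (G := S) (show 3 ≤ 4 by norm_num))
        (CfsgLib.PGroup.OrderFifth.step_gam hsm (by norm_num) (by norm_num)) hd1 hYc
      refine Subgroup.card_le_of_le fun w hw => ?_
      obtain ⟨i, hi, -⟩ := hg3' w hw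
      obtain ⟨k, hk, -⟩ := hg4 _ hi
      rw [hsm.gam_eq_bot le_rfl, mem_bot, inv_mul_eq_one] at hk
      rw [← mul_inv_cancel_left (⁅Y, c⁆ ^ i) w, ← hk]
      exact mul_mem (zpow_mem hw1 i) (zpow_mem hz k)
  have eD : commutator M₁ = (gam S 3).comap (inc hM₁S) := by rw [commutator_eq_pull hM₁S, hder]
  have hzenM : ∀ r : S, r ∈ zen M' → r ∈ gam S 4 := fun r hr => by
    obtain ⟨j, hj, -⟩ := hgenM r hr.1
    have hrY : r ∈ centralizer ({Y} : Set S) :=
      mem_centralizer_singleton_iff.2 (mem_centralizer_iff.1 hr.2 Y (hM₁0 ▸ hYM)).symm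
    -- commutes with `γ₂`
    by_cases hj0 : (j : ZMod p) = 0
    · rw [zpow_congr hsm.pow (s := 0) (by simpa using hj0), zpow_zero, inv_one, one_mul] at hj
      exact hsm.inf_centralizer.le ⟨hrY, hj⟩
    · exfalso
      refine hYc ?_
      have c1 : Commute c (Y ^ j) := by
        have h1 : Commute c r := mem_centralizer_iff.1 hr.2 c (hgM hc2)
        have h2 : Commute c ((Y ^ j)⁻¹ * r) := h22 c hc2 _ hj
        have := h1.mul_right h2.inv_right
        rwa [mul_inv_rev, mul_inv_cancel_left, inv_inv] at this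
      have h1 := c1.zpow_right (((j : ZMod p)⁻¹).val : ℤ)
      rw [← zpow_mul, zpow_congr hsm.pow (s := 1) (by
        push_cast; rw [ZMod.natCast_zmod_val, mul_inv_cancel₀ hj0]), zpow_one] at h1
      rw [commutatorElement_eq_one_iff_mul_comm.2 h1.symm.eq]
      exact one_mem _
  have eC₂ : center M₁ = (gam S 4).comap (inc hM₁S) := by
    rw [center_eq_pull hM₁S]
    ext r
    refine ⟨hzenM _, fun hr => ⟨inc_mem hM₁S r, mem_centralizer_iff.2 fun v _ => ?_⟩⟩
    exact commutatorElement_eq_one_iff_mul_comm.1 (CfsgLib.PGroup.OrderFifth.gam_four_central hsm v hr)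
  have h4M : gam S 4 ≤ M' := (gam_anti (show 3 ≤ 4 by norm_num)).trans hg3M'
  have hsec₂ : Sec p (F.autGroup M₁) (center M₁) ⊥ := by
    refine ⟨bot_le, inferInstance, ?_, fun α _ r hr =>
      (characteristic_iff_le_comap.1 (inferInstance : (center M₁).Characteristic) α) hr, inv_bot⟩
    rw [eC₂, card_pull hM₁S h4M, hsm.card_gam (k := 4) (by norm_num) (by norm_num), card_bot]
    norm_num
  have hpl₂ : Plane p (F.autGroup M₁) (autInducedBy S M₁) (commutator M₁) ((gam S 2).comap (inc hM₁S)) := by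
    refine ⟨autInducedBy_le_autGroup hM₁S, isPGroup_autInducedBy hs.isP,
      sylow_autGroup hs.isP hs.sat hM₁fn, inferInstance,
      fun u v => _root_.commutator_def M₁ ▸ commutator_mem_commutator (mem_top u) (mem_top v),
      fun α _ r hr => (characteristic_iff_le_comap.1 (inferInstance : (commutator M₁).Characteristic) α) hr,
      ?_, ?_, ?_, fun q hq r hr => ?_, ?_⟩
    · rw [eD]; exact comap_mono h32
    · rw [eD, card_pull hM₁S hgM, card_pull hM₁S hg3M', hsm.card_gam (k := 2) le_rfl (by norm_num),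
        hsm.card_gam (k := 3) (by norm_num) (by norm_num), ← pow_succ']
    · rw [card_pull hM₁S hgM, ← card_subgroupOf hM₁S]
      exact (congrArg (fun A : Subgroup S => Nat.card A) hM₁0).trans hM2
    · obtain ⟨s, hsS, hq'⟩ := mem_autInducedBy_iff.1 hq
      rw [mem_pull] at hr ⊢
      have e : inc hM₁S (q r) = ⟨s, hsS⟩ * inc hM₁S r * ⟨s, hsS⟩⁻¹ := Subtype.ext (by
        show ((q r : M₁) : Ω) = s * (r : Ω) * s⁻¹
        rw [← autFun_coe, hq' r r.2])
      rw [e]
      exact (gam_normal (G := S) 2).conj_mem _ hr _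
    · have hyn : (y₁ : Ω) ∈ normalizer (M₁ : Set Ω) := (hM₁N.ge y₁.2).2
      refine ⟨conjAut (y₁ : Ω) hyn, conjAut_mem y₁.2 hyn, inclusion hNM₁ (inclusion hEN y), fun hmem => hc23 ?_⟩
      rw [eD, mem_pull, map_mul, map_inv, conjAut_inc] at hmem
      have h := inv_mem ((gam_normal (G := S) 3).conj_mem _ hmem Y)
      have e : ⁅Y, y₁⁆ = (Y * (Y⁻¹ * (y₁ * Y * y₁⁻¹)) * Y⁻¹)⁻¹ := by
        rw [commutatorElement_def]; group
      show ⁅Y, y₁⁆ ∈ gam S 3
      rw [e]; exact h
  obtain ⟨γ, -, hγL, -, hγs⟩ := lift hs hM₁fn hM₁N hM₁S hpl₂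
    (L := N₀.comap (inc hM₁S)) (by rw [eD]; exact comap_mono hg3N)
    (by rw [card_pull hM₁S (hNM.trans hM₁0.ge), card_pull hM₁S hgM, hNc, hsm.card_gam (k := 2) le_rfl (by norm_num)])
    (fun e => hYg (e.le (show inclusion hNM₁ (inclusion hEN y) ∈ N₀.comap (inc hM₁S) from hYN)))
    hβ₂ (fun r hr => by
      obtain ⟨c', e⟩ := hβ₂N ⟨r, hr⟩
      rw [show β₂ r = inclusion hNM₁ c' from e]
      exact c'.2)
  refine CfsgLib.PGroup.OrderFifth.no_torus hsm hs.noAb γ (a := 2) (b := b) (by push_cast; rfl) hb ?_ ?_ hp3 hp7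
  · obtain ⟨d₂, hd₂, e₂⟩ := hβ₂L (inclusion hEN y) hYE
    obtain ⟨d₃, hd₃, e₃⟩ := hγL (inclusion hNM₁ (inclusion hEN y)) hYN
    rw [e₂, hβy] at e₃
    have e4 : γ Y = Y ^ (2 : ℤ) * (inc hN₁S d₂ * inc hM₁S d₃) := by
      refine e₃.trans ?_
      refine Subtype.ext ?_
      simp [mul_assoc, hY]
    rw [e4, inv_mul_cancel_left]
    exact CfsgLib.PGroup.OrderFifth.gam_two_le_upK hsm (mul_mem (h32 hd₂) hd₃)
  · intro z hz
    obtain ⟨z', rfl⟩ := exists_inc hES (hz4 hz)
    obtain ⟨d₂, hd₂, e₂⟩ := hβ₂s _ _ hsec₁ (inclusion hEN z') (eC₁.ge hz)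
    obtain ⟨d₃, hd₃, e₃⟩ := hγs _ _ hsec₂ (inclusion hNM₁ (inclusion hEN z')) (eC₂.ge hz)
    rw [mem_bot.1 hd₂, mul_one, hβz z' hz] at e₂
    rw [mem_bot.1 hd₃, mul_one, e₂] at e₃
    refine e₃.trans ?_
    refine Subtype.ext ?_
    simp

end CfsgLib.Fusion.OrderFifth
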