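import Cfsg.Agent.Lib.Fusion.System.OrderFifthPearl

/-!
# Pearls modulo a subgroup on whose quotient the maps of their normalizers are trivial
-/

set_option autoImplicit false
set_option linter.style.haveILetI false
set_option linter.unusedSectionVars false

open Subgroup
open scoped Classical commutatorElement

namespace CfsgLib.Fusion.OrderFifth

open Cfsg (FusionSystem autInducedBy)
open Cfsg.FusionSystem (normalizerIn centralizerIn)
open CfsgLib.Fusion.LineTorus (Inv Sec Plane inv_bot inv_top pGen_le)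
open CfsgLib.PGroup.OrderFifth (gen_step)

universe u

variable {Ω : Type u} [Group Ω] {S : Subgroup Ω} [Finite S] {p : ℕ} [Fact p.Prime]
  {F : FusionSystem S} {E K : Subgroup Ω}

theorem mem_of_sq_mem (hs : Setup p F) {y : Ω} (hyS : y ∈ S) (h : y ^ 2 ∈ K) : y ∈ K := by
  obtain ⟨n, hn⟩ : Odd (p ^ 5) := ((Fact.out : p.Prime).odd_of_ne_two hs.odd).pow
  have h1 := pow_mem h (n + 1)
  have h2 := pow_card_eq_one' (x := (⟨y, hyS⟩ : S))
  rw [hs.card] at h2
  rwa [← pow_mul, show 2 * (n + 1) = p ^ 5 + 1 by omega, pow_succ,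
    show y ^ p ^ 5 = 1 from congrArg Subtype.val h2, one_mul] at h1

theorem autGroup_le_of_le (hle : E ≤ K) : F.autGroup E ≤ fixGroup K E :=
  fun a _ x => mul_mem (inv_mem (hle x.2)) (hle (a x).2)

/-- An abelian pearl. -/
theorem pearl_fix (hs : Setup p F) (hE : F.IsEssential p E) (hcard : Nat.card E = p ^ 2)
    (hexp : ∀ y ∈ E, y ^ p = 1) (hK : Covers S K)
    (hfix : F.autGroup (normalizerIn S E) ≤ fixGroup K (normalizerIn S E)) :
    F.autGroup E ≤ fixGroup K E := by
  have hES := hE.1.1
  haveI := finite_of_le hES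
  obtain ⟨y, hsm, hE0, β, hβ, -, hβy, -⟩ :=
    pearl_torus hs hE hcard hexp (a := -1) (b := -1) (by norm_num)
  have h1 := hfix hβ (inclusion (le_normalizerIn hES) y)
  rw [hβy] at h1
  have hyK : (y : Ω) ∈ K := by
    refine mem_of_sq_mem hs (hES y.2) ?_
    have h2 := inv_mem h1
    simpa [pow_two] using h2
  refine autGroup_le_of_le fun w hw => ?_
  -- `E` is generated by `y` and a subgroup of the derived subgroup
  set Y := inc hES y
  have hK2 : ∀ c ∈ CfsgLib.MaxClassShift.gam S 2, (c : Ω) ∈ K := fun c hc => by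
    obtain ⟨g, hg⟩ := hsm.exists_conj hc
    have h2 := hK g g.2 Y Y.2
    have h3 : ((Y : S)⁻¹ * (g * Y * g⁻¹) : S) = (Y : S)⁻¹ * c * Y := by rw [hg]; group
    have h4 : ((Y⁻¹ * c * Y : S) : Ω) ∈ K := h3 ▸ h2
    have h5 := mul_mem (mul_mem hyK h4) (inv_mem hyK)
    simpa [Y, mul_assoc] using h5
  set E₀ := E.subgroupOf S
  have hlt : zpowers Y ≤ E₀ := zpowers_le.2 (inc_mem hES y)
  have hg4 : CfsgLib.MaxClassShift.gam S 4 ≤ E₀ := by
    rw [show E₀ = centralizer ({Y} : Set S) from hE0]
    exact fun z hz => mem_centralizer_singleton_iff.2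
      (commutatorElement_eq_one_iff_mul_comm.1
        (CfsgLib.PGroup.OrderFifth.gam_four_central hsm Y hz)).symm
  haveI := CfsgLib.MaxClassShift.gam_normal (G := S) 4
  obtain ⟨-, hgen⟩ := gen_step (p := p) hg4 (by
    rw [card_subgroupOf hES, hcard, hsm.card_gam (k := 4) (by norm_num) (by norm_num)]
    norm_num [pow_two]) (inc_mem hES y)
    (fun h => hsm.notMem_gam (CfsgLib.MaxClassShift.gam_anti (by norm_num) h))
  obtain ⟨j, hj, -⟩ := hgen (inc hES ⟨w, hw⟩) hw
  have h6 := mul_mem (zpow_mem hyK j) (hK2 _ (CfsgLib.MaxClassShift.gam_anti (by norm_num) hj))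
  simpa [Y] using h6

/-- A nonabelian pearl. -/
theorem extra_fix (hs : Setup p F) (hE : F.IsEssential p E) (hcard : Nat.card E = p ^ 3)
    (hna : ¬ IsMulCommutative E) (hK : Covers S K)
    (hfix : F.autGroup (normalizerIn S E) ≤ fixGroup K (normalizerIn S E)) :
    F.autGroup E ≤ fixGroup K E := by
  have hp := (Fact.out : p.Prime)
  have hES := hE.1.1
  haveI := finite_of_le hES
  haveI := finite_mulAut (P := E)
  set N := normalizerIn S E
  have hEN : E ≤ N := le_normalizerIn hES
  have hNS : N ≤ S := inf_le_left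
  haveI := finite_of_le hNS
  obtain ⟨a, b, hab⟩ : ∃ a b : E, a * b ≠ b * a := by
    by_contra hall
    push Not at hall
    exact hna ⟨⟨hall⟩⟩
  obtain ⟨hZ, hcom, -⟩ := EssentialCube.center_data hcard hab
  have hne : N ≠ E := (lt_normalizerIn hs.isP hES (ne_self_of_isEssential hs.isP hs.sat hE)).ne'
  have hEn : (E.subgroupOf N).Normal := (normal_subgroupOf_iff_le_normalizer hEN).2 inf_le_right
  have hE3 : Nat.card (E.subgroupOf N) = p ^ 3 := by
    rw [Nat.card_congr (subgroupOfEquivOfLe hEN).toEquiv, hcard]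
  obtain ⟨T, hTn, hTE, hTc⟩ := CfsgLib.PGroup.RankFour.exists_normal_card (hs.isP.to_le hNS)
    (A := E.subgroupOf N) 2 (by rw [hE3]; exact Nat.pow_le_pow_right hp.pos (by norm_num))
  set C : Subgroup E := T.comap (inclusion hEN) with hC
  have hCc : Nat.card C = p ^ 2 := by
    have h : C.map (inclusion hEN) = T := map_comap_eq_self fun y hy => ⟨⟨y, hTE hy⟩, Subtype.ext rfl⟩
    rw [← hTc, ← h, card_map_of_injective (inclusion_injective hEN)]
  haveI hCn : C.Normal := hTn.comap _
  have hZC : center E ≤ C := by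
    obtain ⟨w, hw, hwC, hw1⟩ : ∃ w ∈ center E, w ∈ C ∧ w ≠ 1 := by
      haveI : Nontrivial C := Finite.one_lt_card_iff_nontrivial.1
        (by rw [hCc]; exact Nat.one_lt_pow two_ne_zero hp.one_lt)
      obtain ⟨T₁, hT₁n, hT₁le, hT₁c⟩ := CfsgLib.PGroup.RankFour.exists_normal_card
        (hs.isP.to_le hES) (A := C) 1 (by rw [hCc]; exact Nat.pow_le_pow_right hp.pos (by norm_num))
      obtain ⟨w, hw, hw1⟩ := (bot_or_exists_ne_one T₁).resolve_left fun e => by
        rw [e, card_bot, pow_one] at hT₁c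
        exact hp.ne_one hT₁c.symm
      refine ⟨w, mem_center_iff.2 fun g => ?_, hT₁le hw, hw1⟩
      have h1 := CfsgLib.PGroup.OrderFifth.step_comm (p := p) (hs.isP.to_le hES) (U := (⊥ : Subgroup E))
        (V := T₁) bot_le (by rw [hT₁c, card_bot, mul_one, pow_one]) g hw
      rw [mem_bot, commutatorElement_eq_one_iff_mul_comm] at h1
      exact h1
    intro z hz
    have h1 : zpowers w = center E := eq_of_le_of_card_ge (zpowers_le.2 hw) (by
      rw [hZ, Nat.card_zpowers, orderOf_eq_prime (by
        have e := pow_card_eq_one' (x := (⟨w, hw⟩ : center E))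
        rw [hZ] at e
        exact congrArg Subtype.val e) hw1])
    exact zpowers_le.2 hwC (h1.ge hz)
  have hinv : Inv (F.autGroup E) (center E) := fun α _ r hr =>
    (characteristic_iff_le_comap.1 (inferInstance : (center E).Characteristic) α) hr
  have hpl : Plane p (F.autGroup E) (autInducedBy S E) (center E) C := by
    refine ⟨autInducedBy_le_autGroup hES, isPGroup_autInducedBy hs.isP,
      sylow_autGroup hs.isP hs.sat hE.2.1, inferInstance,
      fun u v => hcom ▸ _root_.commutator_def E ▸ commutator_mem_commutator (mem_top u) (mem_top v),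
      hinv, hZC, by rw [hCc, hZ, pow_two], by rw [hcard, hCc, ← pow_succ'], fun q hq r hr => ?_, ?_⟩
    · obtain ⟨s, hsS, hq'⟩ := mem_autInducedBy_iff.1 hq
      have hsN : s ∈ N := ⟨hsS, mem_normalizer_of_autFun hq'⟩
      rw [hC, mem_comap] at hr ⊢
      have e : inclusion hEN (q r) = ⟨s, hsN⟩ * inclusion hEN r * ⟨s, hsN⟩⁻¹ := Subtype.ext (by
        show ((q r : E) : Ω) = s * (r : Ω) * s⁻¹
        rw [← autFun_coe, hq' r r.2])
      rw [e]
      exact hTn.conj_mem _ hr _
    · by_contra hcon
      push Not at hcon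
      have hinvZ : ∀ α ∈ F.autGroup E, ∀ y ∈ (center E).map E.subtype,
          autFun α y ∈ (center E).map E.subtype := by
        rintro α hα _ ⟨r, hr, rfl⟩
        exact ⟨α r, hinv α hα r hr, (autFun_coe α r).symm⟩
      refine hne (le_antisymm (fun s hs' => ?_) hEN)
      refine Pearl.mem_of_stabilize hs.isP hE (L := (center E).map E.subtype)
        (M := (center E).map E.subtype) le_rfl (map_subtype_le _) hinvZ hinvZ hs'.1 ?_ ?_ ?_
      · rintro _ ⟨r, hr, rfl⟩
        refine commutatorElement_eq_one_iff_mul_comm.2 ?_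
        -- the centre has order `p` and is normalized by `s`
        have hq := conjAut_mem (P := E) hs'.1 hs'.2
        have hsec : Sec p (F.autGroup E) (center E) ⊥ :=
          ⟨bot_le, inferInstance, by rw [hZ, card_bot, mul_one], hinv, inv_bot⟩
        have h1 := LineTorus.pGen_fix hsec
          (LineTorus.le_pGen (autInducedBy_le_autGroup hES) (isPGroup_autInducedBy hs.isP) hq) r hr
        rw [mem_bot, inv_mul_eq_one] at h1
        have h2 := congrArg Subtype.val h1
        rw [← autFun_coe, autFun_conjAut hs'.2 r.2] at h2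
        exact (eq_mul_inv_iff_mul_eq.1 h2).symm
      · rintro _ ⟨r, hr, rfl⟩
        have hq := conjAut_mem (P := E) hs'.1 hs'.2
        refine ⟨conjAut s hs'.2 r * r⁻¹, mul_mem (hinv _ (autInducedBy_le_autGroup hES hq) r hr) (inv_mem hr), ?_⟩
        rw [map_mul, map_inv, commutatorElement_def]
        rfl
      · intro y hy
        have hq := conjAut_mem (P := E) hs'.1 hs'.2
        have h1 := (center E).inv_mem (hcon _ hq ⟨y⁻¹, inv_mem hy⟩)
        refine ⟨_, h1, ?_⟩
        show ((((⟨y⁻¹, inv_mem hy⟩ : E))⁻¹ * conjAut s hs'.2 ⟨y⁻¹, inv_mem hy⟩)⁻¹ : E).1 = ⁅s, y⁆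
        rw [Subgroup.coe_inv, Subgroup.coe_mul, ← autFun_coe, autFun_conjAut hs'.2 (inv_mem hy),
          commutatorElement_def, Subgroup.coe_inv]
        group
  obtain ⟨t, ht, hneg, htn, -⟩ := exists_neg_normalizer hs hE hne hpl
    (fun i => if i = 0 then center E else ⊥) 1 rfl rfl
    (fun i => by
      split_ifs
      · exact hinv
      · exact inv_bot)
    (fun i hi => by
      obtain rfl : i = 0 := by omega
      exact ⟨bot_le, inferInstanceAs (⊥ : Subgroup E).Normal,
        by simp [hZ], hinv, inv_bot⟩)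
  have htK := mem_fixGroup_of_extend hs.isP hs.sat hE.2.1 rfl hEN hfix (pGen_le ht) htn
  have hzK : ∀ z ∈ center E, (z : Ω) ∈ K := by
    intro z hz
    have hle : commutator E ≤ K.subgroupOf E := by
      rw [_root_.commutator_def, commutator_le]
      intro u _ v _
      have h := hK v (hES v.2) (u : Ω)⁻¹ (inv_mem (hES u.2))
      rw [mem_subgroupOf]
      simpa [commutatorElement_def, mul_assoc] using h
    exact hle (hcom.ge hz)
  refine autGroup_le_of_le fun w hw => mem_of_sq_mem hs (hES hw) ?_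
  have h1 := hzK _ (hneg ⟨w, hw⟩)
  have h2 := htK ⟨w, hw⟩
  have h3 := mul_mem h1 (inv_mem h2)
  simpa [pow_two, mul_assoc] using h3

end CfsgLib.Fusion.OrderFifth
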