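import Cfsg.Agent.Lib.Fusion.System.OrderFifthCube
import Cfsg.Agent.Lib.Fusion.System.OrderFifthThree
import Cfsg.Agent.Lib.Fusion.System.EssentialFourthClassify

/-!
# Fusion systems on groups of order `p⁵` without an abelian subgroup of index `p`

For `p ≠ 3, 7` the centre of `S` is normal in the system, and for `p = 3` the focal subgroup is
proper.
-/

set_option autoImplicit false
set_option linter.style.haveILetI false
set_option linter.unusedSectionVars false

open Subgroup
open scoped Classical commutatorElement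

namespace CfsgLib.Fusion.OrderFifth

open Cfsg (FusionSystem autInducedBy)
open Cfsg.FusionSystem (normalizerIn centralizerIn)
open CfsgLib.PGroup.OrderFifth (NoAb line)
open CfsgLib.MaxClassShift (gam Small)

universe u

variable {Ω : Type u} [Group Ω] {S : Subgroup Ω} [Finite S] {p : ℕ} [Fact p.Prime]
  {F : FusionSystem S} {E : Subgroup Ω}

/-- The shapes of the essential subgroups. -/
theorem essential_cases (hs : Setup p F) (hE : F.IsEssential p E) :
    (Nat.card E = p ^ 2 ∧ ∀ y ∈ E, y ^ p = 1) ∨ (Nat.card E = p ^ 3 ∧ ¬ IsMulCommutative E) ∨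
      (Nat.card E = p ^ 3 ∧ (∀ a b : E, a * b = b * a) ∧ ∀ a : E, a ^ p = 1) ∨
      (Nat.card E = p ^ 4 ∧ Nat.card (center E) = p ^ 2) := by
  have hpp := (Fact.out : p.Prime)
  have hS := hs.isP
  have hES := hE.1.1
  haveI := finite_of_le hES
  haveI := finite_mulAut (P := E)
  have hEp : IsPGroup p E := hS.to_le hES
  obtain ⟨k, hk⟩ := hEp.exists_card_eq
  have hk4 : k ≤ 4 := by
    by_contra h
    refine ne_self_of_isEssential hS hs.sat hE (eq_of_le_of_card_le le_rfl hES ?_)
    rw [hk, hs.card]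
    exact Nat.pow_le_pow_right hpp.pos (by omega)
  have hk2 : 2 ≤ k := by
    by_contra h
    have h2 : ∀ x : MulAut E, x ^ p = 1 → x = 1 := fun x hx =>
      EssentialFourth.fix_of_card_le hEp
        (by rw [hk]; exact (Nat.pow_le_pow_right hpp.pos (show k ≤ 1 by omega)).trans (pow_one p).le)
        x (k := 1) (by rwa [pow_one])
    obtain ⟨b, hb⟩ := exists_prime_orderOf_dvd_card' (G := F.autGroup E) p
      (EssentialPlane.dvd_card_autGroup hE)
    have h3 : (b : MulAut E) = 1 := h2 _ (by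
      rw [← SubmonoidClass.coe_pow, ← hb, pow_orderOf_eq_one]; rfl)
    rw [show b = 1 from Subtype.ext h3, orderOf_one] at hb
    exact hpp.ne_one hb.symm
  rcases (show k = 2 ∨ k = 3 ∨ k = 4 by omega) with rfl | rfl | rfl
  · exact Or.inl ⟨hk, (EssentialPlane.essential_card_sq hS hE hk).1.2⟩
  · by_cases hc : IsMulCommutative E
    · refine Or.inr (Or.inr (Or.inl ?_))
      refine MaxClassCubeEssential.elementary_of_small hs.odd hS hE ?_
        (by rw [hk]; exact Nat.pow_lt_pow_right hpp.one_lt (by norm_num))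
      rintro (⟨h2, -⟩ | ⟨-, hex, -⟩)
      · rw [hk] at h2
        exact absurd (Nat.pow_right_injective hpp.two_le h2) (by norm_num)
      · have htop : center E = ⊤ := eq_top_iff.2 fun g _ => mem_center_iff.2 fun h => hc.is_comm.comm h g
        have h1 := hex.2
        rw [htop, card_top, hk] at h1
        exact absurd (Nat.pow_right_injective hpp.two_le (h1.trans (pow_one p).symm)) (by norm_num)
    · exact Or.inr (Or.inl ⟨hk, hc⟩)
  · refine Or.inr (Or.inr (Or.inr ⟨hk, ?_⟩))
    obtain ⟨hcore, hidx⟩ := EssentialCube.autGroup_data hS hE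
    have hne := EssentialFourth.center_ne_prime hk _ hcore hidx
    have hge := EssentialFourth.center_card_ge (H := E) hk
    obtain ⟨j, hj⟩ := (hEp.to_subgroup (center E)).exists_card_eq
    rw [hj] at hne hge ⊢
    have hj0 : j ≠ 0 := fun e => by
      rw [e, pow_zero] at hge
      exact absurd hpp.one_lt (not_lt.2 hge)
    have hj1 : j ≠ 1 := fun e => hne (by rw [e, pow_one])
    have hj3 : j ≤ 2 := by
      by_contra hlt
      refine hs.noAb (E.subgroupOf S) ((card_subgroupOf hES).trans hk) fun a ha b hb => ?_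
      obtain ⟨a', rfl⟩ := exists_inc hES ha
      obtain ⟨b', rfl⟩ := exists_inc hES hb
      rw [← map_mul, ← map_mul, EssentialFourth.comm_of_small_quotient hEp (center E) le_rfl
        (by rw [hk, hj, ← pow_succ']; exact Nat.pow_le_pow_right hpp.pos (by omega)) a' b']
    congr 1; omega

theorem ne_bot (hs : Setup p F) : S ≠ ⊥ := fun h => by
  have h1 : Nat.card S = 1 := by rw [h, card_bot]
  rw [hs.card] at h1
  exact absurd h1 (Nat.one_lt_pow (by norm_num) (Fact.out : p.Prime).one_lt).ne'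

/-- The centre is invariant in essential subgroups of order `p⁴` and in nonabelian ones of order
`p³`. -/
theorem center_normal (hs : Setup p F)
    (h : ∀ P, F.IsEssential p P →
      (Nat.card P = p ^ 3 ∧ ¬ IsMulCommutative P) ∨ (Nat.card P = p ^ 4 ∧ Nat.card (center P) = p ^ 2)) :
    F.core ≠ ⊥ := by
  have hp := (Fact.out : p.Prime)
  intro hcore
  set Z := centralizerIn S S with hZ
  have hZS : Z ≤ S := inf_le_left
  haveI := finite_of_le hZS
  refine Pearl.center_card_ne_one hs.isP (ne_bot hs) ?_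
  have hn : F.IsNormal Z := by
    refine isNormal_of_invariant hs.isP hs.sat hZS fun P hP => ?_
    have hPS : P ≤ S := hP.elim (fun e => e.le) fun e => e.1.1
    haveI := finite_of_le hPS
    have hfin : ∀ α ∈ F.autGroup P, Z ≤ P → (∀ z ∈ Z, autFun α z ∈ Z) → img Z (autFun α) = Z :=
      fun α hα hle hinv => by
        have hm := ((mem_autGroup_iff hPS).1 hα).mono hle
        exact eq_of_le_of_card_le hZS (hm.img_le_of_forall hinv) hm.card_img.ge
    rcases hP with hP | hP
    · subst hP
      refine ⟨hZS, fun α hα => hfin α hα hZS fun z hz => ?_⟩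
      refine ⟨autFun_mem α hz.1, mem_centralizer_iff.2 fun w hw => ?_⟩
      obtain ⟨v, hv⟩ := α.surjective ⟨w, hw⟩
      have e : v * ⟨z, hz.1⟩ = ⟨z, hz.1⟩ * v :=
        Subtype.ext (mem_centralizer_iff.1 hz.2 _ v.2)
      have e1 := congrArg α e
      rw [map_mul, map_mul, hv] at e1
      rw [autFun_apply α hz.1]
      exact congrArg Subtype.val e1
    have hZP : Z ≤ P := Pearl.center_le hP
    refine ⟨hZP, fun α hα => hfin α hα hZP ?_⟩
    rcases h P hP with ⟨hc, hna⟩ | ⟨hc, hcc⟩
    · obtain ⟨a, b, hab⟩ : ∃ a b : P, a * b ≠ b * a := by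
        by_contra hall
        push Not at hall
        exact hna ⟨⟨hall⟩⟩
      have hZc := (EssentialCube.center_data hc hab).1
      have heq : Z.subgroupOf P = center P := by
        refine eq_of_le_of_card_ge (fun z hz => mem_center_iff.2 fun w =>
          Subtype.ext (mem_centralizer_iff.1 hz.2 _ (hPS w.2))) ?_
        rw [hZc, Nat.card_congr (subgroupOfEquivOfLe hZP).toEquiv]
        obtain ⟨j, hj⟩ := (hs.isP.to_le hZS).exists_card_eq
        rw [hj]
        refine Nat.le_self_pow (fun e => Pearl.center_card_ne_one hs.isP (ne_bot hs) ?_) p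
        rw [← hZ, hj, e, pow_zero]
      intro z hz
      have h1 : (⟨z, hZP hz⟩ : P) ∈ center P := heq.le (show z ∈ Z from hz)
      have h2 := (characteristic_iff_le_comap.1 (inferInstance : (center P).Characteristic) α) h1
      rw [autFun_apply α (hZP hz)]
      exact heq.ge h2
    · obtain ⟨τ, g, x, hm, hτ, hx, hgx, hgm, -⟩ := fourth hs hP hc hcc
      have hce := hm.center_eq hx hgx hs.noAb hgm
      have hmem : ∀ r : P, (r : Ω) ∈ Z ↔ r ∈ commutator P := fun r => by
        rw [commutator_eq_pull hPS, mem_pull, hτ, ← hce, ← CenterIndex.centralizerIn_subgroupOf,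
          mem_subgroupOf]
        rfl
      intro z hz
      have h1 : (⟨z, hZP hz⟩ : P) ∈ commutator P := (hmem _).1 hz
      have h2 := (characteristic_iff_le_comap.1 (inferInstance : (commutator P).Characteristic) α) h1
      rw [autFun_apply α (hZP hz)]
      exact (hmem _).2 h2
  have h1 : Z ≤ F.core := le_core hn
  rw [hcore, le_bot_iff] at h1
  rw [← hZ, h1, card_bot]

/-- A subgroup of index divisible by `p` modulo which the automorphisms of `S` are trivial. -/
theorem exists_cover (hs : Setup p F) {d : S} (hd : d ∉ commutator S)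
    (hfix : ∀ α : MulAut S, d⁻¹ * α d ∈ commutator S) :
    ∃ K : Subgroup Ω, Covers S K ∧ F.autGroup S ≤ fixGroup K S ∧ ¬ S ≤ K := by
  have hp := (Fact.out : p.Prime)
  haveI := finite_mulAut (P := S)
  let ψ : MulAut S →* MulAut (Abelianization S) :=
    { toFun := fun α => α.abelianizationCongr
      map_one' := MulEquiv.ext fun q => Quotient.inductionOn' q fun w => rfl
      map_mul' := fun α β => MulEquiv.ext fun q => Quotient.inductionOn' q fun w => rfl }
  have hψ : ∀ (α : MulAut S) (w : S), ψ α (Abelianization.of w) = Abelianization.of (α w) :=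
    fun α w => rfl
  set A := F.autGroup S
  set I := autInducedBy S S
  set B := A.map ψ
  haveI : Finite (MulAut (Abelianization S)) :=
    Finite.of_injective (fun a : MulAut (Abelianization S) => (a : Abelianization S → Abelianization S))
      DFunLike.coe_injective
  haveI : Fintype B := Fintype.ofFinite B
  have hB : ¬ p ∣ Nat.card B := by
    intro hdvd
    refine sylow_autGroup hs.isP hs.sat isFullyNormalized_self (hdvd.trans ?_)
    have hIker : I ≤ ψ.ker := by
      intro a ha
      obtain ⟨s, hsS, hh⟩ := mem_autInducedBy_iff.1 ha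
      refine MonoidHom.mem_ker.2 (MulEquiv.ext fun q => ?_)
      obtain ⟨w, rfl⟩ := QuotientGroup.mk_surjective q
      show Abelianization.of (a w) = Abelianization.of w
      have e : a w = ⟨s, hsS⟩ * w * ⟨s, hsS⟩⁻¹ := Subtype.ext (by
        show ((a w : S) : Ω) = s * (w : Ω) * s⁻¹
        rw [← autFun_coe, hh w w.2])
      rw [e, map_mul, map_mul, map_inv, mul_comm (Abelianization.of (⟨s, hsS⟩ : S)), mul_inv_cancel_right]
    show Nat.card (A.map ψ) ∣ I.relIndex A
    rw [← relIndex_ker]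
    exact relIndex_dvd_of_le_left A hIker
  let φ : Abelianization S →* Abelianization S := MonoidHom.mk'
    (fun v => ∏ g : B, (g : MulAut (Abelianization S)) v)
    fun v w => by simp only [map_mul, Finset.prod_mul_distrib]
  set K₀ := φ.ker.comap (Abelianization.of (G := S)) with hK₀
  have hder : commutator S ≤ K₀ := fun w hw => by
    rw [hK₀, mem_comap, MonoidHom.mem_ker,
      show Abelianization.of w = 1 from (QuotientGroup.eq_one_iff w).2 hw, map_one]
  have hdK : d ∉ K₀ := by
    intro hd'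
    rw [hK₀, mem_comap, MonoidHom.mem_ker] at hd'
    have hconst : ∀ g : B, (g : MulAut (Abelianization S)) (Abelianization.of d) = Abelianization.of d := by
      rintro ⟨_, α, -, rfl⟩
      show ψ α (Abelianization.of d) = _
      rw [hψ]
      exact (QuotientGroup.eq.2 (hfix α) : (QuotientGroup.mk d : S ⧸ commutator S) = QuotientGroup.mk (α d)).symm
    have h1 : Abelianization.of d ^ Nat.card B = 1 := by
      rw [← hd']
      show _ = ∏ g : B, _
      rw [Finset.prod_congr rfl fun g _ => hconst g, Finset.prod_const, Finset.card_univ, Nat.card_eq_fintype_card]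
    refine hd ((QuotientGroup.eq_one_iff d).1 ?_)
    obtain ⟨k, hk⟩ := (hs.isP.to_quotient (commutator S)) (Abelianization.of d)
    refine orderOf_eq_one_iff.1 (Nat.eq_one_of_dvd_coprimes ?_ (orderOf_dvd_of_pow_eq_one hk)
      (orderOf_dvd_of_pow_eq_one h1))
    exact Nat.Coprime.pow_left k (hp.coprime_iff_not_dvd.2 hB)
  refine ⟨K₀.map S.subtype, fun s hsS w hw => ?_, fun α hα w => ?_, fun hle => hdK ?_⟩
  · refine ⟨(⟨w, hw⟩ : S)⁻¹ * (⟨s, hsS⟩ * ⟨w, hw⟩ * ⟨s, hsS⟩⁻¹), hder ?_, rfl⟩
    refine (QuotientGroup.eq_one_iff _).1 ?_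
    show Abelianization.of _ = 1
    rw [map_mul, map_mul, map_mul, map_inv, map_inv, mul_comm (Abelianization.of (⟨s, hsS⟩ : S)),
      mul_inv_cancel_right, inv_mul_cancel]
  · refine ⟨w⁻¹ * α w, ?_, rfl⟩
    refine mem_comap.2 (MonoidHom.mem_ker.2 ?_)
    rw [map_mul, map_inv, map_mul, map_inv, inv_mul_eq_one]
    show ∏ g : B, (g : MulAut (Abelianization S)) _ = ∏ g : B, (g : MulAut (Abelianization S)) _
    rw [← hψ α w]
    exact (Fintype.prod_equiv (Equiv.mulRight (⟨ψ α, α, hα, rfl⟩ : B))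
      (fun g : B => (g : MulAut (Abelianization S)) (ψ α (Abelianization.of w)))
      (fun g : B => (g : MulAut (Abelianization S)) (Abelianization.of w)) fun g => rfl).symm
  · obtain ⟨v, hv, e⟩ := hle d.2
    rwa [show v = d from Subtype.ext e] at hv

/-- The theorem. -/
theorem exists_abelian_index (hp2 : p ≠ 2) (hp7 : p ≠ 7) (hS : IsPGroup p S) (hF : F.IsSaturated p)
    (hcard : Nat.card S = p ^ 5) (hcore : F.core = ⊥) (hhyp : F.hyperfocalSubgroup p = S) :
    ∃ A : Subgroup Ω, A ≤ S ∧ IsMulCommutative ↥A ∧ (A.subgroupOf S).index = p := by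
  have hp := (Fact.out : p.Prime)
  by_cases hn : NoAb p S
  swap
  · rw [NoAb] at hn
    push Not at hn
    obtain ⟨A, hA, hc⟩ := hn
    refine ⟨A.map S.subtype, map_subtype_le A, ⟨⟨?_⟩⟩, ?_⟩
    · rintro ⟨_, a, ha, rfl⟩ ⟨_, b, hb, rfl⟩
      exact Subtype.ext (congrArg (fun z : S => (z : Ω)) (hc a ha b hb))
    · rw [subgroupOf, comap_map_eq_self_of_injective S.subtype_injective]
      have e := A.card_mul_index
      rw [hA, hcard, pow_succ p 4] at e
      exact Nat.eq_of_mul_eq_mul_left (pow_pos hp.pos 4) e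
  exfalso
  have hs : Setup p F := ⟨hp2, hS, hF, hcard, hn⟩
  by_cases hgen : ∀ P, F.IsEssential p P →
      (Nat.card P = p ^ 3 ∧ ¬ IsMulCommutative P) ∨ (Nat.card P = p ^ 4 ∧ Nat.card (center P) = p ^ 2)
  · exact center_normal hs hgen hcore
  push Not at hgen
  obtain ⟨P, hP, hPn, hP4⟩ := hgen
  have hp3 : p = 3 := by
    rcases essential_cases hs hP with ⟨hc, hexp⟩ | ⟨hc, hna⟩ | ⟨hc, hab, hexp⟩ | ⟨hc, hcc⟩
    · by_contra h3
      exact pearl_large hs hP hc hexp h3 hp7
    · exact absurd (hPn hc) hna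
    · exact (cube hs hP hc hab hexp).1
    · exact absurd hcc (hP4 hc)
  -- an element fixed by all automorphisms modulo the derived subgroup
  have hmidd : ∀ (M : Subgroup S) (τ g x : S), CfsgLib.PGroup.OrderFifth.Mid p M (zen M) τ → x ∈ M →
      ⁅g, x⁆ ∉ zen M → ⁅g, ⁅g, x⁆⁆ ∈ zpowers τ →
      ∃ d : S, d ∉ commutator S ∧ ∀ α : MulAut S, d⁻¹ * α d ∈ commutator S := by
    intro M τ g x hm hx hgx hgm
    obtain ⟨d, hd, hd'⟩ : ∃ d ∈ line M (zen M), d ∉ commutator S := SetLike.not_le_iff_exists.1 fun hle => by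
      have h1 := Subgroup.card_le_of_le hle
      rw [(hm.line_spec hx hgx).2.2.2, (hm.derived hx hgx hn hgm).2.1] at h1
      exact absurd ((Nat.pow_le_pow_iff_right hp.one_lt).1 h1) (by norm_num)
    exact ⟨d, hd', fun α => hm.fix_line hx hgx hn hgm hp3 α d hd⟩
  obtain ⟨d, hd, hdfix⟩ : ∃ d : S, d ∉ commutator S ∧ ∀ α : MulAut S, d⁻¹ * α d ∈ commutator S := by
    rcases essential_cases hs hP with h | h | ⟨hc, hab, hexp⟩ | ⟨hc, hcc⟩
    · obtain ⟨x, hx⟩ := small_of_pearl hs hP (Or.inl h)
      obtain ⟨y, hy, hy2⟩ := CfsgLib.PGroup.OrderFifth.exists_mem_upK hx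
      exact ⟨y, hy2, fun α => CfsgLib.PGroup.OrderFifth.fix_upK hx hn hp3 α hy hy2⟩
    · obtain ⟨x, hx⟩ := small_of_pearl hs hP (Or.inr h)
      obtain ⟨y, hy, hy2⟩ := CfsgLib.PGroup.OrderFifth.exists_mem_upK hx
      exact ⟨y, hy2, fun α => CfsgLib.PGroup.OrderFifth.fix_upK hx hn hp3 α hy hy2⟩
    · obtain ⟨-, τ, g, x, hm, hx, hgx, hgm, -⟩ := cube hs hP hc hab hexp
      exact hmidd _ τ g x hm hx hgx hgm
    · exact absurd hcc (hP4 hc)
  obtain ⟨K, hK, hKS, hSK⟩ := exists_cover hs hd hdfix
  have hpow : ∀ {i j : ℕ}, p ^ i ≤ p ^ j → i ≤ j := fun h => (Nat.pow_le_pow_iff_right hp.one_lt).1 h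
  have hNlt : ∀ {R : Subgroup Ω}, F.IsEssential p R → ∀ {i : ℕ}, Nat.card R = p ^ i →
      p ^ (i + 1) ≤ Nat.card (normalizerIn S R) := by
    intro R hR i hc
    haveI := finite_of_le (S := S) (inf_le_left : normalizerIn S R ≤ S)
    have hlt := lt_normalizerIn hS hR.1.1 (ne_self_of_isEssential hS hF hR)
    obtain ⟨j, hj⟩ : ∃ j, Nat.card (normalizerIn S R) = p ^ j :=
      (hS.to_le (inf_le_left : normalizerIn S R ≤ S)).exists_card_eq
    have h1 : Nat.card R < Nat.card (normalizerIn S R) := card_lt_of_lt inf_le_left hlt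
    rw [hc, hj] at h1
    rw [hj]
    exact Nat.pow_le_pow_right hp.pos ((Nat.pow_lt_pow_iff_right hp.one_lt).1 h1)
  have fix4 : ∀ R : Subgroup Ω, p ^ 4 ≤ Nat.card R → (R = S ∨ F.IsEssential p R) →
      F.autGroup R ≤ fixGroup K R := by
    rintro R hR (rfl | hE)
    · exact hKS
    rcases essential_cases hs hE with ⟨hc, -⟩ | ⟨hc, -⟩ | ⟨hc, -⟩ | ⟨hc, hcc⟩
    · rw [hc] at hR; exact absurd (hpow hR) (by norm_num)
    · rw [hc] at hR; exact absurd (hpow hR) (by norm_num)
    · rw [hc] at hR; exact absurd (hpow hR) (by norm_num)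
    · obtain ⟨τ, g, x, -, -, -, -, -, h⟩ := fourth hs hE hc hcc
      exact h K hK hKS
  have fix3 : ∀ R : Subgroup Ω, p ^ 3 ≤ Nat.card R → (R = S ∨ F.IsEssential p R) →
      F.autGroup R ≤ fixGroup K R := by
    intro R hR hR'
    by_cases h4 : p ^ 4 ≤ Nat.card R
    · exact fix4 R h4 hR'
    rcases hR' with rfl | hE
    · exact hKS
    have hN : ∀ {i : ℕ}, Nat.card R = p ^ i → 3 ≤ i → F.autGroup (normalizerIn S R) ≤ fixGroup K _ :=
      fun hc hi => autGroup_le_of_above hS hF hK inf_le_left fun T hT hT' =>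
        fix4 T (((Nat.pow_le_pow_right hp.pos (by omega)).trans (hNlt hE hc)).trans hT) hT'
    rcases essential_cases hs hE with ⟨hc, -⟩ | ⟨hc, hna⟩ | ⟨hc, hab, hexp⟩ | ⟨hc, hcc⟩
    · rw [hc] at hR; exact absurd (hpow hR) (by norm_num)
    · exact extra_fix hs hE hc hna hK (hN hc le_rfl)
    · obtain ⟨-, τ, g, x, -, -, -, -, -, h⟩ := cube hs hE hc hab hexp
      exact h K hK (hN hc le_rfl)
    · exact absurd hc.ge h4
  refine hSK (hhyp ▸ (hyperfocal_le_focal.trans (focal_le hS hF hK fun R hR => ?_)))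
  by_cases h3 : p ^ 3 ≤ Nat.card R
  · exact fix3 R h3 hR
  rcases hR with rfl | hE
  · exact hKS
  rcases essential_cases hs hE with ⟨hc, hexp⟩ | ⟨hc, -⟩ | ⟨hc, -⟩ | ⟨hc, -⟩
  · exact pearl_fix hs hE hc hexp hK (autGroup_le_of_above hS hF hK inf_le_left fun T hT hT' =>
      fix3 T ((hNlt hE hc).trans hT) hT')
  · exact absurd hc.ge h3
  · exact absurd hc.ge h3
  · exact absurd ((Nat.pow_le_pow_right hp.pos (by norm_num : 3 ≤ 4)).trans hc.ge) h3

end CfsgLib.Fusion.OrderFifth
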