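import Cfsg.Agent.Lib.Fusion.System.QdFree
import Cfsg.Agent.Lib.PGroup.SmallOffenderSThree

/-!
# `Qd(2)` is the symmetric group of degree four; systems without sections `S₃` have no sections `Qd(2)`
-/

set_option autoImplicit false
set_option linter.style.haveILetI false

open Matrix

namespace CfsgLib.Fusion

open Cfsg (FusionSystem)
open CfsgLib.Qd (affine affine_mul affine_inj affine_one mem_qd_iff up lo)

theorem two_affine_bijective :
    (∀ σ : Equiv.Perm (Fin 2 → ZMod 2), ∃ (A : Matrix.SpecialLinearGroup (Fin 2) (ZMod 2))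
      (v : Fin 2 → ZMod 2), ∀ x, A.1 *ᵥ x + v = σ x) ∧
    ∀ (A : Matrix.SpecialLinearGroup (Fin 2) (ZMod 2)) (v : Fin 2 → ZMod 2),
      (∀ x, A.1 *ᵥ x + v = x) → A = 1 ∧ v = 0 := by
  decide +kernel

/-- `Qd(2)` is the symmetric group of degree four. -/
theorem nonempty_qd_two_equiv_perm : Nonempty (↥(Cfsg.qd 2) ≃* Equiv.Perm (Fin 4)) := by
  choose lin w hlin using fun M : Cfsg.qd 2 => (mem_qd_iff M.1).1 M.2
  have key : ∀ M N : Cfsg.qd 2, lin (M * N) = lin M * lin N ∧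
      w (M * N) = (lin M).1 *ᵥ w N + w M := fun M N =>
    affine_inj (by rw [← hlin, Subgroup.coe_mul, hlin M, hlin N, affine_mul, add_comm])
  have h1 : lin 1 = 1 ∧ w 1 = 0 :=
    affine_inj (by rw [← hlin, OneMemClass.coe_one, affine_one])
  let act : ↥(Cfsg.qd 2) →* Function.End (Fin 2 → ZMod 2) :=
    { toFun := fun M x => (lin M).1 *ᵥ x + w M
      map_one' := by
        funext x
        simp [h1.1, h1.2]
        rfl
      map_mul' := fun M N => by
        funext x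
        show _ = (lin M).1 *ᵥ ((lin N).1 *ᵥ x + w N) + w M
        rw [(key M N).1, (key M N).2, Matrix.mulVec_add, Matrix.mulVec_mulVec,
          Matrix.SpecialLinearGroup.coe_mul, add_assoc] }
  let φ : ↥(Cfsg.qd 2) →* Equiv.Perm (Fin 2 → ZMod 2) := MonoidHom.toHomPerm act
  have hφ : ∀ M x, φ M x = (lin M).1 *ᵥ x + w M := fun M x => rfl
  have hbij : Function.Bijective φ := by
    refine ⟨(injective_iff_map_eq_one φ).2 fun M hM => Subtype.ext ?_, fun σ => ?_⟩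
    · obtain ⟨hA, hv⟩ := two_affine_bijective.2 (lin M) (w M) fun x => by
        rw [← hφ, hM]
        rfl
      rw [hlin M, hA, hv, affine_one]
      rfl
    · obtain ⟨A, v, hAv⟩ := two_affine_bijective.1 σ
      refine ⟨⟨affine A v, (mem_qd_iff _).2 ⟨A, v, rfl⟩⟩, Equiv.ext fun x => ?_⟩
      obtain ⟨hA, hv⟩ := affine_inj (hlin ⟨affine A v, (mem_qd_iff _).2 ⟨A, v, rfl⟩⟩)
      rw [hφ, ← hA, ← hv, hAv x]
  exact ⟨(MulEquiv.ofBijective φ hbij).trans
    (Fintype.equivFinOfCardEq (α := Fin 2 → ZMod 2) (n := 4) (by simp)).permCongrHom⟩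

/-- A section is a section for any isomorphic group. -/
theorem involves_iff_of_mulEquiv {A B G : Type*} [Group A] [Group B] [Group G] (e : A ≃* B) :
    Cfsg.Involves A G ↔ Cfsg.Involves B G := by
  constructor
  · rintro ⟨K, R, hR, ⟨f⟩⟩
    exact ⟨K, R, hR, ⟨f.trans e⟩⟩
  · rintro ⟨K, R, hR, ⟨f⟩⟩
    exact ⟨K, R, hR, ⟨f.trans e.symm⟩⟩

theorem involves_qd_two_iff {G : Type*} [Group G] :
    Cfsg.Involves ↥(Cfsg.qd 2) G ↔ Cfsg.Involves (Equiv.Perm (Fin 4)) G :=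
  involves_iff_of_mulEquiv nonempty_qd_two_equiv_perm.some

universe u

variable {Ω : Type u} [Group Ω] {S : Subgroup Ω} {F : FusionSystem S}

theorem isSectionFree_qd_two_of_perm (h : F.IsSectionFree 2 (Equiv.Perm (Fin 4))) :
    F.IsSectionFree 2 ↥(Cfsg.qd 2) :=
  fun Q h1 h2 N hN L _ ι hm hinv => h Q h1 h2 N hN L ι hm (involves_qd_two_iff.1 hinv)

theorem two_transvection_facts :
    (∀ x : Fin 2 → ZMod 2, (up (1 : ZMod 2)).1 *ᵥ ((up (1 : ZMod 2)).1 *ᵥ x) = x) ∧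
    (∀ x : Fin 2 → ZMod 2, (lo (1 : ZMod 2)).1 *ᵥ ((lo (1 : ZMod 2)).1 *ᵥ x) = x) ∧
    (∀ x : Fin 2 → ZMod 2, (lo (1 : ZMod 2)).1 *ᵥ ((up (1 : ZMod 2)).1 *ᵥ ((lo (1 : ZMod 2)).1 *ᵥ x))
      = (up (1 : ZMod 2)).1 *ᵥ ((lo (1 : ZMod 2)).1 *ᵥ ((up (1 : ZMod 2)).1 *ᵥ x))) ∧
    (∃ x : Fin 2 → ZMod 2, (up (1 : ZMod 2)).1 *ᵥ x ≠ (lo (1 : ZMod 2)).1 *ᵥ x) ∧
    ∃ x : Fin 2 → ZMod 2, (up (1 : ZMod 2)).1 *ᵥ ((lo (1 : ZMod 2)).1 *ᵥ x) ≠
      (lo (1 : ZMod 2)).1 *ᵥ ((up (1 : ZMod 2)).1 *ᵥ x) := by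
  decide +kernel

/-- Data for a section `Qd(2)` give a section `S₃` of an automorphism group. -/
theorem QdData.involves_perm_three [Finite S] {Q U V : Subgroup Ω} {a b : Ω → Ω}
    (d : QdData 2 F Q U V a b) : Cfsg.Involves (Equiv.Perm (Fin 3)) ↥(F.autGroup U) := by
  have ha := d.mapA.mono d.leV
  have hb := d.mapB.mono d.leV
  obtain ⟨θ, hθ⟩ := d.cond
  have hQU := d.leU
  haveI : Finite U := finite_of_le ha.le
  let St : Subgroup ↥(F.autGroup U) :=
    { carrier := {α | ∀ x ∈ U, x ∈ Q ↔ autFun (α : MulAut U) x ∈ Q}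
      one_mem' := fun x hx => by simp [autFun_one hx]
      mul_mem' := by
        intro α β hα hβ x hx
        rw [Subgroup.coe_mul, autFun_mul _ _ hx]
        exact (hβ x hx).trans (hα _ (autFun_mem _ hx))
      inv_mem' := by
        intro α hα x hx
        have h := hα _ (autFun_mem ((α⁻¹ : F.autGroup U) : MulAut U) hx)
        rw [← autFun_mul _ _ hx, ← Subgroup.coe_mul, mul_inv_cancel, Subgroup.coe_one,
          autFun_one hx] at h
        exact h.symm }
  choose s hsU hsθ using hθ.surj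
  have hdep : ∀ α : St, ∀ x ∈ U, ∀ y ∈ U, θ x = θ y →
      θ (autFun ((α : F.autGroup U) : MulAut U) x) = θ (autFun ((α : F.autGroup U) : MulAut U) y) := by
    intro α x hx y hy he
    have hq : x * y⁻¹ ∈ Q := by
      rw [← hθ.ker _ (mul_mem hx (inv_mem hy)), hθ.add x hx _ (inv_mem hy), hθ.map_inv hy, he,
        add_neg_cancel]
    have hq' := (α.2 _ (hQU hq)).1 hq
    rw [← hθ.ker _ (autFun_mem _ (hQU hq))] at hq'
    have h3 := hθ.add _ (autFun_mem ((α : F.autGroup U) : MulAut U) (hQU hq)) _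
      (autFun_mem ((α : F.autGroup U) : MulAut U) hy)
    rw [hq', zero_add] at h3
    rw [← h3, ← autFun_map_mul _ (hQU hq) hy, inv_mul_cancel_right]
  let act : St →* Function.End (Fin 2 → ZMod 2) :=
    { toFun := fun α v => θ (autFun ((α : F.autGroup U) : MulAut U) (s v))
      map_one' := by
        funext v
        show θ _ = v
        rw [OneMemClass.coe_one, OneMemClass.coe_one, autFun_one (hsU v), hsθ]
      map_mul' := fun α β => by
        funext v
        show θ _ = θ (autFun _ (s (θ _)))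
        rw [Subgroup.coe_mul, Subgroup.coe_mul, autFun_mul _ _ (hsU v)]
        exact hdep α _ (autFun_mem _ (hsU v)) _ (hsU _) (hsθ _).symm }
  let φ : St →* Equiv.Perm (Fin 2 → ZMod 2) := MonoidHom.toHomPerm act
  have hmk : ∀ (c : Ω → Ω) (T : Matrix.SpecialLinearGroup (Fin 2) (ZMod 2)),
      IsMap F U c → img U c = U → img Q c = Q → (∀ x ∈ U, θ (c x) = T.1 *ᵥ θ x) →
      ∃ α : St, ∀ v, φ α v = T.1 *ᵥ v := by
    intro c T hc himg hcQ hcT
    have he : ∀ x ∈ U, autFun (autOf hc himg) x = c x := fun x hx => autFun_autOf hc himg hx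
    refine ⟨⟨⟨autOf hc himg, autOf_mem hc himg⟩, fun x hx => ?_⟩, fun v => ?_⟩
    · show x ∈ Q ↔ autFun (autOf hc himg) x ∈ Q
      rw [he x hx]
      refine ⟨fun h => mem_of_img_eq hc hQU hcQ h, fun h => ?_⟩
      obtain ⟨z, hz, hzx⟩ := (hc.mono hQU).mem_img.1 (hcQ.ge h)
      exact hc.inj (hQU hz) hx hzx ▸ hz
    · show θ (autFun (autOf hc himg) (s v)) = _
      rw [he _ (hsU v), hcT _ (hsU v), hsθ]
  obtain ⟨A, hA⟩ := hmk a (up 1) ha d.imgAU d.imgAQ hθ.map_a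
  obtain ⟨B, hB⟩ := hmk b (lo 1) hb d.imgBU d.imgBQ hθ.map_b
  obtain ⟨f1, f2, f3, ⟨x4, f4⟩, x5, f5⟩ := two_transvection_facts
  refine involves_of_injective St.subtype St.subtype_injective
    (CfsgLib.SmallOffender.involves_perm_three φ A B (Equiv.ext fun v => ?_) (Equiv.ext fun v => ?_)
      (Equiv.ext fun v => ?_) (fun h => f4 ?_) fun h => f5 ?_)
  · rw [Equiv.Perm.mul_apply, hA, hA, f1]
    rfl
  · rw [Equiv.Perm.mul_apply, hB, hB, f2]
    rfl
  · simp only [Equiv.Perm.mul_apply, hA, hB]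
    exact f3 v
  · rw [← hA, ← hB, h]
  · rw [← hA, ← hB, ← hB, ← hA, ← Equiv.Perm.mul_apply, ← Equiv.Perm.mul_apply, h.eq]

/-- A system without sections `S₃` in its automorphism groups has no sections `Qd(2)`. -/
theorem noQd_two_of_perm_three [Finite S]
    (h : ∀ U : Subgroup Ω, U ≤ S → ¬ Cfsg.Involves (Equiv.Perm (Fin 3)) ↥(F.autGroup U)) :
    NoQd 2 F := fun _ U _ _ d => h U d.mapA.le d.involves_perm_three

end CfsgLib.Fusion
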