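import Cfsg.Agent.Lib.Fusion.System.QdConstrained
import Cfsg.Agent.Lib.Fusion.System.QdTwo
import Cfsg.Agent.Lib.Fusion.System.FactorSat
import Cfsg.Prelude.Def_FusionComponents

/-!
# Systems without sections `Qd(p)`: characteristic normal subgroup, model, solvability

For `p` odd the functor is `Z(J)`; for `p = 2` it is made from the property `FourFreeNormal`.
-/

set_option autoImplicit false
set_option linter.style.haveILetI false

open Subgroup
open scoped Classical

namespace CfsgLib.Fusion

open Cfsg (FusionSystem)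
open Cfsg.FusionSystem (normalizerIn centralizerIn preimageAlong)

universe u

/-- Every nontrivial `2`-group has a characteristic subgroup normal in all constrained groups
without sections `S₄` having it as a Sylow `2`-subgroup. -/
def FourFreeNormal : Prop :=
  ∀ (S : Type u) [Group S] [Finite S] [Nontrivial S], IsPGroup 2 S →
    ∃ W : Subgroup S, W ≠ ⊥ ∧ W.Characteristic ∧
      ∀ (G : Type u) [Group G] [Finite G] (τ : S →* G), Function.Injective τ →
        (∃ P : Sylow 2 G, (P : Subgroup G) = τ.range) →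
        (¬ ∃ (K R : Subgroup G) (_ : (R.subgroupOf K).Normal),
          Nonempty ((K ⧸ R.subgroupOf K) ≃* Equiv.Perm (Fin 4))) →
        Subgroup.centralizer (Cfsg.pCore 2 G : Set G) ≤ Cfsg.pCore 2 G → (W.map τ).Normal

/-- The subgroups normal in all constrained groups without sections `S₄` over `A`. -/
def fourFreeSet (A : Type u) [Group A] : Set (Subgroup A) :=
  {V | ∀ (G : Type u) [Group G] [Finite G] (τ : A →* G), Function.Injective τ →
    (∃ P : Sylow 2 G, (P : Subgroup G) = τ.range) → ¬ Cfsg.Involves (Equiv.Perm (Fin 4)) G →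
    Subgroup.centralizer (Cfsg.pCore 2 G : Set G) ≤ Cfsg.pCore 2 G → (V.map τ).Normal}

/-- The largest subgroup normal in all those groups. -/
def fourFreeFun (A : Type u) [Group A] : Subgroup A := sSup (fourFreeSet A)

theorem fourFreeFun_mem (A : Type u) [Group A] : fourFreeFun A ∈ fourFreeSet A := by
  intro G _ _ τ h1 h2 h3 h4
  rw [fourFreeFun, sSup_eq_iSup, Subgroup.map_iSup]
  simp only [Subgroup.map_iSup]
  haveI : ∀ V : Subgroup A, (⨆ _ : V ∈ fourFreeSet A, V.map τ).Normal := fun V => by
    by_cases hV : V ∈ fourFreeSet A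
    · rw [iSup_pos hV]; exact hV G τ h1 h2 h3 h4
    · rw [iSup_neg hV]; infer_instance
  exact Subgroup.iSup_normal _

theorem map_mem_fourFreeSet {A B : Type u} [Group A] [Group B] (φ : A ≃* B) {V : Subgroup A}
    (hV : V ∈ fourFreeSet A) : V.map φ.toMonoidHom ∈ fourFreeSet B := by
  intro G _ _ τ h1 h2 h3 h4
  rw [Subgroup.map_map]
  obtain ⟨P, hP⟩ := h2
  refine hV G (τ.comp φ.toMonoidHom) (h1.comp φ.injective) ⟨P, ?_⟩ h3 h4
  rw [hP, MonoidHom.range_comp,
    MonoidHom.range_eq_top.2 (show Function.Surjective φ.toMonoidHom from φ.surjective),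
    ← MonoidHom.range_eq_map]

theorem qdFunctor_fourFreeFun (h : FourFreeNormal.{u}) :
    QdFunctor 2 (fourFreeFun : ∀ (A : Type u) [Group A], Subgroup A) where
  nontrivial A _ _ hA _ := by
    obtain ⟨W, hW1, -, hW⟩ := h A hA
    intro h0
    exact hW1 (eq_bot_iff.2 (h0 ▸ le_sSup (show W ∈ fourFreeSet A from hW)))
  natural A B _ _ _ _ φ := by
    refine le_antisymm (le_sSup (map_mem_fourFreeSet φ (fourFreeFun_mem A))) ?_
    intro y hy
    refine ⟨φ.symm y, le_sSup (α := Subgroup A) (map_mem_fourFreeSet φ.symm (fourFreeFun_mem B))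
      ⟨y, hy, rfl⟩, ?_⟩
    exact φ.apply_symm_apply y
  loc L _ _ T hc hfree :=
    fourFreeFun_mem _ L (T : Subgroup L).subtype (T : Subgroup L).subtype_injective
      ⟨T, (Subgroup.range_subtype _).symm⟩ (fun hi => hfree (involves_qd_two_iff.2 hi)) hc

/-- A functor at every prime, given the property at the prime `2`. -/
theorem exists_qdFunctor (p : ℕ) [Fact p.Prime] (h : FourFreeNormal.{u}) :
    ∃ W : ∀ (A : Type u) [Group A], Subgroup A, QdFunctor p W := by
  by_cases hp : p = 2
  · subst hp
    exact ⟨_, qdFunctor_fourFreeFun h⟩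
  · exact ⟨_, qdFunctor_zjFun hp⟩

variable {Ω : Type u} [Group Ω] {S : Subgroup Ω} [Finite S] {F : FusionSystem S} {p : ℕ}
  [Fact p.Prime] {W : ∀ (A : Type u) [Group A], Subgroup A}

omit [Finite S] [Fact p.Prime] in
theorem wSub_subgroupOf (W : ∀ (A : Type u) [Group A], Subgroup A) (S : Subgroup Ω) :
    (wSub W S).subgroupOf S = W S :=
  Subgroup.comap_map_eq_self_of_injective S.subtype_injective _

omit [Fact p.Prime] in
theorem characteristic_wSub (hW : QdFunctor p W) (hS : IsPGroup p S) :
    ((wSub W S).subgroupOf S).Characteristic := by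
  rw [wSub_subgroupOf, Subgroup.characteristic_iff_map_eq]
  exact fun φ => hW.natural S S hS φ

/-- The characteristic subgroup normal in all systems without sections `Qd(p)`. -/
theorem exists_characteristic_normal (hW : QdFunctor p W) (hS : IsPGroup p S) (hS1 : S ≠ ⊥) :
    ∃ V : Subgroup Ω, V ≤ S ∧ V ≠ ⊥ ∧ (V.subgroupOf S).Characteristic ∧
      ∀ F : FusionSystem S, F.IsSaturated p → NoQd p F → F.IsNormal V :=
  ⟨wSub W S, wSub_le W S, wSub_ne_bot hW hS hS1, characteristic_wSub hW hS,
    fun _ hF hfree => isNormal_wSub hW hS hF hfree⟩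

/-- A system without sections `Qd(p)` is realized by a finite group. -/
theorem isRealizable_of_functor (hW : QdFunctor p W) (hS : IsPGroup p S) (hF : F.IsSaturated p)
    (hfree : NoQd p F) : F.IsRealizable p := by
  obtain ⟨-, Q, hQ, hQc⟩ := isConstrained_of_functor_of_noQd hW hS hF hfree
  obtain ⟨L, hL, ι, hfin, hreal, hT, -⟩ := exists_model_of_normal_centric hS hF hQ hQc
  exact ⟨L, hL, hfin, ι, hreal, hT⟩

/-- A system without sections `Qd(p)` is solvable. -/
theorem isSolvableSystem_of_functor (hW : QdFunctor p W) (hS : IsPGroup p S) (hF : F.IsSaturated p)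
    (hfree : NoQd p F) : F.IsSolvableSystem := by
  intro R hR hne _ E hE h0
  have hEs : E.IsSaturated p := isSaturated_of_isFactorSystem hS hF hR hE
  have hp : IsPGroup p (⊤ : Subgroup (S ⧸ R.subgroupOf S)) :=
    (hS.to_quotient (R.subgroupOf S)).to_subgroup ⊤
  have hnor := isNormal_wSub hW hp hEs (noQd_factorSystem hE hfree)
  refine wSub_ne_bot hW hp (fun h => hne (le_antisymm hR.1 fun s hs => ?_))
    (eq_bot_iff.2 ((le_core hnor).trans_eq h0))
  have h1 : QuotientGroup.mk' (R.subgroupOf S) ⟨s, hs⟩ = 1 :=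
    Subgroup.mem_bot.1 (h.le (Subgroup.mem_top _))
  exact (QuotientGroup.eq_one_iff (N := R.subgroupOf S) _).1 h1

end CfsgLib.Fusion
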