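import Cfsg.Agent.Lib.Fusion.System.QdFree
import Cfsg.Agent.Lib.Fusion.System.InnerCriteria

/-!
# In a system without sections `Qd(p)` a Glauberman functor gives a normal subgroup
-/

set_option autoImplicit false
set_option linter.style.haveILetI false

open Subgroup
open scoped Classical

namespace CfsgLib.Fusion

open Cfsg (FusionSystem autInducedBy)
open Cfsg.FusionSystem (normalizerIn centralizerIn preimageAlong)

universe u

variable {Ω : Type u} [Group Ω] {S : Subgroup Ω} {F : FusionSystem S} {p : ℕ}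

/-- Maps extending to `Q` and inducing there conjugation by an element of `S`. -/
def IMap (F : FusionSystem S) (Q P : Subgroup Ω) (f : Ω → Ω) : Prop :=
  P ≤ S ∧ (∀ x ∈ P, f x ∈ S) ∧
    ∃ g, IsMap F (P ⊔ Q) g ∧ (∀ x ∈ P, g x = f x) ∧ ∃ s ∈ S, ∀ x ∈ Q, g x = s * x * s⁻¹

theorem img_eq_of_inner_on {Q : Subgroup Ω} (hn : S ≤ normalizerIn S Q) {g : Ω → Ω} {s : Ω}
    (hs : s ∈ S) (h : ∀ x ∈ Q, g x = s * x * s⁻¹) : img Q g = Q :=
  (IsMap.img_congr h).trans ((img_conj Q s).trans (conjBy_eq_iff.2 (hn hs).2))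

/-- The subsystem of the maps inducing on `Q` automorphisms from `S`. -/
noncomputable def iSystem (F : FusionSystem S) (Q : Subgroup Ω) (hn : S ≤ normalizerIn S Q)
    (hQ : Q ≤ S) : FusionSystem S :=
  mkSystem F S (IMap F Q) (fun P f h => ⟨by
      obtain ⟨_, _, g, hg, hge, _⟩ := h
      exact (hg.mono le_sup_left).congr fun x hx => (hge x hx).symm, h.1, h.2.1⟩)
    (fun P f g ⟨h1, h2, k, hk, hkf, hkQ⟩ he => ⟨h1, fun x hx => by rw [he x hx]; exact h2 x hx,
      k, hk, fun x hx => (hkf x hx).trans (he x hx).symm, hkQ⟩)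
    (fun P t hP ht => ⟨hP, fun x hx => S.mul_mem (S.mul_mem ht (hP hx)) (S.inv_mem ht), _,
      isMap_conj (sup_le hP hQ) ht, fun _ _ => rfl, t, ht, fun _ _ => rfl⟩)
    (fun P R f g ⟨h1, _, k, hk, hkf, s, hs, hks⟩ ⟨_, h4, l, hl, hlg, t, ht, hlt⟩ hfR =>
      ⟨h1, fun x hx => h4 _ (hfR x hx), l ∘ k, hk.comp hl (fun z hz => hk.map_mem_of_sup
        (fun x hx => (le_sup_left : R ≤ R ⊔ Q) (hkf x hx ▸ hfR x hx))
        (fun x hx => (le_sup_right : Q ≤ R ⊔ Q)
          (mem_of_img_eq hk le_sup_right (img_eq_of_inner_on hn hs hks) hx)) hz),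
        fun x hx => by
          show l (k x) = g (f x)
          rw [hkf x hx, hlg _ (hfR x hx)],
        t * s, S.mul_mem ht hs, fun x hx => by
          show l (k x) = _
          rw [hks x hx, hlt _ ((Subgroup.mem_normalizer_iff.1 (hn hs).2 x).1 hx)]
          group⟩)
    (fun P f f' h hf' hinv => by
      obtain ⟨h1, h2, k, hk, hkf, s, hs, hks⟩ := id h
      obtain ⟨k', hk', hk'1, -⟩ := hk.exists_inv
      have hf : IsMap F P f := (hk.mono le_sup_left).congr fun x hx => (hkf x hx).symm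
      refine ⟨hf.img_le_of_forall h2, fun y hy => ?_, k',
        hk'.mono (le_inv_source hk hkf (img_eq_of_inner_on hn hs hks)), fun y hy => ?_, s⁻¹,
          S.inv_mem hs, fun y hy => ?_⟩
      · obtain ⟨x, hx, rfl⟩ := hf.mem_img.1 hy
        rw [hinv x hx]
        exact h1 hx
      · obtain ⟨x, hx, rfl⟩ := hf.mem_img.1 hy
        rw [hinv x hx, ← hkf x hx, hk'1 x ((le_sup_left : P ≤ P ⊔ Q) hx)]
      · have hx : s⁻¹ * y * s ∈ Q := (Subgroup.mem_normalizer_iff''.1 (hn hs).2 y).1 hy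
        have h1 := hks _ hx
        rw [show s * (s⁻¹ * y * s) * s⁻¹ = y by group] at h1
        conv_lhs => rw [← h1]
        rw [hk'1 _ ((le_sup_right : Q ≤ P ⊔ Q) hx), inv_inv])

theorem isMap_iSystem_iff {Q P : Subgroup Ω} {f : Ω → Ω} {hn : S ≤ normalizerIn S Q} {hQ : Q ≤ S} :
    IsMap (iSystem F Q hn hQ) P f ↔ IMap F Q P f :=
  isMap_mkSystem_iff _

variable [Finite S] [Fact p.Prime]

theorem isSaturated_iSystem (hS : IsPGroup p S) (hF : F.IsSaturated p) {Q : Subgroup Ω}
    (hQ : F.IsNormal Q) (hn : S ≤ normalizerIn S Q) :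
    (iSystem F Q hn hQ.1).IsSaturated p := by
  haveI := finite_of_le hQ.1
  refine isSaturated_kNormalizer hS hF hQ.1 (autInducedBy S Q) (fun s => ⟨fun hs => ⟨hn hs, ?_⟩,
    fun h => h.1.1⟩) (fun P f => ?_) fun θ hθ => ?_
  · exact ⟨conjAut s (hn hs).2, mem_autInducedBy_iff.2 ⟨s, hs, fun x hx => autFun_conjAut (hn hs).2 hx⟩,
      fun x hx => autFun_conjAut (hn hs).2 hx⟩
  · rw [isMap_iSystem_iff]
    constructor
    · rintro ⟨h1, h2, g, hg, hge, s, hs, hgs⟩
      exact ⟨h1, h2, g, hg, hge, conjAut s (hn hs).2,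
        mem_autInducedBy_iff.2 ⟨s, hs, fun x hx => autFun_conjAut (hn hs).2 hx⟩,
        fun x hx => (hgs x hx).trans (autFun_conjAut (hn hs).2 hx).symm⟩
    · rintro ⟨h1, h2, g, hg, hge, a, ha, hga⟩
      obtain ⟨s, hs, hse⟩ := mem_autInducedBy_iff.1 ha
      exact ⟨h1, h2, g, hg, hge, s, hs, fun x hx => (hga x hx).trans (hse x hx)⟩
  · have himg : img Q θ = Q := img_eq_of_map_le hQ.1 hθ le_rfl
      ((stronglyClosed_iff.1 (stronglyClosed_of_isNormal hQ)).2 Q θ le_rfl hθ)
    obtain ⟨θ', hθ', hθ1, hθ2⟩ := hθ.exists_inv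
    rw [himg] at hθ' hθ2
    have himg' : img Q θ' = Q := img_eq_of_map_le hQ.1 hθ' le_rfl fun x hx => (hθ2 x hx).1
    obtain ⟨g, hg, hge⟩ := (isReceptive_iff.1
      (IsSaturated.automized_receptive hS hF (isFullyNormalized_of_isNormal hQ)).2).2 Q θ' hθ' himg'
    refine ⟨g, hg.mono (sup_le (himg.le.trans (le_extSub hθ')) fun s hs => ?_), 1, one_mem _,
      fun x hx => ?_⟩
    · obtain ⟨hsN, a, ha, hsa⟩ := mem_Tst.1 hs
      rw [himg] at hsN
      obtain ⟨t, ht, hte⟩ := mem_autInducedBy_iff.1 ha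
      refine mem_extSub.2 ⟨hsN, t, ht, fun y hy => ?_⟩
      obtain ⟨x, hx, rfl⟩ := hθ.mem_img.1 (himg.ge hy)
      rw [← hsa x hx, hθ1 x hx, hθ1 _ (autFun_mem _ hx), hte x hx]
    · show g (θ x) = _
      rw [hge _ (himg.le (hθ.mem_img.2 ⟨x, hx, rfl⟩)), hθ1 x hx, autFun_one hx]

omit [Fact p.Prime] in
theorem isSaturated_nSystem_over [Fact p.Prime] (hS : IsPGroup p S) (hF : F.IsSaturated p)
    {U : Subgroup Ω} (hU : U ≤ S) (hn : S ≤ normalizerIn S U) :
    (nSystem F S U hn hU).IsSaturated p := by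
  have hT : normalizerIn S U = S := le_antisymm inf_le_left hn
  have hfn : F.IsFullyNormalized U :=
    ⟨hU, fun R _ => by rw [hT]; exact card_le_of_le' le_rfl inf_le_left⟩
  have aux : ∀ (T : Subgroup Ω) (hTT : normalizerIn S U = T),
      (nSystem F T U hTT.ge hU).IsSaturated p := by
    rintro T rfl
    exact isSaturated_normalizerSystem hS hF hfn fun P => Set.ext fun φ => by
      rw [mem_normalizerHom_iff]
      exact Iff.rfl
  exact aux S hT

/-- The preimage of a normal subgroup of a quotient is normal when all maps are inner on the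
kernel. -/
theorem isNormal_preimage (hS : IsPGroup p S) (hF : F.IsSaturated p) {Ω' : Type u} [Group Ω']
    {α : S →* Ω'} (hK : F.IsNormal (preimageAlong α ⊥))
    (hact : ∀ (R : Subgroup Ω) (f : Ω → Ω), IsMap F R f → preimageAlong α ⊥ ≤ R →
      ∃ s ∈ S, ∀ x ∈ preimageAlong α ⊥, f x = s * x * s⁻¹)
    {U' : Subgroup Ω'} (hU' : (quotientSystem hK).IsNormal U') :
    F.IsNormal (preimageAlong α U') := by
  set Q := preimageAlong α ⊥ with hQdef
  haveI : Finite α.range := Finite.of_surjective _ α.rangeRestrict_surjective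
  have hV : preimageAlong α U' ≤ S := preimageAlong_le α U'
  have hQV : Q ≤ preimageAlong α U' := preimageAlong_mono bot_le
  have hsc : F.StronglyClosed (preimageAlong α U') := by
    refine stronglyClosed_iff.2 ⟨hV, fun R f hR hf x hx => ?_⟩
    obtain ⟨g, hg, hgf, -⟩ := (isNormal_iff.1 hK).2 R f hf
    have hle : preimageAlong α (imgι α (R ⊔ Q)) ≤ R ⊔ Q :=
      (preimageAlong_imgι_le (hg.le)).trans (sup_le le_rfl le_sup_right)
    obtain ⟨φ', hφ', hφe⟩ := exists_qMap hK (imgι_le_range (R ⊔ Q)) (hg.mono hle)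
    have hRQ : imgι α (R ⊔ Q) ≤ U' := by
      intro y hy
      obtain ⟨z, hz, rfl⟩ := (mem_imgι hg.le).1 hy
      exact (mem_preimageAlong.1 ((sup_le hR hQV) hz)).2
    have hxS := hf.le hx
    have hxm : ext1 α x ∈ imgι α (R ⊔ Q) := ext1_mem_imgι hg.le (Subgroup.mem_sup_left hx)
    have h1 := hφe x (mem_preimageAlong.2 ⟨hxS, hxm⟩)
    have h2 := (stronglyClosed_iff.1 (stronglyClosed_of_isNormal hU')).2 _ _ hRQ
      (isMap_toFun (F := quotientSystem hK) hφ') _ hxm
    rw [h1, hgf x hx] at h2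
    exact mem_preimageAlong.2 ⟨hf.mem_S hx, h2⟩
  refine isNormal_of_stronglyClosed_le hS hF hsc fun R hR => ?_
  obtain ⟨hRc, hRr⟩ := isEssential_centric_radical hS hR
  have hQR : Q ≤ R := le_of_isNormal hS hK hR.1 hRr
  have hRS : R ≤ S := hR.1.1
  refine le_of_conjAut_mem_pCore hS hV (le_normalizerIn_of_stronglyClosed hsc) hR.1 hRr
    fun q hqN hqV hm' => ?_
  let D : Subgroup (F.autGroup R) :=
    { carrier := {a | ∃ u ∈ U', ∀ x ∈ R, ext1 α (autFun (a : MulAut R) x) = u * ext1 α x * u⁻¹}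
      one_mem' := ⟨1, one_mem _, fun x hx => by simp [autFun_one hx]⟩
      mul_mem' := by
        rintro a b ⟨u, hu, hue⟩ ⟨v, hv, hve⟩
        refine ⟨u * v, mul_mem hu hv, fun x hx => ?_⟩
        rw [Subgroup.coe_mul, autFun_mul _ _ hx, hue _ (autFun_mem _ hx), hve x hx]
        group
      inv_mem' := by
        rintro a ⟨u, hu, hue⟩
        refine ⟨u⁻¹, inv_mem hu, fun x hx => ?_⟩
        have h1 := hue _ (autFun_mem ((a⁻¹ : F.autGroup R) : MulAut R) hx)
        rw [← autFun_mul _ _ hx, ← Subgroup.coe_mul, mul_inv_cancel, Subgroup.coe_one,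
          autFun_one hx] at h1
        rw [h1]
        group }
  haveI hDn : D.Normal := by
    refine ⟨fun a ⟨u, hu, hue⟩ γ => ?_⟩
    have hγm : IsMap F R (autFun (γ : MulAut R)) := (mem_autGroup_iff hRS).1 γ.2
    have hle : preimageAlong α (imgι α R) ≤ R :=
      (preimageAlong_imgι_le hRS).trans (sup_le le_rfl hQR)
    obtain ⟨φ', hφ', hφe⟩ := exists_qMap hK (imgι_le_range R) (hγm.mono hle)
    obtain ⟨g', hg', hg'f, hg'U⟩ := (isNormal_iff.1 hU').2 _ _
      (isMap_toFun (F := quotientSystem hK) hφ')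
    refine ⟨g' u, mem_of_img_eq hg' le_sup_right hg'U hu, fun x hx => ?_⟩
    have hy : ext1 α (autFun ((γ⁻¹ : F.autGroup R) : MulAut R) x) ∈ imgι α R :=
      ext1_mem_imgι hRS (autFun_mem _ hx)
    set y := autFun ((γ⁻¹ : F.autGroup R) : MulAut R) x with hydef
    have hγ : ∀ z ∈ R, ext1 α (autFun (γ : MulAut R) z) = g' (ext1 α z) := fun z hz => by
      rw [hg'f _ (ext1_mem_imgι hRS hz), hφe z (mem_preimageAlong.2 ⟨hRS hz, ext1_mem_imgι hRS hz⟩)]
    have hx' : ext1 α x = g' (ext1 α y) := by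
      rw [← hγ y (autFun_mem _ hx), hydef, ← autFun_mul _ _ hx, ← Subgroup.coe_mul, mul_inv_cancel,
        Subgroup.coe_one, autFun_one hx]
    rw [Subgroup.coe_mul, Subgroup.coe_mul, autFun_mul _ _ hx, autFun_mul _ _ (autFun_mem _ hx),
      ← hydef, hγ _ (autFun_mem _ (autFun_mem _ hx)), hue _ (autFun_mem _ hx), ← hydef, hx']
    have hu' : u ∈ imgι α R ⊔ U' := Subgroup.mem_sup_right hu
    have hy' : ext1 α y ∈ imgι α R ⊔ U' := Subgroup.mem_sup_left hy
    rw [hg'.map_conj hu' hy']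
  have hDp : IsPGroup p D := by
    obtain ⟨m, hm⟩ := IsPGroup.iff_card.1 hS
    rintro ⟨a, u, hu, hue⟩
    have ham : IsMap F R (autFun (a : MulAut R)) := (mem_autGroup_iff hRS).1 a.2
    obtain ⟨s, hs, hse⟩ := hact R _ ham hQR
    have hsN : ∀ x ∈ Q, s * x * s⁻¹ ∈ Q := fun x hx =>
      (Subgroup.mem_normalizer_iff.1
        (le_normalizerIn_of_stronglyClosed (stronglyClosed_of_isNormal hK) hs).2 x).1 hx
    have hu1 : u ^ p ^ m = 1 := by
      obtain ⟨z, hz⟩ := (hU'.1 hu : u ∈ α.range)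
      rw [← hz, ← map_pow, ← hm, pow_card_eq_one', map_one]
    have hs1 : s ^ p ^ m = 1 := by
      have h := congrArg Subtype.val (pow_card_eq_one' (x := (⟨s, hs⟩ : S)))
      rwa [hm] at h
    have hpowQ : ∀ i : ℕ, ∀ x ∈ Q,
        autFun ((a : MulAut R) ^ i) x = s ^ i * x * (s ^ i)⁻¹ := by
      intro i
      induction i with
      | zero => intro x hx; rw [pow_zero, autFun_one (hQR hx)]; simp
      | succ i hi =>
        intro x hx
        rw [pow_succ, autFun_mul _ _ (hQR hx), hse x hx, hi _ (hsN x hx), pow_succ]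
        group
    have hpowR : ∀ i : ℕ, ∀ x ∈ R,
        ext1 α (autFun ((a : MulAut R) ^ i) x) = u ^ i * ext1 α x * (u ^ i)⁻¹ := by
      intro i
      induction i with
      | zero => intro x hx; rw [pow_zero, autFun_one hx]; simp
      | succ i hi =>
        intro x hx
        rw [pow_succ, autFun_mul _ _ hx, hi _ (autFun_mem _ hx), hue x hx, pow_succ]
        group
    refine ⟨m + m, Subtype.ext (Subtype.ext (autFun_ext fun x hx => ?_))⟩
    simp only [Subgroup.coe_pow, Subgroup.coe_one]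
    rw [autFun_one hx, pow_add, pow_mul]
    refine pow_fix_step hRS hm le_rfl hQR (fun z hz => ?_) (fun z hz => ?_) x hx
    · rw [hpowQ _ z hz, hs1]; simp
    · refine (ext1_eq_iff (hRS hz) (hRS (autFun_mem _ hz))).1 ?_
      rw [hpowR _ z hz, hu1]; simp
  refine CfsgLib.Coprime.le_pCore hDp ⟨ext1 α q, (mem_preimageAlong.1 hqV).2, fun x hx => ?_⟩
  show ext1 α (autFun (conjAut q hqN) x) = _
  rw [autFun_conjAut hqN hx, ext1_conj α (hV hqV) (hRS hx)]

/-- A functor as in Glauberman's theorem for groups without `Qd(p)`. -/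
structure QdFunctor (p : ℕ) (W : ∀ (A : Type u) [Group A], Subgroup A) : Prop where
  nontrivial : ∀ (A : Type u) [Group A] [Finite A], IsPGroup p A → Nontrivial A → W A ≠ ⊥
  natural : ∀ (A B : Type u) [Group A] [Group B] [Finite A], IsPGroup p A → ∀ φ : A ≃* B,
    (W A).map φ.toMonoidHom = W B
  loc : ∀ (L : Type u) [Group L] [Finite L] (T : Sylow p L),
    Subgroup.centralizer ((Cfsg.pCore p L : Subgroup L) : Set L) ≤ Cfsg.pCore p L →
    ¬ Cfsg.Involves ↥(Cfsg.qd p) L →
    (((W ↥(T : Subgroup L)).map (T : Subgroup L).subtype : Subgroup L)).Normal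

variable {W : ∀ (A : Type u) [Group A], Subgroup A}

omit [Finite S] [Fact p.Prime] in
theorem wSub_ne_bot (hW : QdFunctor p W) [Finite S] (hS : IsPGroup p S) (h1 : S ≠ ⊥) :
    wSub W S ≠ ⊥ := by
  haveI : Nontrivial S := (Subgroup.nontrivial_iff_ne_bot S).2 h1
  rw [wSub, Ne, Subgroup.map_eq_bot_iff_of_injective _ S.subtype_injective]
  exact hW.nontrivial S hS inferInstance

/-- In a system with a normal centric subgroup the functor gives a normal subgroup. -/
theorem isNormal_wSub_of_centric (hW : QdFunctor p W) (hS : IsPGroup p S) (hF : F.IsSaturated p)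
    (hfree : NoQd p F) {Q : Subgroup Ω} (hQ : F.IsNormal Q) (hQc : F.IsCentric Q) :
    F.IsNormal (wSub W S) := by
  obtain ⟨L, hL, ι, hfin, hreal, ⟨T, hT⟩, hc⟩ := exists_model_of_normal_centric hS hF hQ hQc
  haveI := hfin
  have hnot := not_involves_of_noQd hfree hreal.1 T hT
    fun P hP g hg => exists_map_of_conj hreal hP hg
  set V := wSub W S with hV
  have hVS : V ≤ S := wSub_le W S
  haveI hn : (imgι ι V).Normal := by
    rw [hV, imgι_wSub W ι, ← map_wSub W hW.natural hS ι hreal.1 hT]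
    exact hW.loc L T hc hnot
  refine isNormal_iff.2 ⟨hVS, fun P f hf => ?_⟩
  obtain ⟨hP, -, -, g, hg⟩ := (isMap_realized_iff hreal).1 hf
  have hsup : P ⊔ V ≤ S := sup_le hP hVS
  have hmem : ∀ x ∈ P ⊔ V, g * ext1 ι x * g⁻¹ ∈ ι.range := by
    intro x hx
    have hle : imgι ι (P ⊔ V) ≤ (ι.range).comap (MulAut.conj g).toMonoidHom := by
      rw [imgι_sup hP hVS]
      refine sup_le (fun y hy => ?_) fun y hy => imgι_le_range V (hn.conj_mem y hy g)
      obtain ⟨z, hz, rfl⟩ := (mem_imgι hP).1 hy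
      show g * ext1 ι z * g⁻¹ ∈ ι.range
      rw [← hg z hz]
      exact ext1_mem_range ι _
    exact hle (ext1_mem_imgι hsup hx)
  obtain ⟨f', hf', hf'g⟩ := exists_map_of_conj hreal hsup hmem
  refine ⟨f', hf', fun x hx => ext1_inj hreal.1 (hf'.mem_S (Subgroup.mem_sup_left hx)) (hf.mem_S hx)
    ((hf'g x (Subgroup.mem_sup_left hx)).trans (hg x hx).symm), ?_⟩
  refine img_eq_of_map_le hVS hf' le_sup_right fun x hx =>
    mem_of_ext1_mem_imgι hreal.1 hVS (hf'.mem_S (Subgroup.mem_sup_right hx)) ?_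
  rw [hf'g x (Subgroup.mem_sup_right hx)]
  exact hn.conj_mem _ (ext1_mem_imgι hVS hx) g

/-- The functor gives a normal subgroup in all systems smaller than `n`. -/
def NormalBelow (p : ℕ) (W : ∀ (A : Type u) [Group A], Subgroup A) (n : ℕ) : Prop :=
  ∀ (Ω : Type u) [Group Ω] (S : Subgroup Ω) [Finite S], Nat.card S < n → IsPGroup p S →
    ∀ F : FusionSystem S, F.IsSaturated p → NoQd p F → F.IsNormal (wSub W S)

/-- Without a nontrivial normal subgroup, all maps normalize the value of the functor. -/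
theorem isMap_of_core_bot (hW : QdFunctor p W) (hS : IsPGroup p S) (hF : F.IsSaturated p)
    (hgood : NoQd p F) (ihS : NormalBelow p W (Nat.card S))
    (hVn : S ≤ normalizerIn S (wSub W S))
    (hproper : ∀ E' : FusionSystem S, E' ≤ F → E'.IsSaturated p →
      (∃ P f, IsMap F P f ∧ ¬ IsMap E' P f) → ∀ (P : Subgroup Ω) (f : Ω → Ω), IsMap E' P f →
        IsMap (nSystem F S (wSub W S) hVn (wSub_le W S)) P f)
    (hS1 : S ≠ ⊥) (hcore : F.core = ⊥) :
    ∀ (P : Subgroup Ω) (f : Ω → Ω), IsMap F P f →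
      IsMap (nSystem F S (wSub W S) hVn (wSub_le W S)) P f := by
  set E := nSystem F S (wSub W S) hVn (wSub_le W S) with hE
  have key : ∀ (j : ℕ) (P : Subgroup Ω), Nat.card S - Nat.card (normalizerIn S P) = j →
      F.IsFullyNormalized P → P ≠ ⊥ → ∀ (X : Subgroup Ω) (g : Ω → Ω), IsMap F X g → P ≤ X →
      X ≤ Subgroup.normalizer (P : Set Ω) → img P g = P → IsMap E X g := by
    intro j
    induction j using Nat.strong_induction_on with
    | _ j IH =>
    intro P hj hP hP1 X g hg hPX hXN hgP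
    set T := normalizerIn S P with hT
    by_cases hTS : T = S
    · have hn' : S ≤ normalizerIn S P := hTS.ge
      refine hproper (nSystem F S P hn' hP.1)
        (le_of_isMap fun R f h => (isMap_nSystem_iff.1 h).isMap)
        (isSaturated_nSystem_over hS hF hP.1 hn') ?_ X g
        (isMap_nSystem_iff.2 ⟨hg.le, fun x hx => hg.mem_S hx, g, by rwa [sup_eq_left.2 hPX],
          fun _ _ => rfl, hgP⟩)
      by_contra hall'
      push Not at hall'
      have hnormal : F.IsNormal P := isNormal_iff.2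
        ⟨hP.1, fun R f hf => (isMap_nSystem_iff.1 (hall' R f hf)).2.2⟩
      exact hP1 (eq_bot_iff.2 (hcore ▸ le_core hnormal))
    have hTle : T ≤ S := inf_le_left
    have hTlt : Nat.card T < Nat.card S := card_lt_of_lt le_rfl (lt_of_le_of_ne hTle hTS)
    haveI : Finite T := finite_of_le hTle
    have hTp : IsPGroup p T := hS.to_le hTle
    obtain ⟨N, hN⟩ := exists_normalizerSystem (F := F) hP.1
    have hNn : N.IsNormal (wSub W T) := ihS Ω T hTlt hTp N
      (isSaturated_normalizerSystem hS hF hP hN) (noQd_normalizerSystem hN hgood)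
    set U' := wSub W T with hU'def
    have hU'T : U' ≤ T := wSub_le W T
    have hXT : X ≤ T := le_inf hg.le hXN
    have hgT : ∀ x ∈ X, g x ∈ T := fun x hx => by
      have := map_mem_normalizerIn hg hPX hx (hXN hx)
      rwa [hgP] at this
    have hgN : IsMap N X g := (isMap_of_isNormalizerSystem hN).2
      ⟨hXT, hgT, g, by rwa [sup_eq_left.2 hPX], fun _ _ => rfl, hgP⟩
    obtain ⟨g', hg'N, hg'e, hg'U⟩ := (isNormal_iff.1 hNn).2 X g hgN
    have hg' : IsMap F (X ⊔ U') g' := ((isMap_of_isNormalizerSystem hN).1 hg'N).isMap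
    have hTne : T ≠ ⊥ := fun h => hP1 (le_bot_iff.1 (h ▸ le_normalizerIn hP.1))
    have hU'ne : U' ≠ ⊥ := wSub_ne_bot hW hTp hTne
    have hU'S : U' ≤ S := hU'T.trans hTle
    have hTU' : normalizerIn S T ≤ normalizerIn S U' :=
      normalizerIn_le_normalizerIn_wSub W hW.natural hS hTle
    have hlt : Nat.card T < Nat.card (normalizerIn S U') :=
      lt_of_lt_of_le (card_lt_of_lt inf_le_left (lt_normalizerIn hS hTle hTS))
        (card_le_of_le' inf_le_left hTU')
    have big : ∀ {R : Subgroup Ω} {h : Ω → Ω}, IsMap F R h → Nat.card T < Nat.card R →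
        IsMap E R h := by
      intro R h hh hR
      refine isMap_of_autGroup_le_above hS hF (fun R' hRR' hR' α hα => ?_) hh
      have hR'n : F.IsFullyNormalized R' :=
        hR'.elim (fun e => by subst e; exact isFullyNormalized_self) fun e => e.2.1
      have hR'S := hR'n.1
      have h1 : Nat.card R' ≤ Nat.card (normalizerIn S R') :=
        card_le_of_le' inf_le_left (le_normalizerIn hR'S)
      have h2 : Nat.card (normalizerIn S R') ≤ Nat.card S := card_le_of_le' le_rfl inf_le_left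
      refine (mem_autGroup_iff hR'S).2 (IH _ (by omega) R' rfl hR'n (fun e => ?_) R' _
        ((mem_autGroup_iff hR'S).1 hα) le_rfl Subgroup.le_normalizer (img_autFun α))
      rw [e, Subgroup.card_bot] at hRR'
      have : 0 < Nat.card T := Nat.card_pos
      omega
    obtain ⟨U, hUconj, hU⟩ := exists_fullyNormalized (F := F) hU'S
    obtain ⟨h₁, h₂⟩ := IsSaturated.automized_receptive hS hF hU
    obtain ⟨θ, hθ, hθU, hθN⟩ := exists_map_normalizer hS h₁ h₂ hUconj
    have hθE : IsMap E (normalizerIn S U') θ := big hθ hlt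
    have hX2 : X ⊔ U' ≤ normalizerIn S U' :=
      (sup_le hXT hU'T).trans ((le_normalizerIn hTle).trans hTU')
    have hθ2 := hθ.mono hX2
    obtain ⟨θ', hθ', hθ1, -⟩ := hθE.exists_inv
    obtain ⟨θF, hθF, hθF1, hθF2⟩ := hθ2.exists_inv
    have hg'mem : ∀ x ∈ X ⊔ U', g' x ∈ normalizerIn S U' := fun x hx => by
      have := map_mem_normalizerIn hg' le_sup_right hx (hX2 hx).2
      rwa [hg'U] at this
    have hg₁ : IsMap F (img (X ⊔ U') θ) (θ ∘ g' ∘ θF) :=
      (hθF.comp hg' fun y hy => (hθF2 y hy).1).comp hθ fun y hy => hg'mem _ (hθF2 y hy).1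
    have hUX : U ≤ img (X ⊔ U') θ := hθU ▸ IsMap.img_mono hθ2 le_sup_right
    have hg₁E : IsMap E (img (X ⊔ U') θ) (θ ∘ g' ∘ θF) := by
      have h1 : Nat.card (normalizerIn S U') ≤ Nat.card (normalizerIn S U) :=
        hU.2 _ (isConj_symm hUconj)
      have h2 : Nat.card (normalizerIn S U) ≤ Nat.card S := card_le_of_le' le_rfl inf_le_left
      refine IH _ (by omega) U rfl hU (fun e => hU'ne (Subgroup.eq_bot_of_card_eq _ ?_)) _ _ hg₁
        hUX (fun y hy => ?_) ?_
      · rw [← (hθ.mono (le_normalizerIn hU'S)).card_img, hθU, e, Subgroup.card_bot]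
      · obtain ⟨x, hx, rfl⟩ := hθ2.mem_img.1 hy
        exact (hθN x (hX2 hx)).2
      · refine img_eq_of_map_le hU.1 hg₁ hUX fun y hy => ?_
        obtain ⟨x, hx, rfl⟩ := (hθ.mono (le_normalizerIn hU'S)).mem_img.1 (hθU.ge hy)
        show θ (g' (θF (θ x))) ∈ U
        rw [hθF1 x (Subgroup.mem_sup_right hx)]
        exact hθU.le ((hθ.mono (le_normalizerIn hU'S)).mem_img.2
          ⟨_, mem_of_img_eq hg' le_sup_right hg'U hx, rfl⟩)
    have hg'E : IsMap E (X ⊔ U') g' := by
      refine (((hθE.mono hX2).comp hg₁E fun x hx => hθ2.mem_img.2 ⟨x, hx, rfl⟩).comp hθ'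
        fun x hx => ?_).congr fun x hx => ?_
      · show θ (g' (θF (θ x))) ∈ img (normalizerIn S U') θ
        rw [hθF1 x hx]
        exact hθ.mem_img.2 ⟨g' x, hg'mem x hx, rfl⟩
      · show g' x = θ' (θ (g' (θF (θ x))))
        rw [hθF1 x hx, hθ1 _ (hg'mem x hx)]
    exact (hg'E.mono le_sup_left).congr fun x hx => (hg'e x hx).symm
  intro P f hf
  refine isMap_of_autGroup_le hS hF (fun R hR α hα => ?_) hf
  have hRn : F.IsFullyNormalized R :=
    hR.elim (fun e => by subst e; exact isFullyNormalized_self) fun e => e.2.1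
  have hRne : R ≠ ⊥ := fun e => by
    rcases hR with h | h
    · exact hS1 (h.symm.trans e)
    · subst e
      refine hS1 (le_bot_iff.1 fun x hx => ?_)
      exact centralizerIn_le_of_isCentric h.1 ⟨hx, Subgroup.mem_centralizer_iff.2 fun y hy => by
        rw [Subgroup.mem_bot.1 hy, one_mul, mul_one]⟩
  exact (mem_autGroup_iff hRn.1).2 (key _ R rfl hRn hRne R _
    ((mem_autGroup_iff hRn.1).1 hα) le_rfl Subgroup.le_normalizer (img_autFun α))

set_option maxHeartbeats 300000 in
/-- Every map is a product of one normalizing `Q C_S(Q)` and one inner on `Q`. -/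
theorem isMap_of_decomposition (hS : IsPGroup p S) (hF : F.IsSaturated p) {E : FusionSystem S}
    {Q : Subgroup Ω} (hQ : F.IsNormal Q) (hQn : S ≤ normalizerIn S Q)
    (hV₁n : S ≤ normalizerIn S (Q ⊔ centralizerIn S Q))
    (hN₁ : ∀ (P : Subgroup Ω) (f : Ω → Ω),
      IsMap (nSystem F S (Q ⊔ centralizerIn S Q) hV₁n (sup_le hQ.1 inf_le_left)) P f → IsMap E P f)
    (hC : ∀ (P : Subgroup Ω) (f : Ω → Ω), IsMap (iSystem F Q hQn hQ.1) P f → IsMap E P f) :
    ∀ (P : Subgroup Ω) (f : Ω → Ω), IsMap F P f → IsMap E P f := by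
  set V₁ := Q ⊔ centralizerIn S Q with hV₁
  have hV₁S : V₁ ≤ S := sup_le hQ.1 inf_le_left
  have hQfn := isFullyNormalized_of_isNormal hQ
  -- decomposition
  intro P f hf
  obtain ⟨g, hg, hgf, hgQ⟩ := (isNormal_iff.1 hQ).2 P f hf
  have hgq : IsMap F Q g := hg.mono le_sup_right
  obtain ⟨h, hh, hhg⟩ :=
    (isReceptive_iff.1 (IsSaturated.automized_receptive hS hF hQfn).2).2 Q g hgq hgQ
  have hX₀ : P ⊔ Q ≤ extSub S Q g := fun z hz => by
    have hzS : z ∈ S := hg.le hz
    refine mem_extSub.2 ⟨hQn hzS, g z, hg.mem_S hz, fun x hx => ?_⟩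
    exact hg.map_conj hz ((le_sup_right : Q ≤ P ⊔ Q) hx)
  have hV₁ext : V₁ ≤ extSub S Q g := sup_le (le_extSub hgq) centralizerIn_le_extSub
  set X := P ⊔ Q ⊔ V₁ with hXdef
  have hX : X ≤ extSub S Q g := sup_le hX₀ hV₁ext
  have hhX := hh.mono hX
  have hhQ : img Q h = Q := (IsMap.img_congr hhg).trans hgQ
  have hhV : img V₁ h = V₁ := img_eq_of_map_le hV₁S (hh.mono hV₁ext) le_rfl fun z hz => by
    refine (hh.mono hV₁ext).map_mem_of_sup (fun x hx => ?_) (fun x hx => ?_) hz
    · exact Subgroup.mem_sup_left (mem_of_img_eq (hh.mono hV₁ext) le_sup_left hhQ hx)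
    · refine Subgroup.mem_sup_right ?_
      have := map_mem_centralizerIn (hh.mono hV₁ext) le_sup_left (Subgroup.mem_sup_right hx) hx.2
      rwa [hhQ] at this
  have hhE : IsMap E X h := hN₁ X h (isMap_nSystem_iff.2 ⟨hhX.le, fun x hx => hhX.mem_S hx, h,
    by rwa [sup_eq_left.2 (le_sup_right : V₁ ≤ X)], fun _ _ => rfl, hhV⟩)
  have hhE₀ : IsMap E (P ⊔ Q) h := hhE.mono le_sup_left
  have hh₀ : IsMap F (P ⊔ Q) h := hhX.mono le_sup_left
  obtain ⟨h', hh', hh'1, hh'2⟩ := hh₀.exists_inv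
  have hc : IsMap F (img (P ⊔ Q) h) (g ∘ h') := hh'.comp hg fun y hy => (hh'2 y hy).1
  have hQimg : Q ≤ img (P ⊔ Q) h := hhQ.ge.trans (IsMap.img_mono hh₀ le_sup_right)
  have hcE : IsMap E (img (P ⊔ Q) h) (g ∘ h') := by
    refine hC _ _ (isMap_iSystem_iff.2 ⟨hc.le, fun x hx => hc.mem_S hx, g ∘ h', ?_,
      fun _ _ => rfl, 1, S.one_mem, fun y hy => ?_⟩)
    · rwa [sup_eq_left.2 hQimg]
    · obtain ⟨x, hx, rfl⟩ := (hh₀.mono le_sup_right).mem_img.1 (hhQ.ge hy)
      show g (h' (h x)) = _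
      rw [hh'1 x (Subgroup.mem_sup_right hx), ← hhg x hx]
      simp
  refine ((hhE₀.comp hcE fun x hx => hh₀.mem_img.2 ⟨x, hx, rfl⟩).mono le_sup_left).congr
    fun x hx => ?_
  show f x = g (h' (h x))
  rw [hh'1 x (Subgroup.mem_sup_left hx), hgf x hx]


theorem normalBelow (hW : QdFunctor p W) : ∀ n, NormalBelow p W n := by
  intro n
  induction n with
  | zero => intro Ω _ S _ h; exact absurd h (Nat.not_lt_zero _)
  | succ n ih =>
  intro Ω _ S _ hn hS
  have ihS : NormalBelow p W (Nat.card S) := fun Ω' _ S' _ h => ih Ω' S' (by omega)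
  suffices H : ∀ (k : ℕ) (F : FusionSystem S), {z : Subgroup S × (S → S) | ∃ f,
      IsMap F (z.1.map S.subtype) f ∧ ∀ x ∈ z.1, f x = z.2 x}.ncard = k →
      F.IsSaturated p → NoQd p F → F.IsNormal (wSub W S) from
    fun F hF hgood => H _ F rfl hF hgood
  intro k
  induction k using Nat.strong_induction_on with
  | _ k ihk =>
  intro F hk hF hgood
  by_contra hcon
  set V := wSub W S with hV
  have hVS : V ≤ S := wSub_le W S
  have hVn : S ≤ normalizerIn S V := (normalizerIn_wSub_self W hW.natural hS).ge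
  set E := nSystem F S V hVn hVS with hE
  have hproper : ∀ E' : FusionSystem S, E' ≤ F → E'.IsSaturated p →
      (∃ P f, IsMap F P f ∧ ¬ IsMap E' P f) →
      ∀ (P : Subgroup Ω) (f : Ω → Ω), IsMap E' P f → IsMap E P f := by
    rintro E' hEF hEs ⟨P, f, hf, hfE⟩ R g hg
    have hnor := ihk _ (hk ▸ ncard_maps_lt hEF hf hfE) E' rfl hEs (noQd_of_le hEF hgood)
    obtain ⟨g', hg', hg'g, hg'V⟩ := (isNormal_iff.1 hnor).2 R g hg
    exact isMap_nSystem_iff.2 ⟨hg.le, fun x hx => hg.mem_S hx, g', isMap_of_le hEF hg', hg'g, hg'V⟩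
  suffices hall : ∀ (P : Subgroup Ω) (f : Ω → Ω), IsMap F P f → IsMap E P f from
    hcon (isNormal_iff.2 ⟨hVS, fun P f hf => (isMap_nSystem_iff.1 (hall P f hf)).2.2⟩)
  by_cases hS1 : S = ⊥
  · intro P f hf
    have hP : P = ⊥ := le_bot_iff.1 (hS1 ▸ hf.le)
    have hV1 : V = ⊥ := le_bot_iff.1 (hS1 ▸ hVS)
    refine isMap_nSystem_iff.2 ⟨hf.le, fun x hx => hf.mem_S hx, f, ?_, fun _ _ => rfl, ?_⟩
    · rw [hV1, sup_bot_eq]; exact hf
    · rw [hV1]
      exact img_eq_of_map_le bot_le hf bot_le fun x hx => by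
        rw [Subgroup.mem_bot.1 hx, hf.map_one]; exact one_mem _
  by_cases hcore : F.core = ⊥
  · exact isMap_of_core_bot hW hS hF hgood ihS hVn hproper hS1 hcore
  set Q := F.core with hQdef
  have hQ : F.IsNormal Q := isNormal_core
  by_cases hQc : F.IsCentric Q
  · exact absurd (isNormal_wSub_of_centric hW hS hF hgood hQ hQc) hcon
  have hQn : S ≤ normalizerIn S Q :=
    le_normalizerIn_of_stronglyClosed (stronglyClosed_of_isNormal hQ)
  have hQfn := isFullyNormalized_of_isNormal hQ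
  have hQfc := IsSaturated.isFullyCentralized hS hF hQfn
  -- maps normalizing `Q C_S(Q)`
  set V₁ := Q ⊔ centralizerIn S Q with hV₁
  have hV₁S : V₁ ≤ S := sup_le hQ.1 inf_le_left
  have hV₁n : S ≤ normalizerIn S V₁ := fun s hs =>
    normalizerIn_le_normalizerIn_sup_centralizerIn (hQn hs)
  have hN₁ : ∀ (P : Subgroup Ω) (f : Ω → Ω),
      IsMap (nSystem F S V₁ hV₁n hV₁S) P f → IsMap E P f := by
    refine hproper _ (le_of_isMap fun R f h => (isMap_nSystem_iff.1 h).isMap)
      (isSaturated_nSystem_over hS hF hV₁S hV₁n) ?_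
    by_contra hall'
    push Not at hall'
    have hnormal : F.IsNormal V₁ := isNormal_iff.2
      ⟨hV₁S, fun R f hf => (isMap_nSystem_iff.1 (hall' R f hf)).2.2⟩
    refine hQc (isCentric_of_fullyCentralized hQfc ?_)
    exact le_sup_right.trans ((le_core hnormal).trans_eq hQdef.symm)
  -- maps inner on `Q`
  have hC : ∀ (P : Subgroup Ω) (f : Ω → Ω), IsMap (iSystem F Q hQn hQ.1) P f → IsMap E P f := by
    refine hproper _ (le_of_isMap fun R f h => ?_) (isSaturated_iSystem hS hF hQ hQn) ?_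
    · obtain ⟨-, -, g, hg, hge, -⟩ := isMap_iSystem_iff.1 h
      exact (hg.mono le_sup_left).congr fun x hx => (hge x hx).symm
    by_contra hall'
    push Not at hall'
    -- otherwise pass to the quotient
    haveI : (Q.subgroupOf S).Normal :=
      (Subgroup.normal_subgroupOf_iff_le_normalizer hQ.1).2 (hQn.trans inf_le_right)
    let α : S →* S ⧸ Q.subgroupOf S := QuotientGroup.mk' _
    have hker : preimageAlong α ⊥ = Q := by
      rw [preimageAlong, MonoidHom.comap_bot, QuotientGroup.ker_mk']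
      exact Subgroup.map_subgroupOf_eq_of_le hQ.1
    have hKn : F.IsNormal (preimageAlong α ⊥) := hker.symm ▸ hQ
    have hS' : IsPGroup p α.range := hS.of_surjective _ α.rangeRestrict_surjective
    haveI : Finite α.range := Finite.of_surjective _ α.rangeRestrict_surjective
    have hlt : Nat.card α.range < Nat.card S := by
      rw [MonoidHom.range_eq_top.2 (QuotientGroup.mk'_surjective _), Subgroup.card_top,
        Subgroup.card_eq_card_quotient_mul_card_subgroup (Q.subgroupOf S)]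
      refine lt_mul_of_one_lt_right Nat.card_pos ?_
      rw [Nat.card_congr (Subgroup.subgroupOfEquivOfLe hQ.1).toEquiv]
      haveI := finite_of_le hQ.1
      exact (Subgroup.one_lt_card_iff_ne_bot _).2 hcore
    have hnor' := ihS _ α.range hlt hS' _ (isSaturated_quotientSystem hKn hS hF)
      (noQd_quotientSystem hKn hgood)
    have hV2 := isNormal_preimage hS hF hKn (fun R f hf hKR => by
      obtain ⟨-, -, g, -, hge, s, hs, hgs⟩ := isMap_iSystem_iff.1 (hall' R f hf)
      refine ⟨s, hs, fun x hx => ?_⟩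
      rw [← hge x (hKR hx), hgs x (hker.le hx)]) hnor'
    have hle := (le_core hV2).trans_eq hQdef.symm
    refine wSub_ne_bot hW hS' (fun h0 => ?_) (eq_bot_iff.2 fun y hy => ?_)
    · refine hQc (isCentric_of_fullyCentralized hQfc fun x hx => ?_)
      rw [← hker]
      exact mem_preimageAlong.2 ⟨hx.1, h0.le (ext1_mem_range α x)⟩
    · obtain ⟨x, rfl⟩ := wSub_le W _ hy
      have h1 : (x : Ω) ∈ preimageAlong α ⊥ :=
        hker.ge (hle (mem_preimageAlong.2 ⟨x.2, by rwa [ext1_coe]⟩))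
      rw [← ext1_coe α x]
      exact (mem_preimageAlong.1 h1).2
  exact isMap_of_decomposition hS hF hQ hQn hV₁n hN₁ hC

end CfsgLib.Fusion
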