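import Cfsg.Agent.Lib.Fusion.System.RankTwoResistant
import Cfsg.Agent.Lib.Fusion.System.Alperin
import Cfsg.Agent.Lib.Fusion.System.Centric
import Mathlib.GroupTheory.FixedPointFree

/-!
# No essential subgroups in rank two for primes at least five
-/

set_option autoImplicit false
set_option linter.style.haveILetI false

open Subgroup
open scoped Classical commutatorElement

namespace CfsgLib.Fusion.RankTwo

open Cfsg (FusionSystem autInducedBy)
open Cfsg.FusionSystem (normalizerIn centralizerIn)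

variable {p : ℕ} [Fact p.Prime]

theorem exists_pow_mul {M : Type*} [Group M] [Finite M] (hcomm : ∀ a b : M, a * b = b * a)
    (hexp : ∀ a : M, a ^ p = 1) (hcard : Nat.card M = p ^ 2) {x y : M} (hx1 : x ≠ 1)
    (hy : y ∉ zpowers x) (r : M) : ∃ i j : ZMod p, r = x ^ i.val * y ^ j.val := by
  have hp := (Fact.out : p.Prime)
  have hcx : orderOf x = p := orderOf_eq_prime (hexp x) hx1
  have htop : zpowers x ⊔ zpowers y = ⊤ := by
    refine Subgroup.eq_top_of_card_eq _ (le_antisymm (Subgroup.card_le_card_group _) ?_)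
    obtain ⟨i, hi, hie⟩ := (Nat.dvd_prime_pow hp).1
      (hcard ▸ (zpowers x ⊔ zpowers y : Subgroup M).card_subgroup_dvd_card)
    rcases (show i ≤ 1 ∨ i = 2 by omega) with hi1 | rfl
    · exfalso
      have he : zpowers x = zpowers x ⊔ zpowers y := Subgroup.eq_of_le_of_card_ge le_sup_left (by
        rw [hie, Nat.card_zpowers, hcx]
        exact (Nat.pow_le_pow_right hp.pos hi1).trans_eq (pow_one p))
      exact hy (he.ge (mem_sup_right (mem_zpowers y)))
    · rw [hie, hcard]
  letI : CommGroup M := { (inferInstance : Group M) with mul_comm := hcomm }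
  obtain ⟨a, ha, b, hb, rfl⟩ := Subgroup.mem_sup.1 (htop.ge (mem_top r))
  obtain ⟨i, rfl⟩ := mem_powers_iff_mem_zpowers.2 ha
  obtain ⟨j, rfl⟩ := mem_powers_iff_mem_zpowers.2 hb
  exact ⟨i, j, by
    rw [ZMod.val_natCast, ZMod.val_natCast, ← pow_eq_pow_mod _ (hexp x), ← pow_eq_pow_mod _ (hexp y)]⟩

omit [Fact p.Prime] in
/-- Central automorphisms of a group generated by two elements modulo `Z` are few. -/
theorem card_central_aut_le {G : Type*} [Group G] [Finite G] {Z : Subgroup G} {a b : G}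
    (hgen : closure (insert a (insert b (Z : Set G))) = ⊤) (A : Subgroup (MulAut G))
    (ha : ∀ f ∈ A, a⁻¹ * f a ∈ Z) (hb : ∀ f ∈ A, b⁻¹ * f b ∈ Z) (hZ : ∀ f ∈ A, ∀ w ∈ Z, f w = w) :
    Nat.card A ≤ Nat.card Z * Nat.card Z := by
  rw [← Nat.card_prod]
  refine Nat.card_le_card_of_injective
    (fun f : A => ((⟨_, ha f f.2⟩ : Z), (⟨_, hb f f.2⟩ : Z))) fun f g hfg => ?_
  simp only [Prod.mk.injEq, Subtype.mk.injEq, mul_right_inj] at hfg
  refine Subtype.ext (MulEquiv.ext fun r => ?_)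
  have hle : closure (insert a (insert b (Z : Set G))) ≤
      (f : MulAut G).toMonoidHom.eqLocus (g : MulAut G).toMonoidHom := by
    rw [closure_le]
    rintro w (rfl | rfl | hw)
    · exact hfg.1
    · exact hfg.2
    · exact (hZ f f.2 w hw).trans (hZ g g.2 w hw).symm
  exact hle (hgen.ge (mem_top r))

variable {Ω : Type*} [Group Ω] {S : Subgroup Ω} [Finite S] {F : FusionSystem S}

/-- The conjugation map from the normalizer into the automizer. -/
noncomputable def conjHomAut (F : FusionSystem S) {Q : Subgroup Ω} (hQS : Q ≤ S) :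
    normalizerIn S Q →* F.autGroup Q :=
  MonoidHom.mk' (fun g => ⟨conjAut (g : Ω) g.2.2, autInducedBy_le_autGroup hQS (conjAut_mem g.2.1 _)⟩)
    fun g g' => Subtype.ext (MulEquiv.ext fun q => Subtype.ext (by
      show ((g * g' : normalizerIn S Q) : Ω) * (q : Ω) * ((g * g' : normalizerIn S Q) : Ω)⁻¹ =
        (g : Ω) * ((g' : Ω) * (q : Ω) * (g' : Ω)⁻¹) * (g : Ω)⁻¹
      rw [Subgroup.coe_mul]
      group))

omit [Fact p.Prime] in
theorem conjHomAut_apply {Q : Subgroup Ω} (hQS : Q ≤ S) (g : normalizerIn S Q) (q : Q) :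
    ((((conjHomAut F hQS g : F.autGroup Q) : MulAut Q) q : Q) : Ω) = g * (q : Ω) * (g : Ω)⁻¹ := rfl

/-- An essential subgroup of order `p²` forces `S` to be extraspecial of order `p³` and exponent
`p` when `S` has rank two and `p ≥ 5`. -/
theorem false_of_plane (hp5 : 5 ≤ p) (hS : IsPGroup p S) (hF : F.IsSaturated p)
    (hrk : ∀ A : Subgroup Ω, A ≤ S → Cfsg.IsElementaryAbelian p A → Nat.card A ≤ p ^ 2)
    (hnotE : ¬ (Nat.card S = p ^ 3 ∧ Monoid.exponent ↥S = p))
    {E : Subgroup Ω} (hE : F.IsEssential p E) (hcardE : Nat.card E = p ^ 2) : False := by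
  have hp := (Fact.out : p.Prime)
  have hp2 : p ≠ 2 := by omega
  have hES := hE.1.1
  haveI : Finite E := finite_of_le hES
  haveI := finite_mulAut (P := E)
  obtain ⟨hEab, -⟩ := EssentialPlane.essential_card_sq hS hE hcardE
  have hcomm : ∀ a b : E, a * b = b * a := fun a b =>
    Subtype.ext (CfsgLib.EABasic.comm_of_isElementaryAbelian hEab a.2 b.2)
  have hexp : ∀ a : E, a ^ p = 1 := fun a => Subtype.ext (by simpa using hEab.2 a a.2)
  have hcent : centralizerIn S E = E := le_antisymm (centralizerIn_le_of_isCentric hE.1)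
    fun w hw => ⟨hES hw, mem_centralizer_iff.2 fun v hv =>
      CfsgLib.EABasic.comm_of_isElementaryAbelian hEab hv hw⟩
  obtain ⟨hfa, hr⟩ := IsSaturated.automized_receptive hS hF hE.2.1
  have hcore := EssentialPlane.pCore_autGroup_eq_bot hS hE hcomm
  set X := F.autGroup E with hX
  obtain ⟨-, Psyl, hPsyl⟩ := id hfa
  have hPmem : ∀ g : X, g ∈ (Psyl : Subgroup X) ↔ (g : MulAut E) ∈ autInducedBy S E := fun g => by
    rw [hPsyl, Subgroup.mem_subgroupOf]
  obtain ⟨-, z', a', lam, h, hz1', ha', hPfix, hl0, hl2, hl3, -, hhord, hhn, hhz, hha, hneg⟩ :=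
    exists_diag hp5 hcomm hexp hcardE X X.subtype
      (fun g hg _ => Subtype.ext hg) (by
        rw [hcore, Subgroup.index_bot]; exact EssentialPlane.dvd_card_autGroup hE) Psyl
  set N := normalizerIn S E with hN
  obtain ⟨H, hHmem, hHord, hHe⟩ : ∃ H : MulAut N, H ∈ F.autGroup N ∧ H ^ (p - 1) = 1 ∧
      ∀ (q : N) (hq : (q : Ω) ∈ E), ((H q : N) : Ω) = (h : MulAut E) ⟨q, hq⟩ :=
    exists_ext hS hr hcent.le h.2 (by rw [← Subgroup.coe_pow, hhord]; rfl) fun α hα =>
      (hPmem _).1 (hhn ⟨α, autInducedBy_le_autGroup hES hα⟩ ((hPmem _).2 hα))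
  haveI : Finite N := finite_of_le inf_le_left
  haveI := finite_mulAut (P := N)
  have hNp : IsPGroup p N := hS.to_le inf_le_left
  have hEN : E ≤ N := le_normalizerIn hES
  -- order of `N`
  have hPne : autInducedBy S E ≠ ⊥ := by
    intro hbot
    refine Psyl.not_dvd_index ?_
    rw [hPsyl, hbot, Subgroup.bot_subgroupOf, Subgroup.index_bot]
    exact EssentialPlane.dvd_card_autGroup hE
  have hPcard : Nat.card (autInducedBy S E) = p := by
    obtain ⟨k, hk⟩ := (isPGroup_autInducedBy hS (P := E)).exists_card_eq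
    have h1 := card_pGroup_aut_le hcomm hexp hcardE _ (isPGroup_autInducedBy hS (P := E))
    rcases k with _ | k
    · exact absurd (Subgroup.card_eq_one.1 (by simpa using hk)) hPne
    · exact le_antisymm h1 (hk ▸ Nat.le_self_pow (Nat.succ_ne_zero k) p)
  have hNcard : Nat.card N = p ^ 3 := by
    rw [hN, ← card_autInducedBy_mul, hcent, hPcard, hcardE, ← pow_succ']
  set z : N := ⟨(z' : Ω), hEN z'.2⟩ with hz
  set a : N := ⟨(a' : Ω), hEN a'.2⟩ with ha
  let c := conjHomAut F hES
  have hcP : ∀ g : N, c g ∈ (Psyl : Subgroup X) := fun g => (hPmem _).2 (conjAut_mem g.2.1 _)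
  have hzp : z ^ p = 1 := Subtype.ext (by simpa [hz] using congrArg Subtype.val (hexp z'))
  have hap : a ^ p = 1 := Subtype.ext (by simpa [ha] using congrArg Subtype.val (hexp a'))
  have hz1 : z ≠ 1 := fun e => hz1' (Subtype.ext (congrArg (fun w : N => (w : Ω)) e))
  have hzc : ∀ g : N, Commute z g := fun g => Subtype.ext (by
    have h1 : ((((c g : X) : MulAut E) z' : E) : Ω) = (z' : Ω) :=
      congrArg Subtype.val (hPfix _ (hcP g)).1
    rw [conjHomAut_apply] at h1
    show (z' : Ω) * g = g * z'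
    nth_rw 1 [← h1]
    rw [inv_mul_cancel_right])
  set E' := E.subgroupOf N with hE'
  have hE'mem : ∀ g : N, g ∈ E' ↔ (g : Ω) ∈ E := fun g => Iff.rfl
  have hE'dec : ∀ g ∈ E', ∃ i j : ZMod p, g = z ^ i.val * a ^ j.val := fun g hg => by
    obtain ⟨i, j, hij⟩ := exists_pow_mul hcomm hexp hcardE hz1' ha' ⟨g, hg⟩
    exact ⟨i, j, Subtype.ext (by simpa [hz, ha] using congrArg (Subtype.val : E → Ω) hij)⟩
  set m := (p - 1) / 2 with hmdef
  have hm2 : m + m = p - 1 := by
    obtain ⟨t, ht⟩ := hp.odd_of_ne_two hp2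
    omega
  have hHQ : ∀ (n : ℕ) (q : N) (hq : (q : Ω) ∈ E),
      (((H ^ n) q : N) : Ω) = ((h : MulAut E) ^ n) ⟨q, hq⟩ := by
    intro n
    induction n with
    | zero => intro q hq; simp
    | succ n ih =>
      intro q hq
      rw [pow_succ', pow_succ', MulAut.mul_apply, MulAut.mul_apply]
      have h1 := ih q hq
      have h1' : (((H ^ n) q : N) : Ω) ∈ E := h1.symm ▸ SetLike.coe_mem _
      rw [hHe _ h1']
      exact congrArg (fun w => (((h : MulAut E) w : E) : Ω)) (Subtype.ext h1)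
  set T := H ^ m with hT
  have hTinv : ∀ g ∈ E', T g = g⁻¹ := fun g hg => Subtype.ext (by
    rw [hT, hHQ m g hg]
    have := hneg ⟨g, hg⟩
    rw [Subgroup.subtype_apply, Subgroup.coe_pow] at this
    rw [this]; rfl)
  have hT2 : ∀ g : N, T (T g) = g := fun g => by
    rw [hT, ← MulAut.mul_apply, ← pow_add, hm2, hHord, MulAut.one_apply]
  have hfixE : ∀ g ∈ E', T g = g → g = 1 := fun g hg hgT => by
    have h1 : g⁻¹ = g := (hTinv g hg).symm.trans hgT
    have h2 : orderOf g ∣ 2 := orderOf_dvd_of_pow_eq_one (by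
      rw [sq]; nth_rw 1 [← h1]; exact inv_mul_cancel g)
    rcases (Nat.dvd_prime Nat.prime_two).1 h2 with h' | h'
    · exact orderOf_eq_one_iff.1 h'
    · obtain ⟨i, hi⟩ := hNp g
      exact absurd (h' ▸ orderOf_dvd_of_pow_eq_one hi) fun h3 =>
        hp2 ((Nat.prime_dvd_prime_iff_eq Nat.prime_two hp).1 (Nat.prime_two.dvd_of_dvd_pow h3)).symm
  have hmemE : ∀ g : N, Commute g z → Commute g a → g ∈ E' := by
    intro g hgz hga
    have h1 : (g : Ω) ∈ centralizerIn S E := by
      refine ⟨g.2.1, mem_centralizer_iff.2 fun w hw => ?_⟩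
      obtain ⟨i, j, hij⟩ := hE'dec ⟨w, hEN hw⟩ hw
      have h2 : Commute g ⟨w, hEN hw⟩ := by
        rw [hij]; exact (hgz.pow_right _).mul_right (hga.pow_right _)
      exact (congrArg Subtype.val h2.eq).symm
    exact hcent.le h1
  have hconjT : ∀ g : N, ∀ q ∈ E', T g * q * (T g)⁻¹ = g * q * g⁻¹ := by
    intro g q hq
    have hgq : g * q⁻¹ * g⁻¹ ∈ E' := (Subgroup.mem_normalizer_iff.1 g.2.2 _).1 (inv_mem hq)
    have h1 : T g * q * (T g)⁻¹ = T (g * q⁻¹ * g⁻¹) := by
      rw [map_mul, map_mul, map_inv T g, hTinv _ (inv_mem hq), inv_inv]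
    rw [h1, hTinv _ hgq]
    group
  have hTE : ∀ g : N, g⁻¹ * T g ∈ E' := by
    intro g
    have h1 : ∀ q ∈ E', Commute (g⁻¹ * T g) q := fun q hq => by
      show g⁻¹ * T g * q = q * (g⁻¹ * T g)
      calc g⁻¹ * T g * q = g⁻¹ * (T g * q * (T g)⁻¹) * T g := by group
        _ = g⁻¹ * (g * q * g⁻¹) * T g := by rw [hconjT g q hq]
        _ = q * (g⁻¹ * T g) := by group
    exact hmemE _ (h1 z z'.2) (h1 a a'.2)
  obtain ⟨g₀, hg₀⟩ : ∃ g : N, g ∉ E' := by
    by_contra! hall
    have h1 : N ≤ E := fun w hw => hall ⟨w, hw⟩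
    have h2 := Subgroup.card_le_of_le h1
    rw [hNcard, hcardE] at h2
    exact absurd h2 (not_le.2 (Nat.pow_lt_pow_right hp.one_lt (by norm_num)))
  have hodd : ∀ g : N, Odd (orderOf g) := fun g => by
    obtain ⟨k, hk⟩ := hNp g
    obtain ⟨i, -, hi⟩ := (Nat.dvd_prime_pow hp).1 (orderOf_dvd_of_pow_eq_one hk)
    rw [hi]
    exact (hp.odd_of_ne_two hp2).pow
  obtain ⟨n₀, hn₀⟩ := exists_fixed T (hT2 g₀) (hodd _)
  obtain ⟨s, hsdef⟩ : ∃ s, s = g₀ * (g₀⁻¹ * T g₀) ^ n₀ := ⟨_, rfl⟩
  rw [← hsdef] at hn₀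
  have hsE : s ∉ E' := fun hs => hg₀ (by
    have := mul_mem hs (inv_mem (pow_mem (hTE g₀) n₀))
    rwa [hsdef, mul_inv_cancel_right] at this)
  haveI hE'n : E'.Normal := ⟨fun q hq g => (Subgroup.mem_normalizer_iff.1 g.2.2 _).1 hq⟩
  have hE'card : Nat.card E' = p ^ 2 := by
    rw [← hcardE]
    exact Nat.card_congr (Subgroup.subgroupOfEquivOfLe hEN).toEquiv
  have hquot : Nat.card (N ⧸ E') = p := by
    have h1 := E'.card_mul_index
    rw [hE'card, hNcard, Subgroup.index_eq_card, pow_succ p 2] at h1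
    exact Nat.eq_of_mul_eq_mul_left (pow_pos hp.pos 2) h1
  have hpowE : ∀ g : N, g ^ p ∈ E' := fun g => by
    have := pow_card_eq_one' (x := (g : N ⧸ E'))
    rwa [hquot, ← QuotientGroup.mk_pow, QuotientGroup.eq_one_iff] at this
  have hsp : s ^ p = 1 := hfixE _ (hpowE s) (by rw [map_pow, hn₀])
  have hdecN : ∀ g : N, ∃ k : ℕ, ∃ q ∈ E', g = s ^ k * q := fun g => by
    have hy1 : (s : N ⧸ E') ≠ 1 := fun h => hsE ((QuotientGroup.eq_one_iff s).1 h)
    haveI : Fact (Nat.card (N ⧸ E')).Prime := ⟨hquot ▸ hp⟩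
    obtain ⟨k, hk⟩ := mem_powers_iff_mem_zpowers.2
      (mem_zpowers_of_prime_card hquot hy1 (g' := (g : N ⧸ E')))
    refine ⟨k, (s ^ k)⁻¹ * g, QuotientGroup.eq.1 ?_, (mul_inv_cancel_left _ _).symm⟩
    rw [QuotientGroup.mk_pow]
    exact hk
  have haz : Commute a z := (hzc a).symm
  have has : ¬ Commute a s := fun hc => hsE (hmemE s (hzc s).symm hc.symm)
  have hzN : (zpowers z).Normal := ⟨fun w hw g => by
    rw [(commute_of_zpowers hzc hw g).symm.eq, mul_inv_cancel_right]; exact hw⟩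
  obtain ⟨i₀, hi₀⟩ : ∃ i : ℕ, s * a * s⁻¹ = a * z ^ i := by
    obtain ⟨i, hi⟩ := mem_powers_iff_mem_zpowers.2 (hPfix _ (hcP s)).2
    refine ⟨i, Subtype.ext ?_⟩
    have h1 := congrArg (Subtype.val : E → Ω) hi
    simp only [Subgroup.subtype_apply, Subgroup.coe_mul, Subgroup.coe_inv, SubmonoidClass.coe_pow] at h1
    rw [show ((((c s : X) : MulAut E) a' : E) : Ω) = (s : Ω) * a' * (s : Ω)⁻¹ from rfl] at h1
    simp only [Subgroup.coe_mul, Subgroup.coe_inv, SubmonoidClass.coe_pow, hz, ha]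
    rw [h1, mul_inv_cancel_left]
  have hi₀' : (i₀ : ZMod p) ≠ 0 := fun h0 => by
    obtain ⟨t, rfl⟩ := (ZMod.natCast_eq_zero_iff i₀ p).1 h0
    rw [pow_mul, hzp, one_pow, mul_one, mul_inv_eq_iff_eq_mul] at hi₀
    exact has hi₀.symm
  have hNZ : ∀ u v : N, ⁅u, v⁆ ∈ zpowers z := by
    have hgenQ : ∀ g : N, (g : N ⧸ zpowers z) ∈ zpowers (a : N ⧸ zpowers z) ⊔ zpowers (s : N ⧸ zpowers z) := by
      intro g
      obtain ⟨k, q, hq, rfl⟩ := hdecN g
      obtain ⟨i, j, rfl⟩ := hE'dec q hq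
      rw [QuotientGroup.mk_mul, QuotientGroup.mk_mul, QuotientGroup.mk_pow, QuotientGroup.mk_pow,
        QuotientGroup.mk_pow, (QuotientGroup.eq_one_iff z).2 (mem_zpowers z), one_pow, one_mul]
      exact mul_mem (mem_sup_right (pow_mem (mem_zpowers _) _))
        (mem_sup_left (pow_mem (mem_zpowers _) _))
    have hac : Commute (a : N ⧸ zpowers z) (s : N ⧸ zpowers z) := by
      have h1 : ((s * a * s⁻¹ : N) : N ⧸ zpowers z) = (a : N ⧸ zpowers z) := by
        rw [hi₀, QuotientGroup.mk_mul, QuotientGroup.mk_pow,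
          (QuotientGroup.eq_one_iff z).2 (mem_zpowers z), one_pow, mul_one]
      rw [QuotientGroup.mk_mul, QuotientGroup.mk_mul, QuotientGroup.mk_inv,
        mul_inv_eq_iff_eq_mul] at h1
      exact h1.symm
    intro u v
    refine (QuotientGroup.eq_one_iff _).1 ?_
    rw [← QuotientGroup.mk'_apply (zpowers z), map_commutatorElement, QuotientGroup.mk'_apply,
      QuotientGroup.mk'_apply, commutatorElement_eq_one_iff_mul_comm]
    have hC : ∀ w ∈ zpowers (a : N ⧸ zpowers z) ⊔ zpowers (s : N ⧸ zpowers z),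
        Commute w (a : N ⧸ zpowers z) ∧ Commute w (s : N ⧸ zpowers z) := by
      intro w hw
      have hle : zpowers (a : N ⧸ zpowers z) ⊔ zpowers (s : N ⧸ zpowers z) ≤
          centralizer {(a : N ⧸ zpowers z), (s : N ⧸ zpowers z)} := by
        refine sup_le (zpowers_le.2 ?_) (zpowers_le.2 ?_) <;>
          refine mem_centralizer_iff.2 ?_ <;> rintro _ (rfl | rfl)
        · rfl
        · exact hac.symm
        · exact hac
        · rfl
      exact ⟨(mem_centralizer_iff.1 (hle hw) _ (Or.inl rfl)).symm,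
        (mem_centralizer_iff.1 (hle hw) _ (Or.inr rfl)).symm⟩
    have hle2 : zpowers (a : N ⧸ zpowers z) ⊔ zpowers (s : N ⧸ zpowers z) ≤
        centralizer {(u : N ⧸ zpowers z)} :=
      sup_le (zpowers_le.2 (mem_centralizer_singleton_iff.2 (hC _ (hgenQ u)).1.symm.eq))
        (zpowers_le.2 (mem_centralizer_singleton_iff.2 (hC _ (hgenQ u)).2.symm.eq))
    exact (mem_centralizer_singleton_iff.1 (hle2 (hgenQ v))).symm
  have hexpN : ∀ g : N, g ^ p = 1 := by
    intro g
    obtain ⟨k, q, hq, rfl⟩ := hdecN g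
    have hq1 : q ^ p = 1 := Subtype.ext (by simpa using hEab.2 q hq)
    have hcz : ∀ w, Commute ⁅q, s ^ k⁆ w := commute_of_zpowers hzc (hNZ _ _)
    rw [CfsgLib.PGroup.mul_pow_of_commute_commutator (c := ⁅q, s ^ k⁆)
      (by rw [commutatorElement_def]; group) (hcz _) (hcz _), ← pow_mul, mul_comm k, pow_mul, hsp,
      one_pow, one_mul, hq1, one_mul]
    obtain ⟨i, hi⟩ := mem_zpowers_iff.1 (hNZ q (s ^ k))
    obtain ⟨t, ht⟩ := hp.dvd_choose_self two_ne_zero (by omega : 2 < p)
    rw [← hi, ← zpow_natCast, ← zpow_mul, ht, Nat.cast_mul, mul_left_comm, zpow_mul, zpow_natCast,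
      hzp, one_zpow]
  have hHa : H a = a ^ (lam⁻¹).val := Subtype.ext (by
    rw [hHe a a'.2, SubmonoidClass.coe_pow]
    show (((h : MulAut E) a' : E) : Ω) = (a' : Ω) ^ _
    rw [← SubmonoidClass.coe_pow]
    exact congrArg Subtype.val hha)
  have hHz : H z = z ^ lam.val := Subtype.ext (by
    rw [hHe z z'.2, SubmonoidClass.coe_pow]
    show (((h : MulAut E) z' : E) : Ω) = (z' : Ω) ^ _
    rw [← SubmonoidClass.coe_pow]
    exact congrArg Subtype.val hhz)
  -- the weight of `s`
  have hHs : H s = s ^ (lam ^ 2).val := by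
    obtain ⟨k, q, hq, hk⟩ := hdecN (H s)
    have hq1 : q = 1 := by
      have hTH : T (H s) = H s := by
        rw [hT, ← MulAut.mul_apply, ← pow_succ, pow_succ', MulAut.mul_apply, ← hT, hn₀]
      rw [hk, map_mul, map_pow, hn₀] at hTH
      exact hfixE q hq (mul_left_cancel hTH)
    rw [hq1, mul_one] at hk
    rw [hk]
    have h1 := congrArg H hi₀
    rw [map_mul, map_mul, map_inv, map_mul, map_pow, hHa, hHz, hk] at h1
    have hconjpow : ∀ n : ℕ, s ^ n * a * (s ^ n)⁻¹ = a * z ^ (i₀ * n) := by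
      intro n
      induction n with
      | zero => simp
      | succ n ih =>
        calc s ^ (n + 1) * a * (s ^ (n + 1))⁻¹ = s * (s ^ n * a * (s ^ n)⁻¹) * s⁻¹ := by
              rw [pow_succ']; group
          _ = s * a * s⁻¹ * (s * z ^ (i₀ * n) * s⁻¹) := by rw [ih]; group
          _ = a * z ^ (i₀ * (n + 1)) := by
              rw [hi₀, ← ((hzc s).pow_left (i₀ * n)).eq, mul_inv_cancel_right, mul_assoc,
                ← pow_add, Nat.mul_succ, add_comm]
    rw [← conj_pow, hconjpow, (haz.pow_right _).mul_pow, ← pow_mul z, ← pow_mul z] at h1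
    have h2 := pow_inj_mod.1 (mul_left_cancel h1)
    rw [orderOf_eq_prime hzp hz1] at h2
    have h3 := (ZMod.natCast_eq_natCast_iff' _ _ _).2 h2
    push_cast at h3
    rw [ZMod.natCast_zmod_val, ZMod.natCast_zmod_val] at h3
    have h4 : (k : ZMod p) * lam⁻¹ = lam :=
      mul_left_cancel₀ hi₀' (by rw [← mul_assoc]; linear_combination h3)
    have h5 : (k : ZMod p) = lam ^ 2 := by
      rw [sq]; nth_rw 1 [← h4]; rw [inv_mul_cancel_right₀ hl0]
    rw [pow_eq_pow_mod k hsp, ← ZMod.val_natCast, h5]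
  -- `S` is bigger than `N`
  have hNS : N < S := by
    refine lt_of_le_of_ne inf_le_left fun e => hnotE ⟨by rw [← e]; exact hNcard, ?_⟩
    refine Nat.dvd_antisymm (Monoid.exponent_dvd_of_forall_pow_eq_one fun g => ?_) ?_
    · have h1 := congrArg (fun w : N => (w : Ω)) (hexpN ⟨g, e.ge g.2⟩)
      exact Subtype.ext (by simpa using h1)
    · have h1 : orderOf (⟨(z : Ω), z.2.1⟩ : S) = p := by
        refine orderOf_eq_prime (Subtype.ext (by simpa using congrArg Subtype.val hzp)) ?_
        exact fun e' => hz1 (Subtype.ext (congrArg (fun w : S => (w : Ω)) e'))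
      rw [← h1]
      exact Monoid.order_dvd_exponent _
  have hNcentric : F.IsCentric N := isCentric_mono hE.1 hEN inf_le_left
  have hNr : F.IsReceptive N :=
    IsSaturated.isReceptive hS hF (isFullyCentralized_of_isCentric hNcentric)
  have hNc : centralizerIn S N ≤ N := centralizerIn_le_of_isCentric hNcentric
  have hgenN : closure (insert a (insert s ((zpowers z : Subgroup N) : Set N))) = ⊤ := by
    refine eq_top_iff.2 fun g _ => ?_
    obtain ⟨k, q, hq, rfl⟩ := hdecN g
    obtain ⟨i, j, rfl⟩ := hE'dec q hq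
    exact mul_mem (pow_mem (subset_closure (by simp)) _)
      (mul_mem (subset_closure (by simp)) (pow_mem (subset_closure (by simp)) _))
  have hcenN : ∀ g : N, g ∈ center N ↔ g ∈ zpowers z := fun g => by
    constructor
    · intro hg
      have hgc : ∀ w, Commute g w := fun w => (Subgroup.mem_center_iff.1 hg w).symm
      obtain ⟨i, j, hij⟩ := hE'dec g (hmemE g (hgc z) (hgc a))
      have hj : j = 0 := by
        by_contra hj
        have h1 : Commute (a ^ j.val) s := by
          rw [show a ^ j.val = (z ^ i.val)⁻¹ * g by rw [hij, inv_mul_cancel_left]]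
          exact ((hzc s).pow_left _).inv_left.mul_left (hgc s)
        have h2 := h1.pow_left (j⁻¹).val
        rw [pow_val_pow hap, mul_inv_cancel₀ hj, ZMod.val_one, pow_one] at h2
        exact has h2
      rw [hij, hj, ZMod.val_zero, pow_zero, mul_one]
      exact pow_mem (mem_zpowers z) _
    · exact fun hg => Subgroup.mem_center_iff.2 fun w => (commute_of_zpowers hzc hg w).symm.eq
  have hzcard : Nat.card (zpowers z) = p := by rw [Nat.card_zpowers, orderOf_eq_prime hzp hz1]
  set A₁ := autInducedBy S N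
  obtain ⟨hMc, hMe, hMcard⟩ : (∀ u v : N ⧸ center N, u * v = v * u) ∧
      (∀ u : N ⧸ center N, u ^ p = 1) ∧ Nat.card (N ⧸ center N) = p ^ 2 := by
    refine ⟨fun u v => ?_, fun u => ?_, ?_⟩
    · induction u using QuotientGroup.induction_on with
      | _ u =>
      induction v using QuotientGroup.induction_on with
      | _ v =>
      rw [← QuotientGroup.mk_mul, ← QuotientGroup.mk_mul, QuotientGroup.eq, hcenN]
      have := hNZ v⁻¹ u⁻¹
      simpa [commutatorElement_def, mul_assoc] using this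
    · induction u using QuotientGroup.induction_on with
      | _ u => rw [← QuotientGroup.mk_pow, hexpN, QuotientGroup.mk_one]
    · have h1 := (center N).card_mul_index
      rw [show center N = zpowers z from SetLike.ext hcenN] at h1 ⊢
      rw [hzcard, hNcard, pow_succ' p 2, Subgroup.index_eq_card] at h1
      exact Nat.eq_of_mul_eq_mul_left hp.pos h1
  have hW : ∀ f : MulAut N, ∀ w ∈ (⊤ : Subgroup N), f w ∈ (⊤ : Subgroup N) :=
    fun _ _ _ => mem_top _
  -- the action on `N` modulo its centre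
  let Kc : Subgroup (MulAut N) :=
    { carrier := {f | a⁻¹ * f a ∈ zpowers z ∧ s⁻¹ * f s ∈ zpowers z ∧ ∀ w ∈ zpowers z, f w = w}
      one_mem' := by simp [one_mem]
      mul_mem' := fun {f g} hf hg => by
        have key : ∀ v : N, v⁻¹ * f v ∈ zpowers z → v⁻¹ * g v ∈ zpowers z →
            v⁻¹ * (f * g) v ∈ zpowers z := by
          intro v hfv hgv
          rw [MulAut.mul_apply, show g v = v * (v⁻¹ * g v) by rw [mul_inv_cancel_left], map_mul,
            hf.2.2 _ hgv, ← mul_assoc]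
          exact mul_mem hfv hgv
        exact ⟨key a hf.1 hg.1, key s hf.2.1 hg.2.1, fun w hw => by
          rw [MulAut.mul_apply, hg.2.2 w hw, hf.2.2 w hw]⟩
      inv_mem' := fun {f} hf => by
        have hw : ∀ w ∈ zpowers z, f⁻¹ w = w := fun w hw => by
          nth_rw 1 [← hf.2.2 w hw]; exact MulEquiv.symm_apply_apply f w
        have key : ∀ v : N, v⁻¹ * f v ∈ zpowers z → v⁻¹ * f⁻¹ v ∈ zpowers z := by
          intro v hfv
          have h1 : f⁻¹ v = v * (v⁻¹ * f v)⁻¹ := f.injective (by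
            rw [map_mul, map_inv, hf.2.2 _ hfv, mul_inv_rev, inv_inv, mul_inv_cancel_left]
            exact MulEquiv.apply_symm_apply f v)
          rw [h1, inv_mul_cancel_left]
          exact inv_mem hfv
        exact ⟨key a hf.1, key s hf.2.1, hw⟩ }
  have hKc : Nat.card Kc ≤ p ^ 2 := by
    refine (card_central_aut_le hgenN Kc (fun f hf => hf.1) (fun f hf => hf.2.1)
      (fun f hf => hf.2.2)).trans_eq ?_
    rw [hzcard, sq]
  -- `p`-groups of automorphisms of `N` have order at most `p ^ 3`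
  have hNtop : Nat.card (⊤ : Subgroup N) = p ^ 3 := by rw [Subgroup.card_top, hNcard]
  have hnc : ∃ u v : (⊤ : Subgroup N), u * v ≠ v * u :=
    ⟨⟨a, mem_top _⟩, ⟨s, mem_top _⟩, fun e => has (congrArg Subtype.val e)⟩
  have hexpT : ∀ w : (⊤ : Subgroup N), w ^ p = 1 := fun w => Subtype.ext (by simpa using hexpN w)
  set ρ := centerQuotAct (⊤ : Subgroup N) hW (F.autGroup N)
  have hkerK : ∀ f : F.autGroup N, ρ f = 1 → (f : MulAut N) ∈ Kc := by
    intro f hf
    have key : ∀ v : N, v⁻¹ * (f : MulAut N) v ∈ zpowers z := fun v => by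
      have h1 := centerQuotAct_mk (⊤ : Subgroup N) hW (F.autGroup N) f ⟨v, mem_top _⟩
      rw [show centerQuotAct (⊤ : Subgroup N) hW (F.autGroup N) f = 1 from hf, MulAut.one_apply,
        QuotientGroup.eq] at h1
      refine (hcenN _).1 (Subgroup.mem_center_iff.2 fun w => ?_)
      exact congrArg Subtype.val (Subgroup.mem_center_iff.1 h1 ⟨w, mem_top _⟩)
    refine ⟨key a, key s, fun w hw => ?_⟩
    refine fix_center_of_trivial hW hNtop hnc hexpT _ f hf ⟨w, mem_top _⟩ ?_
    exact Subgroup.mem_center_iff.2 fun v => Subtype.ext (commute_of_zpowers hzc hw v).symm.eq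
  obtain ⟨hQ1, hQ2, hQ3⟩ := quotient_plane hNtop hnc hexpT
  have hPbound : ∀ P : Subgroup (F.autGroup N), IsPGroup p P → Nat.card P ≤ p ^ 3 := by
    intro P hP
    have h1 : Nat.card (P.map ρ) ≤ p := card_pGroup_aut_le hQ1 hQ2 hQ3 _ (hP.map ρ)
    have h2 : Nat.card P = Nat.card (ρ.comp P.subtype).ker * Nat.card (P.map ρ) := by
      have := (ρ.comp P.subtype).ker.card_mul_index
      rw [Subgroup.index_ker, MonoidHom.range_comp, Subgroup.range_subtype] at this
      exact this.symm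
    have h3 : Nat.card (ρ.comp P.subtype).ker ≤ Nat.card Kc :=
      Nat.card_le_card_of_injective
        (fun f => (⟨(((f : P) : F.autGroup N) : MulAut N), hkerK _ f.2⟩ : Kc)) fun f g hfg => by
          have h4 := congrArg (fun w : Kc => (w : MulAut N)) hfg
          exact Subtype.ext (Subtype.ext (Subtype.ext h4))
    rw [h2, pow_succ]
    exact Nat.mul_le_mul (h3.trans hKc) h1
  -- the normalizer of `N`
  set N₂ := normalizerIn S N with hN₂
  haveI : Finite N₂ := finite_of_le inf_le_left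
  have hCN : Nat.card (centralizerIn S N) = p := by
    rw [show centralizerIn S N = (zpowers z).map N.subtype from ?_,
      Subgroup.card_map_of_injective N.subtype_injective, hzcard]
    ext w
    constructor
    · intro hw
      refine ⟨⟨w, hNc hw⟩, (hcenN _).1 (Subgroup.mem_center_iff.2 fun v => Subtype.ext ?_), rfl⟩
      exact mem_centralizer_iff.1 hw.2 v v.2
    · rintro ⟨v, hv, rfl⟩
      exact ⟨v.2.1, mem_centralizer_iff.2 fun u hu =>
        (congrArg Subtype.val (commute_of_zpowers hzc hv ⟨u, hu⟩).eq).symm⟩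
  have hA₁le : A₁ ≤ F.autGroup N := autInducedBy_le_autGroup inf_le_left
  have hA₁card : Nat.card A₁ = p ^ 3 := by
    have hle : Nat.card A₁ ≤ p ^ 3 := by
      refine le_trans ?_ (hPbound (A₁.subgroupOf (F.autGroup N))
        ((isPGroup_autInducedBy hS).of_equiv (Subgroup.subgroupOfEquivOfLe hA₁le).symm))
      exact (Nat.card_congr (Subgroup.subgroupOfEquivOfLe hA₁le).toEquiv).ge
    obtain ⟨k, hk⟩ := (isPGroup_autInducedBy hS (P := N)).exists_card_eq
    have hlt : Nat.card N < Nat.card N₂ := by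
      have h1 : N < N₂ := lt_normalizerIn hS hNS.le hNS.ne
      exact (Subgroup.card_le_of_le h1.le).lt_of_ne fun e => h1.ne
        (Subgroup.eq_of_le_of_card_ge h1.le e.ge)
    rw [hN₂, ← card_autInducedBy_mul (P := N) S, hCN, hk, hNcard, ← pow_succ] at hlt
    have h3 := (Nat.pow_lt_pow_iff_right hp.one_lt).1 hlt
    have h4 := (Nat.pow_le_pow_iff_right hp.one_lt).1 (hk ▸ hle)
    rw [show Nat.card A₁ = p ^ k from hk, show k = 3 by omega]
  have hN₂card : Nat.card N₂ = p ^ 4 := by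
    rw [hN₂, ← card_autInducedBy_mul (P := N) S, hCN, show Nat.card (autInducedBy S N) = p ^ 3 from hA₁card,
      ← pow_succ]
  haveI := finite_mulAut (P := N)
  obtain ⟨P₁, hP₁⟩ : ∃ P₁ : Sylow p (F.autGroup N),
      (P₁ : Subgroup (F.autGroup N)) = A₁.subgroupOf (F.autGroup N) := by
    have hP' : IsPGroup p (A₁.subgroupOf (F.autGroup N)) :=
      (isPGroup_autInducedBy hS).of_equiv (Subgroup.subgroupOfEquivOfLe hA₁le).symm
    obtain ⟨P₁, hle⟩ := hP'.exists_le_sylow
    refine ⟨P₁, (Subgroup.eq_of_le_of_card_ge hle ?_).symm⟩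
    rw [Nat.card_congr (Subgroup.subgroupOfEquivOfLe hA₁le).toEquiv, hA₁card]
    exact hPbound _ P₁.isPGroup'
  by_cases hidx : p ∣ (Cfsg.pCore p (F.autGroup N)).index
  · refine false_of_heisenberg hp5 hS hrk ⟨inf_le_left, P₁, hP₁⟩ hNr hNc hidx ?_
      (⊤ : Subgroup N) (fun g => iff_of_true (mem_top _) (hexpN g)) hNtop hnc
    intro g hg
    obtain ⟨hR1, -⟩ := exists_diag hp5 hQ1 hQ2 hQ3 (F.autGroup N) ρ
      (eq_one_of_quotient_trivial hW hNtop hnc hexpT hp2 hNp (fun x _ => mem_top x) _) hidx P₁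
    -- the kernel consists of inner automorphisms
    have hInnK : Cfsg.Inn N ≤ Kc := by
      rintro _ ⟨q, rfl⟩
      have key : ∀ v : N, v⁻¹ * MulAut.conj q v ∈ zpowers z := fun v => by
        rw [MulAut.conj_apply]
        have := hNZ v⁻¹ q
        simpa [commutatorElement_def, mul_assoc] using this
      refine ⟨key a, key s, fun w hw => ?_⟩
      rw [MulAut.conj_apply, ← (commute_of_zpowers hzc hw q).eq, mul_inv_cancel_right]
    have heq : Cfsg.Inn N = Kc := by
      refine Subgroup.eq_of_le_of_card_ge hInnK (hKc.trans ?_)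
      have hker' : (MulAut.conj (G := N)).ker = center N := by
        ext q
        rw [MonoidHom.mem_ker, Subgroup.mem_center_iff, MulEquiv.ext_iff]
        refine forall_congr' fun w => ?_
        rw [MulAut.conj_apply, MulAut.one_apply, mul_inv_eq_iff_eq_mul]
        exact eq_comm
      rw [show Cfsg.Inn N = (MulAut.conj (G := N)).range from rfl, ← Subgroup.index_ker,
        hker', Subgroup.index_eq_card, hMcard]
    exact heq.symm ▸ hkerK g (hR1 g hg)
  -- otherwise `h` extends further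
  have hnorm : ∀ α ∈ A₁, H * α * H⁻¹ ∈ A₁ := by
    intro α hα
    have hle : (P₁ : Subgroup (F.autGroup N)) ≤ Cfsg.pCore p (F.autGroup N) := by
      haveI := CfsgLib.Coprime.pCore_normal' (G := F.autGroup N) p
      intro w hw
      obtain ⟨P', hP'⟩ : ∃ P' : Sylow p (F.autGroup N), (P' : Subgroup (F.autGroup N)) =
          Cfsg.pCore p (F.autGroup N) :=
        ⟨(CfsgLib.PGroup.isPGroup_pCore p _).toSylow hidx, rfl⟩
      have h1 : (P' : Subgroup (F.autGroup N)) = (P₁ : Subgroup (F.autGroup N)) :=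
        P'.is_maximal' P₁.isPGroup' (hP' ▸ CfsgLib.PGroup.pCore_le_sylow P₁) |>.symm
      rw [← hP', h1]; exact hw
    have heq : Cfsg.pCore p (F.autGroup N) = (P₁ : Subgroup (F.autGroup N)) :=
      le_antisymm (CfsgLib.PGroup.pCore_le_sylow P₁) hle
    have h1 : (⟨α, hA₁le hα⟩ : F.autGroup N) ∈ Cfsg.pCore p (F.autGroup N) := by
      rw [heq, hP₁, Subgroup.mem_subgroupOf]; exact hα
    haveI := CfsgLib.Coprime.pCore_normal' (G := F.autGroup N) p
    have h2 := Subgroup.Normal.conj_mem inferInstance _ h1 (⟨H, hHmem⟩ : F.autGroup N)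
    rw [heq, hP₁, Subgroup.mem_subgroupOf] at h2
    exact h2
  obtain ⟨H₂, -, -, hH₂e⟩ := exists_ext hS hNr hNc hHmem hHord hnorm
  have hNN₂ : N ≤ N₂ := le_normalizerIn inf_le_left
  let ι : N →* N₂ := Subgroup.inclusion hNN₂
  have hι : ∀ (u : N), H₂ (ι u) = ι (H u) := fun u => Subtype.ext (hH₂e (ι u) u.2)
  haveI : (N.subgroupOf N₂).Normal :=
    ⟨fun q hq g => (Subgroup.mem_normalizer_iff.1 g.2.2 _).1 hq⟩
  have hιmem : ∀ u : N, ι u ∈ N.subgroupOf N₂ := fun u => u.2
  have hιinj : Function.Injective ι := Subgroup.inclusion_injective _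
  have hιsurj : ∀ n ∈ N.subgroupOf N₂, ∃ u, ι u = n := fun n hn => ⟨⟨n, hn⟩, rfl⟩
  have hιz : ∀ w ∈ zpowers z, ι w ∈ zpowers (ι z) := fun w hw => by
    obtain ⟨i, rfl⟩ := mem_zpowers_iff.1 hw
    exact ⟨i, (map_zpow ι z i).symm⟩
  have hzcard₂ : Nat.card (zpowers (ι z)) = p := by
    rw [Nat.card_zpowers, orderOf_injective ι hιinj, orderOf_eq_prime hzp hz1]
  haveI hzN₂ : (zpowers (ι z)).Normal := by
    refine ⟨fun w hw g => ?_⟩
    obtain ⟨i, rfl⟩ := mem_zpowers_iff.1 hw
    rw [← conj_zpow]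
    refine zpow_mem ?_ i
    obtain ⟨u, hu⟩ := hιsurj _ (Subgroup.Normal.conj_mem inferInstance _ (hιmem z) g)
    rw [← hu]
    refine hιz u ((hcenN u).1 (Subgroup.mem_center_iff.2 fun v => hιinj ?_))
    obtain ⟨v', hv'⟩ := hιsurj _ (Subgroup.Normal.conj_mem inferInstance _ (hιmem v) g⁻¹)
    have h1 := congrArg ι (hzc v').eq
    rw [map_mul, map_mul, hv', inv_inv] at h1
    rw [map_mul, map_mul, hu]
    calc ι v * (g * ι z * g⁻¹) = g * (g⁻¹ * ι v * g * ι z) * g⁻¹ := by group
      _ = g * (ι z * (g⁻¹ * ι v * g)) * g⁻¹ := by rw [h1]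
      _ = g * ι z * g⁻¹ * ι v := by group
  have hzc₂ : ∀ g : N₂, Commute (ι z) g := fun g => by
    have := CfsgLib.MetacyclicOmega.le_center_of_card_le (p := p) (show IsPGroup p N₂ from hS.to_le inf_le_left)
      (zpowers (ι z)) hzcard₂.le (mem_zpowers _)
    exact (Subgroup.mem_center_iff.1 this g).symm
  obtain ⟨B, hB, hBc⟩ := exists_elementary_of_four (G := N₂) hN₂card (N := N.subgroupOf N₂)
    (by rw [Nat.card_congr (Subgroup.subgroupOfEquivOfLe hNN₂).toEquiv]; exact hNcard)
    (hιmem a) (hιmem s) (hιmem z) (by rw [← map_pow, hap, map_one]) (by rw [← map_pow, hsp, map_one])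
    (by rw [← map_pow, hzp, map_one]) (fun e => hz1 (hιinj (e.trans (map_one ι).symm))) hzc₂
    (fun hc => has (hιinj (by rw [map_mul, map_mul]; exact hc.eq)))
    (fun u hu v hv => by
      obtain ⟨u, rfl⟩ := hιsurj u hu
      obtain ⟨v, rfl⟩ := hιsurj v hv
      rw [← map_commutatorElement]
      exact hιz _ (hNZ u v))
    (fun n hn => by
      obtain ⟨u, rfl⟩ := hιsurj n hn
      obtain ⟨k, q, hq, rfl⟩ := hdecN u
      obtain ⟨i, j, rfl⟩ := hE'dec q hq
      refine ⟨j, (k : ZMod p), ?_⟩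
      rw [← map_pow, ← map_pow, ← map_mul, ← map_inv, ← map_mul]
      refine hιz _ ?_
      rw [ZMod.val_natCast, ← pow_eq_pow_mod _ hsp, ← QuotientGroup.eq_one_iff]
      have hz' : ((z : N) : N ⧸ zpowers z) = 1 := (QuotientGroup.eq_one_iff z).2 (mem_zpowers z)
      have hcomm' : ((s : N) : N ⧸ zpowers z) ^ k * (a : N ⧸ zpowers z) ^ j.val =
          (a : N ⧸ zpowers z) ^ j.val * ((s : N) : N ⧸ zpowers z) ^ k := by
        rw [← QuotientGroup.mk_pow, ← QuotientGroup.mk_pow, ← QuotientGroup.mk_mul,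
          ← QuotientGroup.mk_mul, QuotientGroup.eq]
        simpa [commutatorElement_def, mul_assoc] using hNZ (a ^ j.val)⁻¹ (s ^ k)⁻¹
      simp only [QuotientGroup.mk_mul, QuotientGroup.mk_inv, QuotientGroup.mk_pow, hz', one_pow,
        one_mul, hcomm', inv_mul_cancel])
    (by
      by_contra! hall
      -- otherwise `N₂` would normalize `E`
      have hle : N₂ ≤ N := by
        intro w hw
        refine ⟨hw.1, ?_⟩
        have hq : ∀ q ∈ E', ∃ q' ∈ E', (q' : Ω) = w * (q : Ω) * w⁻¹ := by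
          intro q hq
          obtain ⟨i, j, rfl⟩ := hE'dec q hq
          obtain ⟨d, hd⟩ := mem_zpowers_iff.1 (hall ⟨w, hw⟩)
          have h1 : (⟨w, hw⟩ : N₂) * ι a * (⟨w, hw⟩ : N₂)⁻¹ = ι (z ^ d * a) := by
            rw [map_mul, map_zpow, hd, commutatorElement_def]; group
          refine ⟨z ^ i.val * (z ^ d * a) ^ j.val,
            mul_mem (pow_mem ((hE'mem z).2 z'.2) _)
              (pow_mem (mul_mem (zpow_mem ((hE'mem z).2 z'.2) d) ((hE'mem a).2 a'.2)) _), ?_⟩
          have h2 : ι (z ^ i.val * (z ^ d * a) ^ j.val) =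
              (⟨w, hw⟩ : N₂) * ι (z ^ i.val * a ^ j.val) * (⟨w, hw⟩ : N₂)⁻¹ := by
            rw [map_mul, map_mul, map_pow, map_pow ι (z ^ d * a), ← h1, conj_pow, map_pow]
            have e := ((hzc₂ ⟨w, hw⟩).pow_left i.val).eq
            simp only [← mul_assoc]
            rw [e]
          exact congrArg Subtype.val h2
        refine conjBy_eq_iff.1 (eq_of_le_of_card_le hES (conjBy_le_iff.2 fun q hqE => ?_)
          (card_conjBy w E).ge)
        obtain ⟨q', hq', he⟩ := hq ⟨q, hEN hqE⟩ hqE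
        exact he ▸ (hE'mem q').1 hq'
      have := Subgroup.card_le_of_le hle
      rw [hN₂card, hNcard] at this
      exact absurd this (not_le.2 (Nat.pow_lt_pow_right hp.one_lt (by norm_num))))
    H₂ (fun n hn => by
      obtain ⟨u, rfl⟩ := hιsurj n hn
      rw [hι]; exact hιmem _)
    hl0 hl2 hl3 (by rw [hι, hHz, map_pow]) (by rw [hι, hHa, map_pow]) (by rw [hι, hHs, map_pow])
  have := hrk (B.map N₂.subtype) ((Subgroup.map_subtype_le B).trans inf_le_left)
    (CfsgLib.Fusion.elementary_map _ hB)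
  rw [Subgroup.card_map_of_injective N₂.subtype_injective] at this
  omega

/-- No essential subgroups in rank two for `p ≥ 5`. -/
theorem no_essential (hp5 : 5 ≤ p) (hS : IsPGroup p S) (hF : F.IsSaturated p)
    (hrk : ∀ A : Subgroup Ω, A ≤ S → Cfsg.IsElementaryAbelian p A → Nat.card A ≤ p ^ 2)
    (hnotE : ¬ (Nat.card S = p ^ 3 ∧ Monoid.exponent ↥S = p))
    {E : Subgroup Ω} (hE : F.IsEssential p E) : False := by
  have hp := (Fact.out : p.Prime)
  have hp2 : p ≠ 2 := by omega
  have hES := hE.1.1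
  haveI : Finite E := finite_of_le hES
  haveI := finite_mulAut (P := E)
  have hEp : IsPGroup p E := hS.to_le hES
  obtain ⟨hfa, hr⟩ := IsSaturated.automized_receptive hS hF hE.2.1
  have hc := centralizerIn_le_of_isCentric hE.1
  obtain ⟨hcore, hidx⟩ := EssentialCube.autGroup_data hS hE
  rw [← hcore] at hidx
  obtain ⟨-, Psyl, hPsyl⟩ := id hfa
  have hrkE : ∀ A : Subgroup E, Cfsg.IsElementaryAbelian p A → Nat.card A ≤ p ^ 2 := fun A hA => by
    rw [← Subgroup.card_map_of_injective E.subtype_injective]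
    exact hrk _ ((Subgroup.map_subtype_le A).trans hES) (CfsgLib.Fusion.elementary_map _ hA)
  have hexp := CfsgLib.RankTwoOmega.closure_omega_exponent (by omega : 3 < p) hEp hrkE
  set W := closure {x : E | x ^ p = 1}
  have hWmem : ∀ x : E, x ∈ W ↔ x ^ p = 1 := fun x => ⟨hexp x, fun hx => subset_closure hx⟩
  have hWexp : ∀ w : W, w ^ p = 1 := fun w => Subtype.ext (by simpa using hexp w w.2)
  have hWle : Nat.card W ≤ p ^ 3 := CfsgLib.RankTwoOmega.card_le_of_exponent (hEp.to_subgroup W)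
    hp2 hWexp fun A hA => by
      rw [← Subgroup.card_map_of_injective W.subtype_injective]
      exact hrkE _ (CfsgLib.Fusion.elementary_map _ hA)
  have hW : ∀ f : MulAut E, ∀ w ∈ W, f w ∈ W := fun f w hw => by
    rw [hWmem] at hw ⊢; rw [← map_pow, hw, map_one]
  obtain ⟨k, hk⟩ := (hEp.to_subgroup W).exists_card_eq
  have hk3 : k ≤ 3 := (Nat.pow_le_pow_iff_right hp.one_lt).1 (hk ▸ hWle)
  set X := F.autGroup E
  let ρ : X →* MulAut W := MonoidHom.mk' (fun f =>
      { toFun := fun w => ⟨(f : MulAut E) w, hW f w w.2⟩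
        invFun := fun w => ⟨(f : MulAut E)⁻¹ w, hW _ w w.2⟩
        left_inv := fun w => Subtype.ext (MulEquiv.symm_apply_apply (f : MulAut E) (w : E))
        right_inv := fun w => Subtype.ext (MulEquiv.apply_symm_apply (f : MulAut E) (w : E))
        map_mul' := fun v w => Subtype.ext (map_mul (f : MulAut E) (v : E) w) })
      fun f g => MulEquiv.ext fun w => Subtype.ext rfl
  have hker : ∀ g : X, ρ g = 1 → (orderOf g).Coprime p → g = 1 := fun g hg hco =>
    Subtype.ext (CfsgLib.PGroup.mulAut_eq_one_of_fix_omega hp2 hEp _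
      (by rwa [Subgroup.orderOf_coe]) fun x hx => by
        have := congrArg (fun f : MulAut W => ((f ⟨x, (hWmem x).2 hx⟩ : W) : E)) hg
        exact this)
  rcases (show k ≤ 1 ∨ k = 2 ∨ k = 3 by omega) with hk1 | rfl | rfl
  · -- cyclic `Ω₁`
    have hcyc : IsCyclic W := by
      rcases Nat.le_one_iff_eq_zero_or_eq_one.1 hk1 with rfl | rfl
      · haveI : Subsingleton W := (Nat.card_eq_one_iff_unique.1 (by rw [hk, pow_zero])).1
        exact isCyclic_of_subsingleton
      · exact isCyclic_of_prime_card (p := p) (by rw [hk, pow_one])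
    haveI : Finite (MulAut W) := Finite.of_injective (fun a : MulAut W => (a : W → W))
      DFunLike.coe_injective
    refine Psyl.not_dvd_index (dvd_trans hidx (Subgroup.index_dvd_of_le ?_))
    refine le_trans (fun g hg => ?_) (CfsgLib.Coprime.le_pCore (N := ρ.ker) ?_)
    · obtain ⟨t, ht⟩ := Psyl.isPGroup' ⟨g, hg⟩
      have h1 : orderOf (ρ g) ∣ p ^ t := orderOf_dvd_of_pow_eq_one (by
        rw [← map_pow, show g ^ p ^ t = 1 from congrArg Subtype.val ht, map_one])
      have h2 : orderOf (ρ g) ∣ Nat.totient (p ^ k) := by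
        have := orderOf_dvd_natCard (ρ g)
        rwa [IsCyclic.card_mulAut, hk] at this
      have h3 : Nat.Coprime (p ^ t) (Nat.totient (p ^ k)) := by
        refine Nat.Coprime.pow_left t (hp.coprime_iff_not_dvd.2 ?_)
        rcases Nat.le_one_iff_eq_zero_or_eq_one.1 hk1 with rfl | rfl
        · simpa using hp.ne_one
        · rw [pow_one, Nat.totient_prime hp]
          exact fun h => absurd (Nat.le_of_dvd (by omega) h) (by omega)
      exact orderOf_eq_one_iff.1 (Nat.eq_one_of_dvd_coprimes h3 h1 h2)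
    · rintro ⟨a, ha⟩
      obtain ⟨i, t, ht, he⟩ := Nat.exists_eq_pow_mul_and_not_dvd (orderOf_pos a).ne' p hp.ne_one
      refine ⟨i, Subtype.ext ?_⟩
      rw [SubmonoidClass.coe_pow, OneMemClass.coe_one]
      refine hker _ (by rw [map_pow, show ρ a = 1 from ha, one_pow]) ?_
      rw [orderOf_pow' _ (pow_ne_zero _ hp.ne_zero), he, Nat.gcd_eq_right (dvd_mul_right _ _),
        Nat.mul_div_cancel_left _ (pow_pos hp.pos i)]
      exact (hp.coprime_iff_not_dvd.2 ht).symm
  · -- a plane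
    haveI hWab : IsMulCommutative W := IsPGroup.isMulCommutative_of_card_eq_prime_sq hk
    have hWc : ∀ u v : W, u * v = v * u := fun u v => mul_comm' u v
    obtain ⟨-, x, y, lam, h, -, -, -, -, -, -, -, hhord, -, -, -, hneg⟩ :=
      exists_diag hp5 hWc hWexp hk X ρ hker hidx Psyl
    set m := (p - 1) / 2 with hmdef
    have hm2 : m + m = p - 1 := by
      obtain ⟨t, ht⟩ := hp.odd_of_ne_two hp2
      omega
    set φ : E →* E := ((h ^ m : X) : MulAut E).toMonoidHom
    have hinv : ∀ q : E, φ (φ q) = q := fun q => by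
      show ((h ^ m : X) : MulAut E) (((h ^ m : X) : MulAut E) q) = q
      rw [← MulAut.mul_apply, ← Subgroup.coe_mul, ← pow_add, hm2, hhord]
      rfl
    have hfpf : MonoidHom.FixedPointFree φ := by
      intro q hq
      by_contra hq1
      obtain ⟨i, hi⟩ := hEp.to_subgroup (zpowers q) ⟨q, mem_zpowers q⟩
      obtain ⟨t, -, ht⟩ := (Nat.dvd_prime_pow hp).1
        (orderOf_dvd_of_pow_eq_one (congrArg Subtype.val hi))
      have ht0 : t ≠ 0 := fun h0 => hq1 (orderOf_eq_one_iff.1 (by rw [ht, h0, pow_zero]))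
      set q' := q ^ p ^ (t - 1)
      have hq' : q' ^ p = 1 := by
        rw [← pow_mul, ← pow_succ, Nat.sub_add_cancel (Nat.one_le_iff_ne_zero.2 ht0), ← ht,
          pow_orderOf_eq_one]
      have hq'1 : q' ≠ 1 := fun h0 => by
        have := Nat.le_of_dvd (pow_pos hp.pos _) (orderOf_dvd_of_pow_eq_one h0)
        rw [ht] at this
        exact absurd this (not_le.2 (Nat.pow_lt_pow_right hp.one_lt (by omega)))
      have h1 : φ q' = q' := by rw [map_pow, hq]
      have h2 : φ q' = q'⁻¹ :=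
        congrArg Subtype.val (hneg ⟨q', (hWmem _).2 hq'⟩)
      have h3 : orderOf q' ∣ 2 := orderOf_dvd_of_pow_eq_one (by
        rw [sq]; nth_rw 1 [← h1, h2]; exact inv_mul_cancel q')
      rw [orderOf_eq_prime hq' hq'1] at h3
      exact hp2 ((Nat.prime_dvd_prime_iff_eq hp Nat.prime_two).1 h3)
    have hEc : ∀ u v : E, u * v = v * u := fun u v =>
      (MonoidHom.FixedPointFree.commute_all_of_involutive hfpf hinv u v).eq
    haveI : IsMulCommutative E := ⟨⟨hEc⟩⟩
    open scoped IsMulCommutative in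
    have D : EssentialRankTwo.AutData (H := E) p (F.autGroup E) :=
      ⟨hEp, EssentialPlane.dvd_card_autGroup hE, EssentialPlane.pCore_autGroup_eq_bot hS hE hEc⟩
    open scoped IsMulCommutative in
    have hrank : (frattini E).index ≤ p ^ 2 := by
      rw [EssentialRankTwo.frattini_eq_powLayer_one hEp]
      set f := (powMonoidHom (p ^ 1) : E →* E)
      have h1 := f.ker.card_mul_index
      have h2 := f.range.card_mul_index
      rw [Subgroup.index_ker] at h1
      have hkerc : Nat.card f.ker = p ^ 2 := by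
        rw [← hk]
        refine Nat.card_congr (Equiv.subtypeEquivRight fun x => ?_)
        rw [hWmem]
        show x ^ p ^ 1 = 1 ↔ _
        rw [pow_one]
      rw [hkerc, ← h2, mul_comm] at h1
      exact (Nat.eq_of_mul_eq_mul_left Nat.card_pos h1).ge
    open scoped IsMulCommutative in
    rcases D.rank_two (D.index_powLayer_one hrank) with ⟨hcard, -⟩ | ⟨hp3, -⟩
    · exact false_of_plane hp5 hS hF hrk hnotE hE hcard
    · omega
  · -- Heisenberg
    refine false_of_heisenberg hp5 hS hrk hfa hr hc hidx (fun g hg => by rw [hcore] at hg; exact hg)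
      W hWmem hk ?_
    by_contra! hab
    have hWE : Cfsg.IsElementaryAbelian p W :=
      ⟨⟨⟨hab⟩⟩, fun a ha => hexp a ha⟩
    have := hrkE W hWE
    rw [hk] at this
    exact absurd this (not_le.2 (Nat.pow_lt_pow_right hp.one_lt (by norm_num)))

/-- The system of the restrictions of automorphisms of `S`. -/
def topAutSystem (F : FusionSystem S) : FusionSystem S where
  Hom P := {φ | ∃ hP : P ≤ S, ∃ α ∈ F.autGroup S, ∀ x : P, φ x = ((α ⟨x, hP x.2⟩ : S) : Ω)}
  le_of_mem := by
    rintro P φ ⟨hP, α, -, he⟩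
    exact ⟨hP, fun x => by rw [he]; exact SetLike.coe_mem _⟩
  injective_of_mem := by
    rintro P φ ⟨hP, α, -, he⟩ u v huv
    rw [he, he] at huv
    exact Subtype.ext (congrArg (fun w : S => (w : Ω)) (α.injective (Subtype.ext huv)))
  conj_mem := fun {P g} hP hg => ⟨hP, conjAut g (Subgroup.le_normalizer hg),
    autInducedBy_le_autGroup le_rfl (conjAut_mem hg _), fun x => rfl⟩
  comp_mem := by
    rintro P Q φ ψ ⟨hP, α, hα, he⟩ ⟨hQ, β, hβ, he'⟩ h
    refine ⟨hP, β * α, mul_mem hβ hα, fun x => ?_⟩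
    rw [MonoidHom.comp_apply, he' (φ.codRestrict Q h x)]
    exact congrArg (fun w : S => ((β w : S) : Ω)) (Subtype.ext (he x))
  inv_mem := by
    rintro P φ ⟨hP, α, hα, he⟩
    have hS' : φ.range ≤ S := by
      rintro _ ⟨x, rfl⟩
      rw [he]; exact SetLike.coe_mem _
    refine ⟨S.subtype.comp (α⁻¹.toMonoidHom.comp (Subgroup.inclusion hS')),
      ⟨hS', α⁻¹, inv_mem hα, fun x => rfl⟩, fun x => ?_⟩
    show ((α⁻¹ ⟨φ x, _⟩ : S) : Ω) = (x : Ω)
    rw [show (⟨φ x, hS' ⟨x, rfl⟩⟩ : S) = α ⟨x, hP x.2⟩ from Subtype.ext (he x)]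
    exact congrArg Subtype.val (MulEquiv.symm_apply_apply α ⟨(x : Ω), hP x.2⟩)

/-- Without essential subgroups `S` is normal. -/
theorem isNormal_of_no_essential (hS : IsPGroup p S) (hF : F.IsSaturated p)
    (h : ∀ E : Subgroup Ω, ¬ F.IsEssential p E) : F.IsNormal S := by
  refine (isNormal_iff_autExtends hS hF le_rfl).2 fun P f hP hf => ?_
  have hle : F ≤ topAutSystem F := le_of_autGroup_le hS hF fun R hR α hα => by
    obtain rfl := hR.resolve_right (h R)
    exact Subgroup.subset_closure ⟨le_rfl, α, hα, fun x => rfl⟩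
  obtain ⟨φ, hφ, hφf⟩ := hf
  obtain ⟨hP', α, hα, he⟩ := hle P hφ
  exact ⟨α, hα, fun x hx => by
    rw [autFun_apply α (hP hx), ← hφf ⟨x, hx⟩, he]⟩

end CfsgLib.Fusion.RankTwo
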