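import Cfsg.Agent.Lib.Fusion.System.Biset
import Cfsg.Agent.Lib.Fusion.Marks
import Mathlib.Algebra.Group.Action.Sigma
import Mathlib.Algebra.Group.Action.Sum

/-!
# Every fusion system is realized inside a finite group (Park)

Without saturation one still finds a finite `S × S`-set whose stabilizers are twisted diagonals of maps
of the system, whose fixed-point counts only depend on the class of the source, and which has a point
fixed by the diagonal. The permutations commuting with the second factor realize the system.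
-/

set_option autoImplicit false
set_option maxHeartbeats 1000000
set_option linter.style.haveILetI false

open Subgroup
open scoped Classical

namespace CfsgLib.Fusion.Biset

open Cfsg (FusionSystem)

universe u

section Fix

variable {G : Type*} [Group G]

theorem nfix_sigma {ι : Type*} [Fintype ι] {Z : ι → Type*} [∀ i, MulAction G (Z i)]
    [∀ i, Finite (Z i)] (D : Subgroup G) : nfix (Σ i, Z i) D = ∑ i, nfix (Z i) D := by
  simp only [nfix]
  rw [← Nat.card_sigma]
  exact Nat.card_congr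
    { toFun := fun ⟨⟨i, a⟩, h⟩ => ⟨i, a, fun d hd => eq_of_heq (Sigma.mk.inj_iff.1 (h d hd)).2⟩
      invFun := fun w => ⟨⟨w.1, w.2.1⟩, fun d hd => congrArg (Sigma.mk w.1) (w.2.2 d hd)⟩
      left_inv := fun ⟨⟨_, _⟩, _⟩ => rfl
      right_inv := fun _ => rfl }

theorem smul_coe_eq_iff (D : Subgroup G) (d g : G) :
    d • (g : G ⧸ D) = (g : G ⧸ D) ↔ g⁻¹ * d * g ∈ D := by
  rw [MulAction.Quotient.smul_coe, QuotientGroup.eq, smul_eq_mul, ← Subgroup.inv_mem_iff]
  simp [mul_assoc]

theorem stabilizer_coe_quotient (D : Subgroup G) (g : G) :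
    MulAction.stabilizer G (g : G ⧸ D) = conjBy g D := by
  ext d
  rw [MulAction.mem_stabilizer_iff, smul_coe_eq_iff, mem_conjBy]

/-- The fixed points on `G ⧸ D` of a subgroup of the same order, through the transporter. -/
theorem nfix_quotient_mul [Finite G] (D D' : Subgroup G) (h : Nat.card D' = Nat.card D) :
    nfix (G ⧸ D) D' * Nat.card D = Nat.card {g : G // conjBy g⁻¹ D' = D} := by
  have e := QuotientGroup.preimageMkEquivSubgroupProdSet D {w : G ⧸ D | ∀ d ∈ D', d • w = w}
  have hiff : ∀ g : G, g ∈ (QuotientGroup.mk ⁻¹' {w : G ⧸ D | ∀ d ∈ D', d • w = w}) ↔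
      conjBy g⁻¹ D' = D := by
    intro g
    simp only [Set.mem_preimage, Set.mem_setOf_eq, smul_coe_eq_iff]
    constructor
    · intro hg
      refine Subgroup.eq_of_le_of_card_ge ((conjBy_le_iff).2 fun d hd => ?_) (by rw [card_conjBy, h])
      simpa using hg d hd
    · intro hg d hd
      have := (conjBy_le_iff).1 hg.le d hd
      simpa using this
  have hc := Nat.card_congr e
  rw [Nat.card_prod] at hc
  rw [← Nat.card_congr (Equiv.subtypeEquivRight hiff), mul_comm]
  exact hc.symm

end Fix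

variable {Ω : Type u} [Group Ω] {S : Subgroup Ω} {F : FusionSystem S}

/-- One step: make the counts constant on one further class. -/
theorem exists_fill_any [Finite S] {P : Subgroup Ω} (Cl : Set (Subgroup Ω))
    (hge : ∀ Q ∈ Cl, Q ≤ S → Nat.card P ≤ Nat.card Q)
    (hcl : ∀ Q R, Q ∈ Cl → F.IsConj Q R → R ∈ Cl) (hPC : P ∉ Cl)
    (X : Type u) [MulAction (S × S) X] [Finite X] (hX : Twisted F X) (hst : Stable F X Cl)
    (hw : ∃ w : X, ∀ s : S, ((s, s) : S × S) • w = w) :
    ∃ (X' : Type u) (_ : MulAction (S × S) X') (_ : Finite X'), Twisted F X' ∧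
      Stable F X' (Cl ∪ {R | F.IsConj R P}) ∧ ∃ w : X', ∀ s : S, ((s, s) : S × S) • w = w := by
  let M := Nat.card (S × S)
  have hM : 0 < M := Nat.card_pos
  let T := {D : Subgroup (S × S) // IsTwist F D ∧ F.IsConj (src D) P}
  haveI : Fintype T := Fintype.ofFinite T
  let B := ∑ᶠ D : Subgroup (S × S), nfix X D
  have hB : ∀ D, nfix X D ≤ B := fun D =>
    single_le_finsum D (Set.toFinite _) fun _ => Nat.zero_le _
  let k : T → ℕ := fun D => Nat.card P * (B - nfix X D.1)
  let Y := Σ z : (Σ D : T, Fin (k D)), (S × S) ⧸ z.1.1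
  let X₁ := Σ _ : Fin M, X
  have hcardT : ∀ D : T, Nat.card D.1 = Nat.card P := fun D => by
    rw [← D.2.1.card_src, isConj_card D.2.2]
  have hY : ∀ D' : Subgroup (S × S), nfix Y D' = ∑ D : T, k D * nfix ((S × S) ⧸ D.1) D' := by
    intro D'
    rw [nfix_sigma, Fintype.sum_sigma]
    refine Finset.sum_congr rfl fun D _ => ?_
    show ∑ _y : Fin (k D), nfix ((S × S) ⧸ D.1) D' = _
    rw [Finset.sum_const, Finset.card_univ, Fintype.card_fin, smul_eq_mul]
  have hX₁ : ∀ D' : Subgroup (S × S), nfix X₁ D' = M * nfix X D' := by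
    intro D'
    rw [nfix_sigma]
    simp
  -- on the new class
  have hnew : ∀ D', IsTwist F D' → F.IsConj (src D') P → nfix (X₁ ⊕ Y) D' = M * B := by
    intro D' hD' hc
    rw [nfix_sum, hX₁]
    suffices h : nfix Y D' = M * (B - nfix X D') by
      rw [h, ← mul_add, Nat.add_sub_cancel' (hB D')]
    let D'₀ : T := ⟨D', hD', hc⟩
    have hP0 : 0 < Nat.card P := hcardT D'₀ ▸ Nat.card_pos
    refine Nat.eq_of_mul_eq_mul_right hP0 ?_
    have hmem : ∀ g : S × S, IsTwist F (conjBy g D') ∧ F.IsConj (src (conjBy g D')) P := fun g =>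
      ⟨(conjBy_transport g D').1.1 hD',
        isConj_trans (isConj_symm (conjBy_transport g D').2) hc⟩
    let e : (Σ D : T, {g : S × S // conjBy g⁻¹ D' = D.1}) ≃ S × S :=
      { toFun := fun z => z.2.1
        invFun := fun g => ⟨⟨conjBy g⁻¹ D', hmem g⁻¹⟩, g, rfl⟩
        left_inv := fun z => by
          obtain ⟨⟨D, hD⟩, g, hg⟩ := z
          have hg' : conjBy g⁻¹ D' = D := hg
          subst hg'
          rfl
        right_inv := fun g => rfl }
    have hterm : ∀ D : T, k D * nfix ((S × S) ⧸ D.1) D' * Nat.card P =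
        Nat.card P * (B - nfix X D') * Nat.card {g : S × S // conjBy g⁻¹ D' = D.1} := by
      intro D
      rw [mul_assoc, ← hcardT D, nfix_quotient_mul _ _ ((hcardT D'₀).trans (hcardT D).symm)]
      rcases isEmpty_or_nonempty {g : S × S // conjBy g⁻¹ D' = D.1} with hE | ⟨g, hg⟩
      · simp
      · show Nat.card P * (B - nfix X D.1) * _ = _
        rw [hcardT D, ← hg, nfix_conjBy]
    rw [hY, Finset.sum_mul, Finset.sum_congr rfl fun D _ => hterm D, ← Finset.mul_sum,
      ← Nat.card_sigma, Nat.card_congr e]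
    show Nat.card P * (B - nfix X D') * M = _
    ring
  -- on the old classes
  have hold : ∀ D', IsTwist F D' → src D' ∈ Cl → nfix (X₁ ⊕ Y) D' = M * nfix X D' := by
    intro D' hD' hm
    rw [nfix_sum, hX₁, hY, Finset.sum_eq_zero (fun D _ => ?_), add_zero]
    rcases nfix_quotient D.1 D' (by
        rw [hcardT D, ← hD'.card_src]; exact hge _ hm (src_le D')) with ⟨g, hg, -⟩ | ⟨-, h0⟩
    · exfalso
      subst hg
      exact hPC (hcl _ _ hm (isConj_trans (isConj_symm (conjBy_transport g D.1).2) D.2.2))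
    · rw [h0, mul_zero]
  obtain ⟨w, hw⟩ := hw
  refine ⟨X₁ ⊕ Y, inferInstance, inferInstance, ?_, ?_, ⟨Sum.inl ⟨⟨0, hM⟩, w⟩, fun s => ?_⟩⟩
  · rintro (⟨i, a⟩ | ⟨z, q⟩)
    · refine (hX a).mono fun d hd => ?_
      exact eq_of_heq (Sigma.mk.inj_iff.1 (Sum.inl_injective hd)).2
    · induction q using QuotientGroup.induction_on with
      | H g =>
        refine ((conjBy_transport g z.1.1).1.1 z.1.2.1).mono fun d hd => ?_
        rw [← stabilizer_coe_quotient]
        exact eq_of_heq (Sigma.mk.inj_iff.1 (Sum.inr_injective hd)).2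
  · rintro D D' hD hD' (hm | hm) hc
    · rw [hold D hD hm, hold D' hD' (hcl _ _ hm hc), hst D D' hD hD' hm hc]
    · rw [hnew D hD hm, hnew D' hD' (isConj_trans (isConj_symm hc) hm)]
  · show Sum.inl ((⟨⟨0, hM⟩, ((s, s) : S × S) • w⟩ : X₁)) = _
    rw [hw s]

/-- A set with constant counts on every class and a point fixed by the diagonal. -/
theorem exists_stable_any [Finite S] (F : FusionSystem S) :
    ∃ (X : Type u) (_ : MulAction (S × S) X) (_ : Finite X), Twisted F X ∧
      Stable F X Set.univ ∧ ∃ w : X, ∀ s : S, ((s, s) : S × S) • w = w := by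
  suffices key : ∀ (m : ℕ) (Cl : Set (Subgroup Ω)),
      (∀ Q R, Q ∈ Cl → F.IsConj Q R → R ∈ Cl) →
      (∀ Q ∈ Cl, ∀ R, R ≤ S → R ∉ Cl → Nat.card R ≤ Nat.card Q) →
      {Q : Subgroup S | Q.map S.subtype ∉ Cl}.ncard ≤ m →
      ∀ (X : Type u) [MulAction (S × S) X] [Finite X], Twisted F X → Stable F X Cl →
        (∃ w : X, ∀ s : S, ((s, s) : S × S) • w = w) →
        ∃ (X : Type u) (_ : MulAction (S × S) X) (_ : Finite X), Twisted F X ∧
          Stable F X Set.univ ∧ ∃ w : X, ∀ s : S, ((s, s) : S × S) • w = w by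
    let D₀ := diag (isMap_id (F := F) (le_refl S))
    refine key _ ∅ (fun Q _ h => absurd h (Set.notMem_empty Q))
      (fun Q h => absurd h (Set.notMem_empty Q)) le_rfl ((S × S) ⧸ D₀) ?_
      (fun D D' _ _ h => absurd h (Set.notMem_empty _))
      ⟨((1 : S × S) : (S × S) ⧸ D₀), fun s => ?_⟩
    · intro q
      induction q using QuotientGroup.induction_on with
      | H g =>
        rw [stabilizer_coe_quotient]
        exact (conjBy_transport g D₀).1.1 (isTwist_diag _)
    · rw [smul_coe_eq_iff]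
      simp only [inv_one, one_mul, mul_one]
      exact ⟨s.2, rfl⟩
  intro m
  induction m using Nat.strong_induction_on with
  | _ m ih =>
  intro Cl hcl hord hm X _ _ hX hst hw
  by_cases hall : ∀ Q, Q ≤ S → Q ∈ Cl
  · exact ⟨X, inferInstance, inferInstance, hX,
      fun D D' h h' _ hc => hst D D' h h' (hall _ (src_le D)) hc, hw⟩
  push Not at hall
  have hback : ∀ Q, Q ≤ S → (Q.subgroupOf S).map S.subtype = Q := fun Q hQ =>
    Subgroup.map_subgroupOf_eq_of_le hQ
  obtain ⟨Q₀, hQ₀, hmax⟩ := Set.exists_max_image {Q : Subgroup S | Q.map S.subtype ∉ Cl}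
    (fun Q => Nat.card (Q.map S.subtype)) (Set.toFinite _) (by
      obtain ⟨Q, hQ, hQC⟩ := hall
      exact ⟨Q.subgroupOf S, by simpa [hback Q hQ] using hQC⟩)
  set P := Q₀.map S.subtype with hP
  have hPS : P ≤ S := Subgroup.map_subtype_le Q₀
  have hmax' : ∀ R, R ≤ S → R ∉ Cl → Nat.card R ≤ Nat.card P := fun R hR hRC => by
    have := hmax (R.subgroupOf S) (by simpa [hback R hR] using hRC)
    rwa [hback R hR] at this
  obtain ⟨X', i1, i2, hX', hst', hw'⟩ := exists_fill_any Cl
    (fun Q hQ _ => hord Q hQ P hPS hQ₀) hcl hQ₀ X hX hst hw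
  refine ih {Q : Subgroup S | Q.map S.subtype ∉ Cl ∪ {R | F.IsConj R P}}.ncard ?_
    (Cl ∪ {R | F.IsConj R P}) ?_ ?_ le_rfl X' hX' hst' hw'
  · refine lt_of_lt_of_le ?_ hm
    refine Set.ncard_lt_ncard ⟨fun Q hQ h => hQ (Or.inl h), fun h => ?_⟩ (Set.toFinite _)
    exact h hQ₀ (Or.inr (isConj_refl hPS))
  · rintro Q R (hQ | hQ) hQR
    · exact Or.inl (hcl Q R hQ hQR)
    · exact Or.inr (isConj_trans (isConj_symm hQR) hQ)
  · rintro Q (hQ | hQ) R hR hRC
    · exact hord Q hQ R hR fun h => hRC (Or.inl h)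
    · rw [← isConj_card hQ]
      exact hmax' R hR fun h => hRC (Or.inl h)

/-- Park's theorem: the system is realized inside a finite group. -/
theorem exists_realizedBy_any [Finite S] (F : FusionSystem S) :
    ∃ (G : Type u) (_ : Group G) (_ : Finite G) (ι : ↥S →* G), F.IsRealizedBy ι := by
  obtain ⟨X, iX, fX, hX, hst, w₀, hw₀⟩ := exists_stable_any F
  let H : Subgroup (Equiv.Perm X) :=
    { carrier := {e | ∀ (b : S) (x : X), e (((1 : S), b) • x) = ((1 : S), b) • e x}
      one_mem' := fun _ _ => rfl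
      mul_mem' := fun {e e'} he he' b x => by
        show e (e' _) = _ • e (e' x)
        rw [he', he]
      inv_mem' := fun {e} he b x => by
        show e.symm (((1 : S), b) • x) = ((1 : S), b) • e.symm x
        rw [e.symm_apply_eq, he, e.apply_symm_apply] }
  let ι : S →* H := ((MulAction.toPermHom (S × S) X).comp (MonoidHom.inl S S)).codRestrict H
    fun a b x => by
      show (a, (1 : S)) • ((1 : S), b) • x = ((1 : S), b) • (a, (1 : S)) • x
      rw [← mul_smul, ← mul_smul]
      simp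
  have hι : ∀ (a : S) (x : X), (ι a : Equiv.Perm X) x = (a, (1 : S)) • x := fun _ _ => rfl
  refine ⟨H, inferInstance, inferInstance, ι, ?_, fun P hP φ hφ => ⟨?_, ?_⟩⟩
  · refine (injective_iff_map_eq_one ι).2 fun a ha => ?_
    have h1 : (a, (1 : S)) • w₀ = w₀ := by rw [← hι, ha]; rfl
    obtain ⟨f, hf, he⟩ := hX w₀
    have hd : (a, (1 : S)) ∈ MulAction.stabilizer (S × S) w₀ := h1
    exact Subtype.ext ((hf.eq_one_iff (fst_mem_src hd)).1 (he _ hd).symm)
  · intro hmem
    have hf : IsMap F P (toFun φ) := isMap_toFun hmem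
    let α₁ : P × S →* S × S := (Subgroup.inclusion hP).prodMap (MonoidHom.id S)
    let α₂ : P × S →* S × S := (φ.codRestrict S hφ).prodMap (MonoidHom.id S)
    have hfix : ∀ K : Subgroup (P × S), nfix X (K.map α₁) = nfix X (K.map α₂) := by
      intro K
      have ht := transport (F := F) hf (isMap_id (le_refl S)) (D := K.map α₁) (D' := K.map α₂)
        (fun d hd => by
          obtain ⟨k, -, rfl⟩ := hd
          exact ⟨k.1.2, k.2.2⟩)
        (fun d' => by
          constructor
          · rintro ⟨k, hk, rfl⟩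
            exact ⟨α₁ k, ⟨k, hk, rfl⟩, (toFun_coe φ k.1).symm, rfl⟩
          · rintro ⟨_, ⟨k, hk, rfl⟩, h1, h2⟩
            refine ⟨k, hk, Prod.ext (Subtype.ext ?_) (Subtype.ext ?_)⟩
            · exact (h1.trans (toFun_coe φ k.1)).symm
            · exact h2.symm)
      by_cases hD : IsTwist F (K.map α₁)
      · exact hst _ _ hD (ht.1.1 hD) trivial ht.2.1
      · rw [nfix_eq_zero hX hD, nfix_eq_zero hX fun h => hD (ht.1.2 h)]
    have hcount : ∀ (α : P × S →* S × S) (K : Subgroup (P × S)),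
        Nat.card {a : X // ∀ k ∈ K, α k • a = a} = nfix X (K.map α) := fun α K =>
      Nat.card_congr (Equiv.subtypeEquivRight fun a =>
        ⟨fun h d hd => by obtain ⟨k, hk, rfl⟩ := hd; exact h k hk,
          fun h k hk => h _ ⟨k, hk, rfl⟩⟩)
    obtain ⟨e, he⟩ := @CfsgLib.Fusion.Marks.exists_equiv (P × S) _ X X
      (MulAction.compHom X α₁) (MulAction.compHom X α₂) _ _
      (fun K => ((hcount α₁ K).trans (hfix K)).trans (hcount α₂ K).symm)
    have he' : ∀ (k : P × S) (a : X), e (α₁ k • a) = α₂ k • e a := he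
    have hmemH : e ∈ H := by
      intro b x
      have h1 : α₁ ((1 : P), b) = ((1 : S), b) := Prod.ext (Subtype.ext rfl) rfl
      have h2 : α₂ ((1 : P), b) = ((1 : S), b) := Prod.ext (Subtype.ext φ.map_one) rfl
      have := he' ((1 : P), b) x
      rwa [h1, h2] at this
    refine ⟨⟨e, hmemH⟩, fun x => ?_⟩
    rw [eq_mul_inv_iff_mul_eq]
    refine Subtype.ext (Equiv.ext fun a => ?_)
    show (ι _ : Equiv.Perm X) (e a) = e ((ι _ : Equiv.Perm X) a)
    rw [hι, hι]
    exact (he' (x, (1 : S)) a).symm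
  · rintro ⟨g, hg⟩
    obtain ⟨f, hf, he⟩ := hX ((g : Equiv.Perm X) w₀)
    have key : ∀ x : P, ((⟨φ x, hφ x⟩ : S), (⟨x, hP x.2⟩ : S)) ∈
        MulAction.stabilizer (S × S) ((g : Equiv.Perm X) w₀) := by
      intro x
      set a : S := ⟨x, hP x.2⟩ with ha
      set c : S := ⟨φ x, hφ x⟩ with hc
      have h1 : ι c * g = g * ι a := eq_mul_inv_iff_mul_eq.1 (hg x)
      have h2 : (c, (1 : S)) • (g : Equiv.Perm X) w₀ = (g : Equiv.Perm X) ((a, (1 : S)) • w₀) := by
        have := congrArg (fun z : H => (z : Equiv.Perm X) w₀) h1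
        simpa [hι] using this
      have h3 : (a, (1 : S)) • w₀ = ((1 : S), a⁻¹) • w₀ := by
        conv_lhs => rw [← hw₀ a⁻¹]
        rw [← mul_smul]
        simp
      rw [h3, g.2] at h2
      rw [MulAction.mem_stabilizer_iff, show (c, a) = ((1 : S), a) * (c, (1 : S)) by simp, mul_smul,
        h2, ← mul_smul, show ((1 : S), a) * ((1 : S), a⁻¹) = 1 by simp, one_smul]
    have hsrc : φ.range ≤ src (MulAction.stabilizer (S × S) ((g : Equiv.Perm X) w₀)) := by
      rintro _ ⟨x, rfl⟩
      exact fst_mem_src (key x)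
    have hfx : ∀ x : P, (x : Ω) = f (φ x) := fun x => he _ (key x)
    have hf' := hf.mono hsrc
    obtain ⟨f', hf'', h1, -⟩ := hf'.exists_inv
    refine mem_hom_of_isMap (hf''.mono fun y hy => hf'.mem_img.2 ⟨φ ⟨y, hy⟩, ⟨_, rfl⟩,
      (hfx ⟨y, hy⟩).symm⟩) fun x => ?_
    rw [hfx x, h1 _ ⟨x, rfl⟩]

end CfsgLib.Fusion.Biset
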