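import Cfsg.Agent.Lib.Fusion.System.NormalTransfer
import Cfsg.Agent.Lib.Fusion.System.Components.Existence
import Cfsg.Agent.S5203
import Cfsg.Agent.S5140
import Cfsg.Agent.S5141
import Cfsg.Prelude.Def_FusionReduction

/-!
# Residual limits

Existence, and invariance under passing to a subsystem of index prime to `p` that contains the
`p'`-residual.
-/

set_option autoImplicit false
set_option linter.style.haveILetI false
set_option linter.unusedSectionVars false

open Subgroup
open scoped Classical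

namespace CfsgLib.Fusion.Limit

open Cfsg (FusionSystem autInducedBy)
open Cfsg.FusionSystem (normalizerIn centralizerIn IsResidualLimitOf)
open CfsgLib.Fusion
open Cfsg.Agent.S5203 (Same stable_limit limit_unique)

universe u

variable {Ω : Type u} [Group Ω] {U V : Subgroup Ω} {D : FusionSystem U} {D₀ : FusionSystem V}
  {p : ℕ} {P : Subgroup Ω}

/-- The residual limits coincide. -/
def SameLimit (p : ℕ) (D : FusionSystem U) (D₀ : FusionSystem V) : Prop :=
  ∀ {W W' : Subgroup Ω} {L : FusionSystem W} {L' : FusionSystem W'},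
    IsResidualLimitOf L D p → IsResidualLimitOf L' D₀ p → Same L L'

theorem isSubsystemOf_limit {W : Subgroup Ω} {L : FusionSystem W} {q : ℕ}
    (h : IsResidualLimitOf L D q) : L.IsSubsystemOf D := by
  induction h with
  | stable F q _ _ => exact fun _ _ hφ => hφ
  | step F q D₁ D₁' hD hD' _ ih => exact fun P φ hφ => hD.2.1 P (hD'.2.1.1 P (ih P hφ))

variable [Fact p.Prime]

theorem mem_of_index {R D : FusionSystem U} (h : R.HasPrimeToPIndexIn D p) (hP : P ≤ U)
    {a : MulAut P} (ha : a ∈ D.autGroup P) {k : ℕ} (hk : a ^ p ^ k = 1) : a ∈ R.autGroup P := by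
  obtain ⟨j, -, hj⟩ := (Nat.dvd_prime_pow (Fact.out : p.Prime)).1 (orderOf_dvd_of_pow_eq_one hk)
  refine h.2 P hP ⟨⟨a, ha⟩, Subgroup.subset_closure ⟨j, ?_⟩, rfl⟩
  rw [Subgroup.orderOf_mk, hj]

theorem hasPrimeToPIndexIn_iff {R D : FusionSystem U} : R.HasPrimeToPIndexIn D p ↔
    R.IsSubsystemOf D ∧ ∀ P, P ≤ U → ∀ a ∈ D.autGroup P, ∀ k : ℕ, a ^ p ^ k = 1 →
      a ∈ R.autGroup P := by
  refine ⟨fun h => ⟨h.1, fun P hP a ha k hk => mem_of_index h hP ha hk⟩,
    fun h => ⟨h.1, fun P hP => ?_⟩⟩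
  refine Subgroup.map_le_iff_le_comap.2 ((Subgroup.closure_le _).2 ?_)
  rintro a ⟨k, hk⟩
  refine h.2 P hP a a.2 k ?_
  rw [← hk, ← Subgroup.orderOf_coe, pow_orderOf_eq_one]

theorem index_trans {R D₁ D : FusionSystem U} (h₁ : R.HasPrimeToPIndexIn D₁ p)
    (h₂ : D₁.HasPrimeToPIndexIn D p) : R.HasPrimeToPIndexIn D p := by
  rw [hasPrimeToPIndexIn_iff]
  exact ⟨fun P φ hφ => h₂.1 P (h₁.1 P hφ), fun P hP a ha k hk =>
    mem_of_index h₁ hP (mem_of_index h₂ hP ha hk) hk⟩

theorem index_between {R D₁ D : FusionSystem U} (h : R.HasPrimeToPIndexIn D p)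
    (h₁ : R.IsSubsystemOf D₁) (h₂ : D₁.IsSubsystemOf D) :
    R.HasPrimeToPIndexIn D₁ p ∧ D₁.HasPrimeToPIndexIn D p := by
  rw [hasPrimeToPIndexIn_iff] at h
  simp only [hasPrimeToPIndexIn_iff]
  exact ⟨⟨h₁, fun P hP a ha k hk => h.2 P hP a (autGroup_le_ofSubsystem h₂ hP hP ha) k hk⟩,
    ⟨h₂, fun P hP a ha k hk => autGroup_le_ofSubsystem h₁ hP hP (h.2 P hP a ha k hk)⟩⟩

/-- A system between a system and its `p'`-residual has the same residual. -/
theorem residual_between {R D₁ D : FusionSystem U} (h : D.IsPPrimeResidual p R)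
    (h₁ : R.IsSubsystemOf D₁) (h₂ : D₁.IsSubsystemOf D) : D₁.IsPPrimeResidual p R :=
  ⟨h.1, (index_between h.2.1 h₁ h₂).1, fun X hX hXi =>
    h.2.2 X hX (index_trans hXi (index_between h.2.1 h₁ h₂).2)⟩

theorem residual_residual {R D : FusionSystem U} (h : D.IsPPrimeResidual p R) :
    R.IsPPrimeResidual p R :=
  residual_between h (fun _ _ hφ => hφ) h.2.1.1

variable [Finite U]

theorem hyperfocal_mono {R D : FusionSystem U} (h : R.IsSubsystemOf D) :
    R.hyperfocalSubgroup p ≤ D.hyperfocalSubgroup p := by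
  refine (Subgroup.closure_le _).2 ?_
  rintro z ⟨P, α, x, hP, hα, rfl⟩
  obtain ⟨β, hβ, hβα⟩ := residual_of_subsystem h le_rfl hP hα
  have := mem_hyperfocal (F := D) hP hβ x.2
  rwa [hβα, autFun_coe] at this

theorem same_of_top (hU : IsPGroup p U) (hD : D.IsSaturated p)
    (hK : D.hyperfocalSubgroup p = U) {D₁ : FusionSystem (D.hyperfocalSubgroup p)}
    (h₁ : D.IsPResidual p D₁) : Same D₁ D :=
  ⟨hK, fun P => Set.Subset.antisymm (h₁.2.1 P)
    (isSubsystemOf_pPowerIndex hU hD (fun _ => subset_rfl) le_rfl hK.ge h₁.2 P)⟩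

/-- An invariant subsystem over the whole group has index prime to `p`. -/
theorem index_of_invariant {R D : FusionSystem U} (hU : IsPGroup p U) (hD : D.IsSaturated p)
    (h : R.IsInvariantIn D) : R.HasPrimeToPIndexIn D p := by
  have hinv := (isInvariantIn_iff_strongInv hU hD h.1 h.2.1).1 h
  rw [hasPrimeToPIndexIn_iff]
  refine ⟨h.1, fun P hP a ha k hk => ?_⟩
  obtain ⟨Q, hPQ, hQ⟩ := exists_fullyNormalized (F := D) hP
  obtain ⟨f, hf, rfl⟩ := isConj_iff.1 hPQ
  set b := MulAut.congr (mapEquiv hf) a with hb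
  have hbk : b ^ p ^ k = 1 := by rw [hb, ← map_pow, hk, map_one]
  have hbR := pElement_mem_of_invariant hU hD h hQ ((congr_mem_autGroup_iff hf a).2 ha) hbk
  obtain ⟨f', hf', hf'1, -⟩ := hf.exists_inv
  obtain ⟨m, hm, hme⟩ := hinv _ _ (autFun b) f' le_rfl hf.img_le ((mem_autGroup_iff hf.img_le).1 hbR)
    (fun x hx => autFun_mem b hx) hf'
  rw [show img (img P f) f' = P from
    (img_img hf).trans ((IsMap.img_congr fun x hx => hf'1 x hx).trans img_id)] at hm
  refine (mem_autGroup_iff hP).2 (hm.congr fun x hx => ?_)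
  have h1 := hme (f x) (hf.mem_img.2 ⟨x, hx, rfl⟩)
  rw [hf'1 x hx, hb, autFun_congr hf a hx, hf'1 _ (autFun_mem a hx)] at h1
  exact h1.symm

variable (p) in
theorem exists_residual (hU : IsPGroup p U) (hD : D.IsSaturated p) :
    ∃ R, D.IsPPrimeResidual p R :=
  Cfsg.Agent.S5140.result p hU D hD

variable (p) in
theorem exists_pResidual (hU : IsPGroup p U) (hD : D.IsSaturated p) :
    ∃ D₁, D.IsPResidual p D₁ :=
  let ⟨D₁, h, _⟩ := exists_unique_pPowerIndex hU hD hyperfocal_le_S le_rfl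
  ⟨D₁, h⟩

omit [Finite U] in
/-- Every saturated system has a residual limit. -/
theorem exists_limit : ∀ (n : ℕ) {U : Subgroup Ω} (D : FusionSystem U), Finite U →
    Nat.card U ≤ n → IsPGroup p U → D.IsSaturated p →
      ∃ (W : Subgroup Ω) (L : FusionSystem W), IsResidualLimitOf L D p := by
  intro n
  induction n using Nat.strong_induction_on with
  | _ n ih =>
  intro U D hfin hn hU hD
  have small : ∀ (G : FusionSystem U), G.IsSaturated p → G.hyperfocalSubgroup p ≠ U →
      ∃ (W : Subgroup Ω) (L : FusionSystem W), IsResidualLimitOf L G p := by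
    intro G hG hne
    obtain ⟨G₁, hG₁⟩ := exists_pResidual p hU hG
    have hKU : G.hyperfocalSubgroup p ≤ U := hyperfocal_le_S
    haveI := finite_of_le hKU
    obtain ⟨G₁', hG₁'⟩ := exists_residual p (hU.to_le hKU) hG₁.1
    have h1 := card_lt_of_lt le_rfl (lt_of_le_of_ne hKU hne)
    obtain ⟨W, L, hL⟩ := ih _ (h1.trans_le hn) G₁' inferInstance le_rfl (hU.to_le hKU) hG₁'.1
    exact ⟨W, L, IsResidualLimitOf.step _ _ G₁ G₁' hG₁ hG₁' hL⟩
  by_cases hK : D.hyperfocalSubgroup p = U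
  swap
  · exact small D hD hK
  obtain ⟨R, hR⟩ := exists_residual p hU hD
  obtain ⟨W, L, hL⟩ : ∃ (W : Subgroup Ω) (L : FusionSystem W), IsResidualLimitOf L R p := by
    by_cases hRK : R.hyperfocalSubgroup p = U
    · exact ⟨U, R, IsResidualLimitOf.stable R p hRK (residual_residual hR)⟩
    · exact small R hR.1 hRK
  obtain ⟨D₁, hD₁⟩ := exists_pResidual p hU hD
  haveI := finite_of_le (show D.hyperfocalSubgroup p ≤ U from hK.le)
  obtain ⟨D₁', hD₁'⟩ := exists_residual p (hU.to_le hK.le) hD₁.1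
  exact ⟨W, L, IsResidualLimitOf.step _ _ D₁ D₁' hD₁ hD₁'
    (((same_of_top hU hD hK hD₁).residual hD₁' hR).symm.limit hL)⟩

omit [Finite U] in
/-- The residual limit of the `p'`-residual is that of the system. -/
theorem sameLimit_residual : ∀ (n : ℕ) {U : Subgroup Ω} (D R : FusionSystem U), Finite U →
    Nat.card U ≤ n → IsPGroup p U → D.IsSaturated p → D.IsPPrimeResidual p R →
      SameLimit p D R := by
  intro n
  induction n using Nat.strong_induction_on with
  | _ n ih =>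
  intro U D R hfin hn hU hD hR W W' L L' hL hL'
  by_cases hK : D.hyperfocalSubgroup p = U
  · cases hL with
    | stable =>
      rename_i h1 h2
      have hRD : Same R D := Same.residual (⟨rfl, fun _ => rfl⟩ : Same D D) hR (by assumption)
      exact limit_unique (IsResidualLimitOf.stable _ _ (by assumption) (by assumption)) rfl hfin hU
        hD (hRD.limit hL')
    | step =>
      rename_i D₁ D₁' hD₁ hD₁' hL₁
      have hs := (same_of_top hU hD hK hD₁).residual hD₁' hR
      exact limit_unique (hs.limit hL₁) rfl hfin hU hR.1 hL'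
  cases hL with
  | stable => exact absurd (by assumption) hK
  | step =>
  rename_i D₁ D₁' hD₁ hD₁' hL₁
  have hKU : (D.hyperfocalSubgroup p) ≤ U := hyperfocal_le_S
  haveI := finite_of_le hKU
  have hlt : Nat.card (D.hyperfocalSubgroup p) < Nat.card U := card_lt_of_lt le_rfl (lt_of_le_of_ne hKU hK)
  have hKn : U ≤ Subgroup.normalizer ((D.hyperfocalSubgroup p) : Set Ω) := absorbs_hyperfocal.normal
  have hKs : D.StronglyClosed (D.hyperfocalSubgroup p) := absorbs_hyperfocal.stronglyClosed hU hD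
  have hRn := Cfsg.Agent.S5141.result p hU D hD D (Components.isWeaklyNormalIn_self hU hD) R hR
  have hRK : R.hyperfocalSubgroup p ≤ (D.hyperfocalSubgroup p) := hyperfocal_mono hR.2.1.1
  set RK := pSystem R p (D.hyperfocalSubgroup p) hKU hRK with hRKdef
  have hRKsat : RK.IsSaturated p := isSaturated_pSystem hU hR.1
  have hRKn : RK.IsNormalIn R p := pSystem_isNormalIn hU hR.1 hKn
  obtain ⟨⟨-, -, hRi⟩, -⟩ := hRn
  obtain ⟨hRsub, hUsc, -, -⟩ := id hRi
  have hRinv := (isInvariantIn_iff_strongInv hU hD hRsub hUsc).1 hRi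
  have hA : AutInv D U RK := autInv_pSystem hRinv le_rfl fun a ha x hx =>
    (stronglyClosed_iff.1 hKs).2 (D.hyperfocalSubgroup p) _ le_rfl ((isMap_autFun_of_mem le_rfl ha).mono hKU) x hx
  obtain ⟨⟨-, -, hRKi⟩, -⟩ := hRKn
  have hRKinv := strongInv_of_autInv hU hD hRi hKU
    ((isInvariantIn_iff_strongInv hU hR.1 hRKi.1 hRKi.2.1).1 hRKi) hA
  have hsub₁ : RK.IsSubsystemOf D₁ := isSubsystemOf_pPowerIndex hU hRKsat
    (fun P φ hφ => hRsub P (hRKi.1 P hφ)) hKU le_rfl hD₁.2
  have hRK₁ : RK.IsInvariantIn D₁ := (isInvariantIn_iff_strongInv (hU.to_le hKU) hD₁.1 hsub₁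
    (stronglyClosed_iff.2 ⟨le_rfl, fun _ _ _ hf _ hx => hf.mem_S hx⟩)).2
      (hRKinv.restrict hD₁.2.1)
  have hidx := index_of_invariant (hU.to_le hKU) hD₁.1 hRK₁
  have hres : RK.IsPPrimeResidual p D₁' :=
    residual_between hD₁' (hD₁'.2.2 RK hRKsat hidx) hsub₁
  obtain ⟨W'', M, hM⟩ := exists_limit (p := p) _ RK inferInstance le_rfl (hU.to_le hKU) hRKsat
  have h1 : Same L' M := Cfsg.Agent.S5203.main hU hR.1 hRKsat hKU pSystem_hasPPowerIndex hL' hM
  have h2 : Same M L := ih _ (hlt.trans_le hn) RK D₁' inferInstance le_rfl (hU.to_le hKU) hRKsat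
    hres hM hL₁
  exact (h1.trans h2).symm

theorem sameLimit_between {D₁ D : FusionSystem U} (hU : IsPGroup p U) (hD : D.IsSaturated p)
    (hD₁ : D₁.IsSaturated p) {R : FusionSystem U} (hR : D.IsPPrimeResidual p R)
    (h₁ : R.IsSubsystemOf D₁) (h₂ : D₁.IsSubsystemOf D) : SameLimit p D D₁ := by
  intro W W' L L' hL hL'
  obtain ⟨W'', M, hM⟩ := exists_limit (p := p) _ R inferInstance le_rfl hU hR.1
  exact (sameLimit_residual _ D R inferInstance le_rfl hU hD hR hL hM).trans
    (sameLimit_residual _ D₁ R inferInstance le_rfl hU hD₁ (residual_between hR h₁ h₂) hL' hM).symm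

theorem sameLimit_pPower (hU : IsPGroup p U) (hD : D.IsSaturated p) (h₀ : D₀.IsSaturated p)
    (hVU : V ≤ U) (hidx : D₀.HasPPowerIndexIn D p) : SameLimit p D D₀ :=
  fun hL hL' => Cfsg.Agent.S5203.main hU hD h₀ hVU hidx hL hL'

theorem SameLimit.trans_of {W : Subgroup Ω} {D₁ : FusionSystem W} (hV : IsPGroup p V) [Finite V]
    (hD₀ : D₀.IsSaturated p) (h : SameLimit p D D₀) (h' : SameLimit p D₀ D₁) :
    SameLimit p D D₁ := by
  intro _ _ L L' hL hL'
  obtain ⟨W'', M, hM⟩ := exists_limit (p := p) _ D₀ inferInstance le_rfl hV hD₀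
  exact (h hL hM).trans (h' hM hL')

theorem sameLimit_refl (hU : IsPGroup p U) (hD : D.IsSaturated p) : SameLimit p D D :=
  fun hL hL' => limit_unique hL rfl inferInstance hU hD hL'

end CfsgLib.Fusion.Limit
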