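import Cfsg.Agent.Lib.Fusion.System.Aut

/-!
# Saturated fusion systems: the basic axioms
-/

set_option autoImplicit false

open Subgroup
open scoped Classical

namespace CfsgLib.Fusion

open Cfsg (FusionSystem autInducedBy)
open Cfsg.FusionSystem (normalizerIn centralizerIn)

variable {Ω : Type*} [Group Ω] {S : Subgroup Ω} {F : FusionSystem S} {P Q R : Subgroup Ω}
  {f g : Ω → Ω} {p : ℕ}

theorem le_normalizerIn (h : P ≤ S) : P ≤ normalizerIn S P := le_inf h Subgroup.le_normalizer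

theorem centralizerIn_le_normalizerIn : centralizerIn S P ≤ normalizerIn S P :=
  inf_le_inf_left _ (Subgroup.centralizer_le_normalizer _)

/-- A map sends normalizing elements to normalizing elements. -/
theorem map_mem_normalizerIn (hf : IsMap F R f) (hQR : Q ≤ R) {n : Ω} (hn : n ∈ R)
    (hnQ : n ∈ Subgroup.normalizer (Q : Set Ω)) : f n ∈ normalizerIn S (img Q f) := by
  have hQ := hf.mono hQR
  refine ⟨hf.mem_S hn, Subgroup.mem_normalizer_iff.2 fun y => ⟨fun hy => ?_, fun hy => ?_⟩⟩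
  · obtain ⟨x, hx, rfl⟩ := hQ.mem_img.1 hy
    exact hQ.mem_img.2 ⟨n * x * n⁻¹, (Subgroup.mem_normalizer_iff.1 hnQ x).1 hx,
      hf.map_conj hn (hQR hx)⟩
  · obtain ⟨x, hx, hxy⟩ := hQ.mem_img.1 hy
    refine hQ.mem_img.2 ⟨n⁻¹ * x * n, (Subgroup.mem_normalizer_iff''.1 hnQ x).1 hx, ?_⟩
    rw [show n⁻¹ * x * n = n⁻¹ * x * n⁻¹⁻¹ by group, hf.map_conj (inv_mem hn) (hQR hx),
      hf.map_inv hn, hxy]
    group

theorem map_mem_centralizerIn (hf : IsMap F R f) (hQR : Q ≤ R) {n : Ω} (hn : n ∈ R)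
    (hnQ : n ∈ Subgroup.centralizer (Q : Set Ω)) : f n ∈ centralizerIn S (img Q f) := by
  refine ⟨hf.mem_S hn, Subgroup.mem_centralizer_iff.2 fun y hy => ?_⟩
  obtain ⟨x, hx, rfl⟩ := (hf.mono hQR).mem_img.1 hy
  exact (hf.map_commute (hQR hx) hn (Subgroup.mem_centralizer_iff.1 hnQ x hx)).eq

/-- An element conjugating `f` on `P` as some element of the normalizer of `P` normalizes the
image. -/
theorem mem_normalizer_img (hf : IsMap F P f) {n h : Ω} (hn : n ∈ Subgroup.normalizer (P : Set Ω))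
    (he : ∀ x ∈ P, f (n * x * n⁻¹) = h * f x * h⁻¹) :
    h ∈ Subgroup.normalizer (img P f : Set Ω) := by
  refine Subgroup.mem_normalizer_iff.2 fun y => ⟨fun hy => ?_, fun hy => ?_⟩
  · obtain ⟨x, hx, rfl⟩ := hf.mem_img.1 hy
    exact hf.mem_img.2 ⟨_, (Subgroup.mem_normalizer_iff.1 hn x).1 hx, he x hx⟩
  · obtain ⟨x, hx, hxy⟩ := hf.mem_img.1 hy
    refine hf.mem_img.2 ⟨n⁻¹ * x * n, (Subgroup.mem_normalizer_iff''.1 hn x).1 hx, ?_⟩
    have h1 := he _ ((Subgroup.mem_normalizer_iff''.1 hn x).1 hx)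
    rw [show n * (n⁻¹ * x * n) * n⁻¹ = x by group, hxy] at h1
    exact (mul_left_cancel (mul_right_cancel h1)).symm

variable [Finite S]

theorem eq_of_le_of_card_le (hQ : Q ≤ S) (h : P ≤ Q) (hc : Nat.card Q ≤ Nat.card P) : P = Q := by
  haveI := finite_of_le hQ
  exact Subgroup.eq_of_le_of_card_ge h hc

theorem card_le_of_le' (hQ : Q ≤ S) (h : P ≤ Q) : Nat.card P ≤ Nat.card Q := by
  haveI := finite_of_le hQ
  exact Subgroup.card_le_of_le h

theorem exists_conj_max (hP : P ≤ S) (w : Subgroup Ω → ℕ)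
    (hw : ∀ Q : Subgroup Ω, w Q ≤ Nat.card S) :
    ∃ Q, F.IsConj P Q ∧ ∀ R, F.IsConj P R → w R ≤ w Q := by
  set A : Set ℕ := w '' {Q | F.IsConj P Q}
  have hne : A.Nonempty := ⟨w P, P, isConj_refl hP, rfl⟩
  have hbd : BddAbove A := ⟨Nat.card S, by rintro _ ⟨Q, -, rfl⟩; exact hw Q⟩
  obtain ⟨Q, hQ, hQw⟩ := Nat.sSup_mem hne hbd
  exact ⟨Q, hQ, fun R hR => hQw ▸ le_csSup hbd ⟨R, hR, rfl⟩⟩

theorem exists_fullyNormalized (hP : P ≤ S) : ∃ Q, F.IsConj P Q ∧ F.IsFullyNormalized Q := by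
  obtain ⟨Q, hQ, hmax⟩ := exists_conj_max (F := F) hP (fun Q => Nat.card (normalizerIn S Q))
    (fun Q => card_le_of_le' le_rfl inf_le_left)
  exact ⟨Q, hQ, (isConj_le hQ).2, fun R hR => hmax R (isConj_trans hQ hR)⟩

theorem exists_fullyCentralized (hP : P ≤ S) : ∃ Q, F.IsConj P Q ∧ F.IsFullyCentralized Q := by
  obtain ⟨Q, hQ, hmax⟩ := exists_conj_max (F := F) hP (fun Q => Nat.card (centralizerIn S Q))
    (fun Q => card_le_of_le' le_rfl inf_le_left)
  exact ⟨Q, hQ, (isConj_le hQ).2, fun R hR => hmax R (isConj_trans hQ hR)⟩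

/-- Receptive subgroups are fully centralized. -/
theorem isFullyCentralized_of_isReceptive (hP : F.IsReceptive P) : F.IsFullyCentralized P := by
  obtain ⟨hPS, hext⟩ := isReceptive_iff.1 hP
  refine ⟨hPS, fun Q hQ => ?_⟩
  obtain ⟨f, hf, himg⟩ := isConj_iff.1 (isConj_symm hQ)
  obtain ⟨g, hg, hgf⟩ := hext Q f hf himg
  have hQE : Q ≤ extSub S Q f := le_extSub hf
  have hCE : centralizerIn S Q ≤ extSub S Q f := centralizerIn_le_extSub
  rw [← (hg.mono hCE).card_img]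
  refine card_le_of_le' inf_le_left fun y hy => ?_
  obtain ⟨c, hc, rfl⟩ := (hg.mono hCE).mem_img.1 hy
  have := map_mem_centralizerIn hg hQE (hCE hc) hc.2
  rwa [IsMap.img_congr hgf, himg] at this

/-- Extension to the normalizer, for a fully automized receptive target. -/
theorem exists_map_normalizer [Fact p.Prime] (hS : IsPGroup p S) (h₁ : F.IsFullyAutomized p P)
    (h₂ : F.IsReceptive P) (hQ : F.IsConj Q P) :
    ∃ g, IsMap F (normalizerIn S Q) g ∧ img Q g = P ∧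
      ∀ x ∈ normalizerIn S Q, g x ∈ normalizerIn S P := by
  obtain ⟨f, hf, rfl⟩ := isConj_iff.1 hQ
  obtain ⟨hPS, hi⟩ := (isFullyAutomized_iff hS).1 h₁
  haveI := finite_of_le hPS
  haveI := finite_mulAut (P := img Q f)
  set A := (autInducedBy S Q).map (MulAut.congr (mapEquiv hf)).toMonoidHom
  have hA : A ≤ F.autGroup (img Q f) :=
    (Subgroup.map_mono (autInducedBy_le_autGroup hf.le)).trans (autGroup_congr hf).le
  obtain ⟨α, hα, hαA⟩ := exists_conj_le_of_not_dvd_relIndex (isPGroup_autInducedBy hS)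
    (autInducedBy_le_autGroup hPS) hi ((isPGroup_autInducedBy hS).map _) hA
  have hmf : ∀ x ∈ Q, f x ∈ img Q f := fun x hx => hf.mem_img.2 ⟨x, hx, rfl⟩
  set f₁ := autFun α ∘ f with hf₁
  have hmap : IsMap F Q f₁ := hf.comp ((mem_autGroup_iff hPS).1 hα) hmf
  have himg : img Q f₁ = img Q f := by rw [hf₁, ← img_img hf, img_autFun]
  have hext : normalizerIn S Q ≤ extSub S Q f₁ := by
    intro n hn
    refine ⟨hn, ?_⟩
    have h1 := hαA (conj_mem_conjBy
      (Subgroup.mem_map_of_mem (MulAut.congr (mapEquiv hf)).toMonoidHom (conjAut_mem hn.1 hn.2)))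
    obtain ⟨h, hh, hact⟩ := mem_autInducedBy_iff.1 h1
    refine ⟨h, hh, fun x hx => ?_⟩
    show autFun α (f (n * x * n⁻¹)) = h * autFun α (f x) * h⁻¹
    have hxP := hmf x hx
    rw [← hact _ (autFun_mem α hxP), ← autFun_mul _ _ hxP, inv_mul_cancel_right,
      autFun_mul _ _ hxP, show (MulAut.congr (mapEquiv hf)).toMonoidHom (conjAut n hn.2) =
        MulAut.congr (mapEquiv hf) (conjAut n hn.2) from rfl, autFun_congr hf _ hx,
      autFun_conjAut hn.2 hx]
  obtain ⟨g, hg, hgf⟩ := (isReceptive_iff.1 h₂).2 Q f₁ hmap himg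
  have himg' : img Q g = img Q f := (IsMap.img_congr hgf).trans himg
  refine ⟨g, hg.mono hext, himg', fun x hx => ?_⟩
  rw [← himg']
  exact map_mem_normalizerIn (hg.mono hext) (le_normalizerIn hf.le) hx hx.2

/-- Fully automized and receptive implies fully normalized. -/
theorem isFullyNormalized_of_automized_receptive [Fact p.Prime] (hS : IsPGroup p S)
    (h₁ : F.IsFullyAutomized p P) (h₂ : F.IsReceptive P) : F.IsFullyNormalized P := by
  refine ⟨h₁.1, fun Q hQ => ?_⟩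
  obtain ⟨g, hg, -, hgN⟩ := exists_map_normalizer hS h₁ h₂ (isConj_symm hQ)
  rw [← hg.card_img]
  refine card_le_of_le' inf_le_left fun y hy => ?_
  obtain ⟨x, hx, rfl⟩ := hg.mem_img.1 hy
  exact hgN x hx

/-- Receptivity and full automization pass along an isomorphism of normalizers. -/
theorem automized_receptive_of_normalizer_iso [Fact p.Prime] (hS : IsPGroup p S)
    (h₁ : F.IsFullyAutomized p P) (h₂ : F.IsReceptive P) (hQS : Q ≤ S)
    (hg : IsMap F (normalizerIn S Q) g) (himg : img Q g = P)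
    (hN : img (normalizerIn S Q) g = normalizerIn S P) :
    F.IsFullyAutomized p Q ∧ F.IsReceptive Q := by
  have hQN := le_normalizerIn (S := S) hQS
  constructor
  · obtain ⟨hPS, hi⟩ := (isFullyAutomized_iff hS).1 h₁
    refine (isFullyAutomized_iff hS).2 ⟨hQS, ?_⟩
    have hgQ := hg.mono hQN
    subst himg
    rw [← autGroup_congr hgQ] at hi
    have hmap : (autInducedBy S Q).map (MulAut.congr (mapEquiv hgQ)).toMonoidHom =
        autInducedBy S (img Q g) := by
      apply le_antisymm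
      · rintro _ ⟨a, ha, rfl⟩
        obtain ⟨n, hn, hna⟩ := mem_autInducedBy_iff.1 ha
        have hnN : n ∈ normalizerIn S Q := ⟨hn, mem_normalizer_of_autFun hna⟩
        refine mem_autInducedBy_iff.2 ⟨g n, hg.mem_S hnN, fun y hy => ?_⟩
        obtain ⟨x, hx, rfl⟩ := hgQ.mem_img.1 hy
        show autFun (MulAut.congr (mapEquiv hgQ) a) (g x) = _
        rw [autFun_congr hgQ a hx, hna x hx, hg.map_conj hnN (hQN hx)]
      · intro b hb
        obtain ⟨m, hm, hmb⟩ := mem_autInducedBy_iff.1 hb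
        have hmN : m ∈ normalizerIn S (img Q g) := ⟨hm, mem_normalizer_of_autFun hmb⟩
        rw [← hN] at hmN
        obtain ⟨n, hn, rfl⟩ := hg.mem_img.1 hmN
        refine ⟨conjAut n hn.2, conjAut_mem hn.1 hn.2, autFun_ext fun y hy => ?_⟩
        obtain ⟨x, hx, rfl⟩ := hgQ.mem_img.1 hy
        show autFun (MulAut.congr (mapEquiv hgQ) (conjAut n hn.2)) (g x) = _
        rw [autFun_congr hgQ _ hx, autFun_conjAut hn.2 hx, hg.map_conj hn (hQN hx), hmb _ hy]
    rwa [← hmap, Subgroup.relIndex_map_map_of_injective _ _ (MulAut.congr (mapEquiv hgQ)).injective]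
      at hi
  · refine isReceptive_iff.2 ⟨hQS, fun R f hf hfimg => ?_⟩
    have hfQ : ∀ x ∈ R, f x ∈ Q := fun x hx => hfimg ▸ hf.mem_img.2 ⟨x, hx, rfl⟩
    have hgf : IsMap F R (g ∘ f) := hf.comp (hg.mono hQN) hfQ
    have himg' : img R (g ∘ f) = P := by rw [← img_img hf, hfimg, himg]
    have hle : extSub S R f ≤ extSub S R (g ∘ f) := by
      rintro n ⟨hn, h, hh, he⟩
      have hhN : h ∈ normalizerIn S Q := ⟨hh, hfimg ▸ mem_normalizer_img hf hn.2 he⟩
      refine ⟨hn, g h, hg.mem_S hhN, fun x hx => ?_⟩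
      show g (f (n * x * n⁻¹)) = g h * g (f x) * (g h)⁻¹
      rw [he x hx, hg.map_conj hhN (hQN (hfQ x hx))]
    obtain ⟨ψ, hψ, hψe⟩ := (isReceptive_iff.1 h₂).2 R (g ∘ f) hgf himg'
    obtain ⟨g', hg', hg'1, hg'2⟩ := hg.exists_inv
    rw [hN] at hg' hg'2
    refine ⟨g' ∘ ψ, (hψ.mono hle).comp hg' (fun x hx => ?_), fun x hx => ?_⟩
    · have h := map_mem_normalizerIn hψ (le_extSub hgf) (hle hx) (extSub_le hx).2
      rwa [IsMap.img_congr hψe, himg'] at h
    · show g' (ψ x) = f x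
      rw [hψe x hx]
      exact hg'1 _ (hQN (hfQ x hx))

/-- In a saturated system fully normalized subgroups are fully automized and receptive. -/
theorem IsSaturated.automized_receptive [Fact p.Prime] (hS : IsPGroup p S) (hF : F.IsSaturated p)
    (hQ : F.IsFullyNormalized Q) : F.IsFullyAutomized p Q ∧ F.IsReceptive Q := by
  obtain ⟨P, hPQ, h₁, h₂⟩ := hF Q hQ.1
  obtain ⟨g, hg, himg, hgN⟩ := exists_map_normalizer hS h₁ h₂ hPQ
  refine automized_receptive_of_normalizer_iso hS h₁ h₂ hQ.1 hg himg ?_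
  refine eq_of_le_of_card_le inf_le_left (fun y hy => ?_) (hg.card_img ▸ hQ.2 P hPQ)
  obtain ⟨x, hx, rfl⟩ := hg.mem_img.1 hy
  exact hgN x hx

theorem IsSaturated.isFullyCentralized [Fact p.Prime] (hS : IsPGroup p S) (hF : F.IsSaturated p)
    (hQ : F.IsFullyNormalized Q) : F.IsFullyCentralized Q :=
  isFullyCentralized_of_isReceptive (IsSaturated.automized_receptive hS hF hQ).2

/-- In a saturated system fully centralized subgroups are receptive. -/
theorem IsSaturated.isReceptive [Fact p.Prime] (hS : IsPGroup p S) (hF : F.IsSaturated p)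
    (hQ : F.IsFullyCentralized Q) : F.IsReceptive Q := by
  obtain ⟨P, hQP, h₁, h₂⟩ := hF Q hQ.1
  obtain ⟨g, hg, himg, hgN⟩ := exists_map_normalizer hS h₁ h₂ hQP
  have hQN := le_normalizerIn (S := S) hQ.1
  have hCN : centralizerIn S Q ≤ normalizerIn S Q := centralizerIn_le_normalizerIn
  have hC : img (centralizerIn S Q) g = centralizerIn S P := by
    refine eq_of_le_of_card_le inf_le_left (fun y hy => ?_)
      ((hg.mono hCN).card_img ▸ hQ.2 P hQP)
    obtain ⟨c, hc, rfl⟩ := (hg.mono hCN).mem_img.1 hy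
    exact himg ▸ map_mem_centralizerIn hg hQN (hCN hc) hc.2
  refine isReceptive_iff.2 ⟨hQ.1, fun R f hf hfimg => ?_⟩
  have hfQ : ∀ x ∈ R, f x ∈ Q := fun x hx => hfimg ▸ hf.mem_img.2 ⟨x, hx, rfl⟩
  have hgf : IsMap F R (g ∘ f) := hf.comp (hg.mono hQN) hfQ
  have himg' : img R (g ∘ f) = P := by rw [← img_img hf, hfimg, himg]
  have hle : extSub S R f ≤ extSub S R (g ∘ f) := by
    rintro n ⟨hn, h, hh, he⟩
    have hhN : h ∈ normalizerIn S Q := ⟨hh, hfimg ▸ mem_normalizer_img hf hn.2 he⟩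
    refine ⟨hn, g h, hg.mem_S hhN, fun x hx => ?_⟩
    show g (f (n * x * n⁻¹)) = g h * g (f x) * (g h)⁻¹
    rw [he x hx, hg.map_conj hhN (hQN (hfQ x hx))]
  obtain ⟨ψ, hψ, hψe⟩ := (isReceptive_iff.1 h₂).2 R (g ∘ f) hgf himg'
  obtain ⟨g', hg', hg'1, -⟩ := hg.exists_inv
  refine ⟨g' ∘ ψ, (hψ.mono hle).comp hg' (fun x hx => ?_), fun x hx => ?_⟩
  · obtain ⟨hn, h, hh, he⟩ := hx
    have hhN : h ∈ normalizerIn S Q := ⟨hh, hfimg ▸ mem_normalizer_img hf hn.2 he⟩
    have hxE : x ∈ extSub S R (g ∘ f) := hle ⟨hn, h, hh, he⟩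
    have hψN := map_mem_normalizerIn hψ (le_extSub hgf) hxE hn.2
    have hcC : (g h)⁻¹ * ψ x ∈ centralizerIn S P := by
      refine ⟨S.mul_mem (S.inv_mem (hg.mem_S hhN)) hψN.1, Subgroup.mem_centralizer_iff.2 fun y hy => ?_⟩
      obtain ⟨u, hu, rfl⟩ := hgf.mem_img.1 (himg'.ge hy)
      have h1 : g h * g (f u) * (g h)⁻¹ = ψ x * g (f u) * (ψ x)⁻¹ := by
        rw [← hg.map_conj hhN (hQN (hfQ u hu)), ← he u hu]
        show (g ∘ f) (x * u * x⁻¹) = _
        rw [← hψe _ ((Subgroup.mem_normalizer_iff.1 hn.2 u).1 hu),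
          hψ.map_conj hxE (le_extSub hgf hu), hψe u hu]
        rfl
      show g (f u) * ((g h)⁻¹ * ψ x) = (g h)⁻¹ * ψ x * g (f u)
      calc g (f u) * ((g h)⁻¹ * ψ x) = (g h)⁻¹ * (g h * g (f u) * (g h)⁻¹) * ψ x := by group
        _ = (g h)⁻¹ * ψ x * g (f u) := by rw [h1]; group
    rw [← hC] at hcC
    obtain ⟨c, hc, hcψ⟩ := (hg.mono hCN).mem_img.1 hcC
    refine hg.mem_img.2 ⟨h * c, mul_mem hhN (hCN hc), ?_⟩
    rw [hg.map_mul hhN (hCN hc), hcψ, mul_inv_cancel_left]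
  · show g' (ψ x) = f x
    rw [hψe x hx]
    exact hg'1 _ (hQN (hfQ x hx))

/-- The Sylow and extension axioms imply saturation. -/
theorem isSaturated_of_axioms
    (h₁ : ∀ P : Subgroup Ω, F.IsFullyNormalized P →
      F.IsFullyCentralized P ∧ F.IsFullyAutomized p P)
    (h₂ : ∀ P : Subgroup Ω, F.IsFullyCentralized P → F.IsReceptive P) : F.IsSaturated p := by
  intro P hP
  obtain ⟨Q, hPQ, hQ⟩ := exists_fullyNormalized (F := F) hP
  exact ⟨Q, hPQ, (h₁ Q hQ).2, h₂ Q (h₁ Q hQ).1⟩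

theorem isFullyNormalized_self : F.IsFullyNormalized S :=
  ⟨le_rfl, fun _ _ => card_le_of_le' inf_le_left (le_normalizerIn le_rfl) |>.trans'
    (card_le_of_le' le_rfl inf_le_left)⟩

end CfsgLib.Fusion
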