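import Cfsg.Agent.Lib.PGroup.SmallExpAut
import Cfsg.Agent.Lib.Fusion.System.SeriesNormal
import Cfsg.Agent.Lib.Fusion.System.Hyperfocal

/-!
# `S` is normal when the fusion of small cyclic subgroups of the hyperfocal subgroup is seen in `S`
-/

set_option autoImplicit false
set_option linter.style.haveILetI false

open Subgroup
open scoped Classical commutatorElement

namespace CfsgLib.Fusion

open Cfsg (FusionSystem autInducedBy)
open Cfsg.FusionSystem (normalizerIn centralizerIn)
open CfsgLib.PGroup (smallExp smallSubgroup)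

variable {Ω : Type*} [Group Ω] {S : Subgroup Ω} [Finite S] {F : FusionSystem S} {p : ℕ}
  [Fact p.Prime]

/-- The automorphisms of `P` centralizing the sections of the upper central series of `S` on the
small elements of the hyperfocal subgroup form, up to containment, a normal `p`-subgroup. -/
theorem exists_small_kernel (hS : IsPGroup p S) (hF : F.IsSaturated p)
    (h : ∀ x ∈ F.hyperfocalSubgroup p, x ^ smallExp p = 1 → ∀ f,
      IsMap F (Subgroup.zpowers x) f → ∃ α : MulAut S, f x = autFun α x)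
    {P : Subgroup Ω} (hPS : P ≤ S) :
    ∃ K : Subgroup (F.autGroup P), K.Normal ∧ IsPGroup p K ∧ ∀ g : F.autGroup P,
      (∀ x ∈ P ⊓ F.hyperfocalSubgroup p, x ^ smallExp p = 1 → ∀ (j : ℕ),
        ∀ z ∈ Subgroup.upperCentralSeries S (j + 1), (z : Ω) = x →
          x⁻¹ * autFun (g : MulAut P) x ∈ (Subgroup.upperCentralSeries S j).map S.subtype) →
        g ∈ K := by
  set H := F.hyperfocalSubgroup p with hH
  have hHsc : F.StronglyClosed H := absorbs_hyperfocal.stronglyClosed hS hF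
  haveI : Finite P := finite_of_le hPS
  haveI : Finite (MulAut P) := finite_mulAut
  set D := P ⊓ H with hD
  have hDP : D ≤ P := inf_le_left
  haveI : Finite D := finite_of_le (hDP.trans hPS)
  have hDp : IsPGroup p D := hS.to_le (hDP.trans hPS)
  obtain ⟨C, hC, hcen⟩ := CfsgLib.CFun.exists_critical hDp
  obtain ⟨hchar, hpow, hcc, hPC⟩ := id hC
  set X : Subgroup Ω := (smallSubgroup C hpow hcc).map D.subtype with hX
  have hXD : X ≤ D := Subgroup.map_subtype_le _
  have hXsmall : ∀ x ∈ X, x ^ smallExp p = 1 := by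
    rintro _ ⟨y, hy, rfl⟩
    rw [← map_pow, hy.2, map_one]
  have hDinv : ∀ a ∈ F.autGroup P, ∀ x ∈ D, autFun a x ∈ D := fun a ha x hx =>
    autInvariant_of_stronglyClosed hHsc hPS ha hx
  have hXinv : ∀ a ∈ F.autGroup P, ∀ x ∈ X, autFun a x ∈ X := by
    intro a ha x hx
    have hm := ((mem_autGroup_iff hPS).1 ha).mono hDP
    have hi := img_eq_of_map_le (hDP.trans hPS) hm le_rfl (hDinv a ha)
    obtain ⟨y, ⟨hyC, hye⟩, rfl⟩ := hx
    refine ⟨autOf hm hi y, ⟨CfsgLib.CFun.mem_of_map_conj _ hyC, ?_⟩, ?_⟩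
    · rw [← map_pow, hye, map_one]
    · show ((autOf hm hi y : D) : Ω) = autFun a (y : Ω)
      rw [← autFun_coe, autFun_autOf hm hi y.2]
  set Z : ℕ → Subgroup Ω := fun i => (Subgroup.upperCentralSeries S i).map S.subtype with hZ
  -- images of small elements stay in the same term
  have horb : ∀ (i : ℕ), ∀ a ∈ F.autGroup P, ∀ x ∈ X ⊓ Z i, autFun a x ∈ X ⊓ Z i := by
    intro i a ha x hx
    refine ⟨hXinv a ha x hx.1, ?_⟩
    have hxD := hXD hx.1
    obtain ⟨α, hα⟩ := h x hxD.2 (hXsmall x hx.1) (autFun a)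
      (((mem_autGroup_iff hPS).1 ha).mono (Subgroup.zpowers_le.2 hxD.1))
    obtain ⟨z, hz, hze⟩ := hx.2
    rw [hα, ← hze, show S.subtype z = (z : Ω) from rfl, autFun_coe]
    have hchar' := (inferInstance : (Subgroup.upperCentralSeries S i).Characteristic).fixed α
    exact ⟨α z, (SetLike.ext_iff.1 hchar' z).2 hz, rfl⟩
  haveI : Group.IsNilpotent S := hS.isNilpotent
  set n := Group.nilpotencyClass S with hn
  have hXP : ∀ j, X ⊓ Z j ≤ P := fun j => inf_le_left.trans (hXD.trans hDP)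
  have hinvX : ∀ (j : ℕ), ∀ a ∈ F.autGroup P, ∀ x ∈ X ⊓ Z j, autFun a x ∈ X ⊓ Z j := horb
  let K : Subgroup (F.autGroup P) :=
    ⨅ j : Fin n, relStab (F.autGroup P) (X ⊓ Z (j + 1)) (X ⊓ Z j) (hinvX j) (hXP _) (hXP _)
      (hinvX _)
  have hKn : K.Normal := Subgroup.normal_iInf_normal fun j => relStab_normal
  obtain ⟨m, hm⟩ := IsPGroup.iff_card.1 hS
  have hKp : IsPGroup p K := by
    intro g
    obtain ⟨i, q, hq, hord⟩ := Nat.exists_eq_pow_mul_and_not_dvd (orderOf_pos g).ne' p
      (Fact.out : p.Prime).ne_one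
    set t : K := g ^ p ^ i with ht
    have htq : t ^ q = 1 := by rw [ht, ← pow_mul, ← hord, pow_orderOf_eq_one]
    have hto : ¬ p ∣ orderOf (t : F.autGroup P) := fun hd => hq (hd.trans
      (orderOf_dvd_of_pow_eq_one (by rw [← Subgroup.coe_pow, htq, Subgroup.coe_one])))
    -- it moves elements inside `D`
    have hmove : ∀ x ∈ P, x⁻¹ * autFun ((t : F.autGroup P) : MulAut P) x ∈ D := fun x hx =>
      ⟨P.mul_mem (P.inv_mem hx) (autFun_mem _ hx), mem_hyperfocal hPS (Subgroup.subset_closure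
        ((Fact.out : p.Prime).coprime_iff_not_dvd.2 hto).symm) hx⟩
    have key : ∀ j : ℕ, j ≤ n → ∃ k : ℕ, ∀ x ∈ X ⊓ Z j,
        autFun (((t : F.autGroup P) : MulAut P) ^ p ^ k) x = x := by
      intro j
      induction j with
      | zero =>
        refine fun _ => ⟨0, fun x hx => ?_⟩
        have hxb : x = 1 := by
          obtain ⟨z, hz, rfl⟩ := hx.2
          rw [Subgroup.upperCentralSeries_zero] at hz
          rw [show z = 1 from Subgroup.mem_bot.1 hz, map_one]
        subst hxb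
        exact autFun_map_one _
      | succ j ih =>
        intro hj
        obtain ⟨k, hk⟩ := ih (Nat.le_of_succ_le hj)
        refine ⟨k + m, fun x hx => ?_⟩
        rw [pow_add, pow_mul]
        refine pow_fix_step hPS hm (hXP _) (hXP _) hk (fun y hy => ?_) x hx
        have h1 := mem_relStab.1 (pow_mem (Subgroup.mem_iInf.1 t.2 ⟨j, hj⟩) (p ^ k)) y hy
        rwa [Subgroup.coe_pow] at h1
    obtain ⟨k, hk⟩ := key n le_rfl
    have hXfix : ∀ x ∈ X, autFun (((t : F.autGroup P) : MulAut P) ^ p ^ k) x = x := fun x hx => by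
      refine hk x ⟨hx, ?_⟩
      refine ⟨⟨x, hPS (hDP (hXD hx))⟩, ?_, rfl⟩
      rw [hn, Subgroup.upperCentralSeries_nilpotencyClass]
      exact Subgroup.mem_top _
    set u : F.autGroup P := (t : F.autGroup P) ^ p ^ k with hu
    have huo : ¬ p ∣ orderOf u := fun hd => hto (hd.trans (orderOf_pow_dvd _))
    have hue : (u : MulAut P) = ((t : F.autGroup P) : MulAut P) ^ p ^ k := by
      rw [hu, Subgroup.coe_pow]
    -- so it fixes `D`
    have hDfix : ∀ x ∈ D, autFun (u : MulAut P) x = x := by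
      have hDm := ((mem_autGroup_iff hPS).1 u.2).mono hDP
      have hDi : img D (autFun (u : MulAut P)) = D :=
        img_eq_of_map_le (hDP.trans hPS) hDm le_rfl (hDinv _ u.2)
      set γ := autOf hDm hDi
      have hγ : ∀ x ∈ D, autFun γ x = autFun (u : MulAut P) x :=
        fun x hx => autFun_autOf hDm hDi hx
      haveI : Finite (MulAut D) := finite_mulAut
      have hγo : ¬ p ∣ orderOf γ := fun hd => huo (hd.trans (orderOf_dvd_of_pow_eq_one
        (autFun_ext fun x hx => by
          rw [← autFun_pow_eq hDP (α := γ) (γ := (u : MulAut P)) (fun y hy => (hγ y hy).symm)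
            (orderOf u) x hx, ← Subgroup.coe_pow, pow_orderOf_eq_one, Subgroup.coe_one,
            autFun_one hx.1, autFun_one hx])))
      have hγ1 := CfsgLib.PGroup.eq_one_of_fix_small_critical hDp hC hcen γ hγo
        fun x hxC hxe => Subtype.ext (by
          rw [← autFun_coe, hγ x x.2, hue, hXfix x ⟨x, ⟨hxC, hxe⟩, rfl⟩])
      intro x hx
      rw [← hγ x hx, hγ1, autFun_one hx]
    have hstep : (u : MulAut P) ^ p ^ m = 1 := autFun_ext fun x hx => by
      rw [autFun_one hx]
      refine pow_fix_step hPS hm le_rfl hDP hDfix (fun y hy => ?_) x hx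
      refine ⟨P.mul_mem (P.inv_mem hy) (autFun_mem _ hy), mem_hyperfocal hPS (Subgroup.subset_closure
        ((Fact.out : p.Prime).coprime_iff_not_dvd.2 huo).symm) hy⟩
    refine ⟨i + k + m, Subtype.ext (Subtype.ext ?_)⟩
    simp only [Subgroup.coe_pow, Subgroup.coe_one]
    rw [pow_add, pow_add, pow_mul, pow_mul]
    rw [hue, ht] at hstep
    simpa only [Subgroup.coe_pow] using hstep
  refine ⟨K, hKn, hKp, fun g hg => Subgroup.mem_iInf.2 fun j x hx => ?_⟩
  show x⁻¹ * autFun (g : MulAut P) x ∈ X ⊓ Z j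
  obtain ⟨z, hz, hze⟩ := hx.2
  exact ⟨X.mul_mem (X.inv_mem hx.1) (hXinv _ g.2 x hx.1),
    hg x (hXD hx.1) (hXsmall x hx.1) j z hz hze⟩

/-- If the images of the elements of order `p` (and 4) of the hyperfocal subgroup are images under
automorphisms of `S`, then `S` is normal. -/
theorem top_isNormal_of_small_hyperfocal (hS : IsPGroup p S) (hF : F.IsSaturated p)
    (h : ∀ x ∈ F.hyperfocalSubgroup p, x ^ smallExp p = 1 → ∀ f,
      IsMap F (Subgroup.zpowers x) f → ∃ α : MulAut S, f x = autFun α x) : F.IsNormal S := by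
  refine isNormal_of_stronglyClosed_le hS hF
    (stronglyClosed_iff.2 ⟨le_rfl, fun R f _ hf x hx => hf.mem_S hx⟩) fun P hP => ?_
  obtain ⟨hc, hr⟩ := isEssential_centric_radical hS hP
  obtain ⟨K, hKn, hKp, hK⟩ := exists_small_kernel hS hF h hc.1
  refine le_of_conjAut_mem_pCore hS le_rfl (le_normalizerIn le_rfl) hc hr
    fun s hsP hsS hm' => CfsgLib.Coprime.le_pCore (hN := hKn) hKp (hK _ fun x hx _ j z hz hze => ?_)
  rw [autFun_conjAut hsP hx.1]
  refine ⟨⁅z⁻¹, (⟨s, hsS⟩ : S)⁆, Subgroup.mem_upperCentralSeries_succ_iff.1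
    (inv_mem hz) ⟨s, hsS⟩, ?_⟩
  rw [← hze]
  simp [commutatorElement_def, mul_assoc]

/-- If these images are even conjugates in `S`, the system is inner. -/
theorem autGroup_isPGroup_of_small_hyperfocal (hS : IsPGroup p S) (hF : F.IsSaturated p)
    (h : ∀ x ∈ F.hyperfocalSubgroup p, x ^ smallExp p = 1 → ∀ f,
      IsMap F (Subgroup.zpowers x) f → ∃ s ∈ S, f x = s * x * s⁻¹) :
    IsPGroup p (F.autGroup S) := by
  obtain ⟨K, -, hKp, hK⟩ := exists_small_kernel hS hF (fun x hx hxe f hf => by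
    obtain ⟨s, hs, hfs⟩ := h x hx hxe f hf
    refine ⟨conjAut s (Subgroup.le_normalizer hs), ?_⟩
    rw [autFun_conjAut _ (hyperfocal_le_S hx), hfs]) (le_refl S)
  intro g
  have hg : g ∈ K := hK g fun x hx hxe j z hz hze => by
    obtain ⟨s, hs, hgs⟩ := h x hx.2 hxe _
      (((mem_autGroup_iff le_rfl).1 g.2).mono (Subgroup.zpowers_le.2 hx.1))
    rw [hgs]
    refine ⟨⁅z⁻¹, (⟨s, hs⟩ : S)⁆, Subgroup.mem_upperCentralSeries_succ_iff.1
      (inv_mem hz) ⟨s, hs⟩, ?_⟩
    rw [← hze]
    simp [commutatorElement_def, mul_assoc]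
  obtain ⟨k, hk⟩ := hKp ⟨g, hg⟩
  exact ⟨k, congrArg Subtype.val hk⟩

end CfsgLib.Fusion
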