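import Cfsg.Agent.Lib.Fusion.System.SmallControl
import Cfsg.Agent.Lib.Fusion.System.KNormalizer
import Cfsg.Agent.Lib.Fusion.System.FactorExist
import Cfsg.Agent.Lib.Fusion.System.PPrimeIndex

/-!
# Saturated subsystems are detected on small abelian subgroups

A saturated subsystem agreeing with `F` on the abelian subgroups of exponent dividing `p` (or 4) of
a subgroup absorbing the automorphisms of order prime to `p` is all of `F`. The proof passes to
centralizer systems of such subgroups.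
-/

set_option autoImplicit false
set_option linter.style.haveILetI false

open Subgroup
open scoped Classical commutatorElement Pointwise

namespace CfsgLib.Fusion.SmallDetect

open Cfsg (FusionSystem autInducedBy)
open Cfsg.FusionSystem (normalizerIn centralizerIn)
open CfsgLib.PGroup (smallExp smallSubgroup)
open CfsgLib.Fusion.PPrime (autFun_symm autFun_symm')

variable {Ω : Type*} [Group Ω] {p : ℕ}

/-- An abelian subgroup of exponent dividing `p` (4 for `p = 2`). -/
def SmallAb (p : ℕ) (B : Subgroup Ω) : Prop :=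
  (∀ a ∈ B, ∀ b ∈ B, a * b = b * a) ∧ ∀ a ∈ B, a ^ smallExp p = 1

theorem SmallAb.sup {A B : Subgroup Ω} (hA : SmallAb p A) (hB : SmallAb p B)
    (hc : B ≤ Subgroup.centralizer (A : Set Ω)) : SmallAb p (B ⊔ A) := by
  have hmem : ∀ z ∈ B ⊔ A, ∃ b ∈ B, ∃ a ∈ A, b * a = z := fun z hz => by
    have hz' : z ∈ ((B ⊔ A : Subgroup Ω) : Set Ω) := hz
    rw [coe_mul_of_left_le_normalizer_right B A
      (hc.trans (Subgroup.centralizer_le_normalizer _))] at hz'
    obtain ⟨b, hb, a, ha, h⟩ := Set.mem_mul.1 hz'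
    exact ⟨b, hb, a, ha, h⟩
  have hcomm : ∀ b ∈ B, ∀ a ∈ A, Commute b a := fun b hb a ha =>
    (Subgroup.mem_centralizer_iff.1 (hc hb) a ha).symm
  refine ⟨fun z hz w hw => ?_, fun z hz => ?_⟩
  · obtain ⟨b, hb, a, ha, rfl⟩ := hmem z hz
    obtain ⟨b', hb', a', ha', rfl⟩ := hmem w hw
    have h1 : Commute b (b' * a') :=
      Commute.mul_right (show Commute b b' from hB.1 b hb b' hb') (hcomm b hb a' ha')
    have h2 : Commute a (b' * a') :=
      Commute.mul_right (hcomm b' hb' a ha).symm (show Commute a a' from hA.1 a ha a' ha')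
    exact (h1.mul_left h2).eq
  · obtain ⟨b, hb, a, ha, rfl⟩ := hmem z hz
    rw [(hcomm b hb a ha).mul_pow, hB.2 b hb, hA.2 a ha, one_mul]

variable {S : Subgroup Ω} {E F : FusionSystem S} {H : Subgroup Ω}

/-- `E` has all the maps of `F` on small abelian subgroups of `H`. -/
def Agree (E F : FusionSystem S) (p : ℕ) (H : Subgroup Ω) : Prop :=
  ∀ (B : Subgroup Ω) (f : Ω → Ω), B ≤ H → SmallAb p B → IsMap F B f → IsMap E B f

variable [Finite S] [Fact p.Prime]

/-- The hypotheses. -/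
structure Data (E F : FusionSystem S) (p : ℕ) (H : Subgroup Ω) : Prop where
  isPGroup : IsPGroup p S
  satE : E.IsSaturated p
  sat : F.IsSaturated p
  sub : E.IsSubsystemOf F
  absorbs : Absorbs F p H
  agree : Agree E F p H

/-- The inductive hypothesis: centralizer systems of non-central small subgroups agree. -/
def CentHyp (E F : FusionSystem S) (p : ℕ) (H : Subgroup Ω) : Prop :=
  ∀ A : Subgroup Ω, A ≤ H → SmallAb p A → ¬ A ≤ F.center → E.IsFullyCentralized A →
    ∀ (P : Subgroup Ω) (f : Ω → Ω), A ≤ P → P ≤ centralizerIn S A →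
      (∀ x ∈ P, f x ∈ centralizerIn S A) → (∀ x ∈ A, f x = x) → IsMap F P f → IsMap E P f

variable {P : Subgroup Ω}

/-- The step at a centric fully normalized `P` with a suitable small subgroup `A`. -/
theorem Data.autGroup_le_of_small (d : Data E F p H) (hI : CentHyp E F p H) (hPc : F.IsCentric P)
    (hPn : F.IsFullyNormalized P)
    (big : ∀ {X : Subgroup Ω} {g : Ω → Ω}, IsMap F X g → Nat.card P < Nat.card X → IsMap E X g)
    {A : Subgroup Ω} (hAP : A ≤ P) (hAH : A ≤ H) (hA : SmallAb p A) (hAZ : ¬ A ≤ F.center)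
    (hAN : normalizerIn S P ≤ Subgroup.normalizer (A : Set Ω)) (hAn : E.IsFullyNormalized A) :
    F.autGroup P ≤ E.autGroup P := by
  have hS := d.isPGroup
  have hPS := hPc.1
  have hAS : A ≤ S := hAP.trans hPS
  haveI : Finite P := finite_of_le hPS
  haveI : Finite (MulAut P) := finite_mulAut
  have hle : E.autGroup P ≤ F.autGroup P := autGroup_mono d.sub hPS
  obtain ⟨hAa, hAr⟩ := IsSaturated.automized_receptive hS d.satE hAn
  have hAfc := isFullyCentralized_of_isReceptive hAr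
  set T₀ := autInducedBy S P
  obtain ⟨-, hi⟩ := (isFullyAutomized_iff hS).1 (IsSaturated.automized_receptive hS d.sat hPn).1
  have hT₀E : T₀ ≤ E.autGroup P := autInducedBy_le_autGroup hPS
  have hiE : ¬ p ∣ T₀.relIndex (E.autGroup P) := fun hd => hi (hd.trans
    (Dvd.intro _ (Subgroup.relIndex_mul_relIndex _ _ _ hT₀E hle)))
  have hPrec := (IsSaturated.automized_receptive hS d.sat hPn).2
  -- `k` moving a non-inner element of `T₀` into `T₀` is in `E`
  have K0 : ∀ k ∈ F.autGroup P, ∀ s (hs : s ∈ normalizerIn S P), s ∉ P →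
      k * conjAut s hs.2 * k⁻¹ ∈ T₀ → k ∈ E.autGroup P := by
    intro k hk s hs hsP hks
    set X := P ⊔ Subgroup.zpowers s with hX
    have hXN : X ≤ normalizerIn S P := sup_le (le_normalizerIn hPS) (Subgroup.zpowers_le.2 hs)
    have hstab : X ≤ extSub S P (autFun k) := by
      refine sup_le (le_extSub ((mem_autGroup_iff hPS).1 hk)) (Subgroup.zpowers_le.2 ?_)
      obtain ⟨w, hw, hwx⟩ := mem_autInducedBy_iff.1 hks
      refine ⟨hs, w, hw, fun x hx => ?_⟩
      rw [← hwx _ (autFun_mem k hx), ← autFun_mul _ _ hx, inv_mul_cancel_right, autFun_mul _ _ hx,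
        autFun_conjAut hs.2 hx]
    obtain ⟨g, hg, hgk⟩ := (isReceptive_iff.1 hPrec).2 P _ ((mem_autGroup_iff hPS).1 hk)
      (img_autFun k)
    have hgE := big (hg.mono hstab) (card_lt_of_lt (hXN.trans inf_le_left)
      (lt_of_le_of_ne le_sup_left fun e => hsP (e.symm ▸ Subgroup.mem_sup_right
        (Subgroup.mem_zpowers s))))
    exact (mem_autGroup_iff hPS).2 ((hgE.mono le_sup_left).congr fun x hx => (hgk x hx).symm)
  intro g hg
  have hgm := (mem_autGroup_iff hPS).1 hg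
  have hgim := (mem_autGroup_iff hPS).1 (inv_mem hg)
  set A' := img A (autFun g)
  set P₀ := P ⊓ Subgroup.centralizer (A : Set Ω) with hP₀
  set Q := img P₀ (autFun g) with hQ
  have hP₀P : P₀ ≤ P := inf_le_left
  have hAP₀ : A ≤ P₀ := le_inf hAP fun a ha =>
    Subgroup.mem_centralizer_iff.2 fun b hb => hA.1 b hb a ha
  have hA'P : A' ≤ P := (hgm.mono hAP).img_le_of_forall fun x hx => autFun_mem g (hAP hx)
  have hA'H : A' ≤ H := (hgm.mono hAP).img_le_of_forall fun x hx =>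
    (stronglyClosed_iff.1 (d.absorbs.stronglyClosed hS d.sat)).2 A _ hAH (hgm.mono hAP) x hx
  have hA's : SmallAb p A' := by
    refine ⟨fun a ha b hb => ?_, fun a ha => ?_⟩
    · obtain ⟨x, hx, rfl⟩ := (hgm.mono hAP).mem_img.1 ha
      obtain ⟨y, hy, rfl⟩ := (hgm.mono hAP).mem_img.1 hb
      exact (hgm.map_commute (hAP hx) (hAP hy) (hA.1 x hx y hy)).eq
    · obtain ⟨x, hx, rfl⟩ := (hgm.mono hAP).mem_img.1 ha
      rw [autFun_apply g (hAP hx), ← Subgroup.coe_pow, ← map_pow,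
        show (⟨x, hAP hx⟩ : P) ^ smallExp p = 1 from Subtype.ext (hA.2 x hx), map_one,
        Subgroup.coe_one]
  have hQP : Q ≤ P := (hgm.mono hP₀P).img_le_of_forall fun x hx => autFun_mem g (hP₀P hx)
  have hQc : Q ≤ centralizerIn S A' := by
    intro y hy
    obtain ⟨x, hx, rfl⟩ := (hgm.mono hP₀P).mem_img.1 hy
    exact map_mem_centralizerIn hgm hAP (hP₀P hx) hx.2
  -- `g` on `P₀` lies in `E`
  have hgE : IsMap E P₀ (autFun g) := by
    have ha : IsMap E A' (autFun g⁻¹) :=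
      d.agree A' _ hA'H hA's (hgim.mono hA'P)
    have hai : img A' (autFun g⁻¹) = A := by
      rw [img_img (hgm.mono hAP), IsMap.img_congr (f := autFun g⁻¹ ∘ autFun g) (g := id)
        fun x hx => autFun_symm (hAP hx), img_id]
    obtain ⟨f, hf, hfa⟩ := (isReceptive_iff.1 hAr).2 A' _ ha hai
    have hfQ : IsMap E Q f := hf.mono (hQc.trans centralizerIn_le_extSub)
    have hfc : ∀ y ∈ Q, f y ∈ centralizerIn S A := fun y hy => by
      have h1 := map_mem_centralizerIn hf (le_extSub ha) (centralizerIn_le_extSub (hQc hy))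
        (hQc hy).2
      rwa [IsMap.img_congr hfa, hai] at h1
    have hgQ : ∀ x ∈ P₀, autFun g x ∈ Q := fun x hx => (hgm.mono hP₀P).mem_img.2 ⟨x, hx, rfl⟩
    have hh := hI A hAH hA hAZ hAfc P₀ (f ∘ autFun g) hAP₀
      (fun x hx => ⟨hPS hx.1, hx.2⟩) (fun x hx => hfc _ (hgQ x hx))
      (fun x hx => by
        show f (autFun g x) = x
        rw [hfa _ ((hgm.mono hAP).mem_img.2 ⟨x, hx, rfl⟩), autFun_symm (hAP hx)])
      ((hgm.mono hP₀P).comp (isMap_of_subsystem d.sub hfQ) hgQ)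
    obtain ⟨f', hf', hf'1, -⟩ := hfQ.exists_inv
    exact (hh.comp hf' fun x hx => hfQ.mem_img.2 ⟨_, hgQ x hx, rfl⟩).congr
      fun x hx => (hf'1 _ (hgQ x hx)).symm
  -- normalized move of `Q`
  have hP₀n : P ≤ Subgroup.normalizer (P₀ : Set Ω) := fun u hu => by
    refine (Subgroup.le_normalizer (H := P) hu) |> fun hu1 => ?_
    have hu2 : u ∈ Subgroup.normalizer (A : Set Ω) := hAN ⟨hPS hu, hu1⟩
    refine Subgroup.mem_normalizer_iff.2 fun x => ⟨fun hx => ?_, fun hx => ?_⟩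
    · refine ⟨(Subgroup.mem_normalizer_iff.1 hu1 x).1 hx.1, Subgroup.mem_centralizer_iff.2 fun a ha => ?_⟩
      have h1 := Subgroup.mem_centralizer_iff.1 hx.2 _ ((Subgroup.mem_normalizer_iff''.1 hu2 a).1 ha)
      calc a * (u * x * u⁻¹) = u * (u⁻¹ * a * u * x) * u⁻¹ := by group
        _ = u * x * u⁻¹ * a := by rw [h1]; group
    · refine ⟨(Subgroup.mem_normalizer_iff.1 hu1 x).2 hx.1, Subgroup.mem_centralizer_iff.2 fun a ha => ?_⟩
      have h1 := Subgroup.mem_centralizer_iff.1 hx.2 _ ((Subgroup.mem_normalizer_iff.1 hu2 a).1 ha)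
      calc a * x = u⁻¹ * (u * a * u⁻¹ * (u * x * u⁻¹)) * u := by group
        _ = x * a := by rw [h1]; group
  have hQn : P ≤ normalizerIn S Q := fun u hu => ⟨hPS hu, by
    have h1 := map_mem_normalizerIn hgm hP₀P (autFun_mem g⁻¹ hu) (hP₀n (autFun_mem g⁻¹ hu))
    rw [autFun_symm' hu] at h1
    exact h1.2⟩
  have hQS : Q ≤ S := hQP.trans hPS
  obtain ⟨Q', -, -, hQ'r, ψ, hψ, hψQ, hψN⟩ :=
    FamilySat.exists_to_normalized (F := E) hS hQS (d.satE Q hQS)
  have hψP : IsMap E P ψ := hψ.mono hQn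
  have hψPF := isMap_of_subsystem d.sub hψP
  set P' := img P ψ with hP'
  have hP'S : P' ≤ S := hψP.img_le
  have hP'c : F.IsCentric P' := isCentric_of_isConj hPc (isConj_iff.2 ⟨ψ, hψPF, rfl⟩)
  have hgQ : ∀ x ∈ P₀, autFun g x ∈ Q := fun x hx => (hgm.mono hP₀P).mem_img.2 ⟨x, hx, rfl⟩
  have hk : IsMap E P₀ (ψ ∘ autFun g) := hgE.comp (hψP.mono hQP) hgQ
  have hki : img P₀ (ψ ∘ autFun g) = Q' := by rw [← img_img (hgm.mono hP₀P), hψQ]
  have hQ'P' : Q' ≤ P' := hψQ ▸ hψP.img_mono hQP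
  have hP'Q' : P' ≤ Subgroup.normalizer (Q' : Set Ω) := fun y hy => by
    obtain ⟨u, hu, rfl⟩ := hψP.mem_img.1 hy
    exact (hψN u (hQn hu)).2
  -- the stabilizing automorphisms form a `p`-group inside `T₀`
  set Z₀ : Subgroup (MulAut P) :=
    { carrier := {a | a ∈ F.autGroup P ∧ ∀ x ∈ P₀, autFun a x = x}
      one_mem' := ⟨one_mem _, fun x hx => autFun_one (hP₀P hx)⟩
      mul_mem' := fun {a b} ha hb => ⟨mul_mem ha.1 hb.1, fun x hx => by
        rw [autFun_mul _ _ (hP₀P hx), hb.2 x hx, ha.2 x hx]⟩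
      inv_mem' := fun {a} ha => ⟨inv_mem ha.1, fun x hx => by
        conv_lhs => rw [← ha.2 x hx]
        exact autFun_symm (hP₀P hx)⟩ } with hZ₀
  obtain ⟨m, hm⟩ := IsPGroup.iff_card.1 hS
  have hZ₀p : IsPGroup p Z₀ := fun a => by
    refine ⟨m, Subtype.ext (autFun_ext fun x hx => ?_)⟩
    simp only [Subgroup.coe_pow, Subgroup.coe_one]
    rw [autFun_one hx]
    refine pow_fix_step hPS hm le_rfl hP₀P a.2.2 (fun u hu => ?_) x hx
    have ham := (mem_autGroup_iff hPS).1 a.2.1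
    have hc : u⁻¹ * autFun (a : MulAut P) u ∈ Subgroup.centralizer (P₀ : Set Ω) :=
      Subgroup.mem_centralizer_iff.2 fun x hx => by
        have hux : u * x * u⁻¹ ∈ P₀ := (Subgroup.mem_normalizer_iff.1 (hP₀n hu) x).1 hx
        have e := ham.map_conj hu (hP₀P hx)
        rw [a.2.2 _ hux, a.2.2 x hx] at e
        calc x * (u⁻¹ * autFun (a : MulAut P) u)
            = u⁻¹ * (u * x * u⁻¹) * autFun (a : MulAut P) u := by group
          _ = u⁻¹ * autFun (a : MulAut P) u * x := by rw [e]; group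
    exact ⟨P.mul_mem (P.inv_mem hu) (autFun_mem _ hu), Subgroup.centralizer_le hAP₀ hc⟩
  have hT₀Z : T₀ ≤ Subgroup.normalizer (Z₀ : Set (MulAut P)) := by
    intro t ht
    have key : ∀ t ∈ T₀, ∀ x ∈ P₀, autFun t x ∈ P₀ := by
      intro t ht x hx
      obtain ⟨s, hs, hsx⟩ := mem_autInducedBy_iff.1 ht
      have hsn := mem_normalizer_of_autFun hsx
      refine ⟨autFun_mem t (hP₀P hx), Subgroup.mem_centralizer_iff.2 fun a ha => ?_⟩
      rw [hsx x (hP₀P hx)]
      have h1 := Subgroup.mem_centralizer_iff.1 hx.2 _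
        ((Subgroup.mem_normalizer_iff''.1 (hAN ⟨hs, hsn⟩) a).1 ha)
      calc a * (s * x * s⁻¹) = s * (s⁻¹ * a * s * x) * s⁻¹ := by group
        _ = s * x * s⁻¹ * a := by rw [h1]; group
    have key2 : ∀ t ∈ T₀, ∀ a ∈ Z₀, t * a * t⁻¹ ∈ Z₀ := fun t ht a ha =>
      ⟨mul_mem (mul_mem (hle (hT₀E ht)) ha.1) (inv_mem (hle (hT₀E ht))), fun x hx => by
        rw [autFun_mul _ _ (hP₀P hx), autFun_mul _ _ (autFun_mem _ (hP₀P hx)),
          ha.2 _ (key _ (inv_mem ht) x hx), autFun_symm' (hP₀P hx)]⟩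
    refine Subgroup.mem_normalizer_iff.2 fun a => ⟨key2 t ht a, fun ha => ?_⟩
    have h1 := key2 t⁻¹ (inv_mem ht) _ ha
    rwa [inv_inv, show t⁻¹ * (t * a * t⁻¹) * t = a by group] at h1
  have hZ₀T : Z₀ ≤ T₀ := by
    have hTp : IsPGroup p T₀ := isPGroup_autInducedBy hS
    have hup : IsPGroup p (T₀ ⊔ Z₀ : Subgroup (MulAut P)) :=
      IsPGroup.to_sup_of_normal_right' hTp hZ₀p hT₀Z
    have hsup : T₀ ⊔ Z₀ ≤ F.autGroup P := sup_le (hT₀E.trans hle) fun a ha => ha.1
    obtain ⟨k, hk'⟩ := hup.index (T₀.subgroupOf (T₀ ⊔ Z₀))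
    rcases Nat.eq_zero_or_pos k with rfl | hk0
    · exact le_sup_right.trans (Subgroup.relIndex_eq_one.1 hk')
    · exact absurd ((dvd_pow_self p hk0.ne').trans ((dvd_of_eq hk'.symm).trans
        (Dvd.intro _ (Subgroup.relIndex_mul_relIndex _ _ _ le_sup_left hsup)))) hi
  by_cases hCQ : centralizerIn S Q' ≤ P'
  · -- the extension has image `P'`
    obtain ⟨f, hf, hfk⟩ := (isReceptive_iff.1 hQ'r).2 P₀ _ hk hki
    have hext : P ≤ extSub S P₀ (ψ ∘ autFun g) := fun u hu => by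
      refine ⟨⟨hPS hu, hP₀n hu⟩, ψ (autFun g u), hψP.mem_S (autFun_mem g hu), fun x hx => ?_⟩
      show ψ (autFun g (u * x * u⁻¹)) = _
      rw [hgm.map_conj hu (hP₀P hx), hψP.map_conj (autFun_mem g hu) (autFun_mem g (hP₀P hx))]
      rfl
    have hfP : IsMap E P f := hf.mono hext
    have hψg : IsMap F P (ψ ∘ autFun g) := hgm.comp hψPF fun x hx => autFun_mem g hx
    have hfmem : ∀ u ∈ P, f u ∈ P' := fun u hu => by
      have hv : ψ (autFun g u) ∈ P' := hψP.mem_img.2 ⟨_, autFun_mem g hu, rfl⟩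
      have h1 : (ψ (autFun g u))⁻¹ * f u ∈ centralizerIn S Q' := by
        refine ⟨S.mul_mem (S.inv_mem (hP'S hv)) (hfP.mem_S hu),
          Subgroup.mem_centralizer_iff.2 fun y hy => ?_⟩
        obtain ⟨x, hx, rfl⟩ := hk.mem_img.1 (hki.ge hy)
        have hux : u * x * u⁻¹ ∈ P₀ := (Subgroup.mem_normalizer_iff.1 (hP₀n hu) x).1 hx
        have e := hfk _ hux
        rw [hfP.map_conj hu (hP₀P hx), hfk x hx, hψg.map_conj hu (hP₀P hx)] at e
        show ψ (autFun g x) * _ = _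
        change f u * ψ (autFun g x) * (f u)⁻¹ =
          ψ (autFun g u) * ψ (autFun g x) * (ψ (autFun g u))⁻¹ at e
        calc ψ (autFun g x) * ((ψ (autFun g u))⁻¹ * f u)
            = (ψ (autFun g u))⁻¹ * (ψ (autFun g u) * ψ (autFun g x) * (ψ (autFun g u))⁻¹) * f u := by
              group
          _ = (ψ (autFun g u))⁻¹ * f u * ψ (autFun g x) := by rw [← e]; group
      have h2 := P'.mul_mem hv (hCQ h1)
      rwa [mul_inv_cancel_left] at h2
    obtain ⟨ψ', hψ', hψ'1, hψ'2⟩ := hψPF.exists_inv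
    have hmm : IsMap F P (autFun g⁻¹ ∘ (ψ' ∘ f)) := ((isMap_of_subsystem d.sub hfP).comp hψ'
      hfmem).comp hgim fun x hx => (hψ'2 _ (hfmem x hx)).1
    have hmi : img P (autFun g⁻¹ ∘ (ψ' ∘ f)) = P := img_eq_of_map_le hPS hmm le_rfl
      fun x hx => autFun_mem _ (hψ'2 _ (hfmem x hx)).1
    set μ := autOf hmm hmi
    have hμ : μ ∈ Z₀ := ⟨autOf_mem hmm hmi, fun x hx => by
      rw [autFun_autOf hmm hmi (hP₀P hx)]
      show autFun g⁻¹ (ψ' (f x)) = x
      rw [hfk x hx]
      show autFun g⁻¹ (ψ' (ψ (autFun g x))) = x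
      rw [hψ'1 _ (autFun_mem g (hP₀P hx)), autFun_symm (hP₀P hx)]⟩
    have hμE := (mem_autGroup_iff hPS).1 (hT₀E (hZ₀T hμ))
    obtain ⟨ν, hν, hν1, hν2⟩ := hψP.exists_inv
    have hgμ : g * μ ∈ E.autGroup P := by
      refine (mem_autGroup_iff hPS).2 ((hfP.comp hν hfmem).congr fun x hx => ?_)
      rw [autFun_mul _ _ hx, autFun_autOf hmm hmi hx]
      show autFun g (autFun g⁻¹ (ψ' (f x))) = ν (f x)
      obtain ⟨u, hu, hue⟩ := hψP.mem_img.1 (hfmem x hx)
      rw [autFun_symm' (hψ'2 _ (hfmem x hx)).1, ← hue, hψ'1 u hu, hν1 u hu]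
    have h2 := mul_mem hgμ (inv_mem (hT₀E (hZ₀T hμ)))
    rwa [mul_inv_cancel_right] at h2
  · -- an element of `C_S(Q')` normalizing `P'` gives a non-inner element of `T₀`
    set C := centralizerIn S Q' with hC
    have hP'C : P' ≤ Subgroup.normalizer (C : Set Ω) := fun y hy => by
      refine Subgroup.mem_normalizer_iff.2 fun c => ⟨fun hc => ⟨S.mul_mem (S.mul_mem (hP'S hy) hc.1)
        (S.inv_mem (hP'S hy)), Subgroup.mem_centralizer_iff.2 fun z hz => ?_⟩, fun hc => ⟨?_,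
        Subgroup.mem_centralizer_iff.2 fun z hz => ?_⟩⟩
      · have h1 := Subgroup.mem_centralizer_iff.1 hc.2 _
          ((Subgroup.mem_normalizer_iff''.1 (hP'Q' hy) z).1 hz)
        calc z * (y * c * y⁻¹) = y * (y⁻¹ * z * y * c) * y⁻¹ := by group
          _ = y * c * y⁻¹ * z := by rw [h1]; group
      · have h1 := S.mul_mem (S.mul_mem (S.inv_mem (hP'S hy)) hc.1) (hP'S hy)
        rwa [show y⁻¹ * (y * c * y⁻¹) * y = c by group] at h1
      · have h1 := Subgroup.mem_centralizer_iff.1 hc.2 _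
          ((Subgroup.mem_normalizer_iff.1 (hP'Q' hy) z).1 hz)
        calc z * c = y⁻¹ * (y * z * y⁻¹ * (y * c * y⁻¹)) * y := by group
          _ = c * z := by rw [h1]; group
    have hWS : P' ⊔ C ≤ S := sup_le hP'S inf_le_left
    haveI := finite_of_le hWS
    haveI : Group.IsNilpotent (P' ⊔ C : Subgroup Ω) := (hS.to_le hWS).isNilpotent
    obtain ⟨w, ⟨hw, hwN⟩, hwP⟩ := SetLike.exists_of_lt
      (lt_inf_normalizer (le_sup_left : P' ≤ P' ⊔ C) fun he => hCQ (sup_eq_left.1 he.symm))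
    have hw' : w ∈ ((P' : Set Ω) * (C : Set Ω)) := by
      rw [← Subgroup.coe_mul_of_left_le_normalizer_right P' C hP'C]
      exact hw
    obtain ⟨y, hy, c, hc, rfl⟩ := Set.mem_mul.1 hw'
    have hcP' : c ∉ P' := fun h => hwP (P'.mul_mem hy h)
    have hcN : c ∈ Subgroup.normalizer (P' : Set Ω) := by
      simpa using mul_mem (inv_mem (Subgroup.le_normalizer (hy : y ∈ P'))) hwN
    -- pull it back
    have hc1 : IsMap E P' (fun z => c * z * c⁻¹) := isMap_conj hP'S hc.1
    obtain ⟨ν, hν, hν1, hν2⟩ := hψP.exists_inv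
    have hcP : ∀ x ∈ P, c * ψ x * c⁻¹ ∈ P' := fun x hx =>
      (Subgroup.mem_normalizer_iff.1 hcN _).1 (hψP.mem_img.2 ⟨x, hx, rfl⟩)
    have hc₁m := (hψP.comp hc1 fun x hx => hψP.mem_img.2 ⟨x, hx, rfl⟩).comp hν hcP
    have hc₁i := img_eq_of_map_le hPS hc₁m le_rfl fun x hx => (hν2 _ (hcP x hx)).1
    set c₁ := autOf hc₁m hc₁i
    have hc₁E : c₁ ∈ E.autGroup P := autOf_mem hc₁m hc₁i
    have hc₁F := hle hc₁E
    have hc₁v : ∀ x ∈ P, ψ (autFun c₁ x) = c * ψ x * c⁻¹ := fun x hx => by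
      rw [autFun_autOf hc₁m hc₁i hx]
      exact (hν2 _ (hcP x hx)).2
    set δ := g⁻¹ * c₁ * g with hδ
    have hδZ : δ ∈ Z₀ := ⟨mul_mem (mul_mem (inv_mem hg) hc₁F) hg, fun x hx => by
      have hxP := hP₀P hx
      have h1 : autFun c₁ (autFun g x) = autFun g x := by
        refine hψP.inj (autFun_mem _ (autFun_mem g hxP)) (autFun_mem g hxP) ?_
        rw [hc₁v _ (autFun_mem g hxP), ← Subgroup.mem_centralizer_iff.1 hc.2 _
          (hki.le (hk.mem_img.2 ⟨x, hx, rfl⟩) : ψ (autFun g x) ∈ Q'), mul_inv_cancel_right]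
      rw [hδ, autFun_mul _ _ hxP, autFun_mul _ _ (autFun_mem g hxP), h1, autFun_symm hxP]⟩
    obtain ⟨s, hs, hsx⟩ := mem_autInducedBy_iff.1 (hZ₀T hδZ)
    have hsn : s ∈ normalizerIn S P := ⟨hs, mem_normalizer_of_autFun hsx⟩
    have hδs : δ = conjAut s hsn.2 :=
      autFun_ext fun x hx => by rw [hsx x hx, autFun_conjAut hsn.2 hx]
    have hsP : s ∉ P := fun hsP => hcP' (by
      have hgs := autFun_mem g hsP
      have h1 : c⁻¹ * ψ (autFun g s) ∈ centralizerIn S P' := by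
        refine ⟨S.mul_mem (S.inv_mem hc.1) (hψP.mem_S hgs),
          Subgroup.mem_centralizer_iff.2 fun z hz => ?_⟩
        obtain ⟨x, hx, rfl⟩ := hψP.mem_img.1 hz
        have e1 : autFun c₁ x = autFun g s * x * (autFun g s)⁻¹ := by
          have hy := autFun_mem g⁻¹ hx
          have h2 := hsx _ hy
          rw [hδ, autFun_mul _ _ hy, autFun_symm' hx, autFun_mul _ _ hx] at h2
          have h3 := congrArg (autFun g) h2
          rwa [autFun_symm' (autFun_mem c₁ hx), hgm.map_conj hsP hy, autFun_symm' hx] at h3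
        have e2 := hc₁v x hx
        rw [e1, hψP.map_conj hgs hx] at e2
        calc ψ x * (c⁻¹ * ψ (autFun g s))
            = c⁻¹ * (c * ψ x * c⁻¹) * ψ (autFun g s) := by group
          _ = c⁻¹ * ψ (autFun g s) * ψ x := by rw [← e2]; group
      have h2 := centralizerIn_le_of_isCentric hP'c h1
      have h3 := P'.mul_mem (hψP.mem_img.2 ⟨_, hgs, rfl⟩) (P'.inv_mem h2)
      rwa [show ψ (autFun g s) * (c⁻¹ * ψ (autFun g s))⁻¹ = c by group] at h3)
    -- move `c₁` into `T₀` inside `E`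
    obtain ⟨j, hj⟩ := (isPGroup_autInducedBy hS) ⟨δ, hZ₀T hδZ⟩
    have hc₁p : c₁ ^ p ^ j = 1 := by
      have h1 : δ ^ p ^ j = 1 := congrArg Subtype.val hj
      rw [hδ, show g⁻¹ * c₁ * g = MulAut.conj g⁻¹ c₁ by simp [MulAut.conj_apply], ← map_pow] at h1
      exact (map_eq_one_iff _ (MulEquiv.injective _)).1 h1
    obtain ⟨κ, hκ, hκT⟩ := exists_conj_le_of_not_dvd_relIndex (isPGroup_autInducedBy hS) hT₀E hiE
      (isPGroup_zpowers_of_pow hc₁p) (Subgroup.zpowers_le.2 hc₁E)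
    have hmv : κ * g * conjAut s hsn.2 * (κ * g)⁻¹ ∈ T₀ := by
      rw [← hδs, hδ, show κ * g * (g⁻¹ * c₁ * g) * (κ * g)⁻¹ = κ * c₁ * κ⁻¹ by group]
      exact hκT (conj_mem_conjBy (Subgroup.mem_zpowers c₁))
    have h1 := mul_mem (inv_mem hκ) (K0 (κ * g) (mul_mem (hle hκ) hg) s hsn hsP hmv)
    rwa [inv_mul_cancel_left] at h1

/-- The step at a centric fully normalized subgroup. -/
theorem Data.autGroup_le (d : Data E F p H) (hI : CentHyp E F p H) (hPc : F.IsCentric P)
    (hPn : F.IsFullyNormalized P)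
    (big : ∀ {X : Subgroup Ω} {g : Ω → Ω}, IsMap F X g → Nat.card P < Nat.card X → IsMap E X g) :
    F.autGroup P ≤ E.autGroup P := by
  have hS := d.isPGroup
  have hPS := hPc.1
  have hHsc := d.absorbs.stronglyClosed hS d.sat
  haveI : Finite P := finite_of_le hPS
  haveI : Finite (MulAut P) := finite_mulAut
  obtain ⟨m, hm⟩ := IsPGroup.iff_card.1 hS
  set D := P ⊓ H with hD
  have hDP : D ≤ P := inf_le_left
  haveI : Finite D := finite_of_le (hDP.trans hPS)
  have hDp : IsPGroup p D := hS.to_le (hDP.trans hPS)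
  obtain ⟨C, hC, hcen⟩ := CfsgLib.CFun.exists_critical hDp
  obtain ⟨hchar, hpow, hcc, -⟩ := id hC
  set X : Subgroup Ω := (smallSubgroup C hpow hcc).map D.subtype with hX
  have hXD : X ≤ D := Subgroup.map_subtype_le _
  have hXP : X ≤ P := hXD.trans hDP
  have hDinv : ∀ a ∈ F.autGroup P, ∀ x ∈ D, autFun a x ∈ D := fun a ha x hx =>
    autInvariant_of_stronglyClosed hHsc hPS ha hx
  have hXinv : ∀ a ∈ F.autGroup P, ∀ x ∈ X, autFun a x ∈ X := by
    intro a ha x hx
    have hm' := ((mem_autGroup_iff hPS).1 ha).mono hDP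
    have hi := img_eq_of_map_le (hDP.trans hPS) hm' le_rfl (hDinv a ha)
    obtain ⟨y, ⟨hyC, hye⟩, rfl⟩ := hx
    refine ⟨autOf hm' hi y, ⟨CfsgLib.CFun.mem_of_map_conj _ hyC, ?_⟩, ?_⟩
    · rw [← map_pow, hye, map_one]
    · show ((autOf hm' hi y : D) : Ω) = autFun a (y : Ω)
      rw [← autFun_coe, autFun_autOf hm' hi y.2]
  have hXe : ∀ x ∈ X, x ^ smallExp p = 1 := by
    rintro _ ⟨y, hy, rfl⟩
    rw [← map_pow, hy.2, map_one]
  by_cases hXZ : X ≤ F.center
  · -- the automizer is a `p`-group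
    have hp : IsPGroup p (F.autGroup P) := by
      intro g
      obtain ⟨i, q, hq, hord⟩ := Nat.exists_eq_pow_mul_and_not_dvd (orderOf_pos g).ne' p
        (Fact.out : p.Prime).ne_one
      set u := g ^ p ^ i with hu
      have huq : u ^ q = 1 := by rw [hu, ← pow_mul, ← hord, pow_orderOf_eq_one]
      have huo : ¬ p ∣ orderOf u := fun hd => hq (hd.trans (orderOf_dvd_of_pow_eq_one huq))
      have hum := (mem_autGroup_iff hPS).1 u.2
      have hDfix : ∀ x ∈ D, autFun (u : MulAut P) x = x := by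
        have hDm := hum.mono hDP
        have hDi : img D (autFun (u : MulAut P)) = D :=
          img_eq_of_map_le (hDP.trans hPS) hDm le_rfl (hDinv _ u.2)
        set γ := autOf hDm hDi
        have hγ : ∀ x ∈ D, autFun γ x = autFun (u : MulAut P) x :=
          fun x hx => autFun_autOf hDm hDi hx
        haveI : Finite (MulAut D) := finite_mulAut
        have hγo : ¬ p ∣ orderOf γ := fun hd => huo (hd.trans (orderOf_dvd_of_pow_eq_one
          (autFun_ext fun x hx => by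
            rw [← autFun_pow_eq hDP (α := γ) (γ := (u : MulAut P)) (fun y hy => (hγ y hy).symm)
              (orderOf u) x hx, ← Subgroup.coe_pow, pow_orderOf_eq_one, Subgroup.coe_one,
              autFun_one hx.1, autFun_one hx])))
        have hγ1 := CfsgLib.PGroup.eq_one_of_fix_small_critical hDp hC hcen γ hγo
          fun x hxC hxe => Subtype.ext (by
            rw [← autFun_coe, hγ x x.2]
            exact center_fixed hum x.2.1 (hXZ ⟨x, ⟨hxC, hxe⟩, rfl⟩))
        intro x hx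
        rw [← hγ x hx, hγ1, autFun_one hx]
      have hstep : (u : MulAut P) ^ p ^ m = 1 := autFun_ext fun x hx => by
        rw [autFun_one hx]
        exact pow_fix_step hPS hm le_rfl hDP hDfix (fun y hy =>
          ⟨P.mul_mem (P.inv_mem hy) (autFun_mem _ hy), d.absorbs.mem P hPS u
            ((Fact.out : p.Prime).coprime_iff_not_dvd.2 huo).symm y hy⟩) x hx
      refine ⟨i + m, Subtype.ext ?_⟩
      rw [hu, Subgroup.coe_pow] at hstep
      rw [Subgroup.coe_pow, pow_add, pow_mul, Subgroup.coe_one]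
      exact hstep
    obtain ⟨-, hi⟩ := (isFullyAutomized_iff hS).1 (IsSaturated.automized_receptive hS d.sat hPn).1
    obtain ⟨k, hk⟩ := hp.index ((autInducedBy S P).subgroupOf (F.autGroup P))
    rcases Nat.eq_zero_or_pos k with rfl | hk0
    · exact (Subgroup.relIndex_eq_one.1 hk).trans (autInducedBy_le_autGroup hPS)
    · exact absurd ((dvd_pow_self p hk0.ne').trans (dvd_of_eq hk.symm)) hi
  -- a small subgroup outside the centre
  haveI : Group.IsNilpotent S := hS.isNilpotent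
  set Z : ℕ → Subgroup Ω := fun i => (Subgroup.upperCentralSeries S i).map S.subtype with hZ
  obtain ⟨x, hxX, hxZ⟩ := SetLike.not_le_iff_exists.1 hXZ
  have hex : ∃ j, ∃ x ∈ X ⊓ Z j, x ∉ F.center := by
    refine ⟨Group.nilpotencyClass S, x, ⟨hxX, ⟨x, hPS (hXP hxX)⟩, ?_, rfl⟩, hxZ⟩
    rw [Subgroup.upperCentralSeries_nilpotencyClass]
    exact Subgroup.mem_top _
  set j := Nat.find hex with hj
  obtain ⟨y, hy, hyZ⟩ := Nat.find_spec hex
  set A₀ := Subgroup.zpowers y ⊔ (X ⊓ F.center) with hA₀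
  have hyX : y ∈ X := hy.1
  have hA₀X : A₀ ≤ X := sup_le (Subgroup.zpowers_le.2 hyX) inf_le_left
  have hA₀s : SmallAb p A₀ := by
    refine SmallAb.sup ⟨fun a ha b hb => ?_, fun a ha => hXe a ha.1⟩
      ⟨fun a ha b hb => ?_, fun a ha => hXe a (Subgroup.zpowers_le.2 hyX ha)⟩ fun b hb => ?_
    · exact Subgroup.mem_centralizer_iff.1 (center_le_centralizer hb.2) a (hPS (hXP ha.1))
    · obtain ⟨k, rfl⟩ := Subgroup.mem_zpowers_iff.1 ha
      obtain ⟨l, rfl⟩ := Subgroup.mem_zpowers_iff.1 hb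
      exact ((Commute.refl y).zpow_zpow k l).eq
    · exact Subgroup.mem_centralizer_iff.2 fun a ha =>
        (Subgroup.mem_centralizer_iff.1 (center_le_centralizer ha.2) b
          (hPS (hXP (Subgroup.zpowers_le.2 hyX hb)))).symm
  have hA₀Z : ¬ A₀ ≤ F.center := fun h => hyZ (h (Subgroup.mem_sup_left (Subgroup.mem_zpowers y)))
  have hA₀N : normalizerIn S P ≤ Subgroup.normalizer (A₀ : Set Ω) := by
    have key : ∀ s ∈ normalizerIn S P, ∀ a ∈ A₀, s * a * s⁻¹ ∈ A₀ := by
      intro s hs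
      suffices h : A₀ ≤ A₀.comap (MulAut.conj s).toMonoidHom from fun a ha => h ha
      refine sup_le (Subgroup.zpowers_le.2 ?_) fun a ha => ?_
      · show s * y * s⁻¹ ∈ A₀
        have hsy : s * y * s⁻¹ ∈ X := by
          rw [← autFun_conjAut hs.2 (hXP hyX)]
          exact hXinv _ (autInducedBy_le_autGroup hPS (conjAut_mem hs.1 hs.2)) y hyX
        obtain ⟨j', hj'⟩ : ∃ j', j = j' + 1 := by
          refine Nat.exists_eq_succ_of_ne_zero fun h0 => hyZ ?_
          obtain ⟨z, hz, hze⟩ := (show y ∈ Z j from hy.2)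
          rw [h0, Subgroup.upperCentralSeries_zero] at hz
          rw [← hze, show z = 1 from Subgroup.mem_bot.1 hz, map_one]
          exact one_mem _
        have hmem : y⁻¹ * (s * y * s⁻¹) ∈ X ⊓ F.center := by
          refine ⟨X.mul_mem (X.inv_mem hyX) hsy, by_contra fun hn => ?_⟩
          refine Nat.find_min hex (show j' < j by omega) ⟨_, ⟨X.mul_mem (X.inv_mem hyX) hsy, ?_⟩, hn⟩
          obtain ⟨z, hz, hze⟩ := (show y ∈ Z j from hy.2)
          rw [hj'] at hz
          refine ⟨⁅z⁻¹, (⟨s, hs.1⟩ : S)⁆, Subgroup.mem_upperCentralSeries_succ_iff.1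
            (inv_mem hz) ⟨s, hs.1⟩, ?_⟩
          rw [← hze]
          simp [commutatorElement_def, mul_assoc]
        have h := Subgroup.mul_mem_sup (Subgroup.mem_zpowers y) hmem
        rwa [mul_inv_cancel_left] at h
      · show s * a * s⁻¹ ∈ A₀
        rw [Subgroup.mem_centralizer_iff.1 (center_le_centralizer ha.2) s hs.1, mul_inv_cancel_right]
        exact Subgroup.mem_sup_right ha
    intro s hs
    refine Subgroup.mem_normalizer_iff.2 fun a => ⟨key s hs a, fun ha => ?_⟩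
    have h := key s⁻¹ (inv_mem hs) _ ha
    rwa [inv_inv, show s⁻¹ * (s * a * s⁻¹) * s = a by group] at h
  -- move it to a fully normalized conjugate in `E`
  have hA₀S : A₀ ≤ S := hA₀X.trans (hXP.trans hPS)
  obtain ⟨A, hAn, -, -, ψ, hψ, hψA, -⟩ :=
    FamilySat.exists_to_normalized (F := E) hS hA₀S (d.satE A₀ hA₀S)
  have hNA : normalizerIn S P ≤ normalizerIn S A₀ := fun s hs => ⟨hs.1, hA₀N hs⟩
  have hψN := hψ.mono hNA
  have hPN : P ≤ normalizerIn S P := le_normalizerIn hPS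
  have hψF := isMap_of_subsystem d.sub hψN
  have hψP := hψN.mono hPN
  have hψPF := isMap_of_subsystem d.sub hψP
  set P₁ := img P ψ with hP₁
  have hP₁c : F.IsCentric P₁ := isCentric_of_isConj hPc (isConj_iff.2 ⟨ψ, hψPF, rfl⟩)
  have hNi : img (normalizerIn S P) ψ ≤ normalizerIn S P₁ := fun y hy => by
    obtain ⟨s, hs, rfl⟩ := hψN.mem_img.1 hy
    exact map_mem_normalizerIn hψN hPN hs hs.2
  have hP₁n : F.IsFullyNormalized P₁ := ⟨hP₁c.1, fun R hR => by
    refine (hPn.2 R (isConj_trans (isConj_iff.2 ⟨ψ, hψPF, rfl⟩) hR)).trans ?_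
    rw [← hψN.card_img]
    exact card_le_of_le' inf_le_left hNi⟩
  have hNeq : img (normalizerIn S P) ψ = normalizerIn S P₁ := eq_of_le_of_card_le inf_le_left hNi (by
    rw [hψN.card_img]; exact hPn.2 P₁ (isConj_iff.2 ⟨ψ, hψPF, rfl⟩))
  have hA₀P : A₀ ≤ P := hA₀X.trans hXP
  have hAP₁ : A ≤ P₁ := hψA ▸ hψP.img_mono hA₀P
  have hA₀H : A₀ ≤ H := hA₀X.trans (hXD.trans inf_le_right)
  have hψA' := hψPF.mono hA₀P
  have hAH : A ≤ H := hψA ▸ hψA'.img_le_of_forall fun x hx =>
    (stronglyClosed_iff.1 hHsc).2 A₀ ψ hA₀H hψA' x hx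
  have hAs : SmallAb p A := by
    refine ⟨fun a ha b hb => ?_, fun a ha => ?_⟩
    · obtain ⟨u, hu, rfl⟩ := hψA'.mem_img.1 (hψA.ge ha)
      obtain ⟨v, hv, rfl⟩ := hψA'.mem_img.1 (hψA.ge hb)
      exact (hψA'.map_commute hu hv (hA₀s.1 u hu v hv)).eq
    · obtain ⟨u, hu, rfl⟩ := hψA'.mem_img.1 (hψA.ge ha)
      have hpw : ∀ n : ℕ, ψ u ^ n = ψ (u ^ n) := fun n => by
        induction n with
        | zero => rw [pow_zero, pow_zero, hψA'.map_one]
        | succ n ih => rw [pow_succ, pow_succ, hψA'.map_mul (A₀.pow_mem hu n) hu, ih]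
      rw [hpw, hA₀s.2 u hu, hψA'.map_one]
  obtain ⟨ψ', hψ', hψ'1, hψ'2⟩ := hψPF.exists_inv
  have hAZ : ¬ A ≤ F.center := fun h => by
    have hyA₀ : y ∈ A₀ := Subgroup.mem_sup_left (Subgroup.mem_zpowers y)
    have h1 : ψ y ∈ F.center := h (hψA ▸ hψA'.mem_img.2 ⟨y, hyA₀, rfl⟩)
    have h2 := center_fixed hψ' (hψPF.mem_img.2 ⟨y, hA₀P hyA₀, rfl⟩) h1
    rw [hψ'1 y (hA₀P hyA₀)] at h2
    exact hyZ (h2 ▸ h1)
  have hAN : normalizerIn S P₁ ≤ Subgroup.normalizer (A : Set Ω) := by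
    intro w hw
    obtain ⟨s, hs, rfl⟩ := hψN.mem_img.1 (hNeq.ge hw)
    have h1 := map_mem_normalizerIn hψN (hA₀P.trans hPN) hs (hA₀N hs)
    rw [hψA] at h1
    exact h1.2
  have hcard : Nat.card P₁ = Nat.card P := hψP.card_img
  have hstep := d.autGroup_le_of_small hI hP₁c hP₁n (fun hg hc => big hg (hcard ▸ hc)) hAP₁ hAH hAs
    hAZ hAN hAn
  -- transport back
  intro g hg
  have hg₁ : MulAut.congr (mapEquiv hψPF) g ∈ F.autGroup P₁ := (congr_mem_autGroup_iff hψPF g).2 hg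
  have h1 := hstep hg₁
  have he : MulAut.congr (mapEquiv hψPF) g = MulAut.congr (mapEquiv hψP) g :=
    autFun_ext fun z hz => by
      obtain ⟨u, hu, rfl⟩ := hψP.mem_img.1 hz
      rw [autFun_congr hψPF g hu, autFun_congr hψP g hu]
  rw [he] at h1
  exact (congr_mem_autGroup_iff hψP g).1 h1

omit [Fact p.Prime] in
/-- A measure for the recursion. -/
theorem measure_lt {a c c' : ℕ} {n : ℕ} (ha : a ≤ n) (h : a < n ∨ c < c') (hc' : c' ≤ a) :
    a * (a + 1) + (a - c') < n * (n + 1) + (n - c) := by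
  rcases Nat.lt_or_ge a n with h1 | h1
  · nlinarith [Nat.sub_le a c', Nat.zero_le (n - c)]
  · obtain rfl : a = n := le_antisymm ha h1
    omega

theorem isMap_of_agree_aux (N : ℕ) : ∀ (S : Subgroup Ω) (_ : Finite S) (E F : FusionSystem S)
    (H : Subgroup Ω), Data E F p H →
    Nat.card S * (Nat.card S + 1) + (Nat.card S - Nat.card F.center) = N →
    ∀ (P : Subgroup Ω) (f : Ω → Ω), IsMap F P f → IsMap E P f := by
  induction N using Nat.strong_induction_on with
  | _ N ih =>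
  intro S _ E F H d hN
  have hS := d.isPGroup
  have hI : CentHyp E F p H := by
    intro A hAH hA hAZ hAfc P f hAP hPT hfT hfA hf
    have hAS : A ≤ S := hAH.trans d.absorbs.le
    set T := centralizerIn S A with hT
    have hTS : T ≤ S := inf_le_left
    haveI : Finite T := finite_of_le hTS
    have hconj : ∀ R, F.IsConj A R → E.IsConj A R := fun R hR => by
      obtain ⟨k, hk, hkR⟩ := isConj_iff.1 hR
      exact isConj_iff.2 ⟨k, d.agree A k hAH hA hk, hkR⟩
    have hAF : F.IsFullyCentralized A := ⟨hAS, fun R hR => hAfc.2 R (hconj R hR)⟩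
    set EC := cSystem E T A le_rfl hAS
    set FC := cSystem F T A le_rfl hAS
    have hEC : E.IsCentralizerSystem A EC := fun R => Set.ext fun φ =>
      mem_hom_iff.trans (isMap_cSystem_iff.trans mem_centralizerHom_iff.symm)
    have hFC : F.IsCentralizerSystem A FC := fun R => Set.ext fun φ =>
      mem_hom_iff.trans (isMap_cSystem_iff.trans mem_centralizerHom_iff.symm)
    have hHn : T ≤ Subgroup.normalizer ((H ⊓ T : Subgroup Ω) : Set Ω) := fun t ht => by
      refine Subgroup.mem_normalizer_iff.2 fun z => ?_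
      have h1 := Subgroup.mem_normalizer_iff.1 (d.absorbs.normal (hTS ht)) z
      have h2 := Subgroup.mem_normalizer_iff.1 (Subgroup.le_normalizer (H := T) ht) z
      exact ⟨fun h => ⟨h1.1 h.1, h2.1 h.2⟩, fun h => ⟨h1.2 h.1, h2.2 h.2⟩⟩
    have hd : Data EC FC p (H ⊓ T) := by
      refine ⟨hS.to_le hTS, isSaturated_centralizerSystem hS d.satE hAfc hEC,
        isSaturated_centralizerSystem hS d.sat hAF hFC, fun R φ hφ => ?_,
        ⟨inf_le_right, hHn, fun R hR α hα x hx => ?_⟩, fun B k hB hBs hk => ?_⟩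
      · obtain ⟨h1, h2, g, hg, hgf, hgA⟩ := isMap_cSystem_iff.1 (isMap_toFun hφ)
        exact mem_hom_iff.2 (isMap_cSystem_iff.2
          ⟨h1, h2, g, isMap_of_subsystem d.sub hg, hgf, hgA⟩)
      · have hα' : (α : MulAut R) ∈ F.autGroup R := (mem_autGroup_iff (hR.trans hTS)).2
          (isMap_cSystem_iff.1 ((mem_autGroup_iff hR).1 α.2)).isMap
        refine ⟨d.absorbs.mem R (hR.trans hTS) ⟨_, hα'⟩ ?_ x hx,
          T.mul_mem (T.inv_mem (hR hx)) (hR (autFun_mem _ hx))⟩
        rwa [Subgroup.orderOf_mk, Subgroup.orderOf_coe]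
      · obtain ⟨h1, h2, g, hg, hgf, hgA⟩ := isMap_cSystem_iff.1 hk
        exact isMap_cSystem_iff.2 ⟨h1, h2, g, d.agree _ g (sup_le (hB.trans inf_le_left) hAH)
          (SmallAb.sup hA hBs fun b hb => (h1 hb).2) hg, hgf, hgA⟩
    have hAT : A ≤ T := le_inf hAS fun a ha =>
      Subgroup.mem_centralizer_iff.2 fun b hb => hA.1 b hb a ha
    have hAc : FC.IsCentral A := by
      refine isCentral_iff.2 ⟨hAT, fun R k hk => ?_⟩
      obtain ⟨h1, h2, g, hg, hgf, hgA⟩ := isMap_cSystem_iff.1 hk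
      refine ⟨g, isMap_cSystem_iff.2 ⟨sup_le h1 hAT, fun z hz => hg.map_mem_of_sup (C := T)
        (fun x hx => by rw [hgf x hx]; exact h2 x hx) (fun x hx => by rw [hgA x hx]; exact hAT hx) hz,
        g, by rwa [sup_assoc, sup_idem], fun _ _ => rfl, hgA⟩, hgf, hgA⟩
    have hcl : Nat.card FC.center ≤ Nat.card T :=
      card_le_of_le' le_rfl (isCentral_center (F := FC)).1
    have hlt := measure_lt (c := Nat.card F.center) (card_le_of_le' le_rfl hTS) (by
      by_contra hcon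
      push Not at hcon
      have hTeq : T = S := eq_of_le_of_card_le le_rfl hTS hcon.1
      have hZc : FC.IsCentral F.center := by
        have hZT : F.center ≤ T := hTeq.symm ▸ (isCentral_center (F := F)).1
        refine isCentral_iff.2 ⟨hZT, fun R k hk => ?_⟩
        obtain ⟨h1, h2, g, hg, hgf, hgA⟩ := isMap_cSystem_iff.1 hk
        obtain ⟨g₂, hg₂, hg₂g, hg₂Z⟩ :=
          (isCentral_iff.1 (isCentral_center (F := F))).2 _ g hg
        have hsrc : (R ⊔ F.center) ⊔ A = (R ⊔ A) ⊔ F.center := by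
          rw [sup_assoc, sup_comm F.center, ← sup_assoc]
        refine ⟨g₂, isMap_cSystem_iff.2 ⟨sup_le h1 hZT, fun z hz =>
          (hg₂.mono (sup_le_sup_right le_sup_left _)).map_mem_of_sup (C := T)
            (fun x hx => by
              rw [hg₂g x (Subgroup.mem_sup_left hx), hgf x hx]; exact h2 x hx)
            (fun x hx => by rw [hg₂Z x hx]; exact hZT hx) hz,
          g₂, by rw [hsrc]; exact hg₂, fun _ _ => rfl, fun x hx => by
            rw [hg₂g x (Subgroup.mem_sup_right hx), hgA x hx]⟩,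
          fun x hx => by rw [hg₂g x (Subgroup.mem_sup_left hx), hgf x hx], hg₂Z⟩
      have hle : F.center ≤ FC.center := le_sSup hZc
      have heq : F.center = FC.center :=
        eq_of_le_of_card_le ((isCentral_center (F := FC)).1.trans hTS) hle hcon.2
      exact hAZ (heq ▸ le_sSup hAc)) hcl
    have hfC : IsMap FC P f := isMap_cSystem_iff.2
      ⟨hPT, hfT, f, by rwa [sup_eq_left.2 hAP], fun _ _ => rfl, hfA⟩
    exact (isMap_cSystem_iff.1 (ih _ (hN ▸ hlt) T ‹_› EC FC _ hd rfl P f hfC)).isMap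
  intro P f hf
  refine isMap_of_autGroup_le hS d.sat (fun R hR => ?_) hf
  induction hk : Nat.card S - Nat.card R using Nat.strong_induction_on generalizing R with
  | _ k ihR =>
  have hRc : F.IsCentric R ∧ F.IsFullyNormalized R := by
    rcases hR with rfl | hR
    · exact ⟨isCentric_self F, isFullyNormalized_self⟩
    · exact ⟨hR.1, hR.2.1⟩
  refine d.autGroup_le hI hRc.1 hRc.2 fun {X g} hg hX => ?_
  exact isMap_of_autGroup_le_above hS d.sat (fun R' hT' hR'' => ihR _ (by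
    have h1 : Nat.card R' ≤ Nat.card S :=
      card_le_of_le' le_rfl (hR''.elim (fun e => e.le) fun e => e.1.1)
    omega) R' hR'' rfl) hg

/-- A saturated subsystem agreeing on small abelian subgroups is everything. -/
theorem Data.hom_eq (d : Data E F p H) (P : Subgroup Ω) : E.Hom P = F.Hom P :=
  Set.Subset.antisymm (fun φ hφ => d.sub P hφ) fun _ hφ =>
    mem_hom_iff.2 (isMap_of_agree_aux _ S ‹_› E F H d rfl P _ (isMap_toFun hφ))

/-- The hypothesis in terms of sets of maps. -/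
theorem agree_of_homSet (hH : F.StronglyClosed H)
    (h : ∀ A B : Subgroup Ω, A ≤ H → B ≤ H → SmallAb p A → SmallAb p B →
      E.homSet A B = F.homSet A B) : Agree E F p H := by
  intro B f hB hBs hf
  obtain ⟨φ, hφ, hφf⟩ := id hf
  have hB' : img B f ≤ H := hf.img_le_of_forall fun x hx =>
    (stronglyClosed_iff.1 hH).2 B f hB hf x hx
  have hpw : ∀ x ∈ B, ∀ n : ℕ, f x ^ n = f (x ^ n) := fun x hx n => by
    induction n with
    | zero => rw [pow_zero, pow_zero, hf.map_one]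
    | succ n ih => rw [pow_succ, pow_succ, hf.map_mul (B.pow_mem hx n) hx, ih]
  have hs : SmallAb p (img B f) := by
    refine ⟨fun a ha b hb => ?_, fun a ha => ?_⟩
    · obtain ⟨x, hx, rfl⟩ := hf.mem_img.1 ha
      obtain ⟨y, hy, rfl⟩ := hf.mem_img.1 hb
      exact (hf.map_commute hx hy (hBs.1 x hx y hy)).eq
    · obtain ⟨x, hx, rfl⟩ := hf.mem_img.1 ha
      rw [hpw x hx, hBs.2 x hx, hf.map_one]
  have hm : φ ∈ F.homSet B (img B f) :=
    ⟨hφ, fun x => by rw [hφf x]; exact hf.mem_img.2 ⟨x, x.2, rfl⟩⟩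
  exact ⟨φ, ((h B _ hB hB' hBs hs).ge hm).1, hφf⟩

end CfsgLib.Fusion.SmallDetect
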