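import Cfsg.Agent.Lib.Fusion.System.SolvableSystem
import Cfsg.Agent.Lib.Fusion.System.StrongInvariance

/-!
# Solvability through normal subsystems and factor systems
-/

set_option autoImplicit false
set_option maxHeartbeats 1000000
set_option linter.style.haveILetI false

open Subgroup
open scoped commutatorElement

namespace CfsgLib.Fusion

open Cfsg (FusionSystem)
open Cfsg.FusionSystem (preimageAlong)

universe u v

variable {Ω : Type u} [Group Ω] {S T : Subgroup Ω} [Finite S] {F : FusionSystem S}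
  {E : FusionSystem T} {p : ℕ} [Fact p.Prime]

/-- The largest `Aut_F(T)`-invariant subgroup of `U ⊓ T`. -/
def autCoreIn (F : FusionSystem S) (T U : Subgroup Ω) : Subgroup Ω :=
  (⨅ α : F.autGroup T, (U.subgroupOf T).comap (α : MulAut T).toMonoidHom).map T.subtype

omit [Finite S] in
theorem mem_autCoreIn {U : Subgroup Ω} {x : Ω} :
    x ∈ autCoreIn F T U ↔ x ∈ T ∧ ∀ α ∈ F.autGroup T, autFun α x ∈ U := by
  rw [autCoreIn, Subgroup.mem_map]
  constructor
  · rintro ⟨y, hy, rfl⟩
    refine ⟨y.2, fun α hα => ?_⟩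
    rw [Subgroup.coe_subtype, autFun_coe]
    exact Subgroup.mem_iInf.1 hy ⟨α, hα⟩
  · rintro ⟨hx, h⟩
    refine ⟨⟨x, hx⟩, Subgroup.mem_iInf.2 fun α => ?_, rfl⟩
    show (((α : MulAut T) ⟨x, hx⟩ : T) : Ω) ∈ U
    rw [← autFun_apply _ hx]
    exact h α α.2

omit [Finite S] in
theorem autCoreIn_le {U : Subgroup Ω} : autCoreIn F T U ≤ U ⊓ T := fun x hx => by
  obtain ⟨hxT, h⟩ := mem_autCoreIn.1 hx
  exact ⟨by simpa [autFun_one hxT] using h 1 (one_mem _), hxT⟩

/-- In a weakly normal subsystem the core of a strongly closed subgroup is strongly closed above. -/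
theorem stronglyClosed_autCoreIn (hS : IsPGroup p S) (hE : E.IsWeaklyNormalIn F p)
    {U : Subgroup Ω} (hU : E.StronglyClosed U) : F.StronglyClosed (autCoreIn F T U) := by
  obtain ⟨-, hF, hinv⟩ := hE
  have hT := hinv.2.1
  have hTS := hT.1
  have hsi := (isInvariantIn_iff_strongInv hS hF hinv.1 hT).1 hinv
  refine stronglyClosed_iff.2 ⟨fun x hx => hTS (mem_autCoreIn.1 hx).1, fun R f hR hf x hx => ?_⟩
  have hRT : R ≤ T := fun y hy => (mem_autCoreIn.1 (hR hy)).1
  obtain ⟨φ, hφ, hφf⟩ := hf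
  obtain ⟨α, hα, φ₀, hφ₀, he⟩ := hinv.2.2.2 R hRT φ hφ
  have hm := isMap_toFun hφ₀
  have hfx : f x = autFun α (toFun φ₀ x) := by
    rw [← hφf ⟨x, hx⟩, he ⟨x, hx⟩ ((E.le_of_mem hφ₀).2 _),
      ← autFun_apply α ((E.le_of_mem hφ₀).2 _), toFun_apply φ₀ hx]
  refine mem_autCoreIn.2 ⟨?_, fun β hβ => ?_⟩
  · rw [hfx]; exact autFun_mem α (hm.mem_S hx)
  · rw [hfx, ← autFun_mul _ _ (hm.mem_S hx)]
    have hγ := mul_mem hβ hα
    obtain ⟨k, hk, hke⟩ := hsi.transport hTS hγ hm
    rw [← hke x hx]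
    have hγm := (isMap_autFun_of_mem (F := F) hTS hγ).mono hRT
    refine (stronglyClosed_iff.1 hU).2 _ k (fun y hy => ?_) hk _ (hγm.mem_img.2 ⟨x, hx, rfl⟩)
    obtain ⟨z, hz, rfl⟩ := hγm.mem_img.1 hy
    exact (mem_autCoreIn.1 (hR hz)).2 _ hγ

variable {Ω' : Type v} [Group Ω'] {S' : Subgroup Ω'} {D : FusionSystem S'} {θ : S →* Ω'}

/-- Solvability passes to and from a weakly normal subsystem and its factor system. -/
theorem isSolvableSystem_iff_normal_factor (hS : IsPGroup p S) (hE : E.IsWeaklyNormalIn F p)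
    (hD : F.IsFactorSystem T θ D) :
    F.IsSolvableSystem ↔ E.IsSolvableSystem ∧ D.IsSolvableSystem := by
  obtain ⟨hEs, hF, hinv⟩ := id hE
  have hT := hinv.2.1
  have hTS := hT.1
  haveI := finite_of_le hTS
  have hmor := isSurjectiveMorphism_factor hS hF hT hD
  have hDs := isSaturated_of_surjectiveMorphism hmor hS hF
  have hr : θ.range = S' := hD.2.2.1
  haveI : Finite S' := hr ▸ Finite.of_surjective θ.rangeRestrict θ.rangeRestrict_surjective
  have hS' : IsPGroup p S' := hr ▸ hS.of_surjective θ.rangeRestrict θ.rangeRestrict_surjective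
  have hker : ∀ x : S, θ x = 1 ↔ (x : Ω) ∈ T := hD.2.1
  have hbot : preimageAlong θ ⊥ ≤ T := fun z hz => by
    obtain ⟨hzS, hz'⟩ := mem_preimageAlong.1 hz
    rw [Subgroup.mem_bot, ext1_apply θ hzS] at hz'
    exact (hker ⟨z, hzS⟩).1 hz'
  constructor
  · intro h
    obtain ⟨n, U, h0, hlast, -, hsc, hcomm⟩ :=
      exists_series_of_solvable hS hF h (stronglyClosed_bot (F := F))
    refine ⟨isSolvableSystem_of_series (hS.to_le hTS) hEs (T := fun i => U i ⊓ T)
      (by simp [h0]) (by simpa [hlast] using hTS) (fun i => ?_) (fun i => le_inf ?_ ?_),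
      isSolvableSystem_of_series hS' hDs (T := fun i => imgι θ (U i)) ?_ ?_ (fun i => ?_)
        fun i => ?_⟩
    · refine stronglyClosed_iff.2 ⟨inf_le_right, fun R f hR hf x hx => ⟨?_, hf.mem_S hx⟩⟩
      obtain ⟨φ, hφ, hφf⟩ := hf
      exact (stronglyClosed_iff.1 (hsc i)).2 R f (hR.trans inf_le_left)
        ⟨φ, hinv.1 R hφ, hφf⟩ x hx
    · exact (Subgroup.commutator_mono inf_le_left inf_le_left).trans (hcomm i)
    · refine Subgroup.commutator_le.2 fun a ha b hb => ?_
      rw [commutatorElement_def]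
      exact T.mul_mem (T.mul_mem (T.mul_mem ha.2 hb.2) (T.inv_mem ha.2)) (T.inv_mem hb.2)
    · rw [h0, eq_bot_iff]
      intro y hy
      obtain ⟨x, hx, rfl⟩ := (mem_imgι bot_le).1 hy
      rw [Subgroup.mem_bot.1 hx, ext1_one']
      exact one_mem _
    · rw [hlast, imgι_top, hr]
    · refine stronglyClosed_iff.2 ⟨(imgι_le_range _).trans hr.le, fun A' f' hA' hf' y hy => ?_⟩
      obtain ⟨f, hf, hfe⟩ := exists_lift_map hmor hf'
      obtain ⟨x, hx, hxy⟩ := exists_preimage (α := θ) (hA'.trans (imgι_le_range (U i))) hy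
      have hUS := (hsc i).1
      have hle : preimageAlong θ A' ≤ U i ⊔ T :=
        (preimageAlong_mono hA').trans ((preimageAlong_imgι_le hUS).trans (sup_le_sup_left hbot _))
      obtain ⟨a, ha, r, hr', har⟩ := exists_mul_of_mem_sup hT hUS
        ((stronglyClosed_iff.1 (stronglyClosed_sup hS hF (hsc i) hT)).2 _ f hle hf x hx)
      rw [← hxy, ← hfe x hx, ← har, ext1_mul θ (hUS ha) (hTS hr'), ext1_apply θ (hTS hr'),
        (hker ⟨r, hTS hr'⟩).2 hr', mul_one]
      exact ext1_mem_imgι hUS ha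
    · rw [← imgι_commutator (hsc i.succ).1 (hsc i.succ).1]
      exact imgι_mono (hcomm i)
  · rintro ⟨hEsol, hDsol⟩
    obtain ⟨n, U, hU0, hUlast, -, hUsc, hUcomm⟩ :=
      exists_series_of_solvable (hS.to_le hTS) hEs hEsol (stronglyClosed_bot (F := E))
    obtain ⟨m, W, hW0, hWlast, -, hWsc, hWcomm⟩ :=
      exists_series_of_solvable hS' hDs hDsol (stronglyClosed_bot (F := D))
    let Z : Fin (n + m + 1) → Subgroup Ω := fun i =>
      if h : (i : ℕ) ≤ n then autCoreIn F T (U ⟨i, by omega⟩)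
      else preimageAlong θ (W ⟨(i : ℕ) - n, by omega⟩)
    refine isSolvableSystem_of_series hS hF (T := Z) ?_ ?_ (fun i => ?_) fun i => ?_
    · simp only [Z]
      rw [dif_pos (by simp), eq_bot_iff]
      refine autCoreIn_le.trans (inf_le_left.trans ?_)
      exact hU0.le
    · simp only [Z]
      rcases Nat.eq_zero_or_pos m with hm | hm
      · have hlm : W 0 = S' := by
          rw [show (0 : Fin (m + 1)) = Fin.last m from Fin.ext (by simp [hm])]
          exact hWlast
        have hTS' : T = S := le_antisymm hTS fun s hs => (hker ⟨s, hs⟩).1 (by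
          rw [← Subgroup.mem_bot, ← hW0, hlm, ← hr]
          exact ⟨_, rfl⟩)
        rw [dif_pos (by simp [hm] : ((Fin.last (n + m) : Fin _) : ℕ) ≤ n)]
        refine le_antisymm ((autCoreIn_le.trans inf_le_right).trans hTS) fun s hs => ?_
        rw [← hTS'] at hs
        refine mem_autCoreIn.2 ⟨hs, fun α _ => ?_⟩
        rw [show (⟨((Fin.last (n + m) : Fin _) : ℕ), _⟩ : Fin (n + 1)) = Fin.last n from
          Fin.ext (by simp [hm]), hUlast]
        exact autFun_mem α hs
      · rw [dif_neg (by simp; omega)]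
        rw [show (⟨((Fin.last (n + m) : Fin _) : ℕ) - n, _⟩ : Fin (m + 1)) = Fin.last m from
          Fin.ext (by simp), hWlast]
        refine le_antisymm (preimageAlong_le θ S') fun s hs => mem_preimageAlong.2 ⟨hs, ?_⟩
        exact hr.le (ext1_mem_range θ s)
    · simp only [Z]
      split
      · exact stronglyClosed_autCoreIn hS hE (hUsc _)
      · refine stronglyClosed_iff.2 ⟨preimageAlong_le θ _, fun A f hA hf x hx => ?_⟩
        obtain ⟨f', hf', hfe⟩ := exists_image_map hmor hf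
        refine mem_preimageAlong.2 ⟨hf.mem_S hx, ?_⟩
        rw [← hfe x hx]
        refine (stronglyClosed_iff.1 (hWsc _)).2 _ f' (fun y hy => ?_) hf' _
          (ext1_mem_imgι hf.le hx)
        obtain ⟨u, hu, rfl⟩ := (mem_imgι hf.le).1 hy
        exact (mem_preimageAlong.1 (hA hu)).2
    · simp only [Z, Fin.val_succ, Fin.val_castSucc]
      by_cases h1 : (i : ℕ) + 1 ≤ n
      · rw [dif_pos h1, dif_pos (by omega : (i : ℕ) ≤ n)]
        refine Subgroup.commutator_le.2 fun a ha b hb => ?_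
        obtain ⟨haT, ha'⟩ := mem_autCoreIn.1 ha
        obtain ⟨hbT, hb'⟩ := mem_autCoreIn.1 hb
        refine mem_autCoreIn.2 ⟨?_, fun α hα => ?_⟩
        · rw [commutatorElement_def]
          exact T.mul_mem (T.mul_mem (T.mul_mem haT hbT) (T.inv_mem haT)) (T.inv_mem hbT)
        · have hc : autFun α ⁅a, b⁆ = ⁅autFun α a, autFun α b⁆ := by
            have e1 : ⁅a, b⁆ = ((⁅(⟨a, haT⟩ : T), ⟨b, hbT⟩⁆ : T) : Ω) := rfl
            rw [e1, autFun_coe, map_commutatorElement, autFun_apply α haT, autFun_apply α hbT]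
            rfl
          rw [hc]
          exact hUcomm ⟨i, by omega⟩ (Subgroup.commutator_mem_commutator (ha' α hα) (hb' α hα))
      · rw [dif_neg h1]
        refine Subgroup.commutator_le.2 fun a ha b hb => ?_
        obtain ⟨haS, ha'⟩ := mem_preimageAlong.1 ha
        obtain ⟨hbS, hb'⟩ := mem_preimageAlong.1 hb
        have hcS : ⁅a, b⁆ ∈ S := ((⁅(⟨a, haS⟩ : S), ⟨b, hbS⟩⁆ : S)).2
        have hc : ext1 θ ⁅a, b⁆ ∈ W ⟨(i : ℕ) - n, by omega⟩ := by
          rw [ext1_commutator haS hbS]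
          refine hWcomm ⟨(i : ℕ) - n, by omega⟩ (Subgroup.commutator_mem_commutator ?_ ?_) <;>
          · rw [show (Fin.succ (⟨(i : ℕ) - n, by omega⟩ : Fin m)) = ⟨(i : ℕ) + 1 - n, by omega⟩
              from Fin.ext (by simp; omega)]
            assumption
        split
        · rename_i h2
          have hin : (i : ℕ) = n := by omega
          have hcT : ⁅a, b⁆ ∈ T := by
            refine (hker ⟨_, hcS⟩).1 ?_
            rw [← ext1_apply θ hcS, ← Subgroup.mem_bot, ← hW0,
              show (0 : Fin (m + 1)) = ⟨(i : ℕ) - n, by omega⟩ from Fin.ext (by simp [hin])]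
            exact hc
          refine mem_autCoreIn.2 ⟨hcT, fun α _ => ?_⟩
          rw [show (⟨(i : ℕ), by omega⟩ : Fin (n + 1)) = Fin.last n from Fin.ext hin, hUlast]
          exact autFun_mem α hcT
        · exact mem_preimageAlong.2 ⟨hcS, hc⟩

end CfsgLib.Fusion
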