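import Cfsg.Agent.Lib.Fusion.System.Puig

/-!
# Solvable fusion systems
-/

set_option autoImplicit false
set_option maxHeartbeats 1000000
set_option linter.style.haveILetI false

open Subgroup
open scoped Classical Pointwise commutatorElement

namespace CfsgLib.Fusion

open Cfsg (FusionSystem)
open Cfsg.FusionSystem (normalizerIn centralizerIn preimageAlong)

universe u

variable {Ω : Type u} [Group Ω] {S : Subgroup Ω} [Finite S] {F : FusionSystem S} {p : ℕ}
  [Fact p.Prime] {R : Subgroup Ω}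

omit [Fact p.Prime] in
theorem exists_mul_of_mem_sup {A B : Subgroup Ω} (hB : F.StronglyClosed B) (hA : A ≤ S) {x : Ω}
    (hx : x ∈ A ⊔ B) : ∃ a ∈ A, ∃ b ∈ B, a * b = x := by
  have h : x ∈ ((A : Set Ω) * (B : Set Ω)) := by
    rw [← Subgroup.coe_mul_of_left_le_normalizer_right A B
      (hA.trans ((le_normalizerIn_of_stronglyClosed hB).trans inf_le_right))]
    exact hx
  exact Set.mem_mul.1 h

omit [Fact p.Prime] in
theorem commutator_mem_sup {Q T T' : Subgroup Ω} (hQ : F.StronglyClosed Q)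
    (hT : F.StronglyClosed T) (hT' : T' ≤ S) (hcomm : ⁅T', T'⁆ ≤ T) {a b : Ω} (ha : a ∈ T' ⊔ Q)
    (hb : b ∈ T' ⊔ Q) : ⁅a, b⁆ ∈ T ⊔ Q := by
  obtain ⟨t, ht, q, hq, rfl⟩ := exists_mul_of_mem_sup hQ hT' ha
  obtain ⟨t', ht', q', hq', rfl⟩ := exists_mul_of_mem_sup hQ hT' hb
  have hQn : ∀ s ∈ S, ∀ z ∈ Q, s * z * s⁻¹ ∈ Q := fun s hs z hz =>
    (Subgroup.mem_normalizer_iff.1 (le_normalizerIn_of_stronglyClosed hQ hs).2 z).1 hz
  have hqS := hQ.1 hq
  have hq'S := hQ.1 hq'
  have htS := hT' ht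
  have ht'S := hT' ht'
  have e : ⁅t * q, t' * q'⁆ = (t * (q * ((t' * q') * q⁻¹ * (t' * q')⁻¹)) * t⁻¹) *
      ⁅t, t'⁆ * (t' * (t * q' * t⁻¹ * q'⁻¹) * t'⁻¹) := by
    simp only [commutatorElement_def]; group
  rw [e]
  refine mul_mem (mul_mem (Subgroup.mem_sup_right ?_) (Subgroup.mem_sup_left
    (hcomm (Subgroup.commutator_mem_commutator ht ht')))) (Subgroup.mem_sup_right ?_)
  · exact hQn t htS _ (mul_mem hq (hQn _ (mul_mem ht'S hq'S) _ (inv_mem hq)))
  · exact hQn t' ht'S _ (mul_mem (hQn t htS _ hq') (inv_mem hq'))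

/-- The properties of the factor system used below. -/
theorem exists_factor (hS : IsPGroup p S) (hF : F.IsSaturated p) (hR : F.StronglyClosed R)
    [(R.subgroupOf S).Normal] :
    ∃ E : FusionSystem (⊤ : Subgroup (S ⧸ R.subgroupOf S)),
      F.IsFactorSystem R (QuotientGroup.mk' (R.subgroupOf S)) E ∧
      F.IsSurjectiveMorphism E (QuotientGroup.mk' (R.subgroupOf S)) ∧ E.IsSaturated p := by
  obtain ⟨E, hE⟩ := exists_isFactorSystem hR (QuotientGroup.mk' (R.subgroupOf S))
    (fun s => by rw [QuotientGroup.mk'_apply, QuotientGroup.eq_one_iff, Subgroup.mem_subgroupOf])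
    (MonoidHom.range_eq_top.2 (QuotientGroup.mk'_surjective _))
  exact ⟨E, hE, isSurjectiveMorphism_factor hS hF hR hE, isSaturated_of_isFactorSystem hS hF hR hE⟩

/-- In a solvable system every proper strongly closed subgroup has a larger one, abelian over it. -/
theorem exists_next (hS : IsPGroup p S) (hF : F.IsSaturated p) (h : F.IsSolvableSystem)
    (hR : F.StronglyClosed R) (hne : R ≠ S) :
    ∃ T, R < T ∧ F.StronglyClosed T ∧ ⁅T, T⁆ ≤ R := by
  haveI hn : (R.subgroupOf S).Normal :=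
    (Subgroup.normal_subgroupOf_iff_le_normalizer hR.1).2
      ((le_normalizerIn_of_stronglyClosed hR).trans inf_le_right)
  obtain ⟨E, hE, hmor, hEs⟩ := exists_factor hS hF hR
  have hcore : E.core ≠ ⊥ := h R hR hne E hE
  have hQp : IsPGroup p E.core := (hS.to_quotient (R.subgroupOf S)).to_subgroup E.core
  haveI : Nontrivial E.core := (Subgroup.nontrivial_iff_ne_bot _).2 hcore
  set Z := (Subgroup.center E.core).map E.core.subtype with hZ
  have hchar : (Z.subgroupOf E.core).Characteristic := by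
    rw [hZ, show ((Subgroup.center E.core).map E.core.subtype).subgroupOf E.core =
      Subgroup.center E.core from Subgroup.comap_map_eq_self_of_injective E.core.subtype_injective _]
    infer_instance
  have hZsc : E.StronglyClosed Z := stronglyClosed_of_isNormal
    (isNormal_of_characteristic isNormal_core (Subgroup.map_subtype_le _) hchar)
  haveI := hQp.center_nontrivial
  obtain ⟨z₀, hz₀⟩ := exists_ne (1 : Subgroup.center E.core)
  set θ := QuotientGroup.mk' (R.subgroupOf S) with hθ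
  set T := preimageAlong θ Z with hT
  have hker : ∀ x : S, θ x = 1 ↔ (x : Ω) ∈ R := fun x => by
    rw [hθ, QuotientGroup.mk'_apply, QuotientGroup.eq_one_iff, Subgroup.mem_subgroupOf]
  have hRT : R ≤ T := fun x hx => mem_preimageAlong.2 ⟨hR.1 hx, by
    rw [ext1_apply θ (hR.1 hx), (hker ⟨x, hR.1 hx⟩).2 hx]; exact one_mem _⟩
  refine ⟨T, lt_of_le_of_ne hRT fun he => ?_, ?_, ?_⟩
  · obtain ⟨x, hx⟩ := QuotientGroup.mk'_surjective (R.subgroupOf S) ((z₀ : E.core) : S ⧸ R.subgroupOf S)
    have hxT : (x : Ω) ∈ T := mem_preimageAlong.2 ⟨x.2, by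
      rw [ext1_coe, show θ x = _ from hx]
      exact ⟨z₀, z₀.2, rfl⟩⟩
    rw [← he] at hxT
    refine hz₀ (Subtype.ext (Subtype.ext ?_))
    rw [← hx]
    exact (hker x).2 hxT
  · refine stronglyClosed_iff.2 ⟨preimageAlong_le θ Z, fun A f hA hf x hx => ?_⟩
    obtain ⟨f', hf', hfe⟩ := exists_image_map hmor hf
    refine mem_preimageAlong.2 ⟨hf.mem_S hx, ?_⟩
    rw [← hfe x hx]
    refine (stronglyClosed_iff.1 hZsc).2 _ f' (fun y hy => ?_) hf' _ (ext1_mem_imgι hf.le hx)
    obtain ⟨u, hu, rfl⟩ := (mem_imgι hf.le).1 hy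
    exact (mem_preimageAlong.1 (hA hu)).2
  · refine Subgroup.commutator_le.2 fun a ha b hb => ?_
    obtain ⟨haS, ha'⟩ := mem_preimageAlong.1 ha
    obtain ⟨hbS, hb'⟩ := mem_preimageAlong.1 hb
    rw [ext1_apply θ haS] at ha'
    rw [ext1_apply θ hbS] at hb'
    obtain ⟨u, hu, hua⟩ := ha'
    obtain ⟨v, -, hvb⟩ := hb'
    refine (hker (⁅(⟨a, haS⟩ : S), (⟨b, hbS⟩ : S)⁆)).1 ?_
    rw [map_commutatorElement, commutatorElement_eq_one_iff_mul_comm, ← hua, ← hvb]
    exact (congrArg Subtype.val (Subgroup.mem_center_iff.1 hu v)).symm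

/-- A strongly closed series with abelian factors from `R` to `S`. -/
theorem exists_series_of_solvable (hS : IsPGroup p S) (hF : F.IsSaturated p)
    (h : F.IsSolvableSystem) (hR : F.StronglyClosed R) :
    ∃ (n : ℕ) (T : Fin (n + 1) → Subgroup Ω), T 0 = R ∧ T (Fin.last n) = S ∧ Monotone T ∧
      (∀ i, F.StronglyClosed (T i)) ∧
      ∀ i : Fin n, ⁅T i.succ, T i.succ⁆ ≤ T (Fin.castSucc i) := by
  induction hk : Nat.card S - Nat.card R using Nat.strong_induction_on generalizing R with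
  | _ k ih =>
  by_cases hne : R = S
  · subst hne
    exact ⟨0, fun _ => R, rfl, rfl, fun _ _ _ => le_rfl, fun _ => hR, fun i => i.elim0⟩
  obtain ⟨T₁, hlt, hT₁, hcomm⟩ := exists_next hS hF h hR hne
  have h1 := card_lt_of_lt hT₁.1 hlt
  have h2 : Nat.card T₁ ≤ Nat.card S := card_le_of_le' le_rfl hT₁.1
  obtain ⟨n, T, h0, hlast, hmono, hsc, hcm⟩ := ih _ (by omega) hT₁ rfl
  refine ⟨n + 1, Fin.cons R T, rfl, ?_, ?_, ?_, fun i => ?_⟩
  · rw [← Fin.succ_last, Fin.cons_succ, hlast]
  · refine Fin.monotone_iff_le_succ.2 fun i => ?_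
    cases i using Fin.cases with
    | zero => simp [h0, hlt.le]
    | succ j =>
        rw [Fin.cons_succ, show (j.succ).castSucc = (j.castSucc).succ from rfl, Fin.cons_succ]
        exact hmono (Fin.castSucc_le_succ j)
  · intro i
    cases i using Fin.cases with
    | zero => exact hR
    | succ j => exact hsc j
  · cases i using Fin.cases with
    | zero => simp [h0, hcomm]
    | succ j =>
        rw [Fin.cons_succ, show (j.succ).castSucc = (j.castSucc).succ from rfl, Fin.cons_succ]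
        exact hcm j

/-- A system with a strongly closed abelian series is solvable. -/
theorem isSolvableSystem_of_series (hS : IsPGroup p S) (hF : F.IsSaturated p) {n : ℕ}
    {T : Fin (n + 1) → Subgroup Ω} (h0 : T 0 = ⊥) (hlast : T (Fin.last n) = S)
    (hsc : ∀ i, F.StronglyClosed (T i))
    (hcomm : ∀ i : Fin n, ⁅T i.succ, T i.succ⁆ ≤ T (Fin.castSucc i)) : F.IsSolvableSystem := by
  intro R hR hne hn E hE
  have hmor := isSurjectiveMorphism_factor hS hF hR hE
  have hEs := isSaturated_of_isFactorSystem hS hF hR hE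
  obtain ⟨i, hlo, hhi⟩ : ∃ i : Fin n, T i.castSucc ≤ R ∧ ¬ T i.succ ≤ R := by
    by_contra hno
    push Not at hno
    have hall : ∀ i : Fin (n + 1), T i ≤ R := by
      intro i
      induction i using Fin.induction with
      | zero => rw [h0]; exact bot_le
      | succ i ih => exact hno i ih
    exact hne (le_antisymm hR.1 (hlast ▸ hall (Fin.last n)))
  set θ := QuotientGroup.mk' (R.subgroupOf S) with hθ
  have hker : ∀ x : S, θ x = 1 ↔ (x : Ω) ∈ R := fun x => by
    rw [hθ, QuotientGroup.mk'_apply, QuotientGroup.eq_one_iff, Subgroup.mem_subgroupOf]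
  set U := T i.succ with hU
  have hUS := (hsc i.succ).1
  set V := imgι θ U with hV
  have hVab : ∀ x ∈ V, ∀ y ∈ V, Commute x y := by
    intro x hx y hy
    obtain ⟨a, ha, rfl⟩ := (mem_imgι hUS).1 hx
    obtain ⟨b, hb, rfl⟩ := (mem_imgι hUS).1 hy
    rw [ext1_apply θ (hUS ha), ext1_apply θ (hUS hb), commute_iff_eq,
      ← commutatorElement_eq_one_iff_mul_comm, ← map_commutatorElement]
    exact (hker _).2 (hlo (hcomm i (Subgroup.commutator_mem_commutator ha hb)))
  have hVsc : E.StronglyClosed V := by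
    refine stronglyClosed_iff.2 ⟨le_top, fun A' f' hA' hf' y hy => ?_⟩
    obtain ⟨f, hf, hfe⟩ := exists_lift_map hmor hf'
    obtain ⟨x, hx, hxy⟩ := exists_preimage (α := θ) (hA'.trans (imgι_le_range U)) hy
    have hbot : preimageAlong θ ⊥ ≤ R := fun z hz => by
      obtain ⟨hzS, hz'⟩ := mem_preimageAlong.1 hz
      rw [Subgroup.mem_bot, ext1_apply θ hzS] at hz'
      exact (hker ⟨z, hzS⟩).1 hz'
    have hsup := stronglyClosed_sup hS hF (hsc i.succ) hR
    have hle : preimageAlong θ A' ≤ U ⊔ R :=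
      (preimageAlong_mono hA').trans ((preimageAlong_imgι_le hUS).trans (sup_le_sup_left hbot U))
    obtain ⟨a, ha, r, hr, har⟩ := exists_mul_of_mem_sup hR hUS
      ((stronglyClosed_iff.1 hsup).2 _ f hle hf x hx)
    rw [← hxy, ← hfe x hx, ← har, ext1_mul θ (hUS ha) (hR.1 hr), ext1_apply θ (hR.1 hr),
      (hker ⟨r, hR.1 hr⟩).2 hr, mul_one]
    exact ext1_mem_imgι hUS ha
  have hVn := isNormal_of_stronglyClosed_abelian ((hS.to_quotient _).to_subgroup ⊤) hEs hVsc hVab
  intro hcore
  refine hhi fun x hx => ?_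
  have h1 := le_core hVn (ext1_mem_imgι hUS hx)
  rw [hcore, Subgroup.mem_bot, ext1_apply θ (hUS hx)] at h1
  exact (hker ⟨x, hUS hx⟩).1 h1

/-- A solvable system is constrained. -/
theorem isConstrained_of_solvable (hS : IsPGroup p S) (hF : F.IsSaturated p)
    (h : F.IsSolvableSystem) : F.IsConstrained p := by
  refine ⟨hF, F.core, isNormal_core, ?_⟩
  set Q := F.core with hQdef
  have hQ : F.IsNormal Q := isNormal_core
  have hQS := hQ.1
  have hQsc := stronglyClosed_of_isNormal hQ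
  refine ⟨hQS, fun Q' hQ' => ?_⟩
  have hQ'eq : Q' = Q := by
    obtain ⟨f, hf, rfl⟩ := isConj_iff.1 hQ'
    exact img_eq_of_map_le hQS hf le_rfl fun x hx =>
      (stronglyClosed_iff.1 hQsc).2 _ f le_rfl hf x hx
  rw [hQ'eq]
  set C := Q ⊔ centralizerIn S Q with hC
  have hCsc : F.StronglyClosed C := stronglyClosed_sup_centralizer hS hF hQsc
  refine le_trans (le_sup_right (a := Q)) ?_
  by_contra hCQ
  obtain ⟨n, T, h0, hlast, hmono, hsc, hcomm⟩ :=
    exists_series_of_solvable hS hF h (stronglyClosed_bot (F := F))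
  obtain ⟨i, hlo, hhi⟩ : ∃ i : Fin n,
      C ⊓ (T i.castSucc ⊔ Q) ≤ Q ∧ ¬ C ⊓ (T i.succ ⊔ Q) ≤ Q := by
    by_contra hno
    push Not at hno
    have hall : ∀ i : Fin (n + 1), C ⊓ (T i ⊔ Q) ≤ Q := by
      intro i
      induction i using Fin.induction with
      | zero => rw [h0, bot_sup_eq]; exact inf_le_right
      | succ i ih => exact hno i ih
    have h1 := hall (Fin.last n)
    rw [hlast, sup_eq_left.2 hQS, inf_eq_left.2 hCsc.1] at h1
    exact hCQ h1
  have hsc' := stronglyClosed_sup hS hF (hsc i.succ) hQsc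
  set Y := C ⊓ (T i.succ ⊔ Q) with hY
  have hYsc : F.StronglyClosed Y := stronglyClosed_iff.2 ⟨inf_le_left.trans hCsc.1,
    fun A f hA hf x hx => ⟨(stronglyClosed_iff.1 hCsc).2 A f (hA.trans inf_le_left) hf x hx,
      (stronglyClosed_iff.1 hsc').2 A f (hA.trans inf_le_right) hf x hx⟩⟩
  have hQY : Q ≤ Y := le_inf le_sup_left le_sup_right
  obtain ⟨m, Qs, hQ0, hQlast, hQmono, hQi⟩ :=
    exists_series_of_autExtends hS hQS (autExtends_of_isNormal hQ)
  have hYn : F.IsNormal Y := by
    refine isNormal_of_series hS hF (n := m + 1) (Qs := Fin.snoc Qs Y) ?_ (Fin.snoc_last _ _) ?_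
      (fun j => ?_) fun j => ?_
    · rw [← Fin.castSucc_zero, Fin.snoc_castSucc]; exact hQ0
    · refine Fin.monotone_iff_le_succ.2 fun j => ?_
      rcases Fin.eq_castSucc_or_eq_last j with ⟨l, rfl⟩ | rfl
      · rw [Fin.snoc_castSucc, show (l.castSucc).succ = (l.succ).castSucc from rfl, Fin.snoc_castSucc]
        exact hQmono (Fin.castSucc_le_succ l)
      · rw [Fin.snoc_castSucc, Fin.succ_last, Fin.snoc_last, hQlast]
        exact hQY
    · rcases Fin.eq_castSucc_or_eq_last j with ⟨l, rfl⟩ | rfl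
      · rw [show (l.castSucc).succ = (l.succ).castSucc from rfl, Fin.snoc_castSucc]
        exact (hQi l).1
      · rw [Fin.succ_last, Fin.snoc_last]
        exact hYsc
    · rcases Fin.eq_castSucc_or_eq_last j with ⟨l, rfl⟩ | rfl
      · rw [show (l.castSucc).succ = (l.succ).castSucc from rfl, Fin.snoc_castSucc,
          Fin.snoc_castSucc]
        refine Subgroup.commutator_le.2 fun y hy x hx => ?_
        have hy' : y ∈ ((centralizerIn S Q : Set Ω) * (Q : Set Ω)) := by
          rw [← Subgroup.coe_mul_of_left_le_normalizer_right (centralizerIn S Q) Q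
            (inf_le_right.trans (Subgroup.centralizer_le_normalizer _)), sup_comm]
          exact hy.1
        obtain ⟨c, hc, q, hq, rfl⟩ := Set.mem_mul.1 hy'
        have hxQ : x ∈ Q := hQlast ▸ hQmono (Fin.le_last l.succ) hx
        have h1 := (hQi l).2 (Subgroup.commutator_mem_commutator hq hx)
        have hcQ : ⁅q, x⁆ ∈ Q := hQlast ▸ hQmono (Fin.le_last l.castSucc) h1
        rw [show ⁅c * q, x⁆ = ⁅q, x⁆ by
          calc ⁅c * q, x⁆ = (c * ⁅q, x⁆) * (x * c⁻¹ * x⁻¹) := by
                simp only [commutatorElement_def]; group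
            _ = (⁅q, x⁆ * c) * (x * c⁻¹ * x⁻¹) := by
                rw [Subgroup.mem_centralizer_iff.1 hc.2 _ hcQ]
            _ = ⁅q, x⁆ * (c * x) * c⁻¹ * x⁻¹ := by group
            _ = ⁅q, x⁆ := by rw [← Subgroup.mem_centralizer_iff.1 hc.2 x hxQ]; group]
        exact h1
      · rw [Fin.succ_last, Fin.snoc_last, Fin.snoc_castSucc, hQlast]
        refine Subgroup.commutator_le.2 fun a ha b hb => hlo ⟨?_, ?_⟩
        · rw [commutatorElement_def]
          exact C.mul_mem (C.mul_mem (C.mul_mem ha.1 hb.1) (C.inv_mem ha.1)) (C.inv_mem hb.1)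
        · exact commutator_mem_sup hQsc (hsc _) (hsc _).1 (hcomm i) ha.2 hb.2
  exact hhi (le_core hYn)

end CfsgLib.Fusion
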