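import Cfsg.Agent.Lib.Fusion.System.FactorExist

/-!
# Subnormal subsystems
-/

set_option autoImplicit false

namespace CfsgLib.Fusion

open Cfsg (FusionSystem)

variable {Ω : Type*} [Group Ω] {p : ℕ}

theorem subnormal_le {T S : Subgroup Ω} {E : FusionSystem T} {F : FusionSystem S}
    (h : E.IsSubnormalIn F p) : T ≤ S := by
  induction h with
  | refl => exact le_rfl
  | step _ hN ih => exact ih.trans hN.1.2.2.2.1.1

/-- Fully normalized subgroups stay so in subnormal subsystems. -/
theorem isFullyNormalized_of_subnormal {T S : Subgroup Ω} {E : FusionSystem T}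
    {F : FusionSystem S} (h : E.IsSubnormalIn F p) :
    Fact p.Prime → Finite S → IsPGroup p S → ∀ {P : Subgroup Ω}, F.IsFullyNormalized P → P ≤ T →
      E.IsFullyNormalized P := by
  induction h with
  | refl F => exact fun _ _ _ _ hP _ => hP
  | step hED hDF ih =>
      intro hp hfin hS P hP hPT
      have hUS := hDF.1.2.2.2.1.1
      exact ih hp (finite_of_le hUS) (hS.to_le hUS)
        (isFullyNormalized_of_stronglyClosed hS hDF.1.2.1 hDF.1.2.2.2.1 hDF.1.2.2.1
          (hPT.trans (subnormal_le hED)) hP) hPT

end CfsgLib.Fusion
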