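import Cfsg.Agent.Lib.Fusion.System.AutSystem
import Cfsg.Agent.Lib.Fusion.System.AbelianSupersoluble
import Cfsg.Agent.Lib.Fusion.System.TransferApps
import Mathlib.GroupTheory.SchurZassenhaus
import Mathlib.FieldTheory.Finite.Basic

/-!
# Groups of supersoluble type

Every saturated system over `S` has a strongly closed series with cyclic factors if and only if `S` is normal in
each of them and the groups of automorphisms of order prime to `p` are abelian of exponent dividing `p - 1`.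
-/

set_option autoImplicit false

open scoped Classical commutatorElement

namespace CfsgLib.Fusion.SupersolubleType

open Cfsg (FusionSystem)

variable {p : ℕ} [Fact p.Prime]

section Cyclic

variable {M : Type*} [Group M] [Finite M] [IsCyclic M]

theorem exists_power (σ : M →* M) : ∃ r : ℤ, ∀ q : M, σ q = q ^ r := MonoidHom.map_cyclic σ

theorem iterate_power {σ : M →* M} {r : ℤ} (h : ∀ q : M, σ q = q ^ r) : ∀ (n : ℕ) (q : M), σ^[n] q = q ^ r ^ n := by
  intro n
  induction n with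
  | zero => intro q; simp
  | succ n ih => intro q; rw [Function.iterate_succ_apply', ih, h, ← zpow_mul, pow_succ]

theorem endo_comm (σ τ : M →* M) (q : M) : σ (τ q) = τ (σ q) := by
  obtain ⟨r, hr⟩ := exists_power σ
  obtain ⟨s, hs⟩ := exists_power τ
  rw [hr, hs, hs, hr, ← zpow_mul, ← zpow_mul, mul_comm]

/-- an endomorphism of `p`-power order lowers the layers of a cyclic `p`-group -/
theorem layer_lower (hM : IsPGroup p M) (σ : M →* M) {N : ℕ} (hσ : ∀ q, σ^[p ^ N] q = q) {q : M} {a : ℕ}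
    (hq : q ^ p ^ (a + 1) = 1) : (q⁻¹ * σ q) ^ p ^ a = 1 := by
  have hp := (Fact.out : p.Prime)
  rcases subsingleton_or_nontrivial M with hs | hn
  · exact Subsingleton.elim _ _
  obtain ⟨r, hr⟩ := exists_power σ
  obtain ⟨g, hg⟩ := IsCyclic.exists_generator (α := M)
  obtain ⟨k, hk0, hk⟩ := hM.nontrivial_iff_card.1 hn
  have hgo : orderOf g = p ^ k := by rw [orderOf_eq_card_of_forall_mem_zpowers hg, hk]
  have h1 := hσ g
  rw [iterate_power hr] at h1
  have h2 : (r : ℤ) ^ p ^ N ≡ 1 [ZMOD (p ^ k : ℕ)] := by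
    rw [← hgo, ← zpow_eq_zpow_iff_modEq, h1, zpow_one]
  have h3 : (r : ZMod p) = 1 := by
    have h4 : ((r ^ p ^ N : ℤ) : ZMod p) = ((1 : ℤ) : ZMod p) := by
      refine (ZMod.intCast_eq_intCast_iff _ _ _).2 (h2.of_dvd ?_)
      exact Int.natCast_dvd_natCast.2 (dvd_pow_self p hk0.ne')
    rwa [Int.cast_pow, ZMod.pow_card_pow, Int.cast_one] at h4
  obtain ⟨t, ht⟩ : (p : ℤ) ∣ r - 1 := by
    rw [← ZMod.intCast_zmod_eq_zero_iff_dvd, Int.cast_sub, h3, Int.cast_one, sub_self]
  rw [hr, ← zpow_neg_one, ← zpow_add, show -1 + r = (p : ℤ) * t by rw [← ht]; ring, ← zpow_natCast, ← zpow_mul,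
    show (p : ℤ) * t * ((p ^ a : ℕ) : ℤ) = ((p ^ (a + 1) : ℕ) : ℤ) * t by push_cast; ring, zpow_mul, zpow_natCast,
    hq, one_zpow]

/-- an endomorphism of order prime to `p` of a cyclic `p`-group has order dividing `p - 1` -/
theorem pow_sub_one (hM : IsPGroup p M) (σ : M →* M) {n : ℕ} (hn : n.Coprime p) (hn0 : n ≠ 0)
    (hσ : ∀ q, σ^[n] q = q) (q : M) : σ^[p - 1] q = q := by
  have hp := (Fact.out : p.Prime)
  rcases subsingleton_or_nontrivial M with hs | hnt
  · exact Subsingleton.elim _ _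
  obtain ⟨r, hr⟩ := exists_power σ
  obtain ⟨g, hg⟩ := IsCyclic.exists_generator (α := M)
  obtain ⟨k, hk0, hk⟩ := hM.nontrivial_iff_card.1 hnt
  have hgo : orderOf g = p ^ k := by rw [orderOf_eq_card_of_forall_mem_zpowers hg, hk]
  haveI : NeZero (p ^ k) := ⟨pow_ne_zero _ hp.ne_zero⟩
  have h1 := hσ g
  rw [iterate_power hr] at h1
  have h2 : ((r : ZMod (p ^ k))) ^ n = 1 := by
    rw [← Int.cast_pow, ← Int.cast_one, ZMod.intCast_eq_intCast_iff, ← hgo, ← zpow_eq_zpow_iff_modEq, h1, zpow_one]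
  obtain ⟨u, hu⟩ : IsUnit (r : ZMod (p ^ k)) := IsUnit.of_pow_eq_one h2 hn0
  have h3 : u ^ Nat.totient (p ^ k) = 1 := ZMod.pow_totient u
  have h4 : u ^ n = 1 := Units.ext (by rw [Units.val_pow_eq_pow_val, hu, h2, Units.val_one])
  have h5 : u ^ (p - 1) = 1 := by
    rw [← orderOf_dvd_iff_pow_eq_one] at h3 h4 ⊢
    rw [Nat.totient_prime_pow hp hk0] at h3
    exact (Nat.Coprime.pow_right _ (Nat.Coprime.coprime_dvd_left h4 hn)).dvd_of_dvd_mul_left h3
  have h6 : g ^ r ^ (p - 1) = g := by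
    conv_rhs => rw [← zpow_one g]
    rw [zpow_eq_zpow_iff_modEq, hgo, ← ZMod.intCast_eq_intCast_iff, Int.cast_pow, ← hu, ← Units.val_pow_eq_pow_val,
      h5, Units.val_one, Int.cast_one]
  obtain ⟨j, rfl⟩ := Subgroup.mem_zpowers_iff.1 (hg q)
  rw [iterate_power hr, ← zpow_mul, mul_comm, zpow_mul, h6]

end Cyclic

section Eigen

variable {W : Type*} [CommGroup W] [Nontrivial W]

theorem pow_val_cast (hW : ∀ w : W, w ^ p = 1) (w : W) (m : ℕ) : w ^ ((m : ZMod p)).val = w ^ m := by
  rw [ZMod.val_natCast, ← pow_eq_pow_mod m (hW w)]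

/-- commuting automorphisms of exponent dividing `p - 1` have a common eigenvector -/
theorem exists_eigen (hW : ∀ w : W, w ^ p = 1) (Hs : Finset (MulAut W))
    (hc : ∀ g ∈ Hs, ∀ h ∈ Hs, g * h = h * g) (he : ∀ h ∈ Hs, h ^ (p - 1) = 1) :
    ∃ w : W, w ≠ 1 ∧ ∀ h ∈ Hs, ∃ r : ℕ, h w = w ^ r := by
  induction Hs using Finset.induction_on with
  | empty =>
    obtain ⟨w, hw⟩ := exists_ne (1 : W)
    exact ⟨w, hw, fun h hh => absurd hh (Finset.notMem_empty h)⟩
  | insert h Hs hh ih =>
    have hp := (Fact.out : p.Prime)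
    obtain ⟨v, hv1, hv⟩ := ih (fun g hg k hk => hc g (Finset.mem_insert_of_mem hg) k (Finset.mem_insert_of_mem hk))
      (fun g hg => he g (Finset.mem_insert_of_mem hg))
    have hhp := he h (Finset.mem_insert_self h Hs)
    set va : (ZMod p)ˣ → W := fun a => ∏ k ∈ Finset.range (p - 1), ((h ^ k) v) ^ ((a : ZMod p) ^ k).val with hva
    have hmulv : ∀ (w : W) (s t : ZMod p), (w ^ s.val) ^ t.val = w ^ (s * t).val := fun w s t => by
      rw [← pow_mul, ← pow_val_cast hW w (s.val * t.val), Nat.cast_mul, ZMod.natCast_rightInverse,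
        ZMod.natCast_rightInverse]
    have hstep : ∀ a : (ZMod p)ˣ, (h (va a)) ^ (a : ZMod p).val = va a := by
      intro a
      set f : ℕ → W := fun k => ((h ^ k) v) ^ ((a : ZMod p) ^ k).val
      have h1 : (h (va a)) ^ (a : ZMod p).val = ∏ k ∈ Finset.range (p - 1), f (k + 1) := by
        rw [hva, map_prod, ← Finset.prod_pow]
        refine Finset.prod_congr rfl fun k _ => ?_
        show (h (((h ^ k) v) ^ ((a : ZMod p) ^ k).val)) ^ (a : ZMod p).val = _
        rw [map_pow, hmulv, ← pow_succ, ← MulAut.mul_apply, ← pow_succ']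
      have h2 : f (p - 1) = f 0 := by
        show ((h ^ (p - 1)) v) ^ ((a : ZMod p) ^ (p - 1)).val = _
        rw [hhp, ZMod.pow_card_sub_one_eq_one a.ne_zero]
        simp [f]
      have h3 := Finset.prod_range_succ f (p - 1)
      rw [Finset.prod_range_succ', h2] at h3
      rw [h1, mul_right_cancel h3]
    by_cases hall : ∀ a, va a = 1
    · exfalso
      refine hv1 ?_
      have h1 : ∏ a : (ZMod p)ˣ, va a = 1 := Finset.prod_eq_one fun a _ => hall a
      rw [hva, Finset.prod_comm] at h1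
      have hk : ∀ k ∈ Finset.range (p - 1), ∏ a : (ZMod p)ˣ, ((h ^ k) v) ^ ((a : ZMod p) ^ k).val =
          if k = 0 then v ^ ((-1 : ZMod p)).val else 1 := by
        intro k hk
        rw [Finset.prod_pow_eq_pow_sum, ← pow_val_cast hW, Nat.cast_sum]
        simp only [ZMod.natCast_rightInverse _]
        rw [FiniteField.sum_pow_units, ZMod.card]
        rw [Finset.mem_range] at hk
        by_cases hk0 : k = 0
        · subst hk0
          rw [if_pos (dvd_zero _), if_pos rfl, pow_zero, MulAut.one_apply]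
        · rw [if_neg (fun hd => hk0 (Nat.eq_zero_of_dvd_of_lt hd hk)), if_neg hk0, ZMod.val_zero, pow_zero]
      rw [Finset.prod_congr rfl hk, Finset.prod_ite_eq', if_pos (Finset.mem_range.2 (by have := hp.two_le; omega))] at h1
      have h4 := hmulv v (-1) (-1)
      rw [h1, one_pow, neg_mul_neg, one_mul, ZMod.val_one, pow_one] at h4
      exact h4.symm
    · push Not at hall
      obtain ⟨a, ha⟩ := hall
      refine ⟨va a, ha, fun g hg => ?_⟩
      rcases Finset.mem_insert.1 hg with rfl | hg'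
      · refine ⟨((a⁻¹ : (ZMod p)ˣ) : ZMod p).val, ?_⟩
        conv_rhs => rw [← hstep a]
        rw [hmulv, Units.mul_inv, ZMod.val_one, pow_one]
      · obtain ⟨r, hr⟩ := hv g hg'
        refine ⟨r, ?_⟩
        rw [hva, map_prod, ← Finset.prod_pow]
        refine Finset.prod_congr rfl fun k _ => ?_
        have hgk : g * h ^ k = h ^ k * g :=
          (show Commute g h from hc g hg h (Finset.mem_insert_self h Hs)).pow_right k
        rw [map_pow, ← MulAut.mul_apply, hgk, MulAut.mul_apply, hr, map_pow, ← pow_mul, ← pow_mul, mul_comm]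

end Eigen

section Steps

variable {Ω : Type*} [Group Ω] {S : Subgroup Ω} {F : FusionSystem S} {A B : Subgroup Ω}

theorem isMap_pow {R : Subgroup Ω} {f : Ω → Ω} (hf : IsMap F R f) {x : Ω} (hx : x ∈ R) :
    ∀ n : ℕ, f (x ^ n) = f x ^ n
  | 0 => by rw [pow_zero, pow_zero, hf.map_one]
  | n + 1 => by rw [pow_succ, pow_succ, hf.map_mul (pow_mem hx n) hx, isMap_pow hf hx n]

theorem normal_subgroupOf (hB : F.StronglyClosed B) (hA : F.StronglyClosed A) : (A.subgroupOf B).Normal :=
  ⟨fun n hn g => (Subgroup.mem_normalizer_iff.1 (le_normalizerIn_of_stronglyClosed hA (hB.1 g.2)).2 (n : Ω)).1 hn⟩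

/-- the endomorphism induced on a step by an automorphism of `S` -/
theorem exists_induced [Finite S] (hA : F.StronglyClosed A) (hB : F.StronglyClosed B)
    [(A.subgroupOf B).Normal] :
    ∀ α ∈ F.autGroup S, ∃ σ : (B ⧸ A.subgroupOf B) →* (B ⧸ A.subgroupOf B),
      ∀ (x : B) (hx : autFun α x ∈ B), σ x = ((⟨autFun α x, hx⟩ : B) : B ⧸ A.subgroupOf B) := by
  intro α hα
  have hm := (mem_autGroup_iff le_rfl).1 hα
  have hBm : ∀ x ∈ B, autFun α x ∈ B := (stronglyClosed_iff.1 hB).2 B _ le_rfl (hm.mono hB.1)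
  let e : B →* B := MonoidHom.mk' (fun x => ⟨autFun α x, hBm x x.2⟩) fun x y =>
    Subtype.ext (hm.map_mul (hB.1 x.2) (hB.1 y.2))
  refine ⟨QuotientGroup.map _ _ e fun x hx => ?_, fun x hx => rfl⟩
  have hx' : (x : Ω) ∈ A := hx
  exact (stronglyClosed_iff.1 hA).2 A _ le_rfl (hm.mono hA.1) _ hx'

theorem isCyclic_step [Finite S] (hB : F.StronglyClosed B) [(A.subgroupOf B).Normal]
    (hg : ∃ x ∈ S, B = A ⊔ Subgroup.zpowers x) : IsCyclic (B ⧸ A.subgroupOf B) := by
  obtain ⟨x, -, hx⟩ := hg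
  have hxB : x ∈ B := hx.ge (Subgroup.mem_sup_right (Subgroup.mem_zpowers x))
  set π := QuotientGroup.mk' (A.subgroupOf B)
  refine ⟨π ⟨x, hxB⟩, fun q => ?_⟩
  obtain ⟨b, rfl⟩ := QuotientGroup.mk'_surjective _ q
  have hle : B ≤ ((Subgroup.zpowers (π ⟨x, hxB⟩)).comap π).map B.subtype := by
    conv_lhs => rw [hx]
    refine sup_le (fun z hz => ⟨⟨z, hx.ge (Subgroup.mem_sup_left hz)⟩, ?_, rfl⟩)
      (Subgroup.zpowers_le.2 ⟨⟨x, hxB⟩, Subgroup.mem_zpowers _, rfl⟩)
    show π ⟨z, hx.ge (Subgroup.mem_sup_left hz)⟩ ∈ Subgroup.zpowers (π ⟨x, hxB⟩)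
    rw [show π ⟨z, hx.ge (Subgroup.mem_sup_left hz)⟩ = 1 from (QuotientGroup.eq_one_iff _).2 hz]
    exact one_mem _
  obtain ⟨s, hs, hse⟩ := hle b.2
  rw [show b = s from Subtype.ext hse.symm]
  exact hs

end Steps

variable {Ω : Type*} [Group Ω] {S : Subgroup Ω} [Finite S]

/-- a strongly closed series with cyclic steps makes `S` normal -/
theorem normal_of_chain (hS : IsPGroup p S) {F : FusionSystem S} (hF : F.IsSaturated p) {m : ℕ}
    {c : Fin (m + 1) → Subgroup Ω} (hc0 : c 0 = ⊥) (hcm : c (Fin.last m) = S)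
    (hsc : ∀ i, F.StronglyClosed (c i))
    (hstep : ∀ i : Fin m, c i.castSucc ≤ c i.succ ∧ ∃ x ∈ S, c i.succ = c i.castSucc ⊔ Subgroup.zpowers x) :
    F.IsNormal S := by
  obtain ⟨K, hK⟩ := IsPGroup.iff_card.1 hS
  set N := K + 1 with hNdef
  have hN : ∀ x ∈ S, x ^ p ^ N = 1 := fun x hx => by
    have h1 : x ^ p ^ K = 1 := by
      have := congrArg Subtype.val (pow_card_eq_one' (x := (⟨x, hx⟩ : S)))
      rwa [hK] at this
    rw [hNdef, pow_succ, pow_mul, h1, one_pow]
  -- the refinement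
  have hlayer : ∀ (i : Fin m) (a : ℕ), ∃ D : Subgroup Ω,
      ∀ x, x ∈ D ↔ x ∈ c i.succ ∧ x ^ p ^ a ∈ c i.castSucc := by
    intro i a
    haveI := normal_subgroupOf (hsc i.succ) (hsc i.castSucc)
    haveI := isCyclic_step (F := F) (hsc i.succ) (hstep i).2
    let Q := (c i.succ) ⧸ (c i.castSucc).subgroupOf (c i.succ)
    have hcomm : ∀ u v : Q, u * v = v * u := fun u v => IsMulCommutative.is_comm.comm u v
    let L : Subgroup Q :=
      { carrier := {q | q ^ p ^ a = 1}
        one_mem' := one_pow _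
        mul_mem' := fun {u v} hu hv => by
          show (u * v) ^ p ^ a = 1
          rw [(show Commute u v from hcomm u v).mul_pow, hu, hv, one_mul]
        inv_mem' := fun {u} hu => by show u⁻¹ ^ p ^ a = 1; rw [inv_pow, hu, inv_one] }
    refine ⟨(L.comap (QuotientGroup.mk' _)).map (c i.succ).subtype, fun x => ⟨?_, ?_⟩⟩
    · rintro ⟨y, hy, rfl⟩
      refine ⟨y.2, ?_⟩
      have h1 : ((y : Q)) ^ p ^ a = 1 := hy
      rw [← QuotientGroup.mk_pow, QuotientGroup.eq_one_iff] at h1
      exact h1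
    · rintro ⟨hx, hxa⟩
      refine ⟨⟨x, hx⟩, ?_, rfl⟩
      show ((⟨x, hx⟩ : c i.succ) : Q) ^ p ^ a = 1
      rw [← QuotientGroup.mk_pow, QuotientGroup.eq_one_iff]
      exact hxa
  choose D hD using hlayer
  have hD0 : ∀ i, D i 0 = c i.castSucc := fun i => by
    ext x
    rw [hD, pow_zero, pow_one]
    exact ⟨fun h => h.2, fun h => ⟨(hstep i).1 h, h⟩⟩
  have hDN : ∀ i, D i N = c i.succ := fun i => by
    ext x
    rw [hD]
    exact ⟨fun h => h.1, fun h => ⟨h, by rw [hN x ((hsc i.succ).1 h)]; exact one_mem _⟩⟩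
  have hDsc : ∀ i a, F.StronglyClosed (D i a) := fun i a => stronglyClosed_iff.2
    ⟨fun x hx => (hsc i.succ).1 ((hD i a x).1 hx).1, fun R f hR hf x hx => (hD i a _).2
      ⟨(stronglyClosed_iff.1 (hsc i.succ)).2 R f (fun y hy => ((hD i a y).1 (hR hy)).1) hf x hx, by
        have hx' := ((hD i a x).1 (hR hx)).2
        rw [← isMap_pow hf hx]
        exact (stronglyClosed_iff.1 (hsc i.castSucc)).2 (R ⊓ c i.castSucc) f inf_le_right (hf.mono inf_le_left) _
          ⟨pow_mem hx _, hx'⟩⟩⟩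
  have hDle : ∀ i a, D i a ≤ D i (a + 1) := fun i a x hx => (hD i (a + 1) x).2 ⟨((hD i a x).1 hx).1, by
    rw [pow_succ, pow_mul]; exact pow_mem ((hD i a x).1 hx).2 p⟩
  have hDcomm : ∀ i a, ⁅S, D i (a + 1)⁆ ≤ D i a := by
    intro i a
    haveI := normal_subgroupOf (hsc i.succ) (hsc i.castSucc)
    haveI := isCyclic_step (F := F) (hsc i.succ) (hstep i).2
    haveI := finite_of_le (hsc i.succ).1
    refine Subgroup.commutator_le.2 fun s hs x hx => ?_
    obtain ⟨hxB, hxa⟩ := (hD i (a + 1) x).1 hx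
    have hconjN : s ∈ Subgroup.normalizer (S : Set Ω) := Subgroup.le_normalizer hs
    obtain ⟨σ, hσ⟩ := exists_induced (hsc i.castSucc) (hsc i.succ) (conjAut s hconjN)
      (autInducedBy_le_autGroup le_rfl (conjAut_mem hs hconjN))
    have hmem : ∀ y ∈ c i.succ, s * y * s⁻¹ ∈ c i.succ := fun y hy =>
      (Subgroup.mem_normalizer_iff.1 (le_normalizerIn_of_stronglyClosed (hsc i.succ) hs).2 y).1 hy
    have hσ' : ∀ y : c i.succ, σ y = ((⟨s * y * s⁻¹, hmem y y.2⟩ : c i.succ) : _ ⧸ _) := fun y => by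
      have h1 := autFun_conjAut hconjN ((hsc i.succ).1 y.2)
      rw [hσ y (h1 ▸ hmem y y.2)]
      exact congrArg _ (Subtype.ext h1)
    have hit : ∀ (k : ℕ) (y : c i.succ), ∃ hy : s ^ k * (y : Ω) * (s ^ k)⁻¹ ∈ c i.succ,
        σ^[k] y = ((⟨_, hy⟩ : c i.succ) : _ ⧸ _) := by
      intro k
      induction k with
      | zero =>
        intro y
        refine ⟨by rw [pow_zero, one_mul, inv_one, mul_one]; exact y.2, congrArg QuotientGroup.mk (Subtype.ext ?_)⟩
        show (y : Ω) = s ^ 0 * (y : Ω) * (s ^ 0)⁻¹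
        rw [pow_zero, one_mul, inv_one, mul_one]
      | succ k ih =>
        intro y
        obtain ⟨hy, e⟩ := ih y
        have e2 : s ^ (k + 1) * (y : Ω) * (s ^ (k + 1))⁻¹ = s * (s ^ k * y * (s ^ k)⁻¹) * s⁻¹ := by
          rw [pow_succ']; group
        refine ⟨e2 ▸ hmem _ hy, ?_⟩
        rw [Function.iterate_succ_apply', e, hσ']
        exact congrArg _ (Subtype.ext e2.symm)
    have hσN : ∀ q, σ^[p ^ N] q = q := fun q => by
      obtain ⟨y, rfl⟩ := QuotientGroup.mk_surjective q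
      obtain ⟨hy, e⟩ := hit (p ^ N) y
      rw [e]
      exact congrArg _ (Subtype.ext (by simp [hN s hs]))
    have hMp : IsPGroup p ((c i.succ) ⧸ (c i.castSucc).subgroupOf (c i.succ)) :=
      (hS.to_le (hsc i.succ).1).to_quotient _
    have h1 := layer_lower hMp σ hσN (q := ((⟨x, hxB⟩ : c i.succ) : _ ⧸ _)) (a := a) (by
      rw [← QuotientGroup.mk_pow, QuotientGroup.eq_one_iff]; exact hxa)
    rw [hσ', ← QuotientGroup.mk_inv, ← QuotientGroup.mk_mul, ← QuotientGroup.mk_pow, QuotientGroup.eq_one_iff] at h1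
    have h2 : x⁻¹ * (s * x * s⁻¹) ∈ D i a := (hD i a _).2 ⟨mul_mem (inv_mem hxB) (hmem x hxB), h1⟩
    have h3 := (Subgroup.mem_normalizer_iff.1
      (le_normalizerIn_of_stronglyClosed (hDsc i a) ((hsc i.succ).1 hxB)).2 _).1 h2
    rw [commutatorElement_def]
    simpa [mul_assoc] using h3
  -- flattening
  let Qs : Fin (m * N + 1) → Subgroup Ω := fun t =>
    if h : (t : ℕ) / N < m then D ⟨(t : ℕ) / N, h⟩ ((t : ℕ) % N) else S
  have hpos : 0 < N := by omega
  have hQstep : ∀ t : Fin (m * N), ∃ i a, Qs t.castSucc = D i a ∧ Qs t.succ = D i (a + 1) := by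
    intro t
    have hlt : (t : ℕ) / N < m := (Nat.div_lt_iff_lt_mul hpos).2 t.2
    refine ⟨⟨(t : ℕ) / N, hlt⟩, (t : ℕ) % N, by show dite _ _ _ = _; rw [dif_pos (show ((t.castSucc : Fin _) : ℕ) / N < m from hlt)]; rfl, ?_⟩
    have h0 := Nat.div_add_mod (t : ℕ) N
    have hm' := Nat.mod_lt (t : ℕ) hpos
    show dite _ _ _ = _
    simp only [Fin.val_succ]
    rcases Nat.lt_or_ge ((t : ℕ) % N + 1) N with h | h
    · have e1 : ((t : ℕ) + 1) / N = (t : ℕ) / N := Nat.div_eq_of_lt_le
        (by rw [Nat.mul_comm] at h0; omega) (by rw [Nat.mul_comm] at h0; rw [Nat.succ_mul]; omega)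
      have e2 : ((t : ℕ) + 1) % N = (t : ℕ) % N + 1 := by
        rw [Nat.add_mod, Nat.one_mod_eq_one.2 (by omega), Nat.mod_eq_of_lt h]
      rw [dif_pos (e1.symm ▸ hlt)]
      congr 1
      exact Fin.ext e1
    · have hd : (t : ℕ) + 1 = ((t : ℕ) / N + 1) * N := by rw [Nat.mul_comm] at h0; rw [Nat.succ_mul]; omega
      rw [show (t : ℕ) % N + 1 = N by omega, hDN]
      simp only [hd, Nat.mul_div_cancel _ hpos, Nat.mul_mod_left]
      by_cases hlt2 : (t : ℕ) / N + 1 < m
      · rw [dif_pos hlt2, hD0]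
        exact congrArg c (Fin.ext (by simp))
      · rw [dif_neg hlt2, ← hcm]
        exact congrArg c (Fin.ext (by simp; omega))
  refine isNormal_of_series hS hF (Qs := Qs) ?_ ?_ (Fin.monotone_iff_le_succ.2 fun t => ?_) (fun t => ?_) fun t => ?_
  · show dite _ _ _ = _
    simp only [Fin.val_zero, Nat.zero_div, Nat.zero_mod]
    by_cases h : 0 < m
    · rw [dif_pos h, hD0, ← hc0]; exact congrArg c (Fin.ext rfl)
    · rw [dif_neg h, ← hc0, ← hcm]; exact congrArg c (Fin.ext (by simp; omega))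
  · show dite _ _ _ = _
    simp [Nat.mul_div_cancel _ hpos]
  · obtain ⟨i, a, h1, h2⟩ := hQstep t
    rw [h1, h2]; exact hDle i a
  · obtain ⟨i, a, -, h2⟩ := hQstep t
    rw [h2]; exact hDsc i (a + 1)
  · obtain ⟨i, a, h1, h2⟩ := hQstep t
    rw [h1, h2]; exact hDcomm i a

/-- a strongly closed series with cyclic steps bounds automorphisms of order prime to `p` -/
theorem abelian_of_chain (hS : IsPGroup p S) {F : FusionSystem S} {m : ℕ}
    {c : Fin (m + 1) → Subgroup Ω} (hc0 : c 0 = ⊥) (hcm : c (Fin.last m) = S)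
    (hsc : ∀ i, F.StronglyClosed (c i))
    (hstep : ∀ i : Fin m, c i.castSucc ≤ c i.succ ∧ ∃ x ∈ S, c i.succ = c i.castSucc ⊔ Subgroup.zpowers x)
    (H : Subgroup (MulAut S)) (hH : H ≤ F.autGroup S) (hcop : (Nat.card H).Coprime p) :
    IsMulCommutative H ∧ ∀ h ∈ H, h ^ (p - 1) = 1 := by
  have hp := (Fact.out : p.Prime)
  haveI := finite_mulAut (P := S)
  have hpar : ∀ γ ∈ H, γ ^ Nat.card H = 1 := fun γ hγ =>
    congrArg Subtype.val (pow_card_eq_one' (x := (⟨γ, hγ⟩ : H)))
  -- an element trivial on every step is trivial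
  have hstab : ∀ γ ∈ H, (∀ i : Fin m, ∀ x ∈ c i.succ, x⁻¹ * autFun γ x ∈ c i.castSucc) → γ = 1 := by
    intro γ hγ h
    have hm := (mem_autGroup_iff le_rfl).1 (hH hγ)
    have hfix : ∀ i : Fin (m + 1), ∀ x ∈ c i, autFun γ x = x := by
      intro i
      induction i using Fin.induction with
      | zero => intro x hx; rw [hc0, Subgroup.mem_bot] at hx; subst hx; exact hm.map_one
      | succ i ih =>
        intro x hx
        set t := x⁻¹ * autFun γ x with ht
        have htc := h i x hx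
        have hxS := (hsc i.succ).1 hx
        have htS := (hsc i.castSucc).1 htc
        have hn : ∀ k : ℕ, autFun (γ ^ k) x = x * t ^ k := by
          intro k
          induction k with
          | zero => rw [pow_zero, autFun_one hxS, pow_zero, mul_one]
          | succ k ihk =>
            rw [pow_succ', autFun_mul _ _ hxS, ihk, hm.map_mul hxS (pow_mem htS k), ih _ (pow_mem htc k),
              pow_succ', ← mul_assoc x, ht, mul_inv_cancel_left]
        have h1 := hn (Nat.card H)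
        rw [hpar γ hγ, autFun_one hxS, left_eq_mul] at h1
        have h2 := pow_ne_one_of_not_dvd (p := p) hS (a := (⟨t, htS⟩ : S))
          (hp.coprime_iff_not_dvd.1 hcop.symm) (Subtype.ext (by simpa using h1))
        exact (inv_mul_eq_one.1 (congrArg Subtype.val h2)).symm
    exact autFun_ext fun x hx => by rw [hfix (Fin.last m) x (hcm.ge hx), autFun_one hx]
  -- the two relations hold on every step
  have hq : ∀ (i : Fin m) (g h : MulAut S), g ∈ H → h ∈ H → ∀ x ∈ c i.succ,
      x⁻¹ * autFun (g * h * g⁻¹ * h⁻¹) x ∈ c i.castSucc ∧ x⁻¹ * autFun (g ^ (p - 1)) x ∈ c i.castSucc := by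
    intro i g h hg hh x hx
    haveI := normal_subgroupOf (hsc i.succ) (hsc i.castSucc)
    haveI := isCyclic_step (F := F) (hsc i.succ) (hstep i).2
    haveI := finite_of_le (hsc i.succ).1
    choose σ hσ using exists_induced (F := F) (hsc i.castSucc) (hsc i.succ)
    have hB : ∀ α ∈ H, ∀ y ∈ c i.succ, autFun α y ∈ c i.succ := fun α hα =>
      (stronglyClosed_iff.1 (hsc i.succ)).2 _ _ le_rfl (((mem_autGroup_iff le_rfl).1 (hH hα)).mono (hsc i.succ).1)
    have hval : ∀ α (hα : α ∈ H) (y : c i.succ), σ α (hH hα) y =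
        ((⟨autFun α y, hB α hα y y.2⟩ : c i.succ) : _ ⧸ _) := fun α hα y => hσ α (hH hα) y _
    have hmulσ : ∀ α (hα : α ∈ H) β (hβ : β ∈ H) q,
        σ (α * β) (hH (mul_mem hα hβ)) q = σ α (hH hα) (σ β (hH hβ) q) := by
      intro α hα β hβ q
      obtain ⟨y, rfl⟩ := QuotientGroup.mk_surjective q
      rw [hval _ (mul_mem hα hβ), hval β hβ, hval α hα]
      exact congrArg _ (Subtype.ext (autFun_mul α β ((hsc i.succ).1 y.2)))
    have hone : ∀ q, σ 1 (hH (one_mem H)) q = q := fun q => by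
      obtain ⟨y, rfl⟩ := QuotientGroup.mk_surjective q
      rw [hval 1 (one_mem H)]
      exact congrArg _ (Subtype.ext (autFun_one ((hsc i.succ).1 y.2)))
    have hmem : ∀ α (hα : α ∈ H), σ α (hH hα) ((⟨x, hx⟩ : c i.succ) : _ ⧸ _) =
        ((⟨x, hx⟩ : c i.succ) : _ ⧸ _) → x⁻¹ * autFun α x ∈ c i.castSucc := fun α hα e => by
      rw [hval α hα] at e
      have h := QuotientGroup.eq.1 e.symm
      exact h
    constructor
    · refine hmem _ (mul_mem (mul_mem (mul_mem hg hh) (inv_mem hg)) (inv_mem hh)) ?_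
      rw [hmulσ _ (mul_mem (mul_mem hg hh) (inv_mem hg)) _ (inv_mem hh), hmulσ _ (mul_mem hg hh) _ (inv_mem hg),
        hmulσ g hg h hh, endo_comm (σ h (hH hh)), ← hmulσ g hg g⁻¹ (inv_mem hg)]
      simp only [mul_inv_cancel]
      rw [hone, ← hmulσ h hh h⁻¹ (inv_mem hh)]
      simp only [mul_inv_cancel]
      rw [hone]
    · refine hmem _ (pow_mem hg _) ?_
      have hit : ∀ k : ℕ, ∀ q, (σ g (hH hg))^[k] q = σ (g ^ k) (hH (pow_mem hg k)) q := by
        intro k
        induction k with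
        | zero => intro q; simp only [pow_zero]; rw [hone]; rfl
        | succ k ih =>
          intro q
          rw [Function.iterate_succ_apply', ih]
          simp only [pow_succ']
          rw [hmulσ g hg _ (pow_mem hg k)]
      rw [← hit]
      refine pow_sub_one ((hS.to_le (hsc i.succ).1).to_quotient _) _ hcop (Nat.card_pos (α := H)).ne' (fun q => ?_) _
      rw [hit]
      simp only [hpar g hg]
      rw [hone]
  refine ⟨⟨⟨fun g h => ?_⟩⟩, fun h hh => hstab _ (pow_mem hh _) fun i x hx => (hq i h h hh hh x hx).2⟩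
  have h1 := hstab _ (mul_mem (mul_mem (mul_mem g.2 h.2) (inv_mem g.2)) (inv_mem h.2))
    fun i x hx => (hq i g h g.2 h.2 x hx).1
  refine Subtype.ext ?_
  show (g : MulAut S) * h = h * g
  exact mul_inv_eq_iff_eq_mul.1 (mul_inv_eq_one.1 h1)

/-- the converse construction -/
theorem exists_chain_of_normal (hS : IsPGroup p S) {F : FusionSystem S} (hF : F.IsSaturated p) (hN : F.IsNormal S)
    (hH : ∀ H : Subgroup (MulAut S), (Nat.card H).Coprime p → IsMulCommutative H ∧ ∀ h ∈ H, h ^ (p - 1) = 1) :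
    ∃ (m : ℕ) (c : Fin (m + 1) → Subgroup Ω), c 0 = ⊥ ∧ c (Fin.last m) = S ∧
      (∀ i : Fin (m + 1), F.StronglyClosed (c i)) ∧
      ∀ i : Fin m, c i.castSucc ≤ c i.succ ∧ ∃ x ∈ S, c i.succ = c i.castSucc ⊔ Subgroup.zpowers x := by
  have hp := (Fact.out : p.Prime)
  haveI := finite_mulAut (P := S)
  set X := F.autGroup S with hX
  set I := (Cfsg.Inn S).subgroupOf X with hI
  have hIle : Cfsg.Inn S ≤ X := inn_le_autGroup le_rfl
  haveI : I.Normal := ⟨fun a ha g => by
    have ha' : ((a : X) : MulAut S) ∈ Cfsg.Inn S := ha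
    show ((g * a * g⁻¹ : X) : MulAut S) ∈ Cfsg.Inn S
    obtain ⟨s, hs⟩ := ha'
    refine ⟨(g : MulAut S) s, ?_⟩
    rw [Subgroup.coe_mul, Subgroup.coe_mul, Subgroup.coe_inv, ← hs]
    exact MulEquiv.ext fun x => by simp⟩
  have hIp : IsPGroup p I := ((isPGroup_autInducedBy hS).to_le (inn_le_autInducedBy le_rfl)).of_equiv
    (Subgroup.subgroupOfEquivOfLe hIle).symm
  have hcop : (Nat.card I).Coprime I.index := by
    obtain ⟨k, hk⟩ := IsPGroup.iff_card.1 hIp
    rw [hk]
    refine Nat.Coprime.pow_left k (hp.coprime_iff_not_dvd.2 ?_)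
    have h := ((isFullyAutomized_iff hS).1 (IsSaturated.automized_receptive hS hF isFullyNormalized_self).1).2
    rwa [← inn_eq_autInducedBy] at h
  obtain ⟨K, hK⟩ := Subgroup.exists_right_complement'_of_coprime hcop
  set H := K.map X.subtype with hHdef
  have hHp : (Nat.card H).Coprime p := by
    rw [hHdef, Subgroup.card_map_of_injective X.subtype_injective, ← hK.symm.index_eq_card]
    have h := ((isFullyAutomized_iff hS).1 (IsSaturated.automized_receptive hS hF isFullyNormalized_self).1).2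
    rw [← inn_eq_autInducedBy] at h
    exact (hp.coprime_iff_not_dvd.2 h).symm
  obtain ⟨hab, hexp⟩ := hH H hHp
  have hHX : H ≤ X := Subgroup.map_subtype_le K
  -- invariance under conjugation and `H` gives strong closure
  have hclosed : ∀ N : Subgroup Ω, N ≤ S → (∀ s ∈ S, ∀ x ∈ N, s * x * s⁻¹ ∈ N) →
      (∀ h ∈ H, ∀ x ∈ N, autFun h x ∈ N) → F.StronglyClosed N := by
    intro N hNS hconj hinv
    refine stronglyClosed_iff.2 ⟨hNS, fun R f hR hf x hx => ?_⟩
    obtain ⟨g, hg, hgf, hgS⟩ := (isNormal_iff.1 hN).2 R f hf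
    have hgS' := hg.mono (le_sup_right : S ≤ R ⊔ S)
    have hmemS : x ∈ S := hNS (hR hx)
    have hα := autOf_mem hgS' hgS
    obtain ⟨⟨u, v⟩, huv⟩ := hK.2 ⟨_, hα⟩
    have hu : ((u : X) : MulAut S) ∈ Cfsg.Inn S := u.2
    rw [inn_eq_autInducedBy, mem_autInducedBy_iff] at hu
    obtain ⟨s, hs, hse⟩ := hu
    have e : autFun (autOf hgS' hgS) x = f x := by rw [autFun_autOf hgS' hgS hmemS, hgf x hx]
    rw [← e, show autOf hgS' hgS = ((u : X) : MulAut S) * ((v : X) : MulAut S) from (congrArg Subtype.val huv).symm,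
      autFun_mul _ _ hmemS, hse _ (autFun_mem _ hmemS)]
    exact hconj s hs _ (hinv _ ⟨(v : X), v.2, rfl⟩ x (hR hx))
  have main : ∀ k (N : Subgroup Ω), F.StronglyClosed N → Nat.card S - Nat.card N = k →
      ∃ (m : ℕ) (c : Fin (m + 1) → Subgroup Ω), c 0 = N ∧ c (Fin.last m) = S ∧
        (∀ i : Fin (m + 1), F.StronglyClosed (c i)) ∧
        ∀ i : Fin m, c i.castSucc ≤ c i.succ ∧ ∃ x ∈ S, c i.succ = c i.castSucc ⊔ Subgroup.zpowers x := by
    intro k
    induction k using Nat.strong_induction_on with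
    | _ k ih =>
    intro N hNc hk
    by_cases hNS : N = S
    · exact ⟨0, fun _ => N, rfl, hNS, fun _ => hNc, fun i => i.elim0⟩
    haveI hn : (N.subgroupOf S).Normal :=
      normal_subgroupOf (stronglyClosed_of_isNormal hN) hNc
    set Q := S ⧸ N.subgroupOf S
    have hQp : IsPGroup p Q := hS.to_quotient _
    haveI : Nontrivial Q := (QuotientGroup.nontrivial_iff).2 fun h => hNS (le_antisymm hNc.1 (by
      intro x hx
      exact (h ▸ Subgroup.mem_top (⟨x, hx⟩ : S) : (⟨x, hx⟩ : S) ∈ N.subgroupOf S)))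
    haveI := hQp.center_nontrivial
    let W : Subgroup Q :=
      { carrier := {q | q ∈ Subgroup.center Q ∧ q ^ p = 1}
        one_mem' := ⟨one_mem _, one_pow _⟩
        mul_mem' := fun {a b} ha hb => ⟨mul_mem ha.1 hb.1, by
          rw [(show Commute a b from Subgroup.mem_center_iff.1 hb.1 a).mul_pow, ha.2, hb.2, one_mul]⟩
        inv_mem' := fun {a} ha => ⟨inv_mem ha.1, by rw [inv_pow, ha.2, inv_one]⟩ }
    haveI : Nontrivial W := by
      obtain ⟨j, hj0, hj⟩ := (hQp.to_subgroup (Subgroup.center Q)).nontrivial_iff_card.1 inferInstance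
      obtain ⟨z, hz⟩ := exists_prime_orderOf_dvd_card' (G := Subgroup.center Q) p (hj ▸ dvd_pow_self p hj0.ne')
      refine ⟨⟨⟨(z : Q), z.2, by rw [← Subgroup.coe_pow, ← hz, pow_orderOf_eq_one, Subgroup.coe_one]⟩, 1, fun h => ?_⟩⟩
      have h1 : z = 1 := Subtype.ext (congrArg Subtype.val h :)
      rw [h1, orderOf_one] at hz
      exact hp.ne_one hz.symm
    let _ : CommGroup W :=
      { (inferInstance : Group W) with
        mul_comm := fun a b => Subtype.ext (Subgroup.mem_center_iff.1 b.2.1 a) }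
    have hNinv : ∀ α : MulAut S, α ∈ X → (N.subgroupOf S).map α.toMonoidHom = N.subgroupOf S := fun α hα => by
      refine Subgroup.eq_of_le_of_card_ge ?_ (Subgroup.card_map_of_injective α.injective).ge
      rintro _ ⟨y, hy, rfl⟩
      show ((α y : S) : Ω) ∈ N
      rw [← autFun_coe]
      exact (stronglyClosed_iff.1 hNc).2 N _ le_rfl (((mem_autGroup_iff le_rfl).1 hα).mono hNc.1) _ hy
    let toQ : H →* MulAut Q :=
      { toFun := fun h => QuotientGroup.congr _ _ (h : MulAut S) (hNinv _ (hHX h.2))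
        map_one' := MulEquiv.ext fun q => Quotient.inductionOn' q fun w => rfl
        map_mul' := fun a b => MulEquiv.ext fun q => Quotient.inductionOn' q fun w => rfl }
    have hW : ∀ (σ : MulAut Q) (q : Q), q ∈ W → σ q ∈ W := fun σ q hq =>
      ⟨(Subgroup.characteristic_iff_map_le.1 inferInstance σ) ⟨q, hq.1, rfl⟩, by rw [← map_pow, hq.2, map_one]⟩
    let toW : H →* MulAut W :=
      { toFun := fun h =>
          { toFun := fun w => ⟨toQ h w, hW _ _ w.2⟩
            invFun := fun w => ⟨toQ h⁻¹ w, hW _ _ w.2⟩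
            left_inv := fun w => Subtype.ext (by
              show toQ h⁻¹ (toQ h w) = w
              rw [← MulAut.mul_apply, ← map_mul, inv_mul_cancel, map_one, MulAut.one_apply])
            right_inv := fun w => Subtype.ext (by
              show toQ h (toQ h⁻¹ w) = w
              rw [← MulAut.mul_apply, ← map_mul, mul_inv_cancel, map_one, MulAut.one_apply])
            map_mul' := fun a b => Subtype.ext (map_mul (toQ h) (a : Q) b) }
        map_one' := MulEquiv.ext fun w => Subtype.ext (by show toQ 1 w = w; rw [map_one]; rfl)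
        map_mul' := fun a b => MulEquiv.ext fun w => Subtype.ext (by
          show toQ (a * b) w = toQ a (toQ b w)
          rw [map_mul]; rfl) }
    haveI : Fintype H := Fintype.ofFinite _
    obtain ⟨w, hw1, hw⟩ := exists_eigen (p := p) (W := W) (fun w => Subtype.ext w.2.2) (Finset.univ.image toW)
      (fun g hg h hh => by
        obtain ⟨a, -, rfl⟩ := Finset.mem_image.1 hg
        obtain ⟨b, -, rfl⟩ := Finset.mem_image.1 hh
        rw [← map_mul, ← map_mul, hab.is_comm.comm a b])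
      (fun g hg => by
        obtain ⟨a, -, rfl⟩ := Finset.mem_image.1 hg
        rw [← map_pow, show a ^ (p - 1) = 1 from Subtype.ext (hexp a a.2), map_one])
    obtain ⟨⟨x, hxS⟩, hx⟩ := QuotientGroup.mk_surjective (w : Q)
    have hxN : x ∉ N := fun h => hw1 (Subtype.ext (hx.symm.trans ((QuotientGroup.eq_one_iff _).2 h)))
    set N' := N ⊔ Subgroup.zpowers x with hN'
    have hN'S : N' ≤ S := sup_le hNc.1 (Subgroup.zpowers_le.2 hxS)
    -- membership through the quotient
    have hmemN' : ∀ y (hy : y ∈ S), y ∈ N' ↔ ((⟨y, hy⟩ : S) : Q) ∈ Subgroup.zpowers (w : Q) := by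
      intro y hy
      have hmap : (N'.subgroupOf S).map (QuotientGroup.mk' (N.subgroupOf S)) = Subgroup.zpowers (w : Q) := by
        rw [hN', Subgroup.subgroupOf_sup hNc.1 (Subgroup.zpowers_le.2 hxS), Subgroup.map_sup, QuotientGroup.map_mk'_self,
          bot_sup_eq, show (Subgroup.zpowers x).subgroupOf S = Subgroup.zpowers ⟨x, hxS⟩ from ?_,
          MonoidHom.map_zpowers, QuotientGroup.mk'_apply, hx]
        refine Subgroup.map_injective S.subtype_injective ?_
        rw [Subgroup.subgroupOf_map_subtype, inf_eq_left.2 (Subgroup.zpowers_le.2 hxS), MonoidHom.map_zpowers]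
        rfl
      rw [← hmap]
      constructor
      · exact fun h => ⟨⟨y, hy⟩, h, rfl⟩
      · rintro ⟨z, hz, e⟩
        have h1 : z⁻¹ * ⟨y, hy⟩ ∈ N.subgroupOf S := QuotientGroup.eq.1 e
        have h2 := mul_mem (show (z : Ω) ∈ N' from hz) (Subgroup.mem_sup_left (T := Subgroup.zpowers x) h1 :
          ((z⁻¹ * ⟨y, hy⟩ : S) : Ω) ∈ N')
        simpa using h2
    have hN'c : F.StronglyClosed N' := by
      refine hclosed N' hN'S (fun s hs y hy => ?_) (fun h hh y hy => ?_)
      · have hy' := hN'S hy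
        refine (hmemN' _ (mul_mem (mul_mem hs hy') (inv_mem hs))).2 ?_
        obtain ⟨j, hj⟩ := Subgroup.mem_zpowers_iff.1 ((hmemN' y hy').1 hy)
        refine Subgroup.mem_zpowers_iff.2 ⟨j, ?_⟩
        show _ = ((⟨s, hs⟩ * ⟨y, hy'⟩ * ⟨s, hs⟩⁻¹ : S) : Q)
        rw [QuotientGroup.mk_mul, QuotientGroup.mk_mul, QuotientGroup.mk_inv, ← hj,
          Subgroup.mem_center_iff.1 (zpow_mem w.2.1 j) _, mul_inv_cancel_right]
      · have hy' := hN'S hy
        refine (hmemN' _ (autFun_mem h hy')).2 ?_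
        obtain ⟨j, hj⟩ := Subgroup.mem_zpowers_iff.1 ((hmemN' y hy').1 hy)
        obtain ⟨r, hr⟩ := hw (toW ⟨h, hh⟩) (Finset.mem_image_of_mem _ (Finset.mem_univ _))
        have hr' : toQ ⟨h, hh⟩ (w : Q) = (w : Q) ^ r := congrArg Subtype.val hr
        have he : ((⟨autFun h y, autFun_mem h hy'⟩ : S) : Q) = toQ ⟨h, hh⟩ ((⟨y, hy'⟩ : S) : Q) :=
          congrArg _ (Subtype.ext (autFun_apply h hy'))
        rw [he, ← hj, map_zpow, hr']
        exact zpow_mem (pow_mem (Subgroup.mem_zpowers _) r) j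
    have hlt : Nat.card S - Nat.card N' < k := by
      have h1 : Nat.card N < Nat.card N' := card_lt_of_lt hN'S (lt_of_le_of_ne le_sup_left fun e =>
        hxN (e.ge (Subgroup.mem_sup_right (Subgroup.mem_zpowers x))))
      have h2 : Nat.card N' ≤ Nat.card S := card_le_of_le' le_rfl hN'S
      omega
    obtain ⟨m, c, hc0, hcm, hsc, hstep⟩ := ih _ hlt N' hN'c rfl
    refine ⟨m + 1, Fin.cases N c, rfl, ?_, fun i => ?_, fun i => ?_⟩
    · rw [← Fin.succ_last]
      simp only [Fin.cases_succ]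
      exact hcm
    · induction i using Fin.cases with
      | zero => exact hNc
      | succ i => simp only [Fin.cases_succ]; exact hsc i
    · induction i using Fin.cases with
      | zero =>
        rw [Fin.castSucc_zero]
        simp only [Fin.cases_succ, Fin.cases_zero, hc0]
        exact ⟨le_sup_left, x, hxS, rfl⟩
      | succ i =>
        rw [← Fin.succ_castSucc]
        simp only [Fin.cases_succ]
        exact hstep i
  exact main _ ⊥ stronglyClosed_bot rfl

end CfsgLib.Fusion.SupersolubleType
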