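import Cfsg.Agent.Lib.Fusion.System.HyperfocalGroup
import Cfsg.Agent.Lib.Fusion.System.LocalModel
import Cfsg.Agent.Lib.Fusion.System.KNormalizer
import Cfsg.Agent.Lib.Fusion.System.Model

/-!
# Values of chains modulo the hyperfocal subgroup

Every map of a saturated system is a chain of conjugations and of restricted automorphisms of
order prime to `p`. The product `g` of the conjugating elements is well defined up to the
elements centralizing the source modulo `L`, for every normal `L ≤ K` with `⁅S, K⁆ ≤ L`, where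
`K` absorbs the automorphisms of order prime to `p`.
-/

set_option autoImplicit false
set_option maxHeartbeats 1000000
set_option linter.style.haveILetI false

open Subgroup
open scoped Classical commutatorElement

namespace CfsgLib.Fusion

open Cfsg (FusionSystem autInducedBy groupFusionSystem)
open Cfsg.FusionSystem (normalizerIn centralizerIn)

universe u

variable {Ω : Type u} [Group Ω] {S : Subgroup Ω}

/-- Chains of elementary maps, with their values. -/
inductive Chain (F : FusionSystem S) (p : ℕ) : Subgroup Ω → (Ω → Ω) → Ω → Prop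
  | conj {P : Subgroup Ω} {s : Ω} : P ≤ S → s ∈ S → Chain F p P (fun x => s * x * s⁻¹) s
  | aut {P R : Subgroup Ω} (hR : R ≤ S) {α : F.autGroup R} : Nat.Coprime (orderOf α) p →
      P ≤ R → Chain F p P (autFun (α : MulAut R)) 1
  | comp {P Q : Subgroup Ω} {f f' : Ω → Ω} {g g' : Ω} : Chain F p P f g → Chain F p Q f' g' →
      (∀ x ∈ P, f x ∈ Q) → Chain F p P (f' ∘ f) (g' * g)
  | congr {P : Subgroup Ω} {f f' : Ω → Ω} {g : Ω} : Chain F p P f g →
      (∀ x ∈ P, f' x = f x) → Chain F p P f' g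

variable {F : FusionSystem S} {p : ℕ} {P Q R U K L : Subgroup Ω} {f f' : Ω → Ω} {g g' : Ω}

theorem Chain.id_chain (hP : P ≤ S) : Chain F p P id 1 :=
  (Chain.conj hP (one_mem S)).congr fun x _ => by simp

theorem Chain.isMap (h : Chain F p P f g) : IsMap F P f := by
  induction h with
  | conj hP hs => exact isMap_conj hP hs
  | aut hR _ hPR => exact ((mem_autGroup_iff hR).1 (SetLike.coe_mem _)).mono hPR
  | comp _ _ h ih ih' => exact ih.comp ih' h
  | congr _ he ih => exact ih.congr he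

theorem Chain.mem_S (h : Chain F p P f g) : g ∈ S := by
  induction h with
  | conj _ hs => exact hs
  | aut _ _ _ => exact one_mem S
  | comp _ _ _ ih ih' => exact mul_mem ih' ih
  | congr _ _ ih => exact ih

theorem Chain.mono (h : Chain F p P f g) : ∀ {Q : Subgroup Ω}, Q ≤ P → Chain F p Q f g := by
  induction h with
  | conj hP hs => exact fun hQ => Chain.conj (hQ.trans hP) hs
  | aut hR hα hPR => exact fun hQ => Chain.aut hR hα (hQ.trans hPR)
  | comp h1 h2 h ih ih' => exact fun hQ => (ih hQ).comp h2 fun x hx => h x (hQ hx)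
  | congr _ he ih => exact fun hQ => (ih hQ).congr fun x hx => he x (hQ hx)

theorem Chain.mod (hK : Absorbs F p K) (h : Chain F p P f g) :
    ∀ x ∈ P, f x * (g * x * g⁻¹)⁻¹ ∈ K := by
  induction h with
  | conj _ _ => intro x _; simp
  | @aut P R hR α hα hPR =>
      intro x hx
      have h1 := conj_mem_of_normalizes (hK.normal (hR (hPR hx))) (hK.mem R hR α hα x (hPR hx))
      simpa [mul_assoc] using h1
  | @comp P Q f f' g g' h1 h2 h ih ih' =>
      intro x hx
      have h3 := mul_mem (ih' _ (h x hx)) (conj_mem_of_normalizes (hK.normal h2.mem_S) (ih x hx))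
      simpa [mul_assoc] using h3
  | congr _ he ih =>
      intro x hx
      rw [he x hx]
      exact ih x hx

theorem Chain.inv (h : Chain F p P f g) :
    ∃ f', Chain F p (img P f) f' g⁻¹ ∧ ∀ x ∈ P, f' (f x) = x := by
  induction h with
  | @conj P s hP hs =>
      refine ⟨fun x => s⁻¹ * x * s⁻¹⁻¹, Chain.conj ?_ (inv_mem hs), fun x _ => by simp [mul_assoc]⟩
      exact (isMap_conj (F := F) hP hs).img_le
  | @aut P R hR α hα hPR =>
      refine ⟨autFun ((α⁻¹ : F.autGroup R) : MulAut R), ?_, fun x hx => ?_⟩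
      · rw [inv_one]
        refine Chain.aut hR (by rwa [orderOf_inv]) ?_
        exact (IsMap.img_le_of_forall (((mem_autGroup_iff hR).1 α.2).mono hPR)
          fun x hx => autFun_mem _ (hPR hx))
      · rw [InvMemClass.coe_inv, ← autFun_mul _ _ (hPR hx), inv_mul_cancel, autFun_one (hPR hx)]
  | @comp P Q f f' g g' h1 h2 h ih ih' =>
      obtain ⟨k, hk, hkf⟩ := ih
      obtain ⟨k', hk', hkf'⟩ := ih'
      refine ⟨k ∘ k', ?_, fun x hx => by simp only [Function.comp_apply]; rw [hkf' _ (h x hx), hkf x hx]⟩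
      rw [mul_inv_rev]
      have hle : img P (f' ∘ f) ≤ img Q f' := by
        refine (h1.isMap.comp h2.isMap h).img_le_of_forall fun x hx => ?_
        exact h2.isMap.mem_img.2 ⟨f x, h x hx, rfl⟩
      refine (hk'.mono hle).comp hk fun y hy => ?_
      obtain ⟨x, hx, rfl⟩ := (h1.isMap.comp h2.isMap h).mem_img.1 hy
      show k' (f' (f x)) ∈ img P f
      rw [hkf' _ (h x hx)]
      exact h1.isMap.mem_img.2 ⟨x, hx, rfl⟩
  | @congr P f f' g h1 he ih =>
      obtain ⟨k, hk, hkf⟩ := ih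
      refine ⟨k, ?_, fun x hx => by rw [he x hx, hkf x hx]⟩
      rwa [IsMap.img_congr he]

theorem Chain.residual (hR : R ≤ S) {β : F.autGroup R}
    (hβ : β ∈ Cfsg.pResidual p (F.autGroup R)) : Chain F p R (autFun (β : MulAut R)) 1 := by
  unfold Cfsg.pResidual at hβ
  induction hβ using Subgroup.closure_induction with
  | mem a ha => exact Chain.aut hR ha le_rfl
  | one =>
      exact (Chain.id_chain hR).congr fun x hx => by rw [OneMemClass.coe_one, autFun_one hx]; rfl
  | mul a b _ _ ha hb =>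
      have h1 := hb.comp ha fun x hx => autFun_mem _ hx
      rw [one_mul] at h1
      exact h1.congr fun x hx => by rw [Subgroup.coe_mul, autFun_mul _ _ hx]; rfl
  | inv a _ ha =>
      obtain ⟨k, hk, hka⟩ := ha.inv
      rw [inv_one, img_autFun] at hk
      refine hk.congr fun x hx => ?_
      conv_rhs => rw [← autFun_inv_apply (a : MulAut R) hx]
      rw [hka _ (autFun_mem _ hx)]
      rfl

/-- A central step below an absorbing subgroup. -/
structure CStep (F : FusionSystem S) (p : ℕ) (K L : Subgroup Ω) : Prop where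
  absorbs : Absorbs F p K
  le : L ≤ K
  normal : S ≤ Subgroup.normalizer (L : Set Ω)
  comm : ∀ s ∈ S, ∀ k ∈ K, s * k * s⁻¹ * k⁻¹ ∈ L

/-- The elements of `S` centralizing `P` modulo `L`. -/
def centMod (hKL : CStep F p K L) (P : Subgroup Ω) : Subgroup Ω where
  carrier := {g | g ∈ S ∧ ∀ x ∈ P, g * x * g⁻¹ * x⁻¹ ∈ L}
  one_mem' := ⟨one_mem S, fun x _ => by simp⟩
  mul_mem' := fun {a b} ha hb => ⟨mul_mem ha.1 hb.1, fun x hx => by
    have h := mul_mem (conj_mem_of_normalizes (hKL.normal ha.1) (hb.2 x hx)) (ha.2 x hx)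
    simpa [mul_assoc] using h⟩
  inv_mem' := fun {a} ha => ⟨inv_mem ha.1, fun x hx => by
    have h := conj_mem_of_normalizes (hKL.normal (inv_mem ha.1)) (inv_mem (ha.2 x hx))
    simpa [mul_assoc] using h⟩

theorem mem_centMod {hKL : CStep F p K L} :
    g ∈ centMod hKL P ↔ g ∈ S ∧ ∀ x ∈ P, g * x * g⁻¹ * x⁻¹ ∈ L := Iff.rfl

theorem le_centMod (hKL : CStep F p K L) (hP : P ≤ S) : K ≤ centMod hKL P := fun k hk =>
  ⟨hKL.absorbs.le hk, fun x hx => by
    have h := inv_mem (hKL.comm x (hP hx) k hk)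
    simpa [mul_assoc] using h⟩

theorem centMod_anti (hKL : CStep F p K L) (h : Q ≤ P) : centMod hKL P ≤ centMod hKL Q :=
  fun _ hg => ⟨hg.1, fun x hx => hg.2 x (h hx)⟩

theorem conj_mem_centMod (hKL : CStep F p K L) {n : Ω} (hn : n ∈ normalizerIn S P)
    (hg : g ∈ centMod hKL P) : n * g * n⁻¹ ∈ centMod hKL P := by
  refine ⟨mul_mem (mul_mem hn.1 hg.1) (inv_mem hn.1), fun x hx => ?_⟩
  have hx' : n⁻¹ * x * n ∈ P := by
    simpa using (Subgroup.mem_normalizer_iff.1 (inv_mem hn.2) x).1 hx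
  have h := conj_mem_of_normalizes (hKL.normal hn.1) (hg.2 _ hx')
  simpa [mul_assoc] using h

/-- The part of `N_S(P)` acting on `P` inside `U`. -/
def preimAut (hP : P ≤ S) (U : Subgroup (F.autGroup P)) : Subgroup Ω :=
  (U.comap (toAut F P hP)).map (normalizerIn S P).subtype

theorem mem_preimAut {hP : P ≤ S} {U : Subgroup (F.autGroup P)} {n : Ω} :
    n ∈ preimAut hP U ↔ ∃ hn : n ∈ normalizerIn S P, toAut F P hP ⟨n, hn⟩ ∈ U := by
  constructor
  · rintro ⟨⟨m, hm⟩, h, rfl⟩
    exact ⟨hm, h⟩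
  · rintro ⟨hn, h⟩
    exact ⟨⟨n, hn⟩, h, rfl⟩

theorem preimAut_le {hP : P ≤ S} {U : Subgroup (F.autGroup P)} :
    preimAut hP U ≤ normalizerIn S P := fun _ hn => (mem_preimAut.1 hn).1

/-- If `ψ` extends `a` then it intertwines the actions on `P`. -/
theorem toAut_map (hP : P ≤ S) {W : Subgroup Ω} {ψ : Ω → Ω} (hψ : IsMap F W ψ)
    (hPW : P ≤ W) (hW : W ≤ normalizerIn S P) {a : F.autGroup P}
    (ha : ∀ x ∈ P, ψ x = autFun (a : MulAut P) x) {n : Ω} (hn : n ∈ W) :
    ∃ h : ψ n ∈ normalizerIn S P,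
      toAut F P hP ⟨ψ n, h⟩ = a * toAut F P hP ⟨n, hW hn⟩ * a⁻¹ := by
  have key : ∀ x ∈ P, ψ n * autFun (a : MulAut P) x * (ψ n)⁻¹ =
      autFun (a : MulAut P) (n * x * n⁻¹) := by
    intro x hx
    have hnx := (Subgroup.mem_normalizer_iff.1 (hW hn).2 x).1 hx
    rw [← ha x hx, ← hψ.map_conj hn (hPW hx), ha _ hnx]
  have hnN : ψ n ∈ Subgroup.normalizer (P : Set Ω) := by
    have hr : img P ψ = P := by
      rw [IsMap.img_congr ha, img_autFun]
    have := map_mem_normalizerIn hψ hPW hn (hW hn).2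
    rw [hr] at this
    exact this.2
  refine ⟨⟨hψ.mem_S hn, hnN⟩, Subtype.ext (autFun_ext fun y hy => ?_)⟩
  rw [autFun_toAut hP _ hy, Subgroup.coe_mul, Subgroup.coe_mul, autFun_mul _ _ hy,
    autFun_mul _ _ (autFun_mem _ hy)]
  have hz := autFun_mem ((a⁻¹ : F.autGroup P) : MulAut P) hy
  rw [autFun_toAut hP _ hz, ← key _ hz, InvMemClass.coe_inv, autFun_inv_apply _ hy]

variable [Finite S] [Fact p.Prime]

/-- Every map of a saturated system is a chain. -/
theorem exists_chain (hS : IsPGroup p S) (hF : F.IsSaturated p) (hf : IsMap F P f) :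
    ∃ g, Chain F p P f g := by
  let E : FusionSystem S := mkSystem F S (fun P f => ∃ g, Chain F p P f g)
    (fun _ _ ⟨_, h⟩ => ⟨h.isMap, h.isMap.le, fun _ hx => h.isMap.mem_S hx⟩)
    (fun P f f' ⟨g, h⟩ he => ⟨g, h.congr he⟩)
    (fun P t hP ht => ⟨t, Chain.conj hP ht⟩)
    (fun P Q f f' ⟨g, h⟩ ⟨g', h'⟩ hm => ⟨g' * g, h.comp h' hm⟩)
    (fun P f f' ⟨g, h⟩ hf' he => by
      obtain ⟨k, hk, hkf⟩ := h.inv
      refine ⟨g⁻¹, hk.congr fun y hy => ?_⟩
      obtain ⟨x, hx, rfl⟩ := h.isMap.mem_img.1 hy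
      rw [he x hx, hkf x hx])
  refine (isMap_mkSystem_iff _).1 (isMap_of_autGroup_le (E := E) hS hF (fun R hR => ?_) hf)
  have hRn : F.IsFullyNormalized R := by
    rcases hR with rfl | hR
    · exact isFullyNormalized_self
    · exact hR.2.1
  intro α hα
  obtain ⟨n, hn, β, hβ, he⟩ := exists_conj_mul_residual
    (IsSaturated.automized_receptive hS hF hRn).1 ⟨α, hα⟩
  refine (mem_autGroup_iff hRn.1).2 ((isMap_mkSystem_iff _).2 ⟨n * 1, ?_⟩)
  exact ((Chain.residual hRn.1 hβ).comp (Chain.conj hRn.1 hn.1)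
    fun x hx => autFun_mem _ hx).congr fun x hx => he x hx


/-- An extension of an automorphism of order prime to `p` can be chosen of order prime to `p`. -/
theorem exists_coprime_ext {W : Subgroup Ω} {ψ : Ω → Ω} (hψ : IsMap F W ψ) (himg : img W ψ = W)
    (hPW : P ≤ W) {a : F.autGroup P} (hco : Nat.Coprime (orderOf a) p)
    (ha : ∀ x ∈ P, ψ x = autFun (a : MulAut P) x) :
    ∃ γ : F.autGroup W, Nat.Coprime (orderOf γ) p ∧
      ∀ x ∈ P, autFun (γ : MulAut W) x = autFun (a : MulAut P) x := by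
  haveI := finite_of_le hψ.le
  haveI := finite_mulAut (P := W)
  set γ₀ : F.autGroup W := ⟨autOf hψ himg, autOf_mem hψ himg⟩
  have hres : ∀ (j : ℕ) (x : Ω), x ∈ P →
      autFun ((γ₀ ^ j : F.autGroup W) : MulAut W) x = autFun ((a ^ j : F.autGroup P) : MulAut P) x := by
    intro j
    induction j with
    | zero => intro x hx; simp [autFun_one hx, autFun_one (hPW hx)]
    | succ j ih =>
        intro x hx
        rw [pow_succ, pow_succ, Subgroup.coe_mul, Subgroup.coe_mul, autFun_mul _ _ (hPW hx),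
          autFun_mul _ _ hx, show autFun ((γ₀ : MulAut W)) x = ψ x from autFun_autOf hψ himg (hPW hx),
          ha x hx, ih _ (autFun_mem _ hx)]
  have hpos : orderOf γ₀ ≠ 0 := (orderOf_pos γ₀).ne'
  set k := (orderOf γ₀).factorization p
  obtain ⟨m, hm⟩ := exists_pow_eq_self_of_coprime (x := a) (n := p ^ k)
    (Nat.Coprime.pow_left k hco.symm)
  refine ⟨(γ₀ ^ p ^ k) ^ m, Nat.Coprime.coprime_dvd_left (orderOf_pow_dvd m) ?_, fun x hx => ?_⟩
  · rw [orderOf_pow_of_dvd (pow_ne_zero _ (Fact.out : p.Prime).ne_zero) (Nat.ordProj_dvd _ _)]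
    exact (Nat.coprime_ordCompl (Fact.out : p.Prime) hpos).symm
  · rw [← pow_mul, hres _ x hx, pow_mul, hm]

variable (hKL : CStep F p K L)
include hKL

/-- An element of `N_S(P)` acting as an element of `O^p(Aut_F(P))` centralizes `P` mod `L`. -/
theorem mem_centMod_of_residual (hS : IsPGroup p S) (hF : F.IsSaturated p)
    (hP : F.IsFullyNormalized P) {n : Ω} (hn : n ∈ normalizerIn S P)
    (h : toAut F P hP.1 ⟨n, hn⟩ ∈ Cfsg.pResidual p (F.autGroup P)) : n ∈ centMod hKL P := by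
  obtain ⟨hauto, hrec⟩ := IsSaturated.automized_receptive hS hF hP
  obtain ⟨-, R, hR⟩ := id hauto
  haveI := finite_of_le hP.1
  haveI := finite_mulAut (P := P)
  have hRr : (R : Subgroup (F.autGroup P)) = (toAut F P hP.1).range :=
    hR.trans (range_toAut hP.1).symm
  let KT := ((centMod hKL P).subgroupOf (normalizerIn S P)).map (toAut F P hP.1)
  have habs : Absorbs (groupFusionSystem (R : Subgroup (F.autGroup P))) p KT := by
    refine ⟨fun a ha => ?_, fun t ht => ?_, ?_⟩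
    · obtain ⟨m, -, rfl⟩ := ha
      rw [hRr]
      exact ⟨m, rfl⟩
    · rw [hRr] at ht
      obtain ⟨m, rfl⟩ := ht
      have key : ∀ (l : normalizerIn S P), ∀ a ∈ KT,
          toAut F P hP.1 l * a * (toAut F P hP.1 l)⁻¹ ∈ KT := by
        rintro l a ⟨z, hz, rfl⟩
        exact ⟨l * z * l⁻¹, conj_mem_centMod hKL l.2 hz, by simp⟩
      rw [Subgroup.mem_normalizer_iff]
      refine fun a => ⟨key m a, fun ha => ?_⟩
      have := key m⁻¹ _ ha
      simpa [mul_assoc] using this
    · intro U hU α hα u hu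
      obtain ⟨a₀, -, ha₀⟩ := mem_autInducedBy_iff.1 ((autGroup_group hU).le α.2)
      set k := (orderOf a₀).factorization p
      obtain ⟨m, hm⟩ := exists_pow_eq_self_of_coprime (x := α) (n := p ^ k)
        (Nat.Coprime.pow_left k hα.symm)
      set β := (a₀ ^ p ^ k) ^ m with hβdef
      have hβco : Nat.Coprime (orderOf β) p := by
        refine Nat.Coprime.coprime_dvd_left (orderOf_pow_dvd m) ?_
        rw [orderOf_pow_of_dvd (pow_ne_zero _ (Fact.out : p.Prime).ne_zero) (Nat.ordProj_dvd _ _)]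
        exact (Nat.coprime_ordCompl (Fact.out : p.Prime) (orderOf_pos a₀).ne').symm
      have hβ : ∀ v ∈ U, autFun (α : MulAut U) v = β * v * β⁻¹ := by
        intro v hv
        conv_lhs => rw [← hm, SubmonoidClass.coe_pow, SubmonoidClass.coe_pow, ← pow_mul]
        rw [hβdef, ← pow_mul]
        generalize p ^ k * m = j
        induction j generalizing v with
        | zero => simp [autFun_one hv]
        | succ j ih =>
            rw [pow_succ, autFun_mul _ _ hv, ih _ (autFun_mem _ hv), ha₀ v hv, pow_succ a₀ j]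
            simp only [mul_inv_rev, mul_assoc]
      have hβU : ∀ v ∈ U, β * v * β⁻¹ ∈ U := fun v hv => hβ v hv ▸ autFun_mem _ hv
      set W := preimAut hP.1 U ⊔ P with hW
      have hWN : W ≤ normalizerIn S P := sup_le preimAut_le (le_normalizerIn hP.1)
      have hβm : IsMap F P (autFun (β : MulAut P)) := (mem_autGroup_iff hP.1).1 β.2
      have hext : W ≤ extSub S P (autFun (β : MulAut P)) := by
        refine sup_le (fun l hl => ?_) (le_extSub hβm)
        obtain ⟨hlN, hlU⟩ := mem_preimAut.1 hl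
        refine ⟨hlN, ?_⟩
        obtain ⟨l', hl'⟩ := hRr.le (hU (hβU _ hlU))
        refine ⟨(l' : Ω), l'.2.1, fun x hx => ?_⟩
        have hb := autFun_mem (β : MulAut P) hx
        rw [← autFun_toAut (F := F) hP.1 l' hb, hl', Subgroup.coe_mul, Subgroup.coe_mul,
          autFun_mul _ _ hb, autFun_mul _ _ (autFun_mem _ hb), InvMemClass.coe_inv,
          ← autFun_mul _ _ hx, inv_mul_cancel, autFun_one hx, autFun_toAut hP.1 _ hx]
      obtain ⟨ψ, hψ₀, hψe⟩ := (isReceptive_iff.1 hrec).2 P _ hβm (img_autFun _)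
      have hψ := hψ₀.mono hext
      have himg : img W ψ = W := by
        refine eq_of_le_of_card_le hψ.le (hψ.img_le_of_forall fun x hx => ?_) hψ.card_img.ge
        refine hψ.map_mem_of_sup (fun y hy => ?_) (fun y hy => ?_) hx
        · obtain ⟨hyN, hyU⟩ := mem_preimAut.1 hy
          obtain ⟨h1, h2⟩ := toAut_map hP.1 hψ le_sup_right hWN hψe (Subgroup.mem_sup_left hy)
          exact Subgroup.mem_sup_left (mem_preimAut.2 ⟨h1, h2 ▸ hβU _ hyU⟩)
        · exact Subgroup.mem_sup_right (hψe y hy ▸ autFun_mem _ hy)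
      obtain ⟨γ, hγ, hγe⟩ := exists_coprime_ext hψ himg le_sup_right hβco hψe
      obtain ⟨l, hl⟩ := hRr.le (hU hu)
      have hlW : (l : Ω) ∈ W := Subgroup.mem_sup_left (mem_preimAut.2 ⟨l.2, hl.symm ▸ hu⟩)
      have hγm := (mem_autGroup_iff hψ.le).1 γ.2
      obtain ⟨h1, h2⟩ := toAut_map hP.1 hγm le_sup_right hWN hγe hlW
      have hk := le_centMod hKL hP.1 (hKL.absorbs.mem W hψ.le γ hγ l hlW)
      refine ⟨(l⁻¹ : normalizerIn S P) * ⟨_, h1⟩, hk, ?_⟩
      rw [map_mul, map_inv, h2, hl, hβ u hu]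
  have h1 := (hyperfocal_group R).ge
    (show toAut F P hP.1 ⟨n, hn⟩ ∈ (R : Subgroup (F.autGroup P)) ⊓ Cfsg.pResidual p _ from
      ⟨hRr ▸ ⟨_, rfl⟩, h⟩)
  obtain ⟨m, hm, hmn⟩ := (hyperfocal_le habs) h1
  have h2 : (m : Ω)⁻¹ * n ∈ centMod hKL P := by
    refine ⟨mul_mem (inv_mem m.2.1) hn.1, fun x hx => ?_⟩
    have h3 : (m : Ω) * x * (m : Ω)⁻¹ = n * x * n⁻¹ := by
      rw [← autFun_toAut (F := F) hP.1 m hx, hmn, autFun_toAut hP.1 _ hx]
    have h4 : (m : Ω)⁻¹ * n * x * ((m : Ω)⁻¹ * n)⁻¹ * x⁻¹ = 1 := by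
      calc (m : Ω)⁻¹ * n * x * ((m : Ω)⁻¹ * n)⁻¹ * x⁻¹
          = (m : Ω)⁻¹ * (n * x * n⁻¹) * (m : Ω) * x⁻¹ := by group
        _ = 1 := by rw [← h3]; group
    rw [h4]
    exact one_mem L
  simpa using mul_mem (show (m : Ω) ∈ centMod hKL P from hm) h2

omit [Finite S] [Fact p.Prime] in
/-- The value `g` fits the automorphism `a` of `P`. -/
def NewVal (hP : P ≤ S) (a : F.autGroup P) (g : Ω) : Prop :=
  ∃ (n : normalizerIn S P) (β : F.autGroup P), β ∈ Cfsg.pResidual p (F.autGroup P) ∧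
    (n : Ω)⁻¹ * g ∈ centMod hKL P ∧ a = toAut F P hP n * β

omit [Finite S] [Fact p.Prime] in
theorem NewVal.mul {hP : P ≤ S} {a a' : F.autGroup P} (h : NewVal hKL hP a g)
    (h' : NewVal hKL hP a' g') : NewVal hKL hP (a * a') (g * g') := by
  obtain ⟨n, β, hβ, hn, rfl⟩ := h
  obtain ⟨m, β', hβ', hm, rfl⟩ := h'
  refine ⟨n * m, (toAut F P hP m)⁻¹ * β * toAut F P hP m * β', mul_mem ?_ hβ', ?_, ?_⟩
  · simpa using (pResidual_normal (p := p)).conj_mem _ hβ (toAut F P hP m)⁻¹
  · have h1 := mul_mem (conj_mem_centMod hKL (inv_mem m.2) hn) hm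
    simpa [mul_assoc] using h1
  · rw [map_mul]
    group

omit [Finite S] [Fact p.Prime] in
theorem NewVal.of_residual {hP : P ≤ S} {a : F.autGroup P}
    (ha : a ∈ Cfsg.pResidual p (F.autGroup P)) : NewVal hKL hP a 1 :=
  ⟨1, a, ha, by simp, by simp⟩

omit [Finite S] [Fact p.Prime] in
theorem NewVal.congr_val {hP : P ≤ S} {a : F.autGroup P} (h : NewVal hKL hP a g)
    (hg : g⁻¹ * g' ∈ centMod hKL P) : NewVal hKL hP a g' := by
  obtain ⟨n, β, hβ, hn, rfl⟩ := h
  exact ⟨n, β, hβ, by simpa [mul_assoc] using mul_mem hn hg, rfl⟩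

theorem NewVal.mem_centMod (hS : IsPGroup p S) (hF : F.IsSaturated p)
    (hP : F.IsFullyNormalized P) (h : NewVal hKL hP.1 1 g) : g ∈ centMod hKL P := by
  obtain ⟨n, β, hβ, hn, he⟩ := h
  have h1 : toAut F P hP.1 n ∈ Cfsg.pResidual p (F.autGroup P) := by
    rw [show toAut F P hP.1 n = β⁻¹ from eq_inv_of_mul_eq_one_left he.symm]
    exact inv_mem hβ
  simpa using mul_mem (mem_centMod_of_residual hKL hS hF hP n.2 h1) hn

omit [Finite S] [Fact p.Prime] in
theorem NewVal.inv {hP : P ≤ S} {a : F.autGroup P} (h : NewVal hKL hP a g) :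
    NewVal hKL hP a⁻¹ g⁻¹ := by
  obtain ⟨n, β, hβ, hn, rfl⟩ := h
  refine ⟨n⁻¹, toAut F P hP n * β⁻¹ * (toAut F P hP n)⁻¹,
    (pResidual_normal (p := p)).conj_mem _ (inv_mem hβ) _, ?_, ?_⟩
  · have h5 := conj_mem_centMod hKL n.2 (inv_mem hn)
    simpa [mul_assoc] using h5
  · rw [mul_inv_rev, map_inv]
    group

/-- Every map of `N_F(P)` defined on `U ≥ P` has a chain with the expected value. -/
theorem exists_chain_newVal (hS : IsPGroup p S) (hF : F.IsSaturated p)
    (hP : F.IsFullyNormalized P) {U : Subgroup Ω} {h : Ω → Ω} (hh : IsMap F U h) (hPU : P ≤ U)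
    (hUN : U ≤ normalizerIn S P) {a : F.autGroup P}
    (ha : ∀ x ∈ P, h x = autFun (a : MulAut P) x) :
    ∃ g, Chain F p U h g ∧ NewVal hKL hP.1 a g := by
  set N := normalizerIn S P with hN
  haveI : Finite N := finite_of_le (S := S) inf_le_left
  have hNp : IsPGroup p N := hS.to_le inf_le_left
  set E := nSystem F N P le_rfl hP.1 with hE
  have hEN : F.IsNormalizerSystem P E := fun R => Set.ext fun φ => by
    rw [mem_normalizerHom_iff]
    exact Iff.rfl
  have hsat : E.IsSaturated p := isSaturated_normalizerSystem hS hF hP hEN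
  have hnor : E.IsNormal P := isNormal_normalizerSystem hP.1 hEN
  have hPN : P ≤ N := le_normalizerIn hP.1
  let M : Subgroup Ω → (Ω → Ω) → Prop := fun Q f => Q ≤ N ∧ ∃ (k : Ω → Ω) (g : Ω)
    (c : F.autGroup P), IsMap E (Q ⊔ P) k ∧ Chain F p (Q ⊔ P) k g ∧ (∀ x ∈ Q, k x = f x) ∧
      (∀ x ∈ P, k x = autFun (c : MulAut P) x) ∧ NewVal hKL hP.1 c g
  let E' : FusionSystem N := mkSystem E N M
    (fun Q f ⟨hQ, k, g, c, h1, h2, h3, h4, h5⟩ => by
      have h6 : IsMap E Q f := (h1.mono le_sup_left).congr fun x hx => (h3 x hx).symm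
      exact ⟨h6, hQ, fun x hx => h6.mem_S hx⟩)
    (fun Q f f' ⟨hQ, k, g, c, h1, h2, h3, h4, h5⟩ he =>
      ⟨hQ, k, g, c, h1, h2, fun x hx => by rw [h3 x hx, he x hx], h4, h5⟩)
    (fun Q t hQ ht => ⟨hQ, fun x => t * x * t⁻¹, t, toAut F P hP.1 ⟨t, ht⟩,
      isMap_conj (sup_le hQ hPN) ht, Chain.conj (sup_le hQ hPN |>.trans inf_le_left) ht.1,
      fun x _ => rfl, fun x hx => (autFun_toAut (F := F) hP.1 ⟨t, ht⟩ hx).symm,
      ⟨t, ht⟩, 1, one_mem _, by simp, by simp⟩)
    (fun Q Q' f f' ⟨hQ, k, g, c, h1, h2, h3, h4, h5⟩ ⟨hQ', k', g', c', k1, k2, k3, k4, k5⟩ hm => by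
      have hmap : ∀ x ∈ Q ⊔ P, k x ∈ Q' ⊔ P := fun x hx => h1.map_mem_of_sup
        (fun y hy => Subgroup.mem_sup_left (h3 y hy ▸ hm y hy))
        (fun y hy => Subgroup.mem_sup_right (h4 y hy ▸ autFun_mem _ hy)) hx
      refine ⟨hQ, k' ∘ k, g' * g, c' * c, h1.comp k1 hmap, h2.comp k2 hmap, fun x hx => ?_,
        fun x hx => ?_, k5.mul hKL h5⟩
      · show k' (k x) = f' (f x)
        rw [h3 x hx, k3 _ (hm x hx)]
      · show k' (k x) = _
        rw [h4 x hx, k4 _ (autFun_mem _ hx), Subgroup.coe_mul, autFun_mul _ _ hx])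
    (fun Q f f' ⟨hQ, k, g, c, h1, h2, h3, h4, h5⟩ hf' he => by
      obtain ⟨k', hk', hkk⟩ := h2.inv
      have hle : img Q f ⊔ P ≤ img (Q ⊔ P) k := by
        refine sup_le (fun y hy => ?_) fun y hy => ?_
        · have hf : IsMap E Q f := (h1.mono le_sup_left).congr fun x hx => (h3 x hx).symm
          obtain ⟨x, hx, rfl⟩ := hf.mem_img.1 hy
          exact h1.mem_img.2 ⟨x, Subgroup.mem_sup_left hx, h3 x hx⟩
        · have hy' := autFun_mem (c : MulAut P)⁻¹ hy
          exact h1.mem_img.2 ⟨_, Subgroup.mem_sup_right hy',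
            by rw [h4 _ hy', autFun_inv_apply _ hy]⟩
      obtain ⟨k'', hk'', hkk'', -⟩ := h1.exists_inv
      have hagree : ∀ y ∈ img Q f ⊔ P, k'' y = k' y := fun y hy => by
        obtain ⟨x, hx, rfl⟩ := h1.mem_img.1 (hle hy)
        rw [hkk'' x hx, hkk x hx]
      refine ⟨hf'.le, k', g⁻¹, c⁻¹, (hk''.mono hle).congr fun y hy => (hagree y hy).symm,
        hk'.mono hle, fun y hy => ?_, fun y hy => ?_, h5.inv hKL⟩
      · have hf : IsMap E Q f := (h1.mono le_sup_left).congr fun x hx => (h3 x hx).symm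
        obtain ⟨x, hx, rfl⟩ := hf.mem_img.1 hy
        rw [he x hx, ← h3 x hx, hkk x (Subgroup.mem_sup_left hx)]
      · have hy' := autFun_mem (c : MulAut P)⁻¹ hy
        conv_lhs => rw [← autFun_inv_apply (c : MulAut P) hy]
        rw [← h4 _ hy', hkk _ (Subgroup.mem_sup_right hy')]
        rfl)
  have hgen : ∀ R, (R = N ∨ E.IsEssential p R) → E.autGroup R ≤ E'.autGroup R := by
    intro R hR
    have hRn : E.IsFullyNormalized R := by
      rcases hR with rfl | hR
      · exact isFullyNormalized_self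
      · exact hR.2.1
    have hPR : P ≤ R := by
      rcases hR with rfl | hR
      · exact hPN
      · exact le_of_isNormal hNp hnor hR.1 (isRadical_of_isEssential hNp hR)
    have hRS : R ≤ S := hRn.1.trans inf_le_left
    intro α hα
    obtain ⟨n, hn, β, hβ, he⟩ := exists_conj_mul_residual
      (IsSaturated.automized_receptive hNp hsat hRn).1 ⟨α, hα⟩
    -- the inclusion into `Aut_F(R)` and the restriction to `P`
    let inc : E.autGroup R →* F.autGroup R := (E.autGroup R).subtype.codRestrict _ fun b =>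
      (mem_autGroup_iff hRS).2 (isMap_nSystem_iff.1 ((mem_autGroup_iff hRn.1).1 b.2)).isMap
    have hstab : ∀ b : E.autGroup R, ∀ x ∈ P, autFun (b : MulAut R) x ∈ P := fun b x hx =>
      (autInvariant_of_stronglyClosed (stronglyClosed_of_isNormal hnor) hRn.1 b.2
        ⟨hPR hx, hx⟩).2
    have hrm : ∀ b : E.autGroup R, IsMap F P (autFun (b : MulAut R)) ∧
        img P (autFun (b : MulAut R)) = P := fun b => by
      have hm := ((mem_autGroup_iff hRS).1 (inc b).2).mono hPR
      exact ⟨hm, eq_of_le_of_card_le hP.1 (hm.img_le_of_forall (hstab b)) hm.card_img.ge⟩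
    let res : E.autGroup R →* F.autGroup P := MonoidHom.mk'
      (fun b => ⟨autOf (hrm b).1 (hrm b).2, autOf_mem _ _⟩) fun b b' => by
        refine Subtype.ext (autFun_ext fun x hx => ?_)
        show autFun (autOf (hrm (b * b')).1 (hrm (b * b')).2) x =
          autFun (autOf (hrm b).1 (hrm b).2 * autOf (hrm b').1 (hrm b').2) x
        rw [autFun_mul _ _ hx, autFun_autOf _ _ hx, autFun_autOf _ _ hx,
          autFun_autOf _ _ (hstab b' x hx)]
        exact autFun_mul _ _ (hPR hx)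
    have hinc : inc β ∈ Cfsg.pResidual p (F.autGroup R) := by
      have hle : Cfsg.pResidual p (E.autGroup R) ≤ (Cfsg.pResidual p (F.autGroup R)).comap inc :=
        (Subgroup.closure_le _).2 fun b hb =>
          mem_pResidual (Nat.Coprime.coprime_dvd_left (orderOf_map_dvd inc b) hb)
      exact hle hβ
    have hres : res β ∈ Cfsg.pResidual p (F.autGroup P) := by
      have hle : Cfsg.pResidual p (E.autGroup R) ≤ (Cfsg.pResidual p (F.autGroup P)).comap res :=
        (Subgroup.closure_le _).2 fun b hb =>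
          mem_pResidual (Nat.Coprime.coprime_dvd_left (orderOf_map_dvd res b) hb)
      exact hle hβ
    refine (mem_autGroup_iff hRn.1).2 ((isMap_mkSystem_iff _).2 ⟨hRn.1,
      fun x => n * autFun (β : MulAut R) x * n⁻¹, n * 1,
      toAut F P hP.1 ⟨n, hn.1⟩ * res β, ?_, ?_, fun x hx => (he x hx).symm, fun x hx => ?_, ?_⟩)
    · rw [sup_eq_left.2 hPR]
      exact ((mem_autGroup_iff hRn.1).1 hα).congr fun x hx => (he x hx).symm
    · rw [sup_eq_left.2 hPR]
      exact ((Chain.residual hRS hinc).comp (Chain.conj hRS hn.1.1)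
        fun x hx => autFun_mem _ hx).congr fun x hx => rfl
    · rw [Subgroup.coe_mul, autFun_mul _ _ hx,
        autFun_toAut (F := F) hP.1 ⟨n, hn.1⟩ (autFun_mem _ hx)]
      exact congrArg (fun z => n * z * n⁻¹) (autFun_autOf (hrm β).1 (hrm β).2 hx).symm
    · rw [mul_one]
      exact ⟨⟨n, hn.1⟩, res β, hres, by simp, rfl⟩
  have himgP : img P h = P := by rw [IsMap.img_congr ha, img_autFun]
  have hhE : IsMap E U h := isMap_nSystem_iff.2 ⟨hUN, fun x hx => by
      have := map_mem_normalizerIn hh hPU hx (hUN hx).2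
      rwa [himgP] at this, h, by rwa [sup_eq_left.2 hPU], fun _ _ => rfl, himgP⟩
  obtain ⟨-, k, g, c, -, hk, hkU, hkP, hnv⟩ :=
    (isMap_mkSystem_iff _).1 (isMap_of_autGroup_le (E := E') hNp hsat hgen hhE)
  have hca : c = a := Subtype.ext (autFun_ext fun x hx => by
    rw [← hkP x hx, hkU x (hPU hx), ha x hx])
  exact ⟨g, (hk.mono le_sup_left).congr fun x hx => (hkU x hx).symm, hca ▸ hnv⟩

/-- Loops of chains centralize their source modulo `L`. -/
theorem loop_mem_centMod (hS : IsPGroup p S) (hF : F.IsSaturated p) :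
    ∀ (j : ℕ) (P : Subgroup Ω), Nat.card S - Nat.card P = j →
      ∀ (f : Ω → Ω) (g : Ω), Chain F p P f g → (∀ x ∈ P, f x = x) → g ∈ centMod hKL P := by
  intro j
  induction j using Nat.strong_induction_on with
  | _ j ih =>
  suffices hfn : ∀ P, F.IsFullyNormalized P → Nat.card S - Nat.card P = j →
      ∀ (f : Ω → Ω) (g : Ω), Chain F p P f g → (∀ x ∈ P, f x = x) → g ∈ centMod hKL P by
    intro P hj f g hc hid
    obtain ⟨P₀, hPP₀, hP₀⟩ := exists_fullyNormalized (F := F) hc.isMap.le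
    obtain ⟨φ, hφ, hφimg⟩ := isConj_iff.1 hPP₀
    obtain ⟨e, he⟩ := exists_chain hS hF hφ
    obtain ⟨φ', hφ', hφφ⟩ := he.inv
    rw [hφimg] at hφ'
    have hback : ∀ y ∈ P₀, φ' y ∈ P ∧ φ (φ' y) = y := fun y hy => by
      obtain ⟨x, hx, rfl⟩ := hφ.mem_img.1 (hφimg.ge hy)
      rw [hφφ x hx]; exact ⟨hx, rfl⟩
    have hloop : Chain F p P₀ (φ ∘ (f ∘ φ')) (e * (g * e⁻¹)) :=
      (hφ'.comp hc fun y hy => (hback y hy).1).comp he fun y hy => by
        show f (φ' y) ∈ P
        rw [hid _ (hback y hy).1]; exact (hback y hy).1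
    have h0 := hfn P₀ hP₀ (by rw [isConj_card hPP₀, hj]) _ _ hloop fun y hy => by
      show φ (f (φ' y)) = y
      rw [hid _ (hback y hy).1, (hback y hy).2]
    refine ⟨hc.mem_S, fun x hx => ?_⟩
    -- move back along `φ`
    have hy : φ x ∈ P₀ := hφimg.le (hφ.mem_img.2 ⟨x, hx, rfl⟩)
    set k := φ x * (e * x * e⁻¹)⁻¹ with hk
    have hkK : k ∈ K := he.mod hKL.absorbs x hx
    set c := e * (g * e⁻¹) with hcdef
    have h1 : c * k * c⁻¹ * k⁻¹ ∈ L := hKL.comm c h0.1 k hkK
    have h2 := h0.2 _ hy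
    -- `c (e x e⁻¹) c⁻¹ (e x e⁻¹)⁻¹` is in `L`
    have hxe : e * x * e⁻¹ = k⁻¹ * φ x := by rw [hk]; group
    have h3 : c * (e * x * e⁻¹) * c⁻¹ * (e * x * e⁻¹)⁻¹ ∈ L := by
      rw [hxe]
      have h4 : c * (k⁻¹ * φ x) * c⁻¹ * (k⁻¹ * φ x)⁻¹ =
          (c * k * c⁻¹)⁻¹ * ((c * φ x * c⁻¹ * (φ x)⁻¹) * (c * k * c⁻¹ * k⁻¹)⁻¹) *
            (c * k * c⁻¹)⁻¹⁻¹ := by group
      rw [h4]
      exact conj_mem_of_normalizes (hKL.normal (inv_mem
        (mul_mem (mul_mem h0.1 (hKL.absorbs.le hkK)) (inv_mem h0.1)))) (mul_mem h2 (inv_mem h1))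
    have h6 := conj_mem_of_normalizes (hKL.normal (inv_mem he.mem_S)) h3
    rw [hcdef] at h6
    simpa [mul_assoc] using h6
  intro P hP hj f g hc hid
  obtain ⟨hauto, hrec⟩ := IsSaturated.automized_receptive hS hF hP
  -- the transporters
  have htrans : ∀ Q, F.IsConj Q P → ∃ b e, Chain F p (normalizerIn S Q) b e ∧ img Q b = P ∧
      (∀ x ∈ normalizerIn S Q, b x ∈ normalizerIn S P) ∧ (Q = P → (∀ x, b x = x) ∧ e = 1) := by
    intro Q hQ
    by_cases hQP : Q = P
    · subst hQP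
      exact ⟨id, 1, Chain.id_chain inf_le_left, img_id, fun x hx => hx,
        fun _ => ⟨fun x => rfl, rfl⟩⟩
    · obtain ⟨b, hb, hbimg, hbN⟩ := exists_map_normalizer hS hauto hrec hQ
      obtain ⟨e, he⟩ := exists_chain hS hF hb
      exact ⟨b, e, he, hbimg, hbN, fun h => absurd h hQP⟩
  choose! tb te htc htimg htN htP using htrans
  suffices key : ∀ {Q₁ : Subgroup Ω} {f : Ω → Ω} {g : Ω}, Chain F p Q₁ f g →
      ∀ Q, Q ≤ Q₁ → F.IsConj Q P → ∃ a : F.autGroup P,
        (∀ x ∈ Q, autFun (a : MulAut P) (tb Q x) = tb (img Q f) (f x)) ∧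
          NewVal hKL hP.1 a (te (img Q f) * g * (te Q)⁻¹) by
    have hPP : F.IsConj P P := isConj_refl hP.1
    obtain ⟨hb, he⟩ := htP P hPP rfl
    obtain ⟨a, ha, hn⟩ := key hc P le_rfl hPP
    have himg : img P f = P := by rw [IsMap.img_congr (g := id) hid, img_id]
    rw [himg, he, one_mul, inv_one, mul_one] at hn
    have ha1 : a = 1 := by
      refine Subtype.ext (autFun_ext fun x hx => ?_)
      have h1 := ha x hx
      rw [himg, hb, hb, hid x hx] at h1
      rw [h1, OneMemClass.coe_one, autFun_one hx]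
    rw [ha1] at hn
    exact hn.mem_centMod hKL hS hF hP
  -- elementary steps extending beyond the source
  have step : ∀ {U₀ Q : Subgroup Ω} {f : Ω → Ω} {g : Ω}, Chain F p U₀ f g → Q < U₀ →
      U₀ ≤ normalizerIn S Q → F.IsConj Q P → ∃ a : F.autGroup P,
        (∀ x ∈ Q, autFun (a : MulAut P) (tb Q x) = tb (img Q f) (f x)) ∧
          NewVal hKL hP.1 a (te (img Q f) * g * (te Q)⁻¹) := by
    intro U₀ Q f g hf hQU hUN hQ
    set Q' := img Q f with hQ'def
    have hQ' : F.IsConj Q' P :=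
      isConj_trans (isConj_symm (isConj_iff.2 ⟨f, hf.isMap.mono hQU.le, rfl⟩)) hQ
    obtain ⟨bi, hbi, hbib⟩ := ((htc Q hQ).mono hUN).inv
    set U := img U₀ (tb Q) with hUdef
    have htbm := ((htc Q hQ).mono hUN).isMap
    have hfU : ∀ x ∈ U₀, f x ∈ normalizerIn S Q' := fun x hx =>
      map_mem_normalizerIn hf.isMap hQU.le hx (hUN hx).2
    have hmapU : ∀ y ∈ U, bi y ∈ U₀ := fun y hy => by
      obtain ⟨x, hx, rfl⟩ := htbm.mem_img.1 hy
      rw [hbib x hx]; exact hx
    have hch : Chain F p U (tb Q' ∘ (f ∘ bi)) (te Q' * (g * (te Q)⁻¹)) :=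
      (hbi.comp hf hmapU).comp (htc Q' hQ') fun y hy => hfU _ (hmapU y hy)
    have hUP : U ≤ normalizerIn S P := htbm.img_le_of_forall fun x hx => htN Q hQ x (hUN hx)
    have hPimg : img Q (tb Q) = P := htimg Q hQ
    have hPU : P ≤ U := by rw [← hPimg, hUdef]; exact htbm.img_mono hQU.le
    have hΨP : ∀ y ∈ P, (tb Q' ∘ (f ∘ bi)) y ∈ P := by
      intro y hy
      obtain ⟨x, hx, rfl⟩ := (htbm.mono hQU.le).mem_img.1 (hPimg.ge hy)
      show tb Q' (f (bi (tb Q x))) ∈ P
      rw [hbib x (hQU.le hx), ← htimg Q' hQ']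
      exact ((htc Q' hQ').isMap.mono (le_normalizerIn (isConj_le hQ').1)).mem_img.2
        ⟨_, (hf.isMap.mono hQU.le).mem_img.2 ⟨x, hx, rfl⟩, rfl⟩
    have hm := hch.isMap.mono hPU
    have himgP : img P (tb Q' ∘ (f ∘ bi)) = P :=
      eq_of_le_of_card_le hP.1 (hm.img_le_of_forall hΨP) hm.card_img.ge
    set a : F.autGroup P := ⟨autOf hm himgP, autOf_mem hm himgP⟩ with hadef
    have ha : ∀ y ∈ P, (tb Q' ∘ (f ∘ bi)) y = autFun (a : MulAut P) y := fun y hy =>
      (autFun_autOf hm himgP hy).symm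
    obtain ⟨g', hψ, hnv⟩ := exists_chain_newVal hKL hS hF hP hch.isMap hPU hUP ha
    refine ⟨a, fun x hx => ?_, ?_⟩
    · have hxP : tb Q x ∈ P := hPimg.le ((htbm.mono hQU.le).mem_img.2 ⟨x, hx, rfl⟩)
      rw [← ha _ hxP]
      show tb Q' (f (bi (tb Q x))) = _
      rw [hbib x (hQU.le hx)]
    · rw [mul_assoc]
      refine hnv.congr_val hKL (centMod_anti hKL hPU ?_)
      obtain ⟨k, hk, hkΨ⟩ := hψ.inv
      have hlt : Nat.card S - Nat.card U < j := by
        have h1 : Nat.card P < Nat.card U := by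
          rw [hUdef, htbm.card_img, isConj_card hQ]
          exact card_lt_of_lt (hUN.trans inf_le_left) hQU
        have h2 : Nat.card U ≤ Nat.card S := card_le_of_le' le_rfl (hUP.trans inf_le_left)
        omega
      exact ih _ hlt U rfl _ _ (hch.comp hk fun y hy => hch.isMap.mem_img.2 ⟨y, hy, rfl⟩)
        fun y hy => hkΨ y hy
  intro Q₁ f g hch
  induction hch with
  | @conj R s hR hs =>
      intro Q hQ hQP
      by_cases hQS : Q = S
      · subst hQS
        have hPS : P = Q := eq_of_le_of_card_le le_rfl hP.1 (isConj_card hQP).ge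
        have himg : img Q (fun x => s * x * s⁻¹) = Q :=
          eq_of_le_of_card_le le_rfl (isMap_conj (F := F) le_rfl hs).img_le
            (isMap_conj (F := F) le_rfl hs).card_img.ge
        obtain ⟨hb, he⟩ := htP Q hQP hPS.symm
        rw [himg, he]
        subst hPS
        refine ⟨toAut F P hP.1 ⟨s, hs, Subgroup.le_normalizer hs⟩, fun x hx => ?_,
          ⟨s, hs, Subgroup.le_normalizer hs⟩, 1, one_mem _, by simp, by simp⟩
        rw [hb, hb, autFun_toAut _ _ hx]
      · exact step (Chain.conj inf_le_left hs) (lt_normalizerIn hS (hQ.trans hR) hQS) le_rfl hQP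
  | @aut R₀ R hR α hα hR₀R =>
      intro Q hQ hQP
      have hQR : Q ≤ R := hQ.trans hR₀R
      by_cases hQRe : Q = R
      · subst hQRe
        have himg : img Q (autFun (α : MulAut Q)) = Q := img_autFun _
        rw [himg]
        have hb := ((htc Q hQP).mono (le_normalizerIn hR)).isMap
        let e : F.autGroup Q →* F.autGroup (img Q (tb Q)) :=
          ((MulAut.congr (mapEquiv hb)).toMonoidHom.comp (F.autGroup Q).subtype).codRestrict _
            fun b => (congr_mem_autGroup_iff hb (b : MulAut Q)).2 b.2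
        have hco : Nat.Coprime (orderOf (e α)) p :=
          Nat.Coprime.coprime_dvd_left (orderOf_map_dvd e α) hα
        have heq := htimg Q hQP
        have main : ∀ (P' : Subgroup Ω), img Q (tb Q) = P' → ∃ a : F.autGroup P',
            Nat.Coprime (orderOf a) p ∧ ∀ x ∈ Q,
              autFun (a : MulAut P') (tb Q x) = tb Q (autFun (α : MulAut Q) x) := by
          rintro _ rfl
          exact ⟨e α, hco, fun x hx => autFun_congr hb _ hx⟩
        obtain ⟨a, hao, hae⟩ := main P heq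
        refine ⟨a, hae, ?_⟩
        rw [mul_one, mul_inv_cancel]
        exact NewVal.of_residual hKL (mem_pResidual hao)
      · haveI := finite_of_le hR
        haveI : Group.IsNilpotent R := (hS.to_le hR).isNilpotent
        exact step ((Chain.aut hR hα le_rfl).mono (inf_le_left :
          R ⊓ Subgroup.normalizer (Q : Set Ω) ≤ R))
          (lt_inf_normalizer hQR hQRe) (inf_le_inf_right _ hR) hQP
  | @comp R R' f₁ f₂ g₁ g₂ h₁ h₂ hm ih₁ ih₂ =>
      intro Q hQ hQP
      have hf₁ := h₁.isMap.mono hQ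
      have hQ' : F.IsConj (img Q f₁) P :=
        isConj_trans (isConj_symm (isConj_iff.2 ⟨f₁, hf₁, rfl⟩)) hQP
      obtain ⟨a₁, ha₁, hn₁⟩ := ih₁ Q hQ hQP
      obtain ⟨a₂, ha₂, hn₂⟩ := ih₂ (img Q f₁) (hf₁.img_le_of_forall fun x hx => hm x (hQ hx)) hQ'
      rw [← img_img hf₁]
      refine ⟨a₂ * a₁, fun x hx => ?_, ?_⟩
      · have hxP : tb Q x ∈ P := (htimg Q hQP).le
          (((htc Q hQP).isMap.mono (le_normalizerIn hf₁.le)).mem_img.2 ⟨x, hx, rfl⟩)
        rw [Subgroup.coe_mul, autFun_mul _ _ hxP, ha₁ x hx,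
          ha₂ _ (hf₁.mem_img.2 ⟨x, hx, rfl⟩)]
        rfl
      · have h3 := hn₂.mul hKL hn₁
        simpa [mul_assoc] using h3
  | @congr R f₁ f₂ g₁ h₁ he ih =>
      intro Q hQ hQP
      obtain ⟨a, ha, hn⟩ := ih Q hQ hQP
      have himg : img Q f₂ = img Q f₁ := IsMap.img_congr fun x hx => he x (hQ hx)
      rw [himg]
      exact ⟨a, fun x hx => by rw [ha x hx, he x (hQ hx)], hn⟩

end CfsgLib.Fusion
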