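import Cfsg.Agent.Lib.Fusion.System.Theta

/-!
# Values of chains modulo an absorbing subgroup

At a fully centralized subgroup `P` the values of the loops lie in `K C_S(P)`.
-/

set_option autoImplicit false
set_option maxHeartbeats 1000000
set_option linter.style.haveILetI false

open Subgroup
open scoped Classical commutatorElement Pointwise

namespace CfsgLib.Fusion.CentTheta

open Cfsg (FusionSystem autInducedBy groupFusionSystem)
open Cfsg.FusionSystem (normalizerIn centralizerIn)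

universe u

variable {Ω : Type u} [Group Ω] {S : Subgroup Ω}
variable {F : FusionSystem S} {p : ℕ} {P Q R U K : Subgroup Ω} {f f' : Ω → Ω} {g g' : Ω}

/-- `K C_S(P)`. -/
def centK (S K P : Subgroup Ω) : Subgroup Ω := K ⊔ centralizerIn S P

theorem le_centK : K ≤ centK S K P := le_sup_left

theorem centralizerIn_le_centK : centralizerIn S P ≤ centK S K P := le_sup_right

theorem centK_anti (h : Q ≤ P) : centK S K P ≤ centK S K Q :=
  sup_le_sup_left (inf_le_inf_left S (Subgroup.centralizer_le h)) K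

theorem exists_eq_mul_of_mem_centK (hK : Absorbs F p K) (hg : g ∈ centK S K P) :
    ∃ c ∈ centralizerIn S P, ∃ k ∈ K, g = c * k := by
  have h : g ∈ ((centralizerIn S P : Set Ω) * (K : Set Ω)) := by
    rw [← Subgroup.coe_mul_of_left_le_normalizer_right (centralizerIn S P) K
      (inf_le_left.trans hK.normal), sup_comm]
    exact hg
  obtain ⟨c, hc, k, hk, rfl⟩ := Set.mem_mul.1 h
  exact ⟨c, hc, k, hk, rfl⟩

theorem conj_mem_centK (hK : Absorbs F p K) {n : Ω} (hn : n ∈ normalizerIn S P)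
    (hg : g ∈ centK S K P) : n * g * n⁻¹ ∈ centK S K P := by
  obtain ⟨c, hc, k, hk, rfl⟩ := exists_eq_mul_of_mem_centK hK hg
  have hc' : n * c * n⁻¹ ∈ centralizerIn S P := by
    refine ⟨S.mul_mem (S.mul_mem hn.1 hc.1) (S.inv_mem hn.1), mem_centralizer_iff'.2 fun x hx => ?_⟩
    have hx' : n⁻¹ * x * n ∈ P := by
      simpa using (Subgroup.mem_normalizer_iff.1 (inv_mem hn.2) x).1 hx
    have h1 := Subgroup.mem_centralizer_iff.1 hc.2 _ hx'
    calc n * c * n⁻¹ * x * (n * c * n⁻¹)⁻¹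
        = n * (c * (n⁻¹ * x * n) * c⁻¹) * n⁻¹ := by group
      _ = x := by rw [← h1]; group
  rw [show n * (c * k) * n⁻¹ = (n * c * n⁻¹) * (n * k * n⁻¹) by group]
  exact mul_mem (centralizerIn_le_centK hc') (le_centK (conj_mem_of_normalizes (hK.normal hn.1) hk))

variable [Finite S] [Fact p.Prime]
variable (hK : Absorbs F p K)
include hK

/-- An element of `N_S(P)` acting as an element of `O^p(Aut_F(P))` centralizes `P` mod `L`. -/
theorem mem_centK_of_residual (hS : IsPGroup p S) (hF : F.IsSaturated p)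
    (hP : F.IsFullyNormalized P) {n : Ω} (hn : n ∈ normalizerIn S P)
    (h : toAut F P hP.1 ⟨n, hn⟩ ∈ Cfsg.pResidual p (F.autGroup P)) : n ∈ centK S K P := by
  obtain ⟨hauto, hrec⟩ := IsSaturated.automized_receptive hS hF hP
  obtain ⟨-, R, hR⟩ := id hauto
  haveI := finite_of_le hP.1
  haveI := finite_mulAut (P := P)
  have hRr : (R : Subgroup (F.autGroup P)) = (toAut F P hP.1).range :=
    hR.trans (range_toAut hP.1).symm
  let KT := ((centK S K P).subgroupOf (normalizerIn S P)).map (toAut F P hP.1)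
  have habs : Absorbs (groupFusionSystem (R : Subgroup (F.autGroup P))) p KT := by
    refine ⟨fun a ha => ?_, fun t ht => ?_, ?_⟩
    · obtain ⟨m, -, rfl⟩ := ha
      rw [hRr]
      exact ⟨m, rfl⟩
    · rw [hRr] at ht
      obtain ⟨m, rfl⟩ := ht
      have key : ∀ (l : normalizerIn S P), ∀ a ∈ KT,
          toAut F P hP.1 l * a * (toAut F P hP.1 l)⁻¹ ∈ KT := by
        rintro l a ⟨z, hz, rfl⟩
        exact ⟨l * z * l⁻¹, conj_mem_centK hK l.2 hz, by simp⟩
      rw [Subgroup.mem_normalizer_iff]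
      refine fun a => ⟨key m a, fun ha => ?_⟩
      have := key m⁻¹ _ ha
      simpa [mul_assoc] using this
    · intro U hU α hα u hu
      obtain ⟨a₀, -, ha₀⟩ := mem_autInducedBy_iff.1 ((autGroup_group hU).le α.2)
      set k := (orderOf a₀).factorization p
      obtain ⟨m, hm⟩ := exists_pow_eq_self_of_coprime (x := α) (n := p ^ k)
        (Nat.Coprime.pow_left k hα.symm)
      set β := (a₀ ^ p ^ k) ^ m with hβdef
      have hβco : Nat.Coprime (orderOf β) p := by
        refine Nat.Coprime.coprime_dvd_left (orderOf_pow_dvd m) ?_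
        rw [orderOf_pow_of_dvd (pow_ne_zero _ (Fact.out : p.Prime).ne_zero) (Nat.ordProj_dvd _ _)]
        exact (Nat.coprime_ordCompl (Fact.out : p.Prime) (orderOf_pos a₀).ne').symm
      have hβ : ∀ v ∈ U, autFun (α : MulAut U) v = β * v * β⁻¹ := by
        intro v hv
        conv_lhs => rw [← hm, SubmonoidClass.coe_pow, SubmonoidClass.coe_pow, ← pow_mul]
        rw [hβdef, ← pow_mul]
        generalize p ^ k * m = j
        induction j generalizing v with
        | zero => simp [autFun_one hv]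
        | succ j ih =>
            rw [pow_succ, autFun_mul _ _ hv, ih _ (autFun_mem _ hv), ha₀ v hv, pow_succ a₀ j]
            simp only [mul_inv_rev, mul_assoc]
      have hβU : ∀ v ∈ U, β * v * β⁻¹ ∈ U := fun v hv => hβ v hv ▸ autFun_mem _ hv
      set W := preimAut hP.1 U ⊔ P with hW
      have hWN : W ≤ normalizerIn S P := sup_le preimAut_le (le_normalizerIn hP.1)
      have hβm : IsMap F P (autFun (β : MulAut P)) := (mem_autGroup_iff hP.1).1 β.2
      have hext : W ≤ extSub S P (autFun (β : MulAut P)) := by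
        refine sup_le (fun l hl => ?_) (le_extSub hβm)
        obtain ⟨hlN, hlU⟩ := mem_preimAut.1 hl
        refine ⟨hlN, ?_⟩
        obtain ⟨l', hl'⟩ := hRr.le (hU (hβU _ hlU))
        refine ⟨(l' : Ω), l'.2.1, fun x hx => ?_⟩
        have hb := autFun_mem (β : MulAut P) hx
        rw [← autFun_toAut (F := F) hP.1 l' hb, hl', Subgroup.coe_mul, Subgroup.coe_mul,
          autFun_mul _ _ hb, autFun_mul _ _ (autFun_mem _ hb), InvMemClass.coe_inv,
          ← autFun_mul _ _ hx, inv_mul_cancel, autFun_one hx, autFun_toAut hP.1 _ hx]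
      obtain ⟨ψ, hψ₀, hψe⟩ := (isReceptive_iff.1 hrec).2 P _ hβm (img_autFun _)
      have hψ := hψ₀.mono hext
      have himg : img W ψ = W := by
        refine eq_of_le_of_card_le hψ.le (hψ.img_le_of_forall fun x hx => ?_) hψ.card_img.ge
        refine hψ.map_mem_of_sup (fun y hy => ?_) (fun y hy => ?_) hx
        · obtain ⟨hyN, hyU⟩ := mem_preimAut.1 hy
          obtain ⟨h1, h2⟩ := toAut_map hP.1 hψ le_sup_right hWN hψe (Subgroup.mem_sup_left hy)
          exact Subgroup.mem_sup_left (mem_preimAut.2 ⟨h1, h2 ▸ hβU _ hyU⟩)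
        · exact Subgroup.mem_sup_right (hψe y hy ▸ autFun_mem _ hy)
      obtain ⟨γ, hγ, hγe⟩ := exists_coprime_ext hψ himg le_sup_right hβco hψe
      obtain ⟨l, hl⟩ := hRr.le (hU hu)
      have hlW : (l : Ω) ∈ W := Subgroup.mem_sup_left (mem_preimAut.2 ⟨l.2, hl.symm ▸ hu⟩)
      have hγm := (mem_autGroup_iff hψ.le).1 γ.2
      obtain ⟨h1, h2⟩ := toAut_map hP.1 hγm le_sup_right hWN hγe hlW
      have hk := le_centK (S := S) (P := P) (hK.mem W hψ.le γ hγ l hlW)
      refine ⟨(l⁻¹ : normalizerIn S P) * ⟨_, h1⟩, hk, ?_⟩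
      rw [map_mul, map_inv, h2, hl, hβ u hu]
  have h1 := (hyperfocal_group R).ge
    (show toAut F P hP.1 ⟨n, hn⟩ ∈ (R : Subgroup (F.autGroup P)) ⊓ Cfsg.pResidual p _ from
      ⟨hRr ▸ ⟨_, rfl⟩, h⟩)
  obtain ⟨m, hm, hmn⟩ := (hyperfocal_le habs) h1
  have h2 : (m : Ω)⁻¹ * n ∈ centK S K P := by
    refine centralizerIn_le_centK ⟨S.mul_mem (S.inv_mem m.2.1) hn.1, mem_centralizer_iff'.2 fun x hx => ?_⟩
    have h3 : (m : Ω) * x * (m : Ω)⁻¹ = n * x * n⁻¹ := by
      rw [← autFun_toAut (F := F) hP.1 m hx, hmn, autFun_toAut hP.1 _ hx]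
    calc (m : Ω)⁻¹ * n * x * ((m : Ω)⁻¹ * n)⁻¹
        = (m : Ω)⁻¹ * (n * x * n⁻¹) * (m : Ω) := by group
      _ = x := by rw [← h3]; group
  simpa using mul_mem (show (m : Ω) ∈ centK S K P from hm) h2

omit [Finite S] [Fact p.Prime] in
/-- The value `g` fits the automorphism `a` of `P`. -/
def NewVal (K : Subgroup Ω) (hP : P ≤ S) (a : F.autGroup P) (g : Ω) : Prop :=
  ∃ (n : normalizerIn S P) (β : F.autGroup P), β ∈ Cfsg.pResidual p (F.autGroup P) ∧
    (n : Ω)⁻¹ * g ∈ centK S K P ∧ a = toAut F P hP n * β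

omit [Finite S] [Fact p.Prime] in
theorem NewVal.mul {hP : P ≤ S} {a a' : F.autGroup P} (h : NewVal (p := p) K hP a g)
    (h' : NewVal (p := p) K hP a' g') : NewVal (p := p) K hP (a * a') (g * g') := by
  obtain ⟨n, β, hβ, hn, rfl⟩ := h
  obtain ⟨m, β', hβ', hm, rfl⟩ := h'
  refine ⟨n * m, (toAut F P hP m)⁻¹ * β * toAut F P hP m * β', mul_mem ?_ hβ', ?_, ?_⟩
  · simpa using (pResidual_normal (p := p)).conj_mem _ hβ (toAut F P hP m)⁻¹
  · have h1 := mul_mem (conj_mem_centK hK (inv_mem m.2) hn) hm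
    simpa [mul_assoc] using h1
  · rw [map_mul]
    group

omit [Finite S] [Fact p.Prime] in
theorem NewVal.of_residual {hP : P ≤ S} {a : F.autGroup P}
    (ha : a ∈ Cfsg.pResidual p (F.autGroup P)) : NewVal (p := p) K hP a 1 :=
  ⟨1, a, ha, by simp, by simp⟩

omit [Finite S] [Fact p.Prime] in
theorem NewVal.congr_val {hP : P ≤ S} {a : F.autGroup P} (h : NewVal (p := p) K hP a g)
    (hg : g⁻¹ * g' ∈ centK S K P) : NewVal (p := p) K hP a g' := by
  obtain ⟨n, β, hβ, hn, rfl⟩ := h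
  exact ⟨n, β, hβ, by simpa [mul_assoc] using mul_mem hn hg, rfl⟩

theorem NewVal.mem_centK (hS : IsPGroup p S) (hF : F.IsSaturated p)
    (hP : F.IsFullyNormalized P) (h : NewVal (p := p) (F := F) K hP.1 1 g) : g ∈ centK S K P := by
  obtain ⟨n, β, hβ, hn, he⟩ := h
  have h1 : toAut F P hP.1 n ∈ Cfsg.pResidual p (F.autGroup P) := by
    rw [show toAut F P hP.1 n = β⁻¹ from eq_inv_of_mul_eq_one_left he.symm]
    exact inv_mem hβ
  simpa using mul_mem (mem_centK_of_residual hK hS hF hP n.2 h1) hn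

omit [Finite S] [Fact p.Prime] in
theorem NewVal.inv {hP : P ≤ S} {a : F.autGroup P} (h : NewVal (p := p) K hP a g) :
    NewVal (p := p) K hP a⁻¹ g⁻¹ := by
  obtain ⟨n, β, hβ, hn, rfl⟩ := h
  refine ⟨n⁻¹, toAut F P hP n * β⁻¹ * (toAut F P hP n)⁻¹,
    (pResidual_normal (p := p)).conj_mem _ (inv_mem hβ) _, ?_, ?_⟩
  · have h5 := conj_mem_centK hK n.2 (inv_mem hn)
    simpa [mul_assoc] using h5
  · rw [mul_inv_rev, map_inv]
    group

/-- Every map of `N_F(P)` defined on `U ≥ P` has a chain with the expected value. -/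
theorem exists_chain_newVal (hS : IsPGroup p S) (hF : F.IsSaturated p)
    (hP : F.IsFullyNormalized P) {U : Subgroup Ω} {h : Ω → Ω} (hh : IsMap F U h) (hPU : P ≤ U)
    (hUN : U ≤ normalizerIn S P) {a : F.autGroup P}
    (ha : ∀ x ∈ P, h x = autFun (a : MulAut P) x) :
    ∃ g, Chain F p U h g ∧ NewVal (p := p) K hP.1 a g := by
  set N := normalizerIn S P with hN
  haveI : Finite N := finite_of_le (S := S) inf_le_left
  have hNp : IsPGroup p N := hS.to_le inf_le_left
  set E := nSystem F N P le_rfl hP.1 with hE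
  have hEN : F.IsNormalizerSystem P E := fun R => Set.ext fun φ => by
    rw [mem_normalizerHom_iff]
    exact Iff.rfl
  have hsat : E.IsSaturated p := isSaturated_normalizerSystem hS hF hP hEN
  have hnor : E.IsNormal P := isNormal_normalizerSystem hP.1 hEN
  have hPN : P ≤ N := le_normalizerIn hP.1
  let M : Subgroup Ω → (Ω → Ω) → Prop := fun Q f => Q ≤ N ∧ ∃ (k : Ω → Ω) (g : Ω)
    (c : F.autGroup P), IsMap E (Q ⊔ P) k ∧ Chain F p (Q ⊔ P) k g ∧ (∀ x ∈ Q, k x = f x) ∧
      (∀ x ∈ P, k x = autFun (c : MulAut P) x) ∧ NewVal (p := p) K hP.1 c g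
  let E' : FusionSystem N := mkSystem E N M
    (fun Q f ⟨hQ, k, g, c, h1, h2, h3, h4, h5⟩ => by
      have h6 : IsMap E Q f := (h1.mono le_sup_left).congr fun x hx => (h3 x hx).symm
      exact ⟨h6, hQ, fun x hx => h6.mem_S hx⟩)
    (fun Q f f' ⟨hQ, k, g, c, h1, h2, h3, h4, h5⟩ he =>
      ⟨hQ, k, g, c, h1, h2, fun x hx => by rw [h3 x hx, he x hx], h4, h5⟩)
    (fun Q t hQ ht => ⟨hQ, fun x => t * x * t⁻¹, t, toAut F P hP.1 ⟨t, ht⟩,
      isMap_conj (sup_le hQ hPN) ht, Chain.conj (sup_le hQ hPN |>.trans inf_le_left) ht.1,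
      fun x _ => rfl, fun x hx => (autFun_toAut (F := F) hP.1 ⟨t, ht⟩ hx).symm,
      ⟨t, ht⟩, 1, one_mem _, by simp, by simp⟩)
    (fun Q Q' f f' ⟨hQ, k, g, c, h1, h2, h3, h4, h5⟩ ⟨hQ', k', g', c', k1, k2, k3, k4, k5⟩ hm => by
      have hmap : ∀ x ∈ Q ⊔ P, k x ∈ Q' ⊔ P := fun x hx => h1.map_mem_of_sup
        (fun y hy => Subgroup.mem_sup_left (h3 y hy ▸ hm y hy))
        (fun y hy => Subgroup.mem_sup_right (h4 y hy ▸ autFun_mem _ hy)) hx
      refine ⟨hQ, k' ∘ k, g' * g, c' * c, h1.comp k1 hmap, h2.comp k2 hmap, fun x hx => ?_,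
        fun x hx => ?_, k5.mul hK h5⟩
      · show k' (k x) = f' (f x)
        rw [h3 x hx, k3 _ (hm x hx)]
      · show k' (k x) = _
        rw [h4 x hx, k4 _ (autFun_mem _ hx), Subgroup.coe_mul, autFun_mul _ _ hx])
    (fun Q f f' ⟨hQ, k, g, c, h1, h2, h3, h4, h5⟩ hf' he => by
      obtain ⟨k', hk', hkk⟩ := h2.inv
      have hle : img Q f ⊔ P ≤ img (Q ⊔ P) k := by
        refine sup_le (fun y hy => ?_) fun y hy => ?_
        · have hf : IsMap E Q f := (h1.mono le_sup_left).congr fun x hx => (h3 x hx).symm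
          obtain ⟨x, hx, rfl⟩ := hf.mem_img.1 hy
          exact h1.mem_img.2 ⟨x, Subgroup.mem_sup_left hx, h3 x hx⟩
        · have hy' := autFun_mem (c : MulAut P)⁻¹ hy
          exact h1.mem_img.2 ⟨_, Subgroup.mem_sup_right hy',
            by rw [h4 _ hy', autFun_inv_apply _ hy]⟩
      obtain ⟨k'', hk'', hkk'', -⟩ := h1.exists_inv
      have hagree : ∀ y ∈ img Q f ⊔ P, k'' y = k' y := fun y hy => by
        obtain ⟨x, hx, rfl⟩ := h1.mem_img.1 (hle hy)
        rw [hkk'' x hx, hkk x hx]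
      refine ⟨hf'.le, k', g⁻¹, c⁻¹, (hk''.mono hle).congr fun y hy => (hagree y hy).symm,
        hk'.mono hle, fun y hy => ?_, fun y hy => ?_, h5.inv hK⟩
      · have hf : IsMap E Q f := (h1.mono le_sup_left).congr fun x hx => (h3 x hx).symm
        obtain ⟨x, hx, rfl⟩ := hf.mem_img.1 hy
        rw [he x hx, ← h3 x hx, hkk x (Subgroup.mem_sup_left hx)]
      · have hy' := autFun_mem (c : MulAut P)⁻¹ hy
        conv_lhs => rw [← autFun_inv_apply (c : MulAut P) hy]
        rw [← h4 _ hy', hkk _ (Subgroup.mem_sup_right hy')]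
        rfl)
  have hgen : ∀ R, (R = N ∨ E.IsEssential p R) → E.autGroup R ≤ E'.autGroup R := by
    intro R hR
    have hRn : E.IsFullyNormalized R := by
      rcases hR with rfl | hR
      · exact isFullyNormalized_self
      · exact hR.2.1
    have hPR : P ≤ R := by
      rcases hR with rfl | hR
      · exact hPN
      · exact le_of_isNormal hNp hnor hR.1 (isRadical_of_isEssential hNp hR)
    have hRS : R ≤ S := hRn.1.trans inf_le_left
    intro α hα
    obtain ⟨n, hn, β, hβ, he⟩ := exists_conj_mul_residual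
      (IsSaturated.automized_receptive hNp hsat hRn).1 ⟨α, hα⟩
    -- the inclusion into `Aut_F(R)` and the restriction to `P`
    let inc : E.autGroup R →* F.autGroup R := (E.autGroup R).subtype.codRestrict _ fun b =>
      (mem_autGroup_iff hRS).2 (isMap_nSystem_iff.1 ((mem_autGroup_iff hRn.1).1 b.2)).isMap
    have hstab : ∀ b : E.autGroup R, ∀ x ∈ P, autFun (b : MulAut R) x ∈ P := fun b x hx =>
      (autInvariant_of_stronglyClosed (stronglyClosed_of_isNormal hnor) hRn.1 b.2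
        ⟨hPR hx, hx⟩).2
    have hrm : ∀ b : E.autGroup R, IsMap F P (autFun (b : MulAut R)) ∧
        img P (autFun (b : MulAut R)) = P := fun b => by
      have hm := ((mem_autGroup_iff hRS).1 (inc b).2).mono hPR
      exact ⟨hm, eq_of_le_of_card_le hP.1 (hm.img_le_of_forall (hstab b)) hm.card_img.ge⟩
    let res : E.autGroup R →* F.autGroup P := MonoidHom.mk'
      (fun b => ⟨autOf (hrm b).1 (hrm b).2, autOf_mem _ _⟩) fun b b' => by
        refine Subtype.ext (autFun_ext fun x hx => ?_)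
        show autFun (autOf (hrm (b * b')).1 (hrm (b * b')).2) x =
          autFun (autOf (hrm b).1 (hrm b).2 * autOf (hrm b').1 (hrm b').2) x
        rw [autFun_mul _ _ hx, autFun_autOf _ _ hx, autFun_autOf _ _ hx,
          autFun_autOf _ _ (hstab b' x hx)]
        exact autFun_mul _ _ (hPR hx)
    have hinc : inc β ∈ Cfsg.pResidual p (F.autGroup R) := by
      have hle : Cfsg.pResidual p (E.autGroup R) ≤ (Cfsg.pResidual p (F.autGroup R)).comap inc :=
        (Subgroup.closure_le _).2 fun b hb =>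
          mem_pResidual (Nat.Coprime.coprime_dvd_left (orderOf_map_dvd inc b) hb)
      exact hle hβ
    have hres : res β ∈ Cfsg.pResidual p (F.autGroup P) := by
      have hle : Cfsg.pResidual p (E.autGroup R) ≤ (Cfsg.pResidual p (F.autGroup P)).comap res :=
        (Subgroup.closure_le _).2 fun b hb =>
          mem_pResidual (Nat.Coprime.coprime_dvd_left (orderOf_map_dvd res b) hb)
      exact hle hβ
    refine (mem_autGroup_iff hRn.1).2 ((isMap_mkSystem_iff _).2 ⟨hRn.1,
      fun x => n * autFun (β : MulAut R) x * n⁻¹, n * 1,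
      toAut F P hP.1 ⟨n, hn.1⟩ * res β, ?_, ?_, fun x hx => (he x hx).symm, fun x hx => ?_, ?_⟩)
    · rw [sup_eq_left.2 hPR]
      exact ((mem_autGroup_iff hRn.1).1 hα).congr fun x hx => (he x hx).symm
    · rw [sup_eq_left.2 hPR]
      exact ((Chain.residual hRS hinc).comp (Chain.conj hRS hn.1.1)
        fun x hx => autFun_mem _ hx).congr fun x hx => rfl
    · rw [Subgroup.coe_mul, autFun_mul _ _ hx,
        autFun_toAut (F := F) hP.1 ⟨n, hn.1⟩ (autFun_mem _ hx)]
      exact congrArg (fun z => n * z * n⁻¹) (autFun_autOf (hrm β).1 (hrm β).2 hx).symm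
    · rw [mul_one]
      exact ⟨⟨n, hn.1⟩, res β, hres, by simp, rfl⟩
  have himgP : img P h = P := by rw [IsMap.img_congr ha, img_autFun]
  have hhE : IsMap E U h := isMap_nSystem_iff.2 ⟨hUN, fun x hx => by
      have := map_mem_normalizerIn hh hPU hx (hUN hx).2
      rwa [himgP] at this, h, by rwa [sup_eq_left.2 hPU], fun _ _ => rfl, himgP⟩
  obtain ⟨-, k, g, c, -, hk, hkU, hkP, hnv⟩ :=
    (isMap_mkSystem_iff _).1 (isMap_of_autGroup_le (E := E') hNp hsat hgen hhE)
  have hca : c = a := Subtype.ext (autFun_ext fun x hx => by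
    rw [← hkP x hx, hkU x (hPU hx), ha x hx])
  exact ⟨g, (hk.mono le_sup_left).congr fun x hx => (hkU x hx).symm, hca ▸ hnv⟩

/-- Loops above `P` inside its normalizer centralize `P` modulo `K`. -/
theorem loop_above (hS : IsPGroup p S) (hF : F.IsSaturated p) (hP : F.IsFullyNormalized P) {j : ℕ}
    (hj : Nat.card S - Nat.card P = j)
    (ih : ∀ m, m < j → ∀ (Q : Subgroup Ω), Nat.card S - Nat.card Q = m → F.IsFullyCentralized Q →
      ∀ (f : Ω → Ω) (g : Ω), Chain F p Q f g → (∀ x ∈ Q, f x = x) → g ∈ centK S K Q)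
    (hPU : P ≤ U) (hUN : U ≤ normalizerIn S P) (hcard : Nat.card P < Nat.card U)
    (hc : Chain F p U f g) (hid : ∀ x ∈ U, f x = x) : g ∈ centK S K P := by
  have hN₀ : normalizerIn S P ≤ S := inf_le_left
  set N := normalizerIn S P with hN
  haveI : Finite N := finite_of_le hN₀
  have hNp : IsPGroup p N := hS.to_le hN₀
  set E := nSystem F N P le_rfl hP.1 with hE
  have hEN : F.IsNormalizerSystem P E := fun R => Set.ext fun φ => by
    rw [mem_normalizerHom_iff]
    exact Iff.rfl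
  have hsat : E.IsSaturated p := isSaturated_normalizerSystem hS hF hP hEN
  obtain ⟨U₁, hUU₁, hU₁⟩ := exists_fullyNormalized (F := E) hUN
  have hU₁c := IsSaturated.isFullyCentralized hNp hsat hU₁
  obtain ⟨ψ, hψ, hψimg⟩ := isConj_iff.1 hUU₁
  obtain ⟨hψU, -, ψ₁, hψ₁, hψe, hψP⟩ := isMap_nSystem_iff.1 hψ
  rw [sup_eq_left.2 hPU] at hψ₁
  have hψP' : img P ψ = P := by
    rw [IsMap.img_congr (f := ψ) (g := ψ₁) fun x hx => (hψe x (hPU hx)).symm, hψP]
  have hψF : IsMap F U ψ := hψ₁.congr fun x hx => (hψe x hx).symm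
  have hψPm := hψF.mono hPU
  obtain ⟨d, hd, hnv⟩ := exists_chain_newVal hK hS hF hP hψF hPU hUN
    (a := ⟨autOf hψPm hψP', autOf_mem hψPm hψP'⟩) fun x hx => (autFun_autOf hψPm hψP' hx).symm
  have hU₁S : U₁ ≤ S := hψimg ▸ hψF.img_le
  have hPU₁ : P ≤ U₁ := by
    rw [← hψP', ← hψimg]
    exact hψF.img_mono hPU
  -- `U₁` is fully centralized in `F`
  have hfc : F.IsFullyCentralized U₁ := by
    refine ⟨hU₁S, fun T hT => ?_⟩
    obtain ⟨f', hf', hf'img⟩ := isConj_iff.1 hT
    have hP1 := hf'.mono hPU₁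
    set P₁ := img P f' with hP₁
    obtain ⟨hauto, hrec⟩ := IsSaturated.automized_receptive hS hF hP
    obtain ⟨γ, hγ, hγimg, hγN⟩ := exists_map_normalizer hS hauto hrec
      (isConj_symm (isConj_iff.2 ⟨f', hP1, rfl⟩))
    have hTN : T ≤ normalizerIn S P₁ := by
      rw [← hf'img]
      intro y hy
      obtain ⟨x, hx, rfl⟩ := hf'.mem_img.1 hy
      exact map_mem_normalizerIn hf' hPU₁ hx (hU₁.1 hx).2
    have hCT : centralizerIn S T ≤ normalizerIn S P₁ :=
      le_trans (inf_le_inf_left S (Subgroup.centralizer_le (by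
        intro y hy
        rw [← hf'img]
        exact hf'.img_mono hPU₁ hy))) centralizerIn_le_normalizerIn
    have hcomp : IsMap F U₁ (γ ∘ f') :=
      hf'.comp hγ fun x hx => hTN (hf'img ▸ hf'.mem_img.2 ⟨x, hx, rfl⟩)
    have himgP : img P (γ ∘ f') = P := by rw [← img_img hP1, hγimg]
    have hval : ∀ x ∈ U₁, (γ ∘ f') x ∈ N := fun x hx => by
      have h1 := map_mem_normalizerIn hcomp hPU₁ hx (hU₁.1 hx).2
      rwa [himgP] at h1
    have hEm : IsMap E U₁ (γ ∘ f') := isMap_nSystem_iff.2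
      ⟨hU₁.1, hval, γ ∘ f', hcomp.mono (sup_le le_rfl hPU₁), fun _ _ => rfl, himgP⟩
    have hmax := hU₁c.2 (img U₁ (γ ∘ f')) (isConj_iff.2 ⟨_, hEm, rfl⟩)
    refine le_trans ?_ (hmax.trans (card_le_of_le' inf_le_left (inf_le_inf_right _ hN₀)))
    rw [← (hγ.mono hCT).card_img]
    refine card_le_of_le' (inf_le_left.trans hN₀) fun y hy => ?_
    obtain ⟨z, hz, rfl⟩ := (hγ.mono hCT).mem_img.1 hy
    refine ⟨hγN z (hCT hz), ?_⟩
    have h1 := (map_mem_centralizerIn hγ hTN (hCT hz) hz.2).2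
    rwa [← hf'img, img_img hf'] at h1
  obtain ⟨ψ', hψ', hψψ⟩ := hd.inv
  rw [hψimg] at hψ'
  have hback : ∀ y ∈ U₁, ψ' y ∈ U ∧ ψ (ψ' y) = y := fun y hy => by
    obtain ⟨x, hx, rfl⟩ := hψF.mem_img.1 (hψimg.ge hy)
    rw [hψψ x hx]; exact ⟨hx, rfl⟩
  have hloop : Chain F p U₁ (ψ ∘ (f ∘ ψ')) (d * (g * d⁻¹)) :=
    (hψ'.comp hc fun y hy => (hback y hy).1).comp hd fun y hy => by
      show f (ψ' y) ∈ U
      rw [hid _ (hback y hy).1]; exact (hback y hy).1
  have hlt : Nat.card S - Nat.card U₁ < j := by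
    have h1 : Nat.card U₁ = Nat.card U := by rw [← hψimg, hψF.card_img]
    have h2 : Nat.card U ≤ Nat.card S := card_le_of_le' le_rfl (hUN.trans inf_le_left)
    omega
  have h1 := ih _ hlt U₁ rfl hfc _ _ hloop fun y hy => by
    show ψ (f (ψ' y)) = y
    rw [hid _ (hback y hy).1, (hback y hy).2]
  have h2 := centK_anti hPU₁ h1
  obtain ⟨n, β, -, hn, -⟩ := hnv
  have h4 := conj_mem_centK hK (inv_mem n.2) h2
  have h5 := mul_mem (mul_mem (inv_mem hn) h4) hn
  simpa [mul_assoc] using h5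

/-- Loops of chains at fully centralized subgroups centralize their source modulo `K`. -/
theorem loop_mem_centK (hS : IsPGroup p S) (hF : F.IsSaturated p) :
    ∀ (j : ℕ) (P : Subgroup Ω), Nat.card S - Nat.card P = j → F.IsFullyCentralized P →
      ∀ (f : Ω → Ω) (g : Ω), Chain F p P f g → (∀ x ∈ P, f x = x) → g ∈ centK S K P := by
  intro j
  induction j using Nat.strong_induction_on with
  | _ j ih =>
  suffices hfn : ∀ P, F.IsFullyNormalized P → Nat.card S - Nat.card P = j →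
      ∀ (f : Ω → Ω) (g : Ω), Chain F p P f g → (∀ x ∈ P, f x = x) → g ∈ centK S K P by
    intro P hj hPc f g hc hid
    obtain ⟨P₀, hPP₀, hP₀⟩ := exists_fullyNormalized (F := F) hc.isMap.le
    obtain ⟨hauto, hrec⟩ := IsSaturated.automized_receptive hS hF hP₀
    obtain ⟨φ, hφ, hφimg, hφN⟩ := exists_map_normalizer hS hauto hrec hPP₀
    obtain ⟨e, he⟩ := exists_chain hS hF hφ
    have hPN : P ≤ normalizerIn S P := le_normalizerIn hPc.1
    have heP := he.mono hPN
    obtain ⟨φ', hφ', hφφ⟩ := heP.inv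
    rw [hφimg] at hφ'
    have hback : ∀ y ∈ P₀, φ' y ∈ P ∧ φ (φ' y) = y := fun y hy => by
      obtain ⟨x, hx, rfl⟩ := (hφ.mono hPN).mem_img.1 (hφimg.ge hy)
      rw [hφφ x hx]; exact ⟨hx, rfl⟩
    have hloop : Chain F p P₀ (φ ∘ (f ∘ φ')) (e * (g * e⁻¹)) :=
      (hφ'.comp hc fun y hy => (hback y hy).1).comp heP fun y hy => by
        show f (φ' y) ∈ P
        rw [hid _ (hback y hy).1]; exact (hback y hy).1
    have h0 := hfn P₀ hP₀ (by rw [isConj_card hPP₀, hj]) _ _ hloop fun y hy => by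
      show φ (f (φ' y)) = y
      rw [hid _ (hback y hy).1, (hback y hy).2]
    -- move back along `φ`
    obtain ⟨c, hc', k, hk, hck⟩ := exists_eq_mul_of_mem_centK hK h0
    have hCN : centralizerIn S P ≤ normalizerIn S P := centralizerIn_le_normalizerIn
    have himgC : img (centralizerIn S P) φ = centralizerIn S P₀ := by
      refine eq_of_le_of_card_le inf_le_left (fun y hy => ?_)
        ((hφ.mono hCN).card_img ▸ hPc.2 P₀ hPP₀)
      obtain ⟨z, hz, rfl⟩ := (hφ.mono hCN).mem_img.1 hy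
      exact hφimg ▸ map_mem_centralizerIn hφ hPN (hCN hz) hz.2
    obtain ⟨c₁, hc₁, rfl⟩ := (hφ.mono hCN).mem_img.1 (himgC.ge hc')
    have hk' := he.mod hK c₁ (hCN hc₁)
    have heS := he.mem_S
    have hconj : ∀ z ∈ K, e⁻¹ * z * e⁻¹⁻¹ ∈ K := fun z hz =>
      conj_mem_of_normalizes (hK.normal (inv_mem heS)) hz
    have hg : g = (e⁻¹ * (φ c₁ * (e * c₁ * e⁻¹)⁻¹) * e⁻¹⁻¹) * c₁ * (e⁻¹ * k * e⁻¹⁻¹) := by
      calc g = e⁻¹ * (e * (g * e⁻¹)) * e := by group
        _ = e⁻¹ * (φ c₁ * k) * e := by rw [hck]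
        _ = _ := by group
    rw [hg]
    exact mul_mem (mul_mem (le_centK (hconj _ hk')) (centralizerIn_le_centK hc₁))
      (le_centK (hconj _ hk))
  intro P hP hj f g hc hid
  obtain ⟨hauto, hrec⟩ := IsSaturated.automized_receptive hS hF hP
  -- the transporters
  have htrans : ∀ Q, F.IsConj Q P → ∃ b e, Chain F p (normalizerIn S Q) b e ∧ img Q b = P ∧
      (∀ x ∈ normalizerIn S Q, b x ∈ normalizerIn S P) ∧ (Q = P → (∀ x, b x = x) ∧ e = 1) := by
    intro Q hQ
    by_cases hQP : Q = P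
    · subst hQP
      exact ⟨id, 1, Chain.id_chain inf_le_left, img_id, fun x hx => hx,
        fun _ => ⟨fun x => rfl, rfl⟩⟩
    · obtain ⟨b, hb, hbimg, hbN⟩ := exists_map_normalizer hS hauto hrec hQ
      obtain ⟨e, he⟩ := exists_chain hS hF hb
      exact ⟨b, e, he, hbimg, hbN, fun h => absurd h hQP⟩
  choose! tb te htc htimg htN htP using htrans
  suffices key : ∀ {Q₁ : Subgroup Ω} {f : Ω → Ω} {g : Ω}, Chain F p Q₁ f g →
      ∀ Q, Q ≤ Q₁ → F.IsConj Q P → ∃ a : F.autGroup P,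
        (∀ x ∈ Q, autFun (a : MulAut P) (tb Q x) = tb (img Q f) (f x)) ∧
          NewVal (p := p) K hP.1 a (te (img Q f) * g * (te Q)⁻¹) by
    have hPP : F.IsConj P P := isConj_refl hP.1
    obtain ⟨hb, he⟩ := htP P hPP rfl
    obtain ⟨a, ha, hn⟩ := key hc P le_rfl hPP
    have himg : img P f = P := by rw [IsMap.img_congr (g := id) hid, img_id]
    rw [himg, he, one_mul, inv_one, mul_one] at hn
    have ha1 : a = 1 := by
      refine Subtype.ext (autFun_ext fun x hx => ?_)
      have h1 := ha x hx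
      rw [himg, hb, hb, hid x hx] at h1
      rw [h1, OneMemClass.coe_one, autFun_one hx]
    rw [ha1] at hn
    exact hn.mem_centK hK hS hF hP
  -- elementary steps extending beyond the source
  have step : ∀ {U₀ Q : Subgroup Ω} {f : Ω → Ω} {g : Ω}, Chain F p U₀ f g → Q < U₀ →
      U₀ ≤ normalizerIn S Q → F.IsConj Q P → ∃ a : F.autGroup P,
        (∀ x ∈ Q, autFun (a : MulAut P) (tb Q x) = tb (img Q f) (f x)) ∧
          NewVal (p := p) K hP.1 a (te (img Q f) * g * (te Q)⁻¹) := by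
    intro U₀ Q f g hf hQU hUN hQ
    set Q' := img Q f with hQ'def
    have hQ' : F.IsConj Q' P :=
      isConj_trans (isConj_symm (isConj_iff.2 ⟨f, hf.isMap.mono hQU.le, rfl⟩)) hQ
    obtain ⟨bi, hbi, hbib⟩ := ((htc Q hQ).mono hUN).inv
    set U := img U₀ (tb Q) with hUdef
    have htbm := ((htc Q hQ).mono hUN).isMap
    have hfU : ∀ x ∈ U₀, f x ∈ normalizerIn S Q' := fun x hx =>
      map_mem_normalizerIn hf.isMap hQU.le hx (hUN hx).2
    have hmapU : ∀ y ∈ U, bi y ∈ U₀ := fun y hy => by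
      obtain ⟨x, hx, rfl⟩ := htbm.mem_img.1 hy
      rw [hbib x hx]; exact hx
    have hch : Chain F p U (tb Q' ∘ (f ∘ bi)) (te Q' * (g * (te Q)⁻¹)) :=
      (hbi.comp hf hmapU).comp (htc Q' hQ') fun y hy => hfU _ (hmapU y hy)
    have hUP : U ≤ normalizerIn S P := htbm.img_le_of_forall fun x hx => htN Q hQ x (hUN hx)
    have hPimg : img Q (tb Q) = P := htimg Q hQ
    have hPU : P ≤ U := by rw [← hPimg, hUdef]; exact htbm.img_mono hQU.le
    have hΨP : ∀ y ∈ P, (tb Q' ∘ (f ∘ bi)) y ∈ P := by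
      intro y hy
      obtain ⟨x, hx, rfl⟩ := (htbm.mono hQU.le).mem_img.1 (hPimg.ge hy)
      show tb Q' (f (bi (tb Q x))) ∈ P
      rw [hbib x (hQU.le hx), ← htimg Q' hQ']
      exact ((htc Q' hQ').isMap.mono (le_normalizerIn (isConj_le hQ').1)).mem_img.2
        ⟨_, (hf.isMap.mono hQU.le).mem_img.2 ⟨x, hx, rfl⟩, rfl⟩
    have hm := hch.isMap.mono hPU
    have himgP : img P (tb Q' ∘ (f ∘ bi)) = P :=
      eq_of_le_of_card_le hP.1 (hm.img_le_of_forall hΨP) hm.card_img.ge
    set a : F.autGroup P := ⟨autOf hm himgP, autOf_mem hm himgP⟩ with hadef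
    have ha : ∀ y ∈ P, (tb Q' ∘ (f ∘ bi)) y = autFun (a : MulAut P) y := fun y hy =>
      (autFun_autOf hm himgP hy).symm
    obtain ⟨g', hψ, hnv⟩ := exists_chain_newVal hK hS hF hP hch.isMap hPU hUP ha
    refine ⟨a, fun x hx => ?_, ?_⟩
    · have hxP : tb Q x ∈ P := hPimg.le ((htbm.mono hQU.le).mem_img.2 ⟨x, hx, rfl⟩)
      rw [← ha _ hxP]
      show tb Q' (f (bi (tb Q x))) = _
      rw [hbib x (hQU.le hx)]
    · rw [mul_assoc]
      refine hnv.congr_val hK ?_
      obtain ⟨k, hk, hkΨ⟩ := hψ.inv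
      have hcard : Nat.card P < Nat.card U := by
        rw [hUdef, htbm.card_img, isConj_card hQ]
        exact card_lt_of_lt (hUN.trans inf_le_left) hQU
      exact loop_above hK hS hF hP hj ih hPU hUP hcard
        (hch.comp hk fun y hy => hch.isMap.mem_img.2 ⟨y, hy, rfl⟩) fun y hy => hkΨ y hy
  intro Q₁ f g hch
  induction hch with
  | @conj R s hR hs =>
      intro Q hQ hQP
      by_cases hQS : Q = S
      · subst hQS
        have hPS : P = Q := eq_of_le_of_card_le le_rfl hP.1 (isConj_card hQP).ge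
        have himg : img Q (fun x => s * x * s⁻¹) = Q :=
          eq_of_le_of_card_le le_rfl (isMap_conj (F := F) le_rfl hs).img_le
            (isMap_conj (F := F) le_rfl hs).card_img.ge
        obtain ⟨hb, he⟩ := htP Q hQP hPS.symm
        rw [himg, he]
        subst hPS
        refine ⟨toAut F P hP.1 ⟨s, hs, Subgroup.le_normalizer hs⟩, fun x hx => ?_,
          ⟨s, hs, Subgroup.le_normalizer hs⟩, 1, one_mem _, by simp, by simp⟩
        rw [hb, hb, autFun_toAut _ _ hx]
      · exact step (Chain.conj inf_le_left hs) (lt_normalizerIn hS (hQ.trans hR) hQS) le_rfl hQP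
  | @aut R₀ R hR α hα hR₀R =>
      intro Q hQ hQP
      have hQR : Q ≤ R := hQ.trans hR₀R
      by_cases hQRe : Q = R
      · subst hQRe
        have himg : img Q (autFun (α : MulAut Q)) = Q := img_autFun _
        rw [himg]
        have hb := ((htc Q hQP).mono (le_normalizerIn hR)).isMap
        let e : F.autGroup Q →* F.autGroup (img Q (tb Q)) :=
          ((MulAut.congr (mapEquiv hb)).toMonoidHom.comp (F.autGroup Q).subtype).codRestrict _
            fun b => (congr_mem_autGroup_iff hb (b : MulAut Q)).2 b.2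
        have hco : Nat.Coprime (orderOf (e α)) p :=
          Nat.Coprime.coprime_dvd_left (orderOf_map_dvd e α) hα
        have heq := htimg Q hQP
        have main : ∀ (P' : Subgroup Ω), img Q (tb Q) = P' → ∃ a : F.autGroup P',
            Nat.Coprime (orderOf a) p ∧ ∀ x ∈ Q,
              autFun (a : MulAut P') (tb Q x) = tb Q (autFun (α : MulAut Q) x) := by
          rintro _ rfl
          exact ⟨e α, hco, fun x hx => autFun_congr hb _ hx⟩
        obtain ⟨a, hao, hae⟩ := main P heq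
        refine ⟨a, hae, ?_⟩
        rw [mul_one, mul_inv_cancel]
        exact NewVal.of_residual hK (mem_pResidual hao)
      · haveI := finite_of_le hR
        haveI : Group.IsNilpotent R := (hS.to_le hR).isNilpotent
        exact step ((Chain.aut hR hα le_rfl).mono (inf_le_left :
          R ⊓ Subgroup.normalizer (Q : Set Ω) ≤ R))
          (lt_inf_normalizer hQR hQRe) (inf_le_inf_right _ hR) hQP
  | @comp R R' f₁ f₂ g₁ g₂ h₁ h₂ hm ih₁ ih₂ =>
      intro Q hQ hQP
      have hf₁ := h₁.isMap.mono hQ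
      have hQ' : F.IsConj (img Q f₁) P :=
        isConj_trans (isConj_symm (isConj_iff.2 ⟨f₁, hf₁, rfl⟩)) hQP
      obtain ⟨a₁, ha₁, hn₁⟩ := ih₁ Q hQ hQP
      obtain ⟨a₂, ha₂, hn₂⟩ := ih₂ (img Q f₁) (hf₁.img_le_of_forall fun x hx => hm x (hQ hx)) hQ'
      rw [← img_img hf₁]
      refine ⟨a₂ * a₁, fun x hx => ?_, ?_⟩
      · have hxP : tb Q x ∈ P := (htimg Q hQP).le
          (((htc Q hQP).isMap.mono (le_normalizerIn hf₁.le)).mem_img.2 ⟨x, hx, rfl⟩)
        rw [Subgroup.coe_mul, autFun_mul _ _ hxP, ha₁ x hx,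
          ha₂ _ (hf₁.mem_img.2 ⟨x, hx, rfl⟩)]
        rfl
      · have h3 := hn₂.mul hK hn₁
        simpa [mul_assoc] using h3
  | @congr R f₁ f₂ g₁ h₁ he ih =>
      intro Q hQ hQP
      obtain ⟨a, ha, hn⟩ := ih Q hQ hQP
      have himg : img Q f₂ = img Q f₁ := IsMap.img_congr fun x hx => he x (hQ hx)
      rw [himg]
      exact ⟨a, fun x hx => by rw [ha x hx, he x (hQ hx)], hn⟩

end CfsgLib.Fusion.CentTheta
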