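import Cfsg.Agent.Lib.Fusion.System.FactorSat
import Cfsg.Agent.Lib.Fusion.System.FactorExist
import Cfsg.Agent.Lib.Fusion.System.FactorHyperfocal
import Cfsg.Agent.Lib.Fusion.System.Functor

/-!
# Transport of fusion systems along isomorphisms, given as pairs of functions
-/

set_option autoImplicit false
set_option linter.style.haveILetI false

open Subgroup
open scoped Classical

namespace CfsgLib.Fusion.Transport

open Cfsg (FusionSystem)
open Cfsg.FusionSystem (normalizerIn centralizerIn preimageAlong imageAlong InducedAlong)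
open CfsgLib.Fusion

universe u

variable {Ω Ω' Ω'' : Type u} [Group Ω] [Group Ω'] [Group Ω'']
  {S T U P Q : Subgroup Ω} {S' T' P' : Subgroup Ω'} {S'' : Subgroup Ω''}
  {e : Ω → Ω'} {e' : Ω' → Ω} {p : ℕ}

/-- The image of a subgroup under a function. -/
def im (e : Ω → Ω') (P : Subgroup Ω) : Subgroup Ω' := Subgroup.closure (e '' (P : Set Ω))

theorem im_congr {d : Ω → Ω'} (h : ∀ x ∈ P, e x = d x) : im e P = im d P := by
  rw [im, im, Set.image_congr h]

/-- `e` and `e'` are inverse isomorphisms between `S` and `S'`. -/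
structure GIso (S : Subgroup Ω) (S' : Subgroup Ω') (e : Ω → Ω') (e' : Ω' → Ω) : Prop where
  map : ∀ x ∈ S, e x ∈ S'
  map' : ∀ y ∈ S', e' y ∈ S
  left : ∀ x ∈ S, e' (e x) = x
  right : ∀ y ∈ S', e (e' y) = y
  map_mul : ∀ x ∈ S, ∀ y ∈ S, e (x * y) = e x * e y

namespace GIso

variable (g : GIso S S' e e')
include g

theorem map_mul' {x y : Ω'} (hx : x ∈ S') (hy : y ∈ S') : e' (x * y) = e' x * e' y := by
  have h := g.left _ (mul_mem (g.map' x hx) (g.map' y hy))
  rwa [g.map_mul _ (g.map' x hx) _ (g.map' y hy), g.right x hx, g.right y hy] at h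

theorem symm : GIso S' S e' e :=
  ⟨g.map', g.map, g.right, g.left, fun _ hx _ hy => g.map_mul' hx hy⟩

theorem map_one : e 1 = 1 := by
  have h := g.map_mul 1 (one_mem S) 1 (one_mem S)
  rw [one_mul] at h
  exact right_eq_mul.1 h

theorem map_inv {x : Ω} (hx : x ∈ S) : e x⁻¹ = (e x)⁻¹ := by
  refine eq_inv_of_mul_eq_one_left ?_
  rw [← g.map_mul _ (inv_mem hx) _ hx, inv_mul_cancel, g.map_one]

theorem inj {x y : Ω} (hx : x ∈ S) (hy : y ∈ S) (h : e x = e y) : x = y := by
  rw [← g.left x hx, ← g.left y hy, h]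

theorem coe_im (hP : P ≤ S) : (im e P : Set Ω') = e '' (P : Set Ω) := by
  let M : Subgroup Ω' :=
    { carrier := e '' (P : Set Ω)
      one_mem' := ⟨1, one_mem P, g.map_one⟩
      mul_mem' := by
        rintro _ _ ⟨a, ha, rfl⟩ ⟨b, hb, rfl⟩
        exact ⟨a * b, mul_mem ha hb, g.map_mul a (hP ha) b (hP hb)⟩
      inv_mem' := by
        rintro _ ⟨a, ha, rfl⟩
        exact ⟨a⁻¹, inv_mem ha, g.map_inv (hP ha)⟩ }
  rw [im, show e '' (P : Set Ω) = (M : Set Ω') from rfl, Subgroup.closure_eq]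

theorem mem_im (hP : P ≤ S) {y : Ω'} : y ∈ im e P ↔ ∃ x ∈ P, e x = y := by
  rw [← SetLike.mem_coe, g.coe_im hP]
  rfl

theorem mem_im_iff (hP : P ≤ S) {y : Ω'} : y ∈ im e P ↔ y ∈ S' ∧ e' y ∈ P := by
  rw [g.mem_im hP]
  constructor
  · rintro ⟨x, hx, rfl⟩
    exact ⟨g.map x (hP hx), by rwa [g.left x (hP hx)]⟩
  · exact fun ⟨hy, h⟩ => ⟨e' y, h, g.right y hy⟩

theorem mem_im_of_mem (hP : P ≤ S) {x : Ω} (hx : x ∈ P) : e x ∈ im e P := (g.mem_im hP).2 ⟨x, hx, rfl⟩

theorem im_le (hP : P ≤ S) : im e P ≤ S' := fun _ hy => ((g.mem_im_iff hP).1 hy).1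

theorem im_mono (hP : P ≤ Q) : im e P ≤ im e Q := Subgroup.closure_mono (Set.image_mono hP)

theorem im_top : im e S = S' :=
  le_antisymm (g.im_le le_rfl) fun y hy => (g.mem_im_iff le_rfl).2 ⟨hy, g.map' y hy⟩

theorem im_im (hP : P ≤ S) : im e' (im e P) = P := by
  ext x
  rw [g.symm.mem_im_iff (g.im_le hP), g.mem_im_iff hP]
  constructor
  · rintro ⟨hx, -, h⟩
    rwa [g.left x hx] at h
  · exact fun hx => ⟨hP hx, g.map x (hP hx), by rwa [g.left x (hP hx)]⟩

theorem restrict (hT : T ≤ S) : GIso T (im e T) e e' :=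
  ⟨fun _ hx => g.mem_im_of_mem hT hx, fun _ hy => ((g.mem_im_iff hT).1 hy).2,
    fun x hx => g.left x (hT hx), fun y hy => g.right y (g.im_le hT hy),
    fun x hx y hy => g.map_mul x (hT hx) y (hT hy)⟩

theorem im_sup (hP : P ≤ S) (hQ : Q ≤ S) : im e (P ⊔ Q) = im e P ⊔ im e Q := by
  refine le_antisymm ?_ (sup_le (g.im_mono le_sup_left) (g.im_mono le_sup_right))
  have hR : im e P ⊔ im e Q ≤ S' := sup_le (g.im_le hP) (g.im_le hQ)
  have h : P ⊔ Q ≤ im e' (im e P ⊔ im e Q) :=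
    sup_le ((g.im_im hP).ge.trans (g.symm.im_mono le_sup_left))
      ((g.im_im hQ).ge.trans (g.symm.im_mono le_sup_right))
  exact (g.im_mono h).trans (g.symm.im_im hR).le

theorem commute_iff {x y : Ω} (hx : x ∈ S) (hy : y ∈ S) : Commute (e x) (e y) ↔ Commute x y := by
  refine ⟨fun h => g.inj (mul_mem hx hy) (mul_mem hy hx) ?_, fun h => ?_⟩
  · rw [g.map_mul x hx y hy, g.map_mul y hy x hx]; exact h
  · show e x * e y = e y * e x
    rw [← g.map_mul x hx y hy, ← g.map_mul y hy x hx, h.eq]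

theorem im_centralizer (hT : T ≤ S) (hP : P ≤ S) :
    im e (T ⊓ centralizer (P : Set Ω)) = im e T ⊓ centralizer (im e P : Set Ω') := by
  ext y
  rw [g.mem_im_iff (inf_le_left.trans hT), mem_inf, mem_inf, g.mem_im_iff hT, mem_centralizer_iff,
    mem_centralizer_iff]
  constructor
  · rintro ⟨hy, h1, h2⟩
    refine ⟨⟨hy, h1⟩, fun z hz => ?_⟩
    obtain ⟨w, hw, rfl⟩ := (g.mem_im hP).1 hz
    have h := (g.commute_iff (hP hw) (hT h1)).2 (h2 w hw)
    rwa [g.right y hy] at h
  · rintro ⟨⟨hy, h1⟩, h2⟩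
    refine ⟨hy, h1, fun w hw => ?_⟩
    have h : Commute (e w) y := h2 _ (g.mem_im_of_mem hP hw)
    rw [← g.right y hy] at h
    exact (g.commute_iff (hP hw) (hT h1)).1 h

/-- The isomorphism as a homomorphism. -/
def toHom : S →* Ω' := MonoidHom.mk' (fun x => e x) fun x y => g.map_mul x x.2 y y.2

theorem ext1_toHom {x : Ω} (hx : x ∈ S) : ext1 g.toHom x = e x := ext1_apply _ hx

theorem range_toHom : g.toHom.range = S' := by
  ext y
  exact ⟨fun ⟨x, h⟩ => h ▸ g.map x x.2, fun hy => ⟨⟨e' y, g.map' y hy⟩, g.right y hy⟩⟩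

theorem toHom_injective : Function.Injective g.toHom := fun a b h => Subtype.ext (g.inj a.2 b.2 h)

theorem preimageAlong_toHom {R : Subgroup Ω'} (hR : R ≤ S') : preimageAlong g.toHom R = im e' R := by
  ext x
  rw [mem_preimageAlong, g.symm.mem_im_iff hR]
  exact and_congr_right fun hx => by rw [g.ext1_toHom hx]

theorem imageAlong_toHom (hP : P ≤ S) : imageAlong g.toHom P = im e P := by
  ext y
  rw [g.mem_im hP]
  constructor
  · rintro ⟨x, hx, rfl⟩
    exact ⟨x, hx, rfl⟩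
  · rintro ⟨x, hx, rfl⟩
    exact ⟨⟨x, hP hx⟩, hx, rfl⟩

end GIso

/-- `e`, `e'` are inverse isomorphisms between the systems `F` and `F'`. -/
structure SysIso (F : FusionSystem S) (F' : FusionSystem S') (e : Ω → Ω') (e' : Ω' → Ω) : Prop where
  giso : GIso S S' e e'
  fwd : ∀ (P : Subgroup Ω) (f : Ω → Ω), IsMap F P f → IsMap F' (im e P) (e ∘ f ∘ e')
  bwd : ∀ (P : Subgroup Ω') (f : Ω' → Ω'), IsMap F' P f → IsMap F (im e' P) (e' ∘ f ∘ e)

theorem isMap_le_of_subsystem {E : FusionSystem T} {F : FusionSystem S} (h : E.IsSubsystemOf F)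
    {f : Ω → Ω} (hf : IsMap E P f) : IsMap F P f := by
  obtain ⟨φ, hφ, hφf⟩ := hf
  exact ⟨φ, h P hφ, hφf⟩

theorem subsystem_iff {E : FusionSystem T} {F : FusionSystem S} :
    E.IsSubsystemOf F ↔ ∀ (P : Subgroup Ω) (f : Ω → Ω), IsMap E P f → IsMap F P f :=
  ⟨fun h _ _ hf => isMap_le_of_subsystem h hf, fun h P _ hφ => mem_hom_iff.2 (h P _ (isMap_toFun hφ))⟩

theorem subsystem_le {E : FusionSystem T} {F : FusionSystem S} (h : E.IsSubsystemOf F) : T ≤ S :=
  (isMap_le_of_subsystem h (isMap_id (F := E) (le_refl T))).le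

variable {F : FusionSystem S} {F' : FusionSystem S'}

namespace SysIso

theorem symm (h : SysIso F F' e e') : SysIso F' F e' e := ⟨h.giso.symm, h.bwd, h.fwd⟩

theorem congr (h : SysIso F F' e e') {d : Ω → Ω'} {d' : Ω' → Ω} (hd : ∀ x ∈ S, d x = e x)
    (hd' : ∀ y ∈ S', d' y = e' y) : SysIso F F' d d' := by
  have g := h.giso
  refine ⟨⟨fun x hx => hd x hx ▸ g.map x hx, fun y hy => hd' y hy ▸ g.map' y hy,
    fun x hx => by rw [hd x hx, hd' _ (g.map x hx), g.left x hx],
    fun y hy => by rw [hd' y hy, hd _ (g.map' y hy), g.right y hy],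
    fun x hx y hy => by rw [hd x hx, hd y hy, hd _ (mul_mem hx hy), g.map_mul x hx y hy]⟩, ?_, ?_⟩
  · intro P f hf
    have him : im d P = im e P := im_congr fun x hx => hd x (hf.le hx)
    rw [him]
    refine (h.fwd P f hf).congr fun y hy => ?_
    obtain ⟨hyS, hy'⟩ := (g.mem_im_iff hf.le).1 hy
    simp only [Function.comp_apply, hd' y hyS, hd _ (hf.mem_S hy')]
  · intro P f hf
    have him : im d' P = im e' P := im_congr fun x hx => hd' x (hf.le hx)
    rw [him]
    refine (h.bwd P f hf).congr fun y hy => ?_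
    obtain ⟨hyS, hy'⟩ := (g.symm.mem_im_iff hf.le).1 hy
    simp only [Function.comp_apply, hd y hyS, hd' _ (hf.mem_S hy')]

theorem comp {F'' : FusionSystem S''} {d : Ω' → Ω''} {d' : Ω'' → Ω'} (h : SysIso F F' e e')
    (k : SysIso F' F'' d d') : SysIso F F'' (d ∘ e) (e' ∘ d') := by
  have g := h.giso
  have g' := k.giso
  have him : ∀ {P : Subgroup Ω}, P ≤ S → im (d ∘ e) P = im d (im e P) := fun {P} hP => by
    rw [im, im, g.coe_im hP, Set.image_image]; rfl
  have him' : ∀ {P : Subgroup Ω''}, P ≤ S'' → im (e' ∘ d') P = im e' (im d' P) := fun {P} hP => by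
    rw [im, im, g'.symm.coe_im hP, Set.image_image]; rfl
  refine ⟨⟨fun x hx => g'.map _ (g.map x hx), fun y hy => g.map' _ (g'.map' y hy),
    fun x hx => ?_, fun y hy => ?_, fun x hx y hy => ?_⟩, fun P f hf => ?_, fun P f hf => ?_⟩
  · simp only [Function.comp_apply, g'.left _ (g.map x hx), g.left x hx]
  · simp only [Function.comp_apply, g.right _ (g'.map' y hy), g'.right y hy]
  · simp only [Function.comp_apply, g.map_mul x hx y hy, g'.map_mul _ (g.map x hx) _ (g.map y hy)]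
  · rw [him hf.le]
    exact k.fwd _ _ (h.fwd P f hf)
  · rw [him' hf.le]
    exact h.bwd _ _ (k.bwd P f hf)

theorem subsystem {E : FusionSystem T} {E' : FusionSystem T'} (h : SysIso F F' e e')
    (k : SysIso E E' e e') (hs : E.IsSubsystemOf F) : E'.IsSubsystemOf F' := by
  refine subsystem_iff.2 fun P f hf => ?_
  have g := k.giso
  have h1 := h.fwd _ _ (isMap_le_of_subsystem hs (k.bwd P f hf))
  rw [g.symm.im_im hf.le] at h1
  exact h1.congr fun y hy => by
    simp only [Function.comp_apply, g.right y (hf.le hy), g.right _ (hf.mem_S hy)]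

theorem toFactor (h : SysIso F F' e e') : F.IsFactorSystem ⊥ h.giso.toHom F' := by
  have g := h.giso
  refine ⟨bot_le, fun s => ?_, g.range_toHom, fun P' φ' => ⟨fun hφ' => ?_, ?_⟩⟩
  · rw [Subgroup.mem_bot, ← Subgroup.coe_one S, ← Subtype.ext_iff]
    exact map_eq_one_iff _ g.toHom_injective
  · have hP' := (F'.le_of_mem hφ').1
    refine ⟨hP', ?_⟩
    rw [g.preimageAlong_toHom hP']
    obtain ⟨φ, hφ, hφf⟩ := h.bwd P' _ (isMap_toFun hφ')
    have hP := g.symm.im_le hP'
    refine ⟨φ, hφ, hP, (F.le_of_mem hφ).2, fun x => ((g.symm.mem_im_iff hP').1 x.2).2, fun x => ?_⟩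
    have hx := ((g.symm.mem_im_iff hP').1 x.2).2
    show φ' _ = e (φ x)
    rw [hφf x, Function.comp_apply, Function.comp_apply, toFun_apply φ' hx,
      g.right _ ((F'.le_of_mem hφ').2 _)]
    rfl
  · rintro ⟨hP', φ, hφ, hP, hφS, hmem, hall⟩
    have hpre := g.preimageAlong_toHom hP'
    have h1 := h.fwd _ _ (isMap_toFun hφ)
    have him : im e (preimageAlong g.toHom P') = P' := by rw [hpre, g.symm.im_im hP']
    rw [him] at h1
    refine mem_hom_of_isMap h1 fun y => ?_
    have hy : e' y ∈ preimageAlong g.toHom P' := by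
      rw [hpre]; exact g.symm.mem_im_of_mem hP' y.2
    rw [Function.comp_apply, Function.comp_apply, toFun_apply φ hy]
    refine Eq.trans ?_ (hall ⟨e' y, hy⟩)
    exact congrArg φ' (Subtype.ext (g.right y (hP' y.2)).symm)

end SysIso

/-- A factor system modulo the trivial subgroup is isomorphic. -/
theorem sysIso_of_isFactorSystem {θ : S →* Ω'} (hE : F.IsFactorSystem ⊥ θ F')
    (g : GIso S S' e e') (he : ∀ x : S, θ x = e x) : SysIso F F' e e' := by
  have hθ : θ = g.toHom := MonoidHom.ext he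
  subst hθ
  obtain ⟨-, -, -, hhom⟩ := hE
  refine ⟨g, fun P f hf => ?_, fun P' f hf => ?_⟩
  · have hP := hf.le
    have key : ∀ y : im e P, e' (y : Ω') ∈ P := fun y => ((g.mem_im_iff hP).1 y.2).2
    have keyS : ∀ y : im e P, (y : Ω') ∈ S' := fun y => g.im_le hP y.2
    let φ' : im e P →* Ω' := MonoidHom.mk' (fun y => e (f (e' y))) fun a b => by
      show e (f (e' ((a : Ω') * b))) = _
      rw [g.map_mul' (keyS a) (keyS b), hf.map_mul (key a) (key b),
        g.map_mul _ (hf.mem_S (key a)) _ (hf.mem_S (key b))]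
    refine ⟨φ', (hhom _ φ').2 ⟨g.im_le hP, ?_⟩, fun _ => rfl⟩
    rw [g.preimageAlong_toHom (g.im_le hP), g.im_im hP]
    obtain ⟨φ, hφ, hφf⟩ := hf
    refine ⟨φ, hφ, hP, (F.le_of_mem hφ).2, fun x => g.mem_im_of_mem hP x.2, fun x => ?_⟩
    show e (f (e' (e x))) = e (φ x)
    rw [g.left _ (hP x.2), hφf x]
  · obtain ⟨φ', hφ', hφ'f⟩ := hf
    obtain ⟨hP', φ, hφ, hP, hφS, hmem, hall⟩ := (hhom P' φ').1 hφ'
    have hpre := g.preimageAlong_toHom hP'
    refine hpre ▸ (isMap_toFun hφ).congr fun x hx => ?_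
    rw [toFun_apply φ hx, Function.comp_apply, Function.comp_apply]
    have h2 : φ' ⟨e x, hmem ⟨x, hx⟩⟩ = e (φ ⟨x, hx⟩) := hall ⟨x, hx⟩
    rw [← hφ'f ⟨e x, hmem ⟨x, hx⟩⟩, h2, g.left _ (hφS _)]

theorem stronglyClosed_bot (F : FusionSystem S) : F.StronglyClosed ⊥ :=
  stronglyClosed_iff.2 ⟨bot_le, fun R f hR hf x hx => by
    rw [Subgroup.mem_bot.1 (hR hx), hf.map_one]; exact one_mem _⟩

/-- Every system has an image under an isomorphism of its underlying group. -/
theorem exists_image [Finite T] (g : GIso T T' e e') (E : FusionSystem T) :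
    ∃ E' : FusionSystem T', SysIso E E' e e' := by
  obtain ⟨E', hE'⟩ := exists_isFactorSystem (stronglyClosed_bot E) g.toHom (fun s => by
    rw [Subgroup.mem_bot, ← Subgroup.coe_one T, ← Subtype.ext_iff]
    exact map_eq_one_iff _ g.toHom_injective) g.range_toHom
  exact ⟨E', sysIso_of_isFactorSystem hE' g fun _ => rfl⟩

namespace SysIso

theorem saturated [Finite S] [Fact p.Prime] (hS : IsPGroup p S) (h : SysIso F F' e e')
    (hF : F.IsSaturated p) : F'.IsSaturated p :=
  isSaturated_of_isFactorSystem hS hF (stronglyClosed_bot F) h.toFactor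

theorem finite (h : SysIso F F' e e') [Finite S] : Finite S' :=
  Finite.of_surjective (fun x : S => (⟨e x, h.giso.map x x.2⟩ : S')) fun y =>
    ⟨⟨e' y, h.giso.map' y y.2⟩, Subtype.ext (h.giso.right y y.2)⟩

theorem isPGroup (h : SysIso F F' e e') (hS : IsPGroup p S) : IsPGroup p S' := by
  rw [← h.giso.range_toHom]
  exact hS.of_surjective _ h.giso.toHom.rangeRestrict_surjective

theorem stronglyClosed (h : SysIso F F' e e') (hT : F.StronglyClosed T) :
    F'.StronglyClosed (im e T) := by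
  have g := h.giso
  obtain ⟨hTS, hcl⟩ := stronglyClosed_iff.1 hT
  refine stronglyClosed_iff.2 ⟨g.im_le hTS, fun R f hR hf x hx => ?_⟩
  have h1 := hcl _ _ ((g.symm.im_mono hR).trans (g.im_im hTS).le) (h.bwd R f hf) (e' x)
    (g.symm.mem_im_of_mem hf.le hx)
  rw [Function.comp_apply, Function.comp_apply, g.right x (hf.le hx)] at h1
  exact (g.mem_im_iff hTS).2 ⟨hf.mem_S hx, h1⟩

end SysIso

end CfsgLib.Fusion.Transport
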