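import Cfsg.Agent.Lib.Fusion.System.Transport

/-!
# Transport of normal subsystems and quasisimple systems along isomorphisms
-/

set_option autoImplicit false
set_option linter.style.haveILetI false

open Subgroup
open scoped Classical

namespace CfsgLib.Fusion.Transport

open Cfsg (FusionSystem)
open Cfsg.FusionSystem (normalizerIn centralizerIn preimageAlong imageAlong InducedAlong)
open CfsgLib.Fusion

universe u

variable {Ω Ω' : Type u} [Group Ω] [Group Ω'] {S T P Q : Subgroup Ω} {S' T' : Subgroup Ω'}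
  {e : Ω → Ω'} {e' : Ω' → Ω} {p : ℕ} {F : FusionSystem S} {F' : FusionSystem S'}

/-- `a` carries `T` onto itself and is a map of `F` there. -/
def IsAut (F : FusionSystem S) (T : Subgroup Ω) (a : Ω → Ω) : Prop := IsMap F T a ∧ img T a = T

theorem isAut_autFun (hT : T ≤ S) {α : MulAut T} (hα : α ∈ F.autGroup T) : IsAut F T (autFun α) :=
  ⟨(mem_autGroup_iff hT).1 hα, img_autFun α⟩

/-- The data of a normal subsystem, in terms of functions. -/
structure NormalData (E : FusionSystem T) (F : FusionSystem S) (p : ℕ) : Prop where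
  satE : E.IsSaturated p
  satF : F.IsSaturated p
  sub : E.IsSubsystemOf F
  closed : F.StronglyClosed T
  inv : ∀ (P : Subgroup Ω) (f a : Ω → Ω), IsMap E P f → IsAut F T a →
    ∃ h, IsMap E (img P a) h ∧ ∀ x ∈ P, h (a x) = a (f x)
  frat : ∀ (P : Subgroup Ω) (f : Ω → Ω), P ≤ T → IsMap F P f →
    ∃ a f0, IsAut F T a ∧ IsMap E P f0 ∧ ∀ x ∈ P, f x = a (f0 x)
  ext : ∀ a : Ω → Ω, IsAut E T a → ∃ b, IsAut F (T ⊔ centralizerIn S T) b ∧ (∀ x ∈ T, b x = a x) ∧
    ∀ c ∈ centralizerIn S T, c⁻¹ * b c ∈ T ⊓ centralizer (T : Set Ω)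

theorem normalData_iff {E : FusionSystem T} : E.IsNormalIn F p ↔ NormalData E F p := by
  constructor
  · rintro ⟨⟨hsE, hsF, hsub, hcl, hinv, hfr⟩, hext⟩
    have hTS := hcl.1
    refine ⟨hsE, hsF, hsub, hcl, fun P f a hf ha => ?_, fun P f hP hf => ?_, fun a ha => ?_⟩
    · obtain ⟨φ, hφ, hφf⟩ := hf
      obtain ⟨hPT, hφT⟩ := E.le_of_mem hφ
      obtain ⟨χ, hχ, hχe⟩ := hinv P hPT φ hφ _ (autOf_mem ha.1 ha.2)
      have himg : (P.subgroupOf T).map (T.subtype.comp (autOf ha.1 ha.2).toMonoidHom) = img P a := by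
        rw [map_subgroupOf_eq_img hPT]
        exact IsMap.img_congr fun x hx => autFun_autOf ha.1 ha.2 (hPT hx)
      refine ⟨toFun χ, himg ▸ isMap_toFun hχ, fun x hx => ?_⟩
      have hax : a x ∈ (P.subgroupOf T).map (T.subtype.comp (autOf ha.1 ha.2).toMonoidHom) :=
        himg.ge (Subgroup.subset_closure ⟨x, hx, rfl⟩)
      rw [toFun_apply χ hax, ← hφf ⟨x, hx⟩]
      exact hχe ⟨x, hx⟩ (hφT _) hax
    · obtain ⟨φ, hφ, hφf⟩ := hf
      obtain ⟨α, hα, φ₀, hφ₀, he⟩ := hfr P hP φ hφ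
      refine ⟨autFun α, toFun φ₀, isAut_autFun hTS hα, isMap_toFun hφ₀, fun x hx => ?_⟩
      rw [toFun_apply φ₀ hx, autFun_apply α ((E.le_of_mem hφ₀).2 _), ← hφf ⟨x, hx⟩]
      exact he ⟨x, hx⟩ _
    · obtain ⟨β, hβ, h1, h2⟩ := hext _ (autOf_mem ha.1 ha.2)
      refine ⟨autFun β, isAut_autFun (sup_le hTS inf_le_left) hβ, fun x hx => ?_, fun c hc => ?_⟩
      · exact (autFun_apply β ((le_sup_left : T ≤ T ⊔ centralizerIn S T) hx)).trans (h1 ⟨x, hx⟩)
      · rw [autFun_apply β ((le_sup_right : centralizerIn S T ≤ T ⊔ centralizerIn S T) hc)]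
        exact h2 ⟨c, (le_sup_right : centralizerIn S T ≤ T ⊔ centralizerIn S T) hc⟩ hc
  · intro h
    have hTS := h.closed.1
    refine ⟨⟨h.satE, h.satF, h.sub, h.closed, fun P hPT φ hφ α hα => ?_, fun P hP φ hφ => ?_⟩,
      fun α hα => ?_⟩
    · obtain ⟨k, hk, hke⟩ := h.inv P _ _ (isMap_toFun hφ) (isAut_autFun hTS hα)
      have himg : img P (autFun α) = (P.subgroupOf T).map (T.subtype.comp α.toMonoidHom) :=
        (map_subgroupOf_eq_img hPT (T.subtype.comp α.toMonoidHom)).symm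
      rw [himg] at hk
      obtain ⟨χ, hχ, hχk⟩ := hk
      refine ⟨χ, hχ, fun x hφx hαx => ?_⟩
      rw [hχk]
      show k ((α ⟨x, hPT x.2⟩ : T) : Ω) = _
      rw [← autFun_apply α (hPT x.2), hke x x.2, toFun_coe, autFun_apply α hφx]
    · obtain ⟨a, f0, ha, hf0, he⟩ := h.frat P _ hP (isMap_toFun hφ)
      obtain ⟨φ₀, hφ₀, hφ₀f⟩ := hf0
      refine ⟨autOf ha.1 ha.2, autOf_mem ha.1 ha.2, φ₀, hφ₀, fun x hx => ?_⟩
      rw [← toFun_coe φ x, he x x.2, ← hφ₀f x]
      exact (autFun_autOf ha.1 ha.2 hx).symm.trans (autFun_apply _ hx)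
    · obtain ⟨b, hb, h1, h2⟩ := h.ext _ (isAut_autFun le_rfl hα)
      refine ⟨autOf hb.1 hb.2, autOf_mem hb.1 hb.2, fun x => ?_, fun c hc => ?_⟩
      · exact (h1 x x.2).trans (autFun_coe α x)
      · exact h2 c hc

namespace SysIso

theorem im_img (h : SysIso F F' e e') {f : Ω → Ω} (hf : IsMap F P f) :
    im e (img P f) = img (im e P) (e ∘ f ∘ e') := by
  have g := h.giso
  ext y
  rw [(h.fwd P f hf).mem_img, g.mem_im hf.img_le]
  constructor
  · rintro ⟨x, hx, rfl⟩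
    obtain ⟨w, hw, rfl⟩ := hf.mem_img.1 hx
    exact ⟨e w, g.mem_im_of_mem hf.le hw, by simp only [Function.comp_apply, g.left w (hf.le hw)]⟩
  · rintro ⟨x, hx, rfl⟩
    exact ⟨f (e' x), hf.mem_img.2 ⟨_, ((g.mem_im_iff hf.le).1 hx).2, rfl⟩, rfl⟩

theorem isAut (h : SysIso F F' e e') {a : Ω → Ω} (ha : IsAut F T a) :
    IsAut F' (im e T) (e ∘ a ∘ e') :=
  ⟨h.fwd _ _ ha.1, by rw [← h.im_img ha.1, ha.2]⟩

theorem normal [Finite S] [Fact p.Prime] (hS : IsPGroup p S) {E : FusionSystem T}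
    {E' : FusionSystem T'} (h : SysIso F F' e e') (k : SysIso E E' e e') (hn : E.IsNormalIn F p) :
    E'.IsNormalIn F' p := by
  have D := normalData_iff.1 hn
  have g := h.giso
  have gT := k.giso
  have hTS := D.closed.1
  haveI : Finite T := finite_of_le hTS
  obtain rfl : im e T = T' := gT.im_top
  refine normalData_iff.2 ⟨k.saturated (hS.to_le hTS) D.satE, h.saturated hS D.satF,
    h.subsystem k D.sub, h.stronglyClosed D.closed, fun P f a hf ha => ?_, fun P f hP hf => ?_,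
    fun a ha => ?_⟩
  · have ha0 := h.symm.isAut ha
    rw [g.im_im hTS] at ha0
    have hf0 := k.bwd P f hf
    obtain ⟨q, hq, hqe⟩ := D.inv _ _ _ hf0 ha0
    have hP0 : IsMap F (im e' P) (e' ∘ a ∘ e) := ha0.1.mono hf0.le
    have hPS : P ≤ S' := (isMap_le_of_subsystem (h.subsystem k D.sub) hf).le
    have h1 := k.fwd _ _ hq
    rw [h.im_img hP0, g.symm.im_im hPS] at h1
    have himg : img P (e ∘ (e' ∘ a ∘ e) ∘ e') = img P a := IsMap.img_congr fun x hx => by
      simp only [Function.comp_apply, g.right x (hPS hx), g.right _ (ha.1.mem_S (hf.le hx))]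
    rw [himg] at h1
    refine ⟨_, h1, fun x hx => ?_⟩
    have h2 := hqe (e' x) (g.symm.mem_im_of_mem hPS hx)
    simp only [Function.comp_apply, g.right x (hPS hx)] at h2
    simp only [Function.comp_apply, h2]
    rw [g.right _ (g.im_le hTS (hf.mem_S hx)), g.right _ (ha.1.mem_S (hf.mem_S hx))]
  · obtain ⟨a, f0, ha, hf0, he⟩ := D.frat (im e' P) _
      ((g.symm.im_mono hP).trans (g.im_im hTS).le) (h.bwd P f hf)
    have h1 := k.fwd _ _ hf0
    rw [g.symm.im_im hf.le] at h1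
    refine ⟨_, _, h.isAut ha, h1, fun x hx => ?_⟩
    have h2 := he (e' x) (g.symm.mem_im_of_mem hf.le hx)
    simp only [Function.comp_apply, g.right x (hf.le hx)] at h2
    simp only [Function.comp_apply]
    rw [g.left _ (hTS (hf0.mem_S (g.symm.mem_im_of_mem hf.le hx))), ← h2, g.right _ (hf.mem_S hx)]
  · have ha0 := k.symm.isAut ha
    rw [g.im_im hTS] at ha0
    obtain ⟨b, hb, h1, h2⟩ := D.ext _ ha0
    have hC : centralizerIn S T ≤ S := inf_le_left
    have hCim : im e (centralizerIn S T) = centralizerIn S' (im e T) := by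
      rw [centralizerIn, g.im_centralizer le_rfl hTS, g.im_top]; rfl
    have h3 := h.isAut hb
    rw [g.im_sup hTS hC, hCim] at h3
    refine ⟨_, h3, fun x hx => ?_, fun c hc => ?_⟩
    · obtain ⟨hxS, hx'⟩ := (g.mem_im_iff hTS).1 hx
      have h4 := h1 _ hx'
      simp only [Function.comp_apply, g.right x hxS] at h4
      simp only [Function.comp_apply, h4]
      exact g.right _ (g.im_le hTS (ha.1.mem_S hx))
    · rw [← hCim] at hc
      obtain ⟨hcS, hc'⟩ := (g.mem_im_iff hC).1 hc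
      have h4 := g.mem_im_of_mem (inf_le_left.trans hTS) (h2 _ hc')
      have hbS : b (e' c) ∈ S := hb.1.mem_S ((le_sup_right : _ ≤ T ⊔ centralizerIn S T) hc')
      rw [g.im_centralizer hTS hTS, g.map_mul _ (inv_mem (hC hc')) _ hbS, g.map_inv (hC hc'),
        g.right c hcS] at h4
      exact h4

theorem center_le [Finite S] (h : SysIso F F' e e') : im e F.center ≤ F'.center := by
  have g := h.giso
  obtain ⟨hZS, hZ⟩ := isCentral_iff.1 (isCentral_center (F := F))
  refine le_sSup (isCentral_iff.2 ⟨g.im_le hZS, fun P f hf => ?_⟩)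
  obtain ⟨q, hq, h1, h2⟩ := hZ _ _ (h.bwd P f hf)
  have hP0 : im e' P ≤ S := g.symm.im_le hf.le
  have h3 := h.fwd _ _ hq
  rw [g.im_sup hP0 hZS, g.symm.im_im hf.le] at h3
  refine ⟨_, h3, fun x hx => ?_, fun x hx => ?_⟩
  · have h4 := h1 _ (g.symm.mem_im_of_mem hf.le hx)
    simp only [Function.comp_apply, g.right x (hf.le hx)] at h4
    simp only [Function.comp_apply, h4, g.right _ (hf.mem_S hx)]
  · obtain ⟨hxS, hx'⟩ := (g.mem_im_iff hZS).1 hx
    simp only [Function.comp_apply, h2 _ hx', g.right x hxS]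

theorem center_eq [Finite S] (h : SysIso F F' e e') : im e F.center = F'.center := by
  haveI := h.finite
  refine le_antisymm h.center_le fun y hy => ?_
  have hyS : y ∈ S' := (isCentral_center (F := F')).1 hy
  exact (h.giso.mem_im_iff (isCentral_center (F := F)).1).2
    ⟨hyS, h.symm.center_le (h.giso.symm.mem_im_of_mem (isCentral_center (F := F')).1 hy)⟩

theorem hyperfocal [Finite S] [Fact p.Prime] (h : SysIso F F' e e') :
    F'.hyperfocalSubgroup p = im e (F.hyperfocalSubgroup p) := by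
  have g := h.giso
  obtain ⟨-, -, -, hhom⟩ := h.toFactor
  have hmor : F.IsSurjectiveMorphism F' g.toHom := by
    refine ⟨⟨fun s => g.map s s.2, fun P φ hφ => ?_⟩, g.range_toHom, fun P' hP' φ' hφ' => ?_⟩
    · obtain ⟨hP, hφS⟩ := F.le_of_mem hφ
      obtain ⟨φ', hφ', he⟩ := h.fwd P _ (isMap_toFun hφ)
      rw [g.imageAlong_toHom hP]
      refine ⟨φ', hφ', hP, hφS, fun x => g.mem_im_of_mem hP x.2, fun x => ?_⟩
      rw [he]
      show e (toFun φ (e' (e x))) = e (φ x)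
      rw [g.left _ (hP x.2), toFun_coe]
    · exact ((hhom P' φ').1 hφ').2
  rw [hyperfocal_of_surjectiveMorphism hmor, ← g.imageAlong_toHom hyperfocal_le_S]
  rfl

end SysIso

theorem stronglyClosed_center [Finite S] (F : FusionSystem S) : F.StronglyClosed F.center :=
  stronglyClosed_iff.2 ⟨(isCentral_center (F := F)).1, fun R f hR hf x hx => by
    rw [center_fixed hf hx (hR hx)]; exact hR hx⟩

/-- Compatible factor systems of isomorphic systems are isomorphic: one direction. -/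
theorem factor_fwd {A B : Type u} [Group A] [Group B] {W : Subgroup A} {W' : Subgroup B}
    {R : Subgroup Ω} {R' : Subgroup Ω'} {θ : S →* A} {θ' : S' →* B} {G : FusionSystem W}
    {G' : FusionSystem W'} {d : A → B} {d' : B → A} (h : SysIso F F' e e') (k : GIso W W' d d')
    (hG : F.IsFactorSystem R θ G) (hG' : F'.IsFactorSystem R' θ' G')
    (hcomm : ∀ x : S, d (θ x) = θ' ⟨e x, h.giso.map x x.2⟩) (P : Subgroup A) (f : A → A)
    (hf : IsMap G P f) : IsMap G' (im d P) (d ∘ f ∘ d') := by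
  have g := h.giso
  obtain ⟨φ', hφ', hφ'f⟩ := hf
  obtain ⟨hPW, hGS⟩ := G.le_of_mem hφ'
  obtain ⟨P0, hP0⟩ : ∃ P0, P0 = preimageAlong θ P := ⟨_, rfl⟩
  obtain ⟨-, hex⟩ := (hG.2.2.2 P φ').1 hφ'
  rw [← hP0] at hex
  obtain ⟨φ, hφ, hP, hφS, hmem, hall⟩ := hex
  have hpre : preimageAlong θ' (im d P) = im e P0 := by
    ext y
    rw [mem_preimageAlong, g.mem_im_iff hP]
    refine and_congr_right fun hy => ?_
    rw [ext1_apply θ' hy, hP0, mem_preimageAlong, ext1_apply θ (g.map' y hy)]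
    have h1 : θ' ⟨y, hy⟩ = d (θ ⟨e' y, g.map' y hy⟩) := by
      rw [hcomm]; exact congrArg θ' (Subtype.ext (g.right y hy).symm)
    have hWr : θ ⟨e' y, g.map' y hy⟩ ∈ W := hG.2.2.1.le ⟨_, rfl⟩
    rw [h1, k.mem_im_iff hPW, k.left _ hWr]
    exact ⟨fun hh => ⟨g.map' y hy, hh.2⟩, fun hh => ⟨k.map _ hWr, hh.2⟩⟩
  have key : ∀ y : im d P, d' (y : B) ∈ P := fun y => ((k.mem_im_iff hPW).1 y.2).2
  have keyW : ∀ y : im d P, (y : B) ∈ W' := fun y => k.im_le hPW y.2
  let ψ : im d P →* B := MonoidHom.mk' (fun y => d (φ' ⟨d' y, key y⟩)) fun a b => by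
    rw [← k.map_mul _ (hGS _) _ (hGS _), ← map_mul]
    exact congrArg d (congrArg φ' (Subtype.ext (k.map_mul' (keyW a) (keyW b))))
  refine ⟨ψ, (hG'.2.2.2 _ ψ).2 ⟨k.im_le hPW, ?_⟩, fun y => congrArg d (hφ'f ⟨d' y, key y⟩)⟩
  rw [hpre]
  obtain ⟨χ, hχ, hχe⟩ := h.fwd _ _ (isMap_toFun hφ)
  have hP0S : im e P0 ≤ S' := g.im_le hP
  have hmem' : ∀ x : im e P0, θ' ⟨x, hP0S x.2⟩ ∈ im d P := fun x => by
    have := (mem_preimageAlong.1 (hpre.ge x.2)).2
    rwa [ext1_apply θ' (hP0S x.2)] at this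
  refine ⟨χ, hχ, hP0S, (F'.le_of_mem hχ).2, hmem', fun x => ?_⟩
  have hx := ((g.mem_im_iff hP).1 x.2).2
  have h1 : θ' ⟨x, hP0S x.2⟩ = d (θ ⟨e' x, hP hx⟩) := by
    rw [hcomm]; exact congrArg θ' (Subtype.ext (g.right _ (hP0S x.2)).symm)
  show d (φ' ⟨d' (θ' ⟨x, hP0S x.2⟩), _⟩) = θ' ⟨χ x, _⟩
  have h2 : d' (θ' ⟨x, hP0S x.2⟩) = θ ⟨e' x, hP hx⟩ := by
    rw [h1, k.left _ (hG.2.2.1.le ⟨_, rfl⟩)]
  have h3 : χ x = e (φ ⟨e' x, hx⟩) := by
    rw [hχe]; exact congrArg e (toFun_apply φ hx)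
  calc d (φ' ⟨d' (θ' ⟨x, hP0S x.2⟩), key ⟨_, hmem' x⟩⟩) = d (θ ⟨φ ⟨e' x, hx⟩, hφS _⟩) :=
        congrArg d ((congrArg φ' (Subtype.ext h2)).trans (hall ⟨e' x, hx⟩))
    _ = θ' ⟨χ x, (F'.le_of_mem hχ).2 x⟩ := (hcomm _).trans (congrArg θ' (Subtype.ext h3.symm))

theorem SysIso.quasisimple [Finite S] [Fact p.Prime] (hS : IsPGroup p S) (h : SysIso F F' e e')
    (hq : F.Quasisimple p) : F'.Quasisimple p := by
  obtain ⟨hsat, hhyp, hsim⟩ := hq
  have g := h.giso
  haveI := h.finite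
  refine ⟨h.saturated hS hsat, by rw [h.hyperfocal, hhyp, g.im_top], fun G' hG' => ?_⟩
  set Z := F.center
  set Z' := F'.center
  obtain ⟨G, hG⟩ := exists_isFactorSystem (stronglyClosed_center F)
    (QuotientGroup.mk' (Z.subgroupOf S)) (fun s => by
      rw [QuotientGroup.mk'_apply, QuotientGroup.eq_one_iff, Subgroup.mem_subgroupOf])
    (MonoidHom.range_eq_top.2 (QuotientGroup.mk'_surjective _))
  let eS : S ≃* S' :=
    { toFun := fun x => ⟨e x, g.map x x.2⟩
      invFun := fun y => ⟨e' y, g.map' y y.2⟩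
      left_inv := fun x => Subtype.ext (g.left x x.2)
      right_inv := fun y => Subtype.ext (g.right y y.2)
      map_mul' := fun x y => Subtype.ext (g.map_mul x x.2 y y.2) }
  have hmap : (Z.subgroupOf S).map eS.toMonoidHom = Z'.subgroupOf S' := by
    ext y
    rw [Subgroup.mem_map_equiv, Subgroup.mem_subgroupOf, Subgroup.mem_subgroupOf, show Z' = im e Z from h.center_eq.symm,
      g.mem_im_iff (isCentral_center (F := F)).1]
    exact ⟨fun hy => ⟨y.2, hy⟩, fun hy => hy.2⟩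
  let c := QuotientGroup.congr (Z.subgroupOf S) (Z'.subgroupOf S') eS hmap
  have kg : GIso (⊤ : Subgroup (S ⧸ Z.subgroupOf S)) (⊤ : Subgroup (S' ⧸ Z'.subgroupOf S')) c c.symm :=
    ⟨fun _ _ => mem_top _, fun _ _ => mem_top _, fun x _ => c.symm_apply_apply x,
      fun y _ => c.apply_symm_apply y, fun x _ y _ => map_mul c x y⟩
  have hk : SysIso G G' c c.symm := by
    refine ⟨kg, factor_fwd h kg hG hG' fun x => rfl, factor_fwd h.symm kg.symm hG' hG fun y => ?_⟩
    refine (c.symm_apply_eq).2 ?_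
    exact congrArg (QuotientGroup.mk' _) (Subtype.ext (g.right y y.2).symm)
  obtain ⟨hGsat, hne, hnor⟩ := hsim G hG
  have hQp : IsPGroup p (⊤ : Subgroup (S ⧸ Z.subgroupOf S)) := (hS.to_quotient _).to_subgroup ⊤
  have hQ'p : IsPGroup p (⊤ : Subgroup (S' ⧸ Z'.subgroupOf S')) :=
    ((h.isPGroup hS).to_quotient _).to_subgroup ⊤
  refine ⟨hk.saturated hQp hGsat, fun hb => hne ?_, fun W N hN => ?_⟩
  · rw [← kg.symm.im_top, hb]
    exact le_bot_iff.1 fun y hy => by
      obtain ⟨x, hx, rfl⟩ := (kg.symm.mem_im bot_le).1 hy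
      rw [Subgroup.mem_bot.1 hx, map_one]; exact one_mem _
  · have hW : W ≤ ⊤ := le_top
    haveI : Finite W := finite_of_le hW
    obtain ⟨N0, hN0⟩ := exists_image (kg.symm.restrict hW) N
    rcases hnor _ N0 (hk.symm.normal hQ'p hN0 hN) with hb | ⟨htop, heq⟩
    · left
      rw [← kg.symm.im_im hW, hb]
      exact le_bot_iff.1 fun y hy => by
        obtain ⟨x, hx, rfl⟩ := (kg.mem_im bot_le).1 hy
        rw [Subgroup.mem_bot.1 hx, map_one]; exact one_mem _
    · have hW' : W = ⊤ := by rw [← kg.symm.im_im hW, htop, kg.im_top]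
      refine Or.inr ⟨hW', fun P => ?_⟩
      ext φ
      constructor
      · intro hφ
        exact (hk.subsystem hN0.symm (fun R => (heq R).le)) P hφ
      · intro hφ
        have hs : G.IsSubsystemOf N0 := fun R => (heq R).ge
        exact (hN0.symm.subsystem hk hs) P hφ

end CfsgLib.Fusion.Transport
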