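import Cfsg.Agent.Lib.Fusion.System.TateHyperfocal
import Cfsg.Agent.Lib.Fusion.System.FactorSat
import Cfsg.Agent.Lib.Fusion.System.FactorHyperfocal
import Cfsg.Agent.Lib.Fusion.System.Puig
import Cfsg.Agent.Lib.Fusion.System.Inner

/-!
# Weakly embedded subgroups of one order with inner normalizers

If every subgroup `Q` of order `n` meets and joins some strongly closed subgroup in strongly
closed subgroups, and normalizers of fully normalized subgroups of order `n` are inner, then the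
system is inner: automizers of subgroups of order at least `n` are `p`-groups, and a largest
strongly closed subgroup `T` not containing the hyperfocal subgroup would have `F/T` inner.
-/

set_option autoImplicit false
set_option linter.style.haveILetI false
set_option linter.unusedSectionVars false

open Subgroup
open scoped commutatorElement Pointwise

namespace CfsgLib.Fusion.WeakEmb

open Cfsg (FusionSystem autInducedBy)
open Cfsg.FusionSystem (normalizerIn centralizerIn preimageAlong imageAlong InducedAlong)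

universe u

variable {Ω : Type u} [Group Ω] {S : Subgroup Ω} {F : FusionSystem S} {p : ℕ}

theorem map_mem_stronglyClosed {T R : Subgroup Ω} {g : Ω → Ω} (hT : F.StronglyClosed T)
    (hg : IsMap F R g) {x : Ω} (hxT : x ∈ T) (hxR : x ∈ R) : g x ∈ T :=
  (stronglyClosed_iff.1 hT).2 _ g (Subgroup.zpowers_le.2 hxT)
    (hg.mono (Subgroup.zpowers_le.2 hxR)) x (Subgroup.mem_zpowers x)

theorem stronglyClosed_inf {T T' : Subgroup Ω} (h : F.StronglyClosed T) (h' : F.StronglyClosed T') :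
    F.StronglyClosed (T ⊓ T') :=
  stronglyClosed_iff.2 ⟨inf_le_left.trans h.1, fun _ _ hR hf _ hx =>
    ⟨map_mem_stronglyClosed h hf (hR hx).1 hx, map_mem_stronglyClosed h' hf (hR hx).2 hx⟩⟩

/-- Invariant under all maps from `R` into itself. -/
def Inv (F : FusionSystem S) (R H : Subgroup Ω) : Prop :=
  H ≤ R ∧ ∀ f : Ω → Ω, IsMap F R f → (∀ x ∈ R, f x ∈ R) → ∀ x ∈ H, f x ∈ H

theorem inv_sup {R H H' : Subgroup Ω} (h : Inv F R H) (h' : Inv F R H') : Inv F R (H ⊔ H') := by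
  refine ⟨sup_le h.1 h'.1, fun f hf hfR x hx => ?_⟩
  obtain ⟨φ, hφ, hφf⟩ := id hf
  have key : (H ⊔ H') ≤ ((H ⊔ H').comap φ).map R.subtype := by
    refine sup_le (fun y hy => ?_) (fun y hy => ?_)
    · exact ⟨⟨y, h.1 hy⟩, by
        show φ _ ∈ H ⊔ H'
        rw [hφf]; exact Subgroup.mem_sup_left (h.2 f hf hfR y hy), rfl⟩
    · exact ⟨⟨y, h'.1 hy⟩, by
        show φ _ ∈ H ⊔ H'
        rw [hφf]; exact Subgroup.mem_sup_right (h'.2 f hf hfR y hy), rfl⟩
  obtain ⟨z, hz, rfl⟩ := key hx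
  have := hz
  rw [SetLike.mem_coe, Subgroup.mem_comap, hφf] at this
  exact this

theorem inv_inf_closed {R H T : Subgroup Ω} (h : Inv F R H) (hT : F.StronglyClosed T) :
    Inv F R (T ⊓ H) :=
  ⟨inf_le_right.trans h.1, fun f hf hfR x hx =>
    ⟨map_mem_stronglyClosed hT hf hx.1 (h.1 hx.2), h.2 f hf hfR x hx.2⟩⟩

theorem inv_self (R : Subgroup Ω) : Inv F R R := ⟨le_rfl, fun _ _ h => h⟩

theorem inv_bot (R : Subgroup Ω) : Inv F R ⊥ :=
  ⟨bot_le, fun f hf _ x hx => by rw [Subgroup.mem_bot.1 hx, hf.map_one]; exact one_mem _⟩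

theorem le_normalizer_of_inv {R H : Subgroup Ω} (hR : R ≤ S) (h : Inv F R H) :
    R ≤ Subgroup.normalizer (H : Set Ω) := by
  intro r hr
  have key : ∀ r ∈ R, ∀ x ∈ H, r * x * r⁻¹ ∈ H := fun r hr x hx =>
    h.2 _ (isMap_conj hR (hR hr)) (fun y hy => R.mul_mem (R.mul_mem hr hy) (R.inv_mem hr)) x hx
  rw [Subgroup.mem_normalizer_iff]
  exact fun x => ⟨key r hr x, fun hx => by simpa [mul_assoc] using key r⁻¹ (inv_mem hr) _ hx⟩

variable [Finite S] [Fact p.Prime]

/-- Intermediate subgroups of every order in a `p`-group. -/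
theorem exists_between (hS : IsPGroup p S) {L U : Subgroup Ω} (hLU : L ≤ U) (hU : U ≤ S) {d : ℕ}
    (h1 : Nat.card L ≤ p ^ d) (h2 : p ^ d ≤ Nat.card U) :
    ∃ Q, L ≤ Q ∧ Q ≤ U ∧ Nat.card Q = p ^ d := by
  haveI := finite_of_le hU
  haveI := finite_of_le (hLU.trans hU)
  have hp := (Fact.out : p.Prime).one_lt
  obtain ⟨j, hj⟩ := (IsPGroup.iff_card (p := p)).1 (hS.to_le (hLU.trans hU))
  obtain ⟨m, hm⟩ := (IsPGroup.iff_card (p := p)).1 (hS.to_le hU)
  rw [hj] at h1
  rw [hm] at h2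
  have hjd : j ≤ d := (Nat.pow_le_pow_iff_right hp).1 h1
  have hdm : d ≤ m := (Nat.pow_le_pow_iff_right hp).1 h2
  obtain ⟨Q, hQ, hLQ⟩ := Sylow.exists_subgroup_card_pow_prime_le p
    (n := j) (m := d) (hm ▸ pow_dvd_pow p hdm) (L.subgroupOf U)
    (by rw [Nat.card_congr (subgroupOfEquivOfLe hLU).toEquiv, hj]) hjd
  refine ⟨Q.map U.subtype, ?_, Subgroup.map_subtype_le Q, ?_⟩
  · rw [← Subgroup.map_subgroupOf_eq_of_le hLU]
    exact Subgroup.map_mono hLQ
  · rw [Subgroup.card_map_of_injective U.subtype_injective, hQ]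

/-- The hypotheses. -/
structure Hyp (F : FusionSystem S) (p d : ℕ) : Prop where
  lt : p ^ d < Nat.card S
  weak : ∀ Q : Subgroup Ω, Q ≤ S → Nat.card Q = p ^ d →
    ∃ P : Subgroup Ω, F.StronglyClosed P ∧ F.StronglyClosed (Q ⊔ P) ∧ F.StronglyClosed (Q ⊓ P)
  inner : ∀ H : Subgroup Ω, F.IsFullyNormalized H → Nat.card H = p ^ d → NInner F H

theorem mem_inv_of_sup {Q P : Subgroup Ω} (hn : Q ≤ Subgroup.normalizer (P : Set Ω)) {x : Ω}
    (hx : x ∈ Q ⊔ P) : ∃ q ∈ Q, ∃ y ∈ P, x = q * y := by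
  have h : x ∈ (Q : Set Ω) * (P : Set Ω) := by
    rw [← Subgroup.coe_mul_of_left_le_normalizer_right Q P hn]; exact hx
  obtain ⟨q, hq, y, hy, rfl⟩ := Set.mem_mul.1 h
  exact ⟨q, hq, y, hy, rfl⟩

theorem Hyp.exists_inv {d : ℕ} (hd : Hyp F p d) (hS : IsPGroup p S) {R : Subgroup Ω} (hR : R ≤ S)
    (hc : p ^ d ≤ Nat.card R) : ∃ H, Inv F R H ∧ Nat.card H = p ^ d := by
  haveI := finite_of_le hR
  have hfin : {H : Subgroup Ω | H ≤ R}.Finite := by
    refine ((Set.finite_univ (α := Subgroup R)).image (Subgroup.map R.subtype)).subset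
      fun H hH => ⟨H.subgroupOf R, Set.mem_univ _, Subgroup.map_subgroupOf_eq_of_le hH⟩
  obtain ⟨I, ⟨hI, hIc⟩, hImax⟩ := Set.Finite.exists_maximalFor id
    {H : Subgroup Ω | Inv F R H ∧ Nat.card H ≤ p ^ d} (hfin.subset fun H h => h.1.1)
    ⟨⊥, inv_bot R, by rw [Subgroup.card_bot]; exact Nat.one_le_pow _ _ (Fact.out : p.Prime).pos⟩
  by_contra hno
  have hIne : Nat.card I ≠ p ^ d := fun h => hno ⟨I, hI, h⟩
  obtain ⟨J, ⟨hJ, hIJ, hJc⟩, hJmin⟩ := Set.Finite.exists_minimalFor id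
    {H : Subgroup Ω | Inv F R H ∧ I ≤ H ∧ p ^ d ≤ Nat.card H} (hfin.subset fun H h => h.1.1)
    ⟨R, inv_self R, hI.1, hc⟩
  have hJS : J ≤ S := hJ.1.trans hR
  obtain ⟨Q, hIQ, hQJ, hQc⟩ := exists_between hS hIJ hJS hIc hJc
  have hQS : Q ≤ S := hQJ.trans hJS
  obtain ⟨P, hP, hQP, hQiP⟩ := hd.weak Q hQS hQc
  have hSP : S ≤ Subgroup.normalizer (P : Set Ω) :=
    (le_normalizerIn_of_stronglyClosed hP).trans inf_le_right
  have hL : Inv F R (P ⊓ J ⊔ I) := inv_sup (inv_inf_closed hJ hP) hI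
  have hLJ : P ⊓ J ⊔ I ≤ J := sup_le inf_le_right hIJ
  rcases le_or_gt (Nat.card ↥(P ⊓ J ⊔ I)) (p ^ d) with hle | hgt
  · have hPI : P ⊓ J ≤ I := le_sup_left.trans (hImax ⟨hL, hle⟩ le_sup_right)
    have hQeq : (Q ⊔ P) ⊓ J = Q := by
      refine le_antisymm (fun x hx => ?_) (le_inf le_sup_left hQJ)
      obtain ⟨q, hq, y, hy, rfl⟩ := mem_inv_of_sup (hQS.trans hSP) hx.1
      have hyJ : y ∈ J := by simpa using J.mul_mem (J.inv_mem (hQJ hq)) hx.2
      exact Q.mul_mem hq (hIQ (hPI ⟨hy, hyJ⟩))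
    exact hno ⟨Q, hQeq ▸ inv_inf_closed hJ hQP, hQc⟩
  · have hJeq : J ≤ P ⊓ J ⊔ I := hJmin ⟨hL, le_sup_right, hgt.le⟩ hLJ
    have hinv : Inv F R (I ⊔ Q ⊓ P) := by
      refine inv_sup hI ?_
      have h := inv_inf_closed (inv_self (F := F) R) hQiP
      rwa [inf_eq_left.2 (inf_le_left.trans (hQJ.trans hJ.1))] at h
    have hQP' : Q ⊓ P ≤ I := by
      have hle : I ⊔ Q ⊓ P ≤ Q := sup_le hIQ inf_le_left
      exact le_sup_right.trans (hImax ⟨hinv, (card_le_of_le' hQS hle).trans hQc.le⟩ le_sup_left)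
    have hQI : Q = I := by
      refine le_antisymm (fun x hx => ?_) hIQ
      have hx' : x ∈ I ⊔ P ⊓ J := sup_comm (P ⊓ J) I ▸ hJeq (hQJ hx)
      have hIP : I ≤ Subgroup.normalizer ((P ⊓ J : Subgroup Ω) : Set Ω) := by
        refine le_trans (le_inf ((hI.1.trans hR).trans hSP) ?_)
          Subgroup.inf_normalizer_le_normalizer_inf
        exact hI.1.trans (le_normalizer_of_inv hR hJ)
      obtain ⟨i, hi, y, hy, rfl⟩ := mem_inv_of_sup hIP hx'
      refine I.mul_mem hi (hQP' ⟨?_, hy.1⟩)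
      simpa using Q.mul_mem (Q.inv_mem (hIQ hi)) hx
    exact hIne (hQI ▸ hQc)

/-- Automorphisms of order prime to `p` of subgroups of order at least `p ^ d` are trivial. -/
theorem Hyp.eq_one_of_coprime {d : ℕ} (hd : Hyp F p d) (hS : IsPGroup p S) (hF : F.IsSaturated p)
    {R : Subgroup Ω} (hR : R ≤ S) (hc : p ^ d ≤ Nat.card R) (α : F.autGroup R)
    (hα : Nat.Coprime (orderOf α) p) : α = 1 := by
  haveI := finite_of_le hR
  haveI := finite_mulAut (P := R)
  obtain ⟨H, hH, hHc⟩ := hd.exists_inv hS hR hc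
  obtain ⟨H', hHH', hH'⟩ := exists_fullyNormalized (F := F) (hH.1.trans hR)
  obtain ⟨h₁, h₂⟩ := IsSaturated.automized_receptive hS hF hH'
  obtain ⟨θ, hθ, hθH, -⟩ := exists_map_normalizer hS h₁ h₂ hHH'
  have hRN : R ≤ normalizerIn S H := le_inf hR (le_normalizer_of_inv hR hH)
  have hθR := hθ.mono hRN
  obtain ⟨θ', hθ', h1, h2⟩ := hθR.exists_inv
  set a : Ω → Ω := autFun (α : MulAut R) with ha
  have hfm : IsMap F R a := (mem_autGroup_iff hR).1 α.2
  have haR : ∀ x ∈ R, a x ∈ R := fun x hx => autFun_mem _ hx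
  have hm : IsMap F (img R θ) (θ ∘ a ∘ θ') := (hθ'.comp hfm fun y hy => (h2 y hy).1).comp hθR
    fun y hy => haR _ (h2 y hy).1
  have hH'le : H' ≤ img R θ := hθH.ge.trans (hθR.img_mono hH.1)
  have hH'n : img R θ ≤ Subgroup.normalizer (H' : Set Ω) := by
    intro y hy
    obtain ⟨x, hx, rfl⟩ := hθR.mem_img.1 hy
    rw [← hθH]
    exact (map_mem_normalizerIn hθR hH.1 hx (hRN hx).2).2
  have hH'img : img H' (θ ∘ a ∘ θ') = H' := by
    refine img_eq_of_map_le hH'.1 hm hH'le fun y hy => ?_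
    obtain ⟨x, hx, rfl⟩ := (hθR.mono hH.1).mem_img.1 (hθH.ge hy)
    show θ (a (θ' (θ x))) ∈ H'
    rw [h1 x (hH.1 hx)]
    exact hθH.le ((hθR.mono hH.1).mem_img.2 ⟨_, hH.2 _ hfm haR x hx, rfl⟩)
  obtain ⟨s, hs, hse⟩ := hd.inner H' hH' ((isConj_card hHH').trans hHc) _ _ hm hH'le hH'n hH'img
  have hit : ∀ j : ℕ, ∀ x ∈ R,
      θ (autFun ((α ^ j : F.autGroup R) : MulAut R) x) = s ^ j * θ x * (s ^ j)⁻¹ := by
    intro j
    induction j with
    | zero =>
      intro x hx
      rw [pow_zero, pow_zero, show ((1 : F.autGroup R) : MulAut R) = 1 from rfl, autFun_one hx]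
      simp
    | succ j ih =>
      intro x hx
      rw [pow_succ', show ((α * α ^ j : F.autGroup R) : MulAut R) =
        (α : MulAut R) * (α ^ j : F.autGroup R) from rfl, autFun_mul _ _ hx]
      set z := autFun ((α ^ j : F.autGroup R) : MulAut R) x with hz
      have hzR : z ∈ R := autFun_mem _ hx
      have h3 := hse (θ z) (hθR.mem_img.2 ⟨z, hzR, rfl⟩)
      simp only [Function.comp_apply, h1 z hzR] at h3
      rw [← ha, h3, ih x hx, pow_succ']
      group
  obtain ⟨k, hk⟩ := hS ⟨s, hs⟩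
  have hk' : s ^ p ^ k = 1 := congrArg Subtype.val hk
  have hpk : α ^ p ^ k = 1 := by
    refine Subtype.ext (autFun_ext fun x hx => ?_)
    rw [show ((1 : F.autGroup R) : MulAut R) = 1 from rfl, autFun_one hx]
    refine hθR.inj (autFun_mem _ hx) hx ?_
    rw [hit _ x hx, hk']
    simp
  exact orderOf_eq_one_iff.1 (Nat.eq_one_of_dvd_coprimes (Nat.Coprime.pow_right k hα)
    dvd_rfl (orderOf_dvd_of_pow_eq_one hpk))

theorem isPGroup_of_coprime_eq_one {G : Type*} [Group G] [Finite G]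
    (h : ∀ a : G, Nat.Coprime (orderOf a) p → a = 1) : IsPGroup p G := by
  intro a
  set k := (orderOf a).factorization p
  refine ⟨k, h _ ?_⟩
  rw [orderOf_pow_of_dvd (pow_ne_zero _ (Fact.out : p.Prime).ne_zero) (Nat.ordProj_dvd _ _)]
  exact (Nat.coprime_ordCompl (Fact.out : p.Prime) (orderOf_pos a).ne').symm

/-- A strongly closed subgroup of order at least `p ^ d` absorbs everything. -/
theorem Hyp.absorbs {d : ℕ} (hd : Hyp F p d) (hS : IsPGroup p S) (hF : F.IsSaturated p)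
    {T : Subgroup Ω} (hT : F.StronglyClosed T) (hc : p ^ d ≤ Nat.card T) : Absorbs F p T := by
  have hTn : S ≤ Subgroup.normalizer (T : Set Ω) :=
    (le_normalizerIn_of_stronglyClosed hT).trans inf_le_right
  refine ⟨hT.1, hTn, fun R hR α hα x hx => ?_⟩
  haveI := finite_of_le hR
  haveI := finite_mulAut (P := R)
  set a : Ω → Ω := autFun (α : MulAut R)
  obtain ⟨ψ, hψ, hψe⟩ := exists_map_sup hS hF hT ((mem_autGroup_iff hR).1 α.2)
  have hRT : R ⊔ T ≤ S := sup_le hR hT.1
  haveI := finite_of_le hRT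
  haveI := finite_mulAut (P := (R ⊔ T : Subgroup Ω))
  have hψT : ∀ t ∈ T, ψ t ∈ T := fun t ht =>
    map_mem_stronglyClosed hT hψ ht (Subgroup.mem_sup_right ht)
  have hψR : ∀ y ∈ R ⊔ T, ψ y ∈ R ⊔ T := by
    intro y hy
    obtain ⟨r, hr, t, ht, rfl⟩ := mem_inv_of_sup (hR.trans hTn) hy
    rw [hψ.map_mul (Subgroup.mem_sup_left hr) (Subgroup.mem_sup_right ht)]
    refine (R ⊔ T).mul_mem ?_ (Subgroup.mem_sup_right (hψT t ht))
    rw [← mul_inv_cancel_left (autFun (α : MulAut R) r) (ψ r)]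
    exact Subgroup.mul_mem_sup (autFun_mem _ hr) (hψe r hr)
  have himg : img (R ⊔ T) ψ = R ⊔ T := img_eq_of_map_le hRT hψ le_rfl hψR
  set b : F.autGroup (R ⊔ T) := ⟨autOf hψ himg, autOf_mem hψ himg⟩
  have hit : ∀ j : ℕ, ∀ y ∈ R, (autFun ((α ^ j : F.autGroup R) : MulAut R) y)⁻¹ *
      autFun ((b ^ j : F.autGroup (R ⊔ T)) : MulAut ↥(R ⊔ T)) y ∈ T := by
    intro j
    induction j with
    | zero =>
      intro y hy
      rw [pow_zero, pow_zero, show ((1 : F.autGroup R) : MulAut R) = 1 from rfl, autFun_one hy,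
        show ((1 : F.autGroup (R ⊔ T)) : MulAut ↥(R ⊔ T)) = 1 from rfl,
        autFun_one (Subgroup.mem_sup_left hy), inv_mul_cancel]
      exact one_mem T
    | succ j ih =>
      intro y hy
      have hy' : y ∈ R ⊔ T := Subgroup.mem_sup_left hy
      rw [pow_succ', pow_succ', show ((α * α ^ j : F.autGroup R) : MulAut R) =
        (α : MulAut R) * (α ^ j : F.autGroup R) from rfl, autFun_mul _ _ hy,
        show ((b * b ^ j : F.autGroup (R ⊔ T)) : MulAut ↥(R ⊔ T)) =
        (b : MulAut ↥(R ⊔ T)) * (b ^ j : F.autGroup (R ⊔ T)) from rfl, autFun_mul _ _ hy']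
      set z := autFun ((α ^ j : F.autGroup R) : MulAut R) y with hz
      set w := autFun ((b ^ j : F.autGroup (R ⊔ T)) : MulAut ↥(R ⊔ T)) y with hw
      have hzR : z ∈ R := autFun_mem _ hy
      have hwT : w ∈ R ⊔ T := autFun_mem _ hy'
      have hzw : z⁻¹ * w ∈ T := ih y hy
      rw [show autFun (b : MulAut ↥(R ⊔ T)) w = ψ w from autFun_autOf hψ himg hwT,
        show w = z * (z⁻¹ * w) by rw [mul_inv_cancel_left],
        hψ.map_mul (Subgroup.mem_sup_left hzR) (Subgroup.mem_sup_right hzw), ← mul_assoc]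
      exact T.mul_mem (hψe z hzR) (hψT _ hzw)
  set k := (orderOf b).factorization p
  obtain ⟨m, hm⟩ := exists_pow_eq_self_of_coprime (x := α) (n := p ^ k)
    (Nat.Coprime.pow_left k hα.symm)
  have hb : (b ^ p ^ k) ^ m = 1 := by
    rw [hd.eq_one_of_coprime hS hF hRT (hc.trans (card_le_of_le' hRT le_sup_right)) (b ^ p ^ k),
      one_pow]
    rw [orderOf_pow_of_dvd (pow_ne_zero _ (Fact.out : p.Prime).ne_zero) (Nat.ordProj_dvd _ _)]
    exact (Nat.coprime_ordCompl (Fact.out : p.Prime) (orderOf_pos b).ne').symm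
  have h := hit (p ^ k * m) x hx
  rw [pow_mul, hm, pow_mul, hb, show ((1 : F.autGroup (R ⊔ T)) : MulAut ↥(R ⊔ T)) = 1 from rfl,
    autFun_one (Subgroup.mem_sup_left hx)] at h
  simpa using T.inv_mem h

theorem hyperfocal_eq_bot_of_isInner (hS : IsPGroup p S) (h : IsInner F) :
    F.hyperfocalSubgroup p = ⊥ := by
  refine le_bot_iff.1 (hyperfocal_le ⟨bot_le, fun s _ => ?_, fun P hP α hα x hx => ?_⟩)
  · rw [Subgroup.normalizer_eq_top]
    exact Subgroup.mem_top s
  · haveI := finite_of_le hP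
    obtain ⟨s, hs, he⟩ := h P _ ((mem_autGroup_iff hP).1 α.2)
    obtain ⟨k, hk⟩ := isPGroup_autInducedBy (p := p) hS
      ⟨(α : MulAut P), mem_autInducedBy_iff.2 ⟨s, hs, he⟩⟩
    have h1 : α = 1 := orderOf_eq_one_iff.1 (Nat.eq_one_of_dvd_coprimes
      (Nat.Coprime.pow_right k hα) dvd_rfl (orderOf_dvd_of_pow_eq_one (Subtype.ext (by
        rw [SubmonoidClass.coe_pow]
        exact congrArg Subtype.val hk))))
    rw [h1, OneMemClass.coe_one, autFun_one hx, inv_mul_cancel]
    exact one_mem _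

/-- A system whose hyperfocal subgroup is central in `S`, with `p`-automizer of `S`, is inner. -/
theorem isInner_of_hyperfocal_central (hS : IsPGroup p S) (hF : F.IsSaturated p)
    (hT : IsPGroup p (F.autGroup S))
    (hc : S ≤ centralizer (F.hyperfocalSubgroup p : Set Ω)) : IsInner F := by
  set K := F.hyperfocalSubgroup p
  have habs : Absorbs F p K := absorbs_hyperfocal
  have hK := habs.stronglyClosed hS hF
  -- every map fixes `K` pointwise
  have hfix : ∀ (g : Ω → Ω), IsMap F K g → ∀ x ∈ K, g x = x := by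
    intro g hg x hx
    have hKn : F.IsFullyNormalized K := ⟨habs.le, fun R _ => by
      rw [show normalizerIn S K = S from inf_eq_left.2 habs.normal]
      exact card_le_of_le' le_rfl inf_le_left⟩
    have himg : img K g = K := img_eq_of_map_le habs.le hg le_rfl fun y hy =>
      map_mem_stronglyClosed hK hg hy hy
    obtain ⟨ψ, hψ, hψg⟩ := (isReceptive_iff.1 (IsSaturated.automized_receptive hS hF hKn).2).2
      K g hg himg
    have hSext : S ≤ extSub S K g := fun s hs => centralizerIn_le_extSub ⟨hs, hc hs⟩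
    have hψS := hψ.mono hSext
    have himgS : img S ψ = S := img_eq_of_map_le le_rfl hψS le_rfl fun y hy => hψS.mem_S hy
    obtain ⟨s, hs, he⟩ := mem_autInducedBy_iff.1
      (autGroup_le_inner_of_isPGroup hS hF hT (autOf_mem hψS himgS))
    have h3 := he x (habs.le hx)
    rw [autFun_autOf hψS himgS (habs.le hx), hψg x hx] at h3
    rw [h3, ← Subgroup.mem_centralizer_iff.1 (hc hs) x hx, mul_inv_cancel_right]
  refine isInner_of_aut_isPGroup hS hF hT fun R hR => ?_
  have hRS : R ≤ S := hR.2.1.1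
  haveI := finite_of_le hRS
  haveI := finite_mulAut (P := R)
  refine isPGroup_of_coprime_eq_one fun α hα => ?_
  refine Subtype.ext (autFun_ext fun x hx => ?_)
  rw [show ((1 : F.autGroup R) : MulAut R) = 1 from rfl, autFun_one hx]
  set a : Ω → Ω := autFun (α : MulAut R)
  set c := x⁻¹ * a x with hcdef
  have hcK : c ∈ K := habs.mem R hRS α hα x hx
  have hcR : c ∈ R := R.mul_mem (R.inv_mem hx) (autFun_mem _ hx)
  have hac : a c = c := by
    obtain ⟨ψ, hψ, hψe⟩ := exists_map_sup hS hF hK ((mem_autGroup_iff hRS).1 α.2)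
    have hKR : Inv F R (K ⊓ R) := inv_inf_closed (inv_self R) hK
    have hres : IsMap F (K ⊓ R) a := ((mem_autGroup_iff hRS).1 α.2).mono inf_le_right
    have hn : F.IsFullyCentralized (K ⊓ R) := by
      refine ⟨inf_le_left.trans habs.le, fun P' _ => ?_⟩
      rw [show centralizerIn S (K ⊓ R) = S from inf_eq_left.2
        (hc.trans (Subgroup.centralizer_le fun y hy => hy.1))]
      exact card_le_of_le' le_rfl inf_le_left
    have himg : img (K ⊓ R) a = K ⊓ R := img_eq_of_map_le (inf_le_left.trans habs.le) hres le_rfl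
      fun y hy => hKR.2 a ((mem_autGroup_iff hRS).1 α.2) (fun z hz => autFun_mem _ hz) y hy
    obtain ⟨g, hg, hge⟩ := (isReceptive_iff.1 (IsSaturated.isReceptive hS hF hn)).2 _ a hres himg
    have hKext : K ≤ extSub S (K ⊓ R) a := fun y hy =>
      centralizerIn_le_extSub ⟨habs.le hy, Subgroup.centralizer_le (fun z hz => hz.1)
        (hc (habs.le hy))⟩
    rw [← hge c ⟨hcK, hcR⟩]
    exact hfix g (hg.mono hKext) c hcK
  have hit : ∀ j : ℕ, autFun ((α ^ j : F.autGroup R) : MulAut R) x = x * c ^ j := by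
    intro j
    induction j with
    | zero =>
      rw [pow_zero, pow_zero, mul_one, show ((1 : F.autGroup R) : MulAut R) = 1 from rfl,
        autFun_one hx]
    | succ j ih =>
      have hacj : a (c ^ j) = c ^ j := by
        clear ih
        induction j with
        | zero => rw [pow_zero]; exact autFun_map_one _
        | succ j ih =>
          show autFun (α : MulAut R) (c ^ (j + 1)) = c ^ (j + 1)
          rw [pow_succ, autFun_map_mul _ (R.pow_mem hcR j) hcR]
          exact congrArg₂ (· * ·) ih hac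
      rw [pow_succ', show ((α * α ^ j : F.autGroup R) : MulAut R) =
        (α : MulAut R) * (α ^ j : F.autGroup R) from rfl, autFun_mul _ _ hx, ih,
        autFun_map_mul _ hx (R.pow_mem hcR j)]
      show a x * a (c ^ j) = _
      rw [hacj, show a x = x * c by rw [hcdef, mul_inv_cancel_left], pow_succ', mul_assoc]
  have h1 := hit (orderOf α)
  rw [pow_orderOf_eq_one, show ((1 : F.autGroup R) : MulAut R) = 1 from rfl, autFun_one hx] at h1
  have h2 : c ^ orderOf α = 1 := left_eq_mul.1 h1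
  obtain ⟨k, hk⟩ := hS ⟨c, hRS hcR⟩
  have hc1 : c = 1 := orderOf_eq_one_iff.1 (Nat.eq_one_of_dvd_coprimes
    (Nat.Coprime.pow_right k hα) (orderOf_dvd_of_pow_eq_one h2)
    (orderOf_dvd_of_pow_eq_one (congrArg Subtype.val hk)))
  exact (inv_mul_eq_one.1 hc1).symm

/-- A system whose hyperfocal subgroup lies in the Frattini subgroup is inner. -/
theorem isInner_of_hyperfocal_frattini (hS : IsPGroup p S) (hF : F.IsSaturated p)
    (hT : IsPGroup p (F.autGroup S))
    (hc : F.hyperfocalSubgroup p ≤ (frattini S).map S.subtype) : IsInner F := by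
  set Φ := (frattini S).map S.subtype
  have hΦS : Φ ≤ S := Subgroup.map_subtype_le _
  have hΦn : ∀ g ∈ S, ∀ x ∈ Φ, g * x * g⁻¹ ∈ Φ := by
    rintro g hg _ ⟨x, hx, rfl⟩
    exact ⟨⟨g, hg⟩ * x * ⟨g, hg⟩⁻¹, Subgroup.Normal.conj_mem inferInstance x hx _, rfl⟩
  refine isInner_of_frattini_stronglyClosed hS hF hT (stronglyClosed_iff.2
    ⟨hΦS, fun R f hR hf x hx => ?_⟩)
  obtain ⟨g, hg, hgx⟩ := absorbs_hyperfocal.conjMod hS hF hf
  have h2 := Φ.mul_mem (hc (hgx x hx)) (hΦn g hg x (hR hx))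
  rwa [inv_mul_cancel_right] at h2

/-- The main result. -/
theorem isInner_of_hyp {d : ℕ} (hd : Hyp F p d) (hS : IsPGroup p S) (hF : F.IsSaturated p) :
    IsInner F := by
  haveI := finite_mulAut (P := S)
  have hTS : IsPGroup p (F.autGroup S) :=
    isPGroup_of_coprime_eq_one fun α hα => hd.eq_one_of_coprime hS hF le_rfl hd.lt.le α hα
  set K := F.hyperfocalSubgroup p with hKdef
  by_cases hK : K = ⊥
  · refine isInner_of_hyperfocal_central hS hF hTS fun s _ => ?_
    rw [← hKdef, hK]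
    exact Subgroup.mem_centralizer_iff.2 fun y hy => by rw [Subgroup.mem_bot.1 hy]; simp
  exfalso
  have hfin : {T : Subgroup Ω | T ≤ S}.Finite :=
    ((Set.finite_univ (α := Subgroup S)).image (Subgroup.map S.subtype)).subset
      fun T hT => ⟨T.subgroupOf S, Set.mem_univ _, Subgroup.map_subgroupOf_eq_of_le hT⟩
  obtain ⟨T, ⟨hT, hKT⟩, hTmax⟩ := Set.Finite.exists_maximalFor id
    {T : Subgroup Ω | F.StronglyClosed T ∧ ¬ K ≤ T} (hfin.subset fun T h => h.1.1)
    ⟨⊥, stronglyClosed_bot, fun h => hK (le_bot_iff.1 h)⟩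
  have hTbig : Nat.card T < p ^ d :=
    not_le.1 fun h => hKT (hyperfocal_le (hd.absorbs hS hF hT h))
  have habove : ∀ U, F.StronglyClosed U → T ≤ U → ¬ U ≤ T → K ≤ U := fun U hU hTU hUT => by
    by_contra h
    exact hUT (hTmax ⟨hU, h⟩ hTU)
  have hSn : S ≤ Subgroup.normalizer (T : Set Ω) :=
    (le_normalizerIn_of_stronglyClosed hT).trans inf_le_right
  haveI : (T.subgroupOf S).Normal := (Subgroup.normal_subgroupOf_iff_le_normalizer hT.1).2 hSn
  set θ : S →* ↥S ⧸ T.subgroupOf S := QuotientGroup.mk' (T.subgroupOf S) with hθ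
  obtain ⟨E, hE⟩ := exists_isFactorSystem hT θ
    (fun s => (QuotientGroup.eq_one_iff s).trans Subgroup.mem_subgroupOf) (S' := θ.range) rfl
  have hEsat := isSaturated_of_isFactorSystem hS hF hT hE
  have hθs := isSurjectiveMorphism_factor hS hF hT hE
  have hS' : IsPGroup p θ.range := (hS.to_quotient _).to_subgroup _
  have hKS : K ≤ S := hyperfocal_le_S
  have hEK := hyperfocal_of_surjectiveMorphism (p := p) hθs
  rw [← hKdef] at hEK
  have hET : IsPGroup p (E.autGroup θ.range) := by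
    refine (isPGroup_autInducedBy (S := θ.range) (P := θ.range) hS').to_le fun β hβ => ?_
    obtain ⟨f, hf, hfe⟩ := exists_lift_map hθs ((mem_autGroup_iff le_rfl).1 hβ)
    have hle : S ≤ preimageAlong θ θ.range := fun x hx =>
      mem_preimageAlong.2 ⟨hx, by rw [ext1_apply θ hx]; exact ⟨_, rfl⟩⟩
    have hfS := hf.mono hle
    have himg : img S f = S := img_eq_of_map_le le_rfl hfS le_rfl fun y hy => hfS.mem_S hy
    obtain ⟨s, hs, he⟩ := mem_autInducedBy_iff.1
      (autGroup_le_inner_of_isPGroup hS hF hTS (autOf_mem hfS himg))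
    refine mem_autInducedBy_iff.2 ⟨θ ⟨s, hs⟩, ⟨_, rfl⟩, ?_⟩
    rintro _ ⟨x, rfl⟩
    have h1 := hfe x (hle x.2)
    have h2 := he x x.2
    rw [autFun_autOf hfS himg x.2] at h2
    rw [h2, ext1_coe] at h1
    rw [← h1, ext1_apply θ (S.mul_mem (S.mul_mem hs x.2) (S.inv_mem hs)), ← map_inv, ← map_mul,
      ← map_mul]
    rfl
  have hnot : ¬ IsInner E := by
    intro h
    have h0 := hyperfocal_eq_bot_of_isInner hS' h
    rw [hEK, Subgroup.map_eq_bot_iff, QuotientGroup.ker_mk'] at h0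
    exact hKT fun x hx => h0 (show (⟨x, hKS hx⟩ : S) ∈ K.subgroupOf S from hx)
  -- a maximal subgroup of `S` over `T` not containing `K`
  obtain ⟨Mx, hMx, hTMx, hKMx⟩ : ∃ Mx : Subgroup ↥S, IsCoatom Mx ∧ T.subgroupOf S ≤ Mx ∧
      ¬ K.subgroupOf S ≤ Mx := by
    by_contra hno
    push Not at hno
    refine hnot (isInner_of_hyperfocal_frattini hS' hEsat hET ?_)
    rw [hEK]
    rintro _ ⟨x, hx, rfl⟩
    refine ⟨θ.rangeRestrict x, ?_, rfl⟩
    show θ.rangeRestrict x ∈ Order.radical (Subgroup θ.range)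
    simp only [Order.radical, Subgroup.mem_iInf]
    intro N hN
    exact hno _ (Subgroup.isCoatom_comap_of_surjective θ.rangeRestrict_surjective hN)
      (by
        intro t ht
        rw [Subgroup.mem_comap]
        have : θ.rangeRestrict t = 1 := Subtype.ext ((QuotientGroup.eq_one_iff t).2 ht)
        rw [this]
        exact one_mem N) hx
  set M := K ⊔ T with hMdef
  have hKcl := (absorbs_hyperfocal (F := F) (p := p)).stronglyClosed hS hF
  have hM : F.StronglyClosed M := stronglyClosed_sup hS hF hKcl hT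
  haveI : Group.IsNilpotent ↥S := hS.isNilpotent
  haveI hMxn : Mx.Normal := Subgroup.NormalizerCondition.normal_of_coatom Mx
    Group.normalizerCondition_of_isNilpotent hMx
  set MxΩ := Mx.map S.subtype with hMxΩ
  have hMxS : MxΩ ≤ S := Subgroup.map_subtype_le _
  have hTMxΩ : T ≤ MxΩ := fun x hx => ⟨⟨x, hT.1 hx⟩, hTMx hx, rfl⟩
  by_cases hX : M ⊓ MxΩ ≤ T
  · -- the hyperfocal subgroup of `F/T` is central
    refine hnot (isInner_of_hyperfocal_central hS' hEsat hET ?_)
    rw [hEK]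
    rintro _ ⟨s, rfl⟩
    refine Subgroup.mem_centralizer_iff.2 ?_
    rintro _ ⟨k, hk, rfl⟩
    rw [← commutatorElement_eq_one_iff_mul_comm, ← map_commutatorElement]
    refine (QuotientGroup.eq_one_iff _).2 (hX ⟨?_, ⟨⁅k, s⁆, ?_, rfl⟩⟩)
    · refine Subgroup.mem_sup_left ?_
      have h := K.mul_mem hk (conj_mem_of_normalizes
        ((absorbs_hyperfocal (F := F) (p := p)).normal s.2) (K.inv_mem hk))
      simpa [commutatorElement_def, mul_assoc] using h
    · exact frattini_le_coatom hMx (CfsgLib.Coprime.commutator_le_frattini hS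
        (Subgroup.commutator_mem_commutator (Subgroup.mem_top k) (Subgroup.mem_top s)))
  -- choose `Q` inside the maximal subgroup
  have hMS : M ≤ S := hM.1
  have hTX : T ≤ M ⊓ MxΩ := le_inf le_sup_right hTMxΩ
  have hbig : p ^ d ≤ Nat.card MxΩ := by
    rw [hMxΩ, Subgroup.card_map_of_injective S.subtype_injective]
    obtain ⟨i, hi⟩ := (IsPGroup.iff_card (p := p)).1 (hS.to_subgroup Mx)
    obtain ⟨m, hm⟩ := (IsPGroup.iff_card (p := p)).1 hS
    have hind : Mx.index = p := (CfsgLib.Coprime.coatom_data_of_pGroup hS hMx).2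
    have hcm := Mx.card_mul_index
    rw [hind] at hcm
    have hlt := hd.lt
    rw [← hcm, hi, ← pow_succ] at hlt
    rw [hi]
    exact Nat.pow_le_pow_right (Fact.out : p.Prime).pos
      (Nat.lt_succ_iff.1 ((Nat.pow_lt_pow_iff_right (Fact.out : p.Prime).one_lt).1 hlt))
  obtain ⟨Q, hTQ, hQMx, hQc, hQX⟩ : ∃ Q, T ≤ Q ∧ Q ≤ MxΩ ∧ Nat.card Q = p ^ d ∧
      ¬ Q ⊓ M ≤ T := by
    rcases le_total (Nat.card ↥(M ⊓ MxΩ)) (p ^ d) with h | h
    · obtain ⟨Q, h1, h2, h3⟩ := exists_between hS inf_le_right hMxS h hbig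
      exact ⟨Q, hTX.trans h1, h2, h3, fun hle => hX ((le_inf h1 inf_le_left).trans hle)⟩
    · obtain ⟨Q, h1, h2, h3⟩ := exists_between hS hTX (inf_le_left.trans hMS) hTbig.le h
      refine ⟨Q, h1, h2.trans inf_le_right, h3, fun hle => ?_⟩
      rw [inf_eq_left.2 (h2.trans inf_le_left)] at hle
      exact absurd ((card_le_of_le' hT.1 hle).trans_lt hTbig) (h3 ▸ lt_irrefl _)
  have hQS : Q ≤ S := hQMx.trans hMxS
  have hKQ : ¬ K ≤ Q := fun h => hKMx fun x hx => by
    obtain ⟨y, hy, hyx⟩ := hQMx (h hx)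
    rwa [← Subtype.ext (a1 := y) (a2 := x) hyx]
  obtain ⟨P, hP, hQP, hQiP⟩ := hd.weak Q hQS hQc
  have hU : Q ⊓ P ≤ T := by
    by_contra h
    exact hKQ ((habove _ (stronglyClosed_sup hS hF hQiP hT) le_sup_right
      fun hle => h (le_sup_left.trans hle)).trans (sup_le inf_le_left hTQ))
  have hPT : K ≤ P ⊔ T := by
    refine habove _ (stronglyClosed_sup hS hF hP hT) le_sup_right fun hle => ?_
    have hPQ : P ≤ Q := (le_sup_left.trans hle).trans hTQ
    rw [sup_eq_left.2 hPQ] at hQP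
    exact hKQ (habove Q hQP hTQ fun h => hQX (inf_le_left.trans h))
  refine hQX fun x hx => ?_
  obtain ⟨y, hy, t, ht, rfl⟩ := mem_inv_of_sup (hP.1.trans hSn)
    ((sup_le hPT le_sup_right : M ≤ P ⊔ T) hx.2)
  refine T.mul_mem (hU ⟨?_, hy⟩) ht
  simpa using Q.mul_mem hx.1 (Q.inv_mem (hTQ ht))

end CfsgLib.Fusion.WeakEmb
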