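import Cfsg.Agent.Lib.Fusion.System.TransferApps
import Cfsg.Agent.S1952

/-!
# Yoshida's transfer theorem for fusion systems
-/

set_option autoImplicit false
set_option linter.style.haveILetI false

open Subgroup
open scoped Classical

namespace CfsgLib.Fusion.Yoshida

open Cfsg (FusionSystem)
open Cfsg.FusionSystem (normalizerIn)

universe u v

variable {p : ℕ} [Fact p.Prime]

/-- A nontrivial norm from a subgroup of index `p` into an elementary abelian group gives a wreath
product quotient. -/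
theorem wreath_of_norm {P : Type u} [Group P] [Finite P] (hP : IsPGroup p P) (M : Subgroup P)
    [M.Normal] (hidx : M.index = p) {A : Type v} [CommGroup A] (hA : ∀ a : A, a ^ p = 1)
    (lam : M →* A) (y : P) (hy : y ∉ M) (x : M)
    (hnorm : ∏ i ∈ Finset.range p, lam ⟨(y ^ i)⁻¹ * (x : P) * y ^ i, by
      simpa using (inferInstance : M.Normal).conj_mem _ x.2 (y ^ i)⁻¹⟩ ≠ 1) :
    ∃ (Q : Sylow p (Equiv.Perm (Fin (p ^ 2))))
      (f : P →* ↥(Q : Subgroup (Equiv.Perm (Fin (p ^ 2))))), Function.Surjective f := by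
  set R := (lam.ker.map M.subtype).normalCore with hR
  haveI : R.Normal := normalCore_normal _
  have hRM : R ≤ M := (normalCore_le _).trans (map_subtype_le _)
  have hmemR : ∀ m : M, (∀ g : P, lam ⟨g * (m : P) * g⁻¹, (inferInstance : M.Normal).conj_mem _ m.2 g⟩ = 1) →
      (m : P) ∈ R := fun m h g => ⟨_, MonoidHom.mem_ker.2 (h g), rfl⟩
  set π := QuotientGroup.mk' R with hπ
  have hidx' : (M.map π).index = p := by
    rw [Subgroup.index_map_eq M (QuotientGroup.mk'_surjective R) (by rw [QuotientGroup.ker_mk']; exact hRM), hidx]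
  haveI : (M.map π).Normal := Normal.map inferInstance π (QuotientGroup.mk'_surjective R)
  have hel : Cfsg.IsElementaryAbelian p (M.map π) := by
    refine ⟨⟨⟨?_⟩⟩, ?_⟩
    · rintro ⟨_, a, ha, rfl⟩ ⟨_, b, hb, rfl⟩
      refine Subtype.ext ?_
      show π a * π b = π b * π a
      rw [← map_mul, ← map_mul, hπ, QuotientGroup.mk'_apply, QuotientGroup.mk'_apply, QuotientGroup.eq]
      have hm : (a * b)⁻¹ * (b * a) ∈ M := mul_mem (inv_mem (mul_mem ha hb)) (mul_mem hb ha)
      refine hmemR ⟨_, hm⟩ fun g => ?_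
      have ha' := (inferInstance : M.Normal).conj_mem _ ha g
      have hb' := (inferInstance : M.Normal).conj_mem _ hb g
      have he : (⟨g * ((a * b)⁻¹ * (b * a)) * g⁻¹, (inferInstance : M.Normal).conj_mem _ hm g⟩ : M) =
          (⟨_, ha'⟩ * ⟨_, hb'⟩)⁻¹ * (⟨_, hb'⟩ * ⟨_, ha'⟩) := Subtype.ext (by
        simp only [Subgroup.coe_mul, Subgroup.coe_inv]
        group)
      rw [he, map_mul, map_inv, map_mul, map_mul, mul_comm (lam ⟨_, hb'⟩), inv_mul_cancel]
    · rintro _ ⟨a, ha, rfl⟩
      rw [← map_pow, hπ, QuotientGroup.mk'_apply, QuotientGroup.eq_one_iff]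
      refine hmemR ⟨_, pow_mem ha p⟩ fun g => ?_
      have ha' := (inferInstance : M.Normal).conj_mem _ ha g
      rw [show (⟨g * a ^ p * g⁻¹, (inferInstance : M.Normal).conj_mem _ (pow_mem ha p) g⟩ : M) =
        ⟨_, ha'⟩ ^ p from Subtype.ext (by simp [conj_pow]), map_pow, hA]
  have hy' : π y ∉ M.map π := fun h => hy (by
    obtain ⟨m, hm, hme⟩ := h
    rw [hπ, QuotientGroup.mk'_apply, QuotientGroup.mk'_apply, QuotientGroup.eq] at hme
    simpa using mul_mem hm (hRM hme))
  have key : ∀ n : ℕ, ∃ w : M,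
      ((List.range n).map (fun i => (π y ^ i)⁻¹ * π (x : P) * π y ^ i)).prod = π (w : P) ∧
      lam w = ∏ i ∈ Finset.range n, lam ⟨(y ^ i)⁻¹ * (x : P) * y ^ i, by
        simpa using (inferInstance : M.Normal).conj_mem _ x.2 (y ^ i)⁻¹⟩ := by
    intro n
    induction n with
    | zero => exact ⟨1, by simp, by simp⟩
    | succ n ih =>
      obtain ⟨w, hw1, hw2⟩ := ih
      refine ⟨w * ⟨(y ^ n)⁻¹ * (x : P) * y ^ n, by
        simpa using (inferInstance : M.Normal).conj_mem _ x.2 (y ^ n)⁻¹⟩, ?_, ?_⟩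
      · rw [List.range_succ, List.map_append, List.prod_append, hw1, Subgroup.coe_mul, map_mul]
        simp only [List.map_cons, List.map_nil, List.prod_cons, List.prod_nil, mul_one, map_mul,
          map_inv, map_pow]
      · rw [map_mul, hw2, Finset.prod_range_succ]
  obtain ⟨w, hw1, hw2⟩ := key p
  have hnorm' : ((List.range p).map (fun i => (π y ^ i)⁻¹ * π (x : P) * π y ^ i)).prod ≠ 1 := by
    intro h
    refine hnorm ?_
    rw [← hw2]
    rw [hw1, hπ, QuotientGroup.mk'_apply, QuotientGroup.eq_one_iff] at h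
    obtain ⟨w', hw', hwe⟩ := normalCore_le _ h
    rw [Subtype.ext hwe] at hw'
    exact MonoidHom.mem_ker.1 hw'
  obtain ⟨Q, f, hf⟩ := Cfsg.Agent.S1952.wreath_quotient (hP.to_quotient R) (M.map π) hel hidx'
    (π x) (π y) ⟨x, x.2, rfl⟩ hy' hnorm'
  exact ⟨Q, f.comp π, hf.comp (QuotientGroup.mk'_surjective R)⟩

section Main

variable {Ω : Type u} [Group Ω] {S : Subgroup Ω} [Finite S] {F : FusionSystem S}

open CfsgLib.Fusion.Biset in
theorem wreath_of_transfer (hS : IsPGroup p S) (hF : F.IsSaturated p) {A : Type u} [CommGroup A]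
    (hA : ∀ a : A, a ^ p = 1) (χ : S →* A)
    (hinv : ∀ f : Ω → Ω, IsMap F S f → ∀ (x : S) (h : f x ∈ S), χ ⟨f x, h⟩ = χ x)
    (hne : ∃ x : S, (x : Ω) ∈ F.focalSubgroup ∧ χ x ≠ 1) :
    ∃ (W : Sylow p (Equiv.Perm (Fin (p ^ 2))))
      (f : S →* ↥(W : Subgroup (Equiv.Perm (Fin (p ^ 2))))), Function.Surjective f := by
  have hp := (Fact.out : p.Prime)
  haveI : Fintype S := Fintype.ofFinite S
  -- minimal order
  obtain ⟨x, hx, hmin⟩ := Finset.exists_min_image
    (Finset.univ.filter fun x : S => (x : Ω) ∈ F.focalSubgroup ∧ χ x ≠ 1) (fun x => orderOf x)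
    (by obtain ⟨x, hx⟩ := hne; exact ⟨x, by simp [hx]⟩)
  simp only [Finset.mem_filter, Finset.mem_univ, true_and] at hx hmin
  obtain ⟨hxf, hxne⟩ := hx
  obtain ⟨X, i1, i2, hX, hst, n, hn, hcard⟩ := exists_biset hS hF
  set r := sec (S := S) X
  have hO : Nat.card (Orb (S := S) X) = n :=
    Nat.eq_of_mul_eq_mul_right Nat.card_pos ((card_eq_orb_mul hX r).symm.trans hcard)
  have htot : ∏ o, χ (val r x o) = 1 := by
    rw [← transfer_apply hX r χ x]
    exact transfer_focal hX hst r χ hxf
  letI act : MulAction S (Orb (S := S) X) :=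
    { smul := lact
      one_smul := lact_one
      mul_smul := lact_mul }
  have hfixval : ∀ o : Orb (S := S) X, (∀ s : S, lact s o = o) → χ (val r x o) = χ x := by
    intro o ho
    obtain ⟨f, hf, hfe⟩ := hX (r.r o)
    have hst' : ∀ s : S, (s, val r s o) ∈ MulAction.stabilizer (S × S) (r.r o) := fun s => by
      rw [MulAction.mem_stabilizer_iff, val_spec, ho]
    have hsrc : src (MulAction.stabilizer (S × S) (r.r o)) = S :=
      le_antisymm (src_le _) fun s hs => fst_mem_src (hst' ⟨s, hs⟩)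
    rw [hsrc] at hf
    rw [← hinv f hf x (hf.mem_S x.2)]
    exact congrArg χ (Subtype.ext (hfe _ (hst' x)))
  -- some proper orbit has a nontrivial product
  obtain ⟨o₀, ho₀, hprod⟩ : ∃ o₀ : Orb (S := S) X, (∃ s : S, lact s o₀ ≠ o₀) ∧
      ∏ o ∈ Finset.univ.filter (fun o => ∃ s : S, lact s o₀ = o), χ (val r x o) ≠ 1 := by
    by_contra hcon
    push Not at hcon
    haveI : Fintype (MulAction.orbitRel.Quotient S (Orb (S := S) X)) := Fintype.ofFinite _
    let q : Orb (S := S) X → MulAction.orbitRel.Quotient S (Orb (S := S) X) := Quotient.mk _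
    have hq : ∀ o o', q o = q o' ↔ ∃ s : S, lact s o' = o := fun o o' => by
      show Quotient.mk (MulAction.orbitRel S _) o = Quotient.mk _ o' ↔ _
      rw [Quotient.eq, MulAction.orbitRel_apply]
      exact ⟨fun ⟨s, hs⟩ => ⟨s, hs⟩, fun ⟨s, hs⟩ => ⟨s, hs⟩⟩
    have h1 : ∏ o, χ (val r x o) = ∏ o : Orb (S := S) X, (if ∀ s : S, lact s o = o then χ x else 1) := by
      rw [← Finset.prod_fiberwise (Finset.univ : Finset (Orb (S := S) X)) q,
        ← Finset.prod_fiberwise (Finset.univ : Finset (Orb (S := S) X)) q (fun o => if ∀ s : S, lact s o = o then χ x else 1)]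
      refine Finset.prod_congr rfl fun c _ => ?_
      induction c using Quotient.inductionOn with
      | _ o₁ =>
      show ∏ o ∈ Finset.univ.filter (fun o => q o = q o₁), _ = ∏ o ∈ Finset.univ.filter (fun o => q o = q o₁), _
      by_cases hfx : ∀ s : S, lact s o₁ = o₁
      · refine Finset.prod_congr rfl fun o ho => ?_
        simp only [Finset.mem_filter, Finset.mem_univ, true_and] at ho
        obtain ⟨s, rfl⟩ := (hq _ _).1 ho
        rw [hfx s, hfixval o₁ hfx, if_pos hfx]
      · push Not at hfx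
        rw [show Finset.univ.filter (fun o => q o = q o₁) =
          Finset.univ.filter (fun o => ∃ s : S, lact s o₁ = o) from
            Finset.filter_congr fun o _ => hq o o₁, hcon o₁ hfx]
        refine (Finset.prod_eq_one fun o ho => ?_).symm
        simp only [Finset.mem_filter, Finset.mem_univ, true_and] at ho
        obtain ⟨t, rfl⟩ := ho
        rw [if_neg]
        intro hall
        obtain ⟨s, hs⟩ := hfx
        have := hall (t * s * t⁻¹)
        refine hs ?_
        rw [← lact_mul, inv_mul_cancel_right, lact_mul] at this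
        have h2 := congrArg (lact t⁻¹) this
        simpa only [← lact_mul, ← mul_assoc, inv_mul_cancel, one_mul, lact_one] using h2
    rw [htot, Finset.prod_ite, Finset.prod_const_one, mul_one, Finset.prod_const] at h1
    have hmod := IsPGroup.card_modEq_card_fixedPoints hS (Orb (S := S) X)
    have hcardfix : Nat.card (MulAction.fixedPoints S (Orb (S := S) X)) =
        (Finset.univ.filter fun o : Orb (S := S) X => ∀ s : S, lact s o = o).card := by
      rw [← Fintype.card_subtype, ← Nat.card_eq_fintype_card]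
      exact Nat.card_congr (Equiv.subtypeEquivRight fun o => Iff.rfl)
    refine hxne (pow_ne_one_of_not_dvd (p := p) (A := A) (fun a => ⟨1, by rw [pow_one]; exact hA a⟩)
      ?_ h1.symm)
    rw [← hcardfix]
    intro hd
    exact hn (hO ▸ (Nat.modEq_zero_iff_dvd.1 (hmod.trans (Nat.modEq_zero_iff_dvd.2 hd))))
  set O := Finset.univ.filter (fun o => ∃ s : S, lact s o₀ = o) with hOdef
  have hmemO : ∀ o, o ∈ O ↔ ∃ s : S, lact s o₀ = o := fun o => by simp [hOdef]
  set Q := MulAction.stabilizer S o₀ with hQdef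
  have hQ : Q ≠ ⊤ := fun h => by
    obtain ⟨s, hs⟩ := ho₀
    exact hs (MulAction.mem_stabilizer_iff.1 (h.ge (mem_top s)))
  obtain ⟨M, hM, hQM⟩ := (IsCoatomic.eq_top_or_exists_le_coatom Q).resolve_left hQ
  haveI : Group.IsNilpotent S := hS.isNilpotent
  haveI hMn : M.Normal := NormalizerCondition.normal_of_coatom M Group.normalizerCondition_of_isNilpotent hM
  have hMidx : M.index = p := by
    haveI : Nontrivial (S ⧸ M) := (QuotientGroup.nontrivial_iff (N := M)).2 hM.1
    obtain ⟨k, hk⟩ := (hS.to_quotient M).exists_card_eq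
    obtain ⟨c, hc⟩ := exists_prime_orderOf_dvd_card' (G := S ⧸ M) p (by
      rw [hk]
      refine dvd_pow_self p fun h0 => ?_
      have h1 := Finite.one_lt_card (α := S ⧸ M)
      rw [hk, h0, pow_zero] at h1
      omega)
    obtain ⟨c', rfl⟩ := QuotientGroup.mk'_surjective M c
    have htop : (zpowers (QuotientGroup.mk' M c')).comap (QuotientGroup.mk' M) = ⊤ := by
      refine hM.2 _ (lt_of_le_of_ne (fun z hz => ?_) fun h => ?_)
      · rw [mem_comap, show QuotientGroup.mk' M z = 1 from (QuotientGroup.eq_one_iff z).2 hz]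
        exact one_mem _
      · have hc' : c' ∈ M := h.ge (mem_comap.2 (mem_zpowers _))
        rw [QuotientGroup.mk'_apply, (QuotientGroup.eq_one_iff c').2 hc', orderOf_one] at hc
        exact hp.ne_one hc.symm
    have htop' : zpowers (QuotientGroup.mk' M c') = ⊤ := eq_top_iff.2 fun z _ => by
      obtain ⟨z', rfl⟩ := QuotientGroup.mk'_surjective M z
      exact mem_comap.1 (htop.ge (mem_top z'))
    rw [Subgroup.index_eq_card, ← hc, ← Nat.card_zpowers, htop', Subgroup.card_top]
  have hxM : x ∈ M := by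
    by_contra hxM
    have hnofix : ∀ o ∈ O, lact x o ≠ o := by
      intro o ho hfix
      obtain ⟨s, rfl⟩ := (hmemO o).1 ho
      have h1 : lact (s⁻¹ * x * s) o₀ = o₀ := by
        rw [lact_mul, lact_mul, hfix, ← lact_mul, inv_mul_cancel, lact_one]
      have h2 : s⁻¹ * x * s ∈ M := hQM (MulAction.mem_stabilizer_iff.2 h1)
      refine hxM ?_
      have := hMn.conj_mem _ h2 s
      simpa [mul_assoc] using this
    refine hprod ?_
    have h3 := prod_eq_of_cycles (lequiv x) (fun o => if o ∈ O then χ (val r x o) else 1)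
      (fun _ => (1 : A)) fun o => ?_
    · rw [Finset.prod_ite_mem, Finset.univ_inter, Finset.prod_const_one] at h3
      exact h3
    show ∏ i ∈ Finset.range (Function.minimalPeriod (lact x) o),
      (if (lact x)^[i] o ∈ O then χ (val r x ((lact x)^[i] o)) else 1) = ∏ i ∈ Finset.range _, (1 : A)
    rw [Finset.prod_const_one]
    by_cases ho : o ∈ O
    · have hall : ∀ i, (lact x)^[i] o ∈ O := fun i => by
        obtain ⟨s, rfl⟩ := (hmemO o).1 ho
        rw [lact_pow, ← lact_mul]
        exact (hmemO _).2 ⟨_, rfl⟩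
      simp only [hall, if_true]
      rw [prod_cycle hX]
      set l := Function.minimalPeriod (lact x) o with hl
      have hfix : lact (x ^ l) o = o := by
        rw [← lact_pow]; exact Function.iterate_minimalPeriod
      obtain ⟨f, hf, hfe⟩ := exists_map_val hX (r := r) hfix
      have hzf : ((x ^ l : S) : Ω) ∈ F.focalSubgroup := by
        rw [SubmonoidClass.coe_pow]; exact pow_mem hxf l
      by_contra hne'
      have h4 := hmin (val r (x ^ l) o) ⟨by
        rw [← hfe]
        have := mul_mem hzf (map_mem_focal hf (mem_zpowers _))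
        rwa [mul_inv_cancel_left] at this, hne'⟩
      have hperiod : (lact x)^[orderOf x] o = o := by rw [lact_pow, pow_orderOf_eq_one, lact_one]
      have hld : l ∣ orderOf x := Function.IsPeriodicPt.minimalPeriod_dvd hperiod
      have hl1 : 1 < l := by
        have h0 : l ≠ 0 := fun e => by
          rw [e] at hld
          exact (orderOf_pos x).ne' (zero_dvd_iff.1 hld)
        by_contra h1
        have : l = 1 := by omega
        rw [this, pow_one] at hfix
        exact hnofix o ho hfix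
      have hpowf : ∀ j : ℕ, f (((x ^ l : S) : Ω) ^ j) = f ((x ^ l : S) : Ω) ^ j := by
        intro j
        induction j with
        | zero => rw [pow_zero, pow_zero, hf.map_one]
        | succ j ih =>
          rw [pow_succ, pow_succ, hf.map_mul (pow_mem (mem_zpowers _) j) (mem_zpowers _), ih]
      have h5 : orderOf (val r (x ^ l) o) ∣ orderOf x / l := by
        refine orderOf_dvd_of_pow_eq_one (Subtype.ext ?_)
        rw [SubmonoidClass.coe_pow, ← hfe, ← hpowf, ← SubmonoidClass.coe_pow, ← pow_mul,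
          Nat.mul_div_cancel' hld, pow_orderOf_eq_one, OneMemClass.coe_one, hf.map_one]
      have h6 : orderOf (val r (x ^ l) o) ≤ orderOf x / l :=
        Nat.le_of_dvd (Nat.div_pos (Nat.le_of_dvd (orderOf_pos x) hld) (by omega)) h5
      have h7 : orderOf x / l < orderOf x := Nat.div_lt_self (orderOf_pos x) hl1
      omega
    · have hall : ∀ i, (lact x)^[i] o ∉ O := fun i h => ho (by
        obtain ⟨s, hs⟩ := (hmemO _).1 h
        rw [lact_pow] at hs
        refine (hmemO o).2 ⟨(x ^ i)⁻¹ * s, ?_⟩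
        rw [lact_mul, hs, ← lact_mul, inv_mul_cancel, lact_one])
      simp only [hall, if_false, Finset.prod_const_one]
  -- the homomorphism on `M`
  set OM := Finset.univ.filter (fun o => ∃ m ∈ M, lact m o₀ = o) with hOMdef
  have hmemOM : ∀ o, o ∈ OM ↔ ∃ m ∈ M, lact m o₀ = o := fun o => by simp [hOMdef]
  have hperm : ∀ (m : S), m ∈ M → ∀ h : Orb (S := S) X → A, ∏ o ∈ OM, h (lact m o) = ∏ o ∈ OM, h o := by
    intro m hm h
    refine Finset.prod_nbij' (lact m) (lact m⁻¹) (fun o ho => ?_) (fun o ho => ?_) (fun o _ => ?_)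
      (fun o _ => ?_) (fun o _ => rfl)
    · obtain ⟨k, hk, rfl⟩ := (hmemOM o).1 ho
      exact (hmemOM _).2 ⟨m * k, mul_mem hm hk, lact_mul _ _ _⟩
    · obtain ⟨k, hk, rfl⟩ := (hmemOM o).1 ho
      exact (hmemOM _).2 ⟨m⁻¹ * k, mul_mem (inv_mem hm) hk, lact_mul _ _ _⟩
    · rw [← lact_mul, inv_mul_cancel, lact_one]
    · rw [← lact_mul, mul_inv_cancel, lact_one]
  let lam : M →* A := MonoidHom.mk' (fun m => ∏ o ∈ OM, χ (val r m o)) fun m m' => by
    simp only [Subgroup.coe_mul, val_mul hX, map_mul, Finset.prod_mul_distrib]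
    rw [hperm m' m'.2 fun o => χ (val r (m : S) o)]
  obtain ⟨y, hy⟩ : ∃ y, y ∉ M := by
    by_contra! h
    exact hM.1 (eq_top_iff.2 fun z _ => h z)
  refine wreath_of_norm hS M hMidx hA lam y hy ⟨x, hxM⟩ fun hnorm => hprod ?_
  -- decompose the orbit
  have hdec : ∏ o ∈ O, χ (val r x o) = ∏ i ∈ Finset.range p, ∏ o ∈ OM, χ (val r x (lact (y ^ i) o)) := by
    rw [← Finset.prod_product']
    symm
    refine Finset.prod_nbij (fun z : ℕ × Orb (S := S) X => lact (y ^ z.1) z.2) (fun z hz => ?_)
      (fun z hz w hw hzw => ?_) (fun o ho => ?_) (fun z _ => rfl)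
    · obtain ⟨k, -, hk⟩ := (hmemOM _).1 (Finset.mem_product.1 hz).2
      exact (hmemO _).2 ⟨y ^ z.1 * k, by rw [lact_mul, hk]⟩
    · obtain ⟨hz1, hz2⟩ := Finset.mem_product.1 hz
      obtain ⟨hw1, hw2⟩ := Finset.mem_product.1 hw
      rw [Finset.mem_range] at hz1 hw1
      obtain ⟨k, hk, hk'⟩ := (hmemOM _).1 hz2
      obtain ⟨k', hk1, hk1'⟩ := (hmemOM _).1 hw2
      have hzw' : lact (y ^ z.1) z.2 = lact (y ^ w.1) w.2 := hzw
      rw [← hk', ← hk1', ← lact_mul, ← lact_mul] at hzw'
      have h1 : (y ^ w.1 * k')⁻¹ * (y ^ z.1 * k) ∈ M := hQM (MulAction.mem_stabilizer_iff.2 (by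
        show lact _ o₀ = o₀
        rw [lact_mul, hzw', ← lact_mul, inv_mul_cancel, lact_one]))
      have h2 : (y : S ⧸ M) ^ w.1 = (y : S ⧸ M) ^ z.1 := by
        have := QuotientGroup.eq.2 h1
        rw [QuotientGroup.mk_mul, QuotientGroup.mk_mul, (QuotientGroup.eq_one_iff k).2 hk,
          (QuotientGroup.eq_one_iff k').2 hk1, mul_one, mul_one, QuotientGroup.mk_pow,
          QuotientGroup.mk_pow] at this
        exact this
      have hord : orderOf (y : S ⧸ M) = p := by
        refine orderOf_eq_prime ?_ fun h => hy ((QuotientGroup.eq_one_iff y).1 h)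
        rw [← hMidx, Subgroup.index_eq_card]
        exact pow_card_eq_one'
      have h3 : w.1 = z.1 := pow_injOn_Iio_orderOf (by simpa [hord] using hw1) (by simpa [hord] using hz1) h2
      refine Prod.ext h3.symm ?_
      have hzw2 : lact (y ^ z.1) z.2 = lact (y ^ w.1) w.2 := hzw
      rw [h3] at hzw2
      have h4 := congrArg (lact (y ^ z.1)⁻¹) hzw2
      rwa [← lact_mul, ← lact_mul, inv_mul_cancel, lact_one, lact_one] at h4
    · obtain ⟨s, rfl⟩ := (hmemO o).1 ho
      have hcyc : ∀ c : S ⧸ M, c ∈ zpowers (y : S ⧸ M) := by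
        haveI : Fintype (S ⧸ M) := Fintype.ofFinite _
        have hc : Nat.card (S ⧸ M) = p := by rw [← Subgroup.index_eq_card, hMidx]
        haveI := Fact.mk hp
        exact fun c => mem_zpowers_of_prime_card hc fun h => hy ((QuotientGroup.eq_one_iff y).1 h)
      have hfin : IsOfFinOrder (y : S ⧸ M) := isOfFinOrder_of_finite _
      obtain ⟨i, hi, hie⟩ : ∃ i < p, (y : S ⧸ M) ^ i = (s : S ⧸ M) := by
        have hord : orderOf (y : S ⧸ M) = p := by
          refine orderOf_eq_prime ?_ fun h => hy ((QuotientGroup.eq_one_iff y).1 h)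
          rw [← hMidx, Subgroup.index_eq_card]
          exact pow_card_eq_one'
        have := hfin.mem_zpowers_iff_mem_range_orderOf.1 (hcyc (s : S ⧸ M))
        rw [hord] at this
        obtain ⟨i, hi, hie⟩ := Finset.mem_image.1 this
        exact ⟨i, Finset.mem_range.1 hi, hie⟩
      rw [← QuotientGroup.mk_pow, QuotientGroup.eq] at hie
      refine ⟨(i, lact ((y ^ i)⁻¹ * s) o₀), Finset.mem_product.2
        ⟨Finset.mem_range.2 hi, (hmemOM _).2 ⟨_, hie, rfl⟩⟩, ?_⟩
      show lact (y ^ i) (lact ((y ^ i)⁻¹ * s) o₀) = lact s o₀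
      rw [← lact_mul, mul_inv_cancel_left]
  rw [hdec]
  refine Eq.trans ?_ hnorm
  refine Finset.prod_congr rfl fun i _ => ?_
  show ∏ o ∈ OM, χ (val r x (lact (y ^ i) o)) = ∏ o ∈ OM, χ (val r ((y ^ i)⁻¹ * x * y ^ i) o)
  set g := y ^ i
  set m := g⁻¹ * x * g with hm
  have hmM : m ∈ M := by
    have := hMn.conj_mem _ hxM g⁻¹
    rwa [inv_inv] at this
  have key : ∀ o, χ (val r x (lact g o)) * χ (val r g o) = χ (val r g (lact m o)) * χ (val r m o) := by
    intro o
    rw [← map_mul, ← map_mul, ← val_mul hX, ← val_mul hX, show x * g = g * m by rw [hm]; group]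
  have h1 : (∏ o ∈ OM, χ (val r x (lact g o))) * ∏ o ∈ OM, χ (val r g o) =
      (∏ o ∈ OM, χ (val r g o)) * ∏ o ∈ OM, χ (val r m o) := by
    rw [← Finset.prod_mul_distrib, ← hperm m hmM fun o => χ (val r g o), ← Finset.prod_mul_distrib]
    exact Finset.prod_congr rfl fun o _ => key o
  rw [mul_comm] at h1
  exact mul_left_cancel h1

theorem yoshida_aux (hS : IsPGroup p S) (hF : F.IsSaturated p) {T : Subgroup Ω} (hT : T = S)
    (N : FusionSystem T) (hN : ∀ P : Subgroup Ω, N.Hom P = F.normalizerHom S P)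
    (hne : N.focalSubgroup ≠ F.focalSubgroup) :
    ∃ (W : Sylow p (Equiv.Perm (Fin (p ^ 2))))
      (f : S →* ↥(W : Subgroup (Equiv.Perm (Fin (p ^ 2))))), Function.Surjective f := by
  subst hT
  have hsub : N.IsSubsystemOf F := fun P φ hφ => by
    rw [hN] at hφ
    exact hφ.1
  set L := (frattini T).map T.subtype ⊔ N.focalSubgroup with hL
  have hnle : ¬ F.focalSubgroup ≤ L := fun hle => hne (focal_eq_of_frattini_sup_eq hS hF hsub
    (le_antisymm (sup_le le_sup_left hle) (sup_le le_sup_left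
      ((focal_mono hsub).trans le_sup_right)))).symm
  set L' := L.subgroupOf T
  haveI : L'.Normal := normal_subgroupOf_of_derived_le (derived_le_focal.trans le_sup_right)
  have hfrat : frattini T ≤ L' := fun a ha => mem_subgroupOf.2 (mem_sup_left ⟨a, ha, rfl⟩)
  have hcomm : ∀ a b : T ⧸ L', a * b = b * a := by
    intro a b
    obtain ⟨a, rfl⟩ := QuotientGroup.mk_surjective a
    obtain ⟨b, rfl⟩ := QuotientGroup.mk_surjective b
    rw [← commutatorElement_eq_one_iff_mul_comm, ← QuotientGroup.mk'_apply, ← QuotientGroup.mk'_apply,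
      ← map_commutatorElement, QuotientGroup.mk'_apply, QuotientGroup.eq_one_iff]
    exact hfrat (CfsgLib.Coprime.commutator_le_frattini hS
      (commutator_mem_commutator (mem_top a) (mem_top b)))
  letI : CommGroup (T ⧸ L') := { (inferInstance : Group (T ⧸ L')) with mul_comm := hcomm }
  refine wreath_of_transfer hS hF (A := T ⧸ L') (fun a => ?_) (QuotientGroup.mk' L') (fun f hf x h => ?_) ?_
  · obtain ⟨a, rfl⟩ := QuotientGroup.mk_surjective a
    rw [← QuotientGroup.mk_pow, QuotientGroup.eq_one_iff]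
    exact hfrat (CfsgLib.Coprime.pow_mem_frattini hS a)
  · obtain ⟨φ, hφ, hφf⟩ := id hf
    have hrange : φ.range = T := by
      refine Subgroup.eq_of_le_of_card_ge (by rintro _ ⟨z, rfl⟩; exact (F.le_of_mem hφ).2 z)
        (le_of_eq (Nat.card_congr (MonoidHom.ofInjective (F.injective_of_mem hφ)).toEquiv))
    have hnS : ∀ z ∈ T, z ∈ normalizerIn T T := fun z hz => ⟨hz, Subgroup.le_normalizer hz⟩
    have hφN : φ ∈ N.Hom T := by
      rw [hN]
      refine ⟨hφ, fun z hz => hnS z hz, fun z => hnS _ ((F.le_of_mem hφ).2 z), ?_⟩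
      have e : T ⊔ T = T := sup_idem T
      refine ⟨φ.comp (Subgroup.inclusion e.le), ?_, fun z => rfl, ?_⟩
      · exact mem_hom_iff.2 ((hf.mono e.le).congr fun z hz => by
          rw [toFun_apply _ hz]
          exact hφf ⟨z, e.le hz⟩)
      · rw [Subgroup.subgroupOf_eq_top.2 e.le, ← MonoidHom.range_eq_map, MonoidHom.range_comp,
          MonoidHom.range_eq_top.2 (fun z => ⟨⟨z, e.ge z.2⟩, rfl⟩), ← MonoidHom.range_eq_map, hrange]
    rw [QuotientGroup.mk'_apply, QuotientGroup.mk'_apply, eq_comm, QuotientGroup.eq, mem_subgroupOf]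
    refine mem_sup_right ?_
    rw [show ((x⁻¹ * ⟨f x, h⟩ : T) : Ω) = (x : Ω)⁻¹ * f x from rfl, ← hφf x]
    exact Subgroup.subset_closure ⟨T, φ, x, hφN, rfl⟩
  · obtain ⟨z, hz, hzL⟩ := SetLike.not_le_iff_exists.1 hnle
    exact ⟨⟨z, focal_le_S hz⟩, hz, fun e => hzL (mem_subgroupOf.1 ((QuotientGroup.eq_one_iff _).1 e))⟩

end Main

end CfsgLib.Fusion.Yoshida
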